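import Mathlib.Topology.Sober
import Mathlib.Topology.Irreducible
import Mathlib.Topology.Separation.Basic
import Mathlib.Order.KrullDimension

set_option autoImplicit false

namespace Groth.Agent.Lib.Helper63

open Topology Order

variable {X : Type*} [TopologicalSpace X]

attribute [local instance] specializationPreorder

theorem specLE_iff {a b : X} : a ≤ b ↔ b ⤳ a := Iff.rfl

/-- In a quasi-sober space, the maximal points for the specialization preorder are the generic
points of the irreducible components. -/
theorem isMax_iff_closure_mem_irreducibleComponents [QuasiSober X] (y : X) :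
    IsMax y ↔ closure ({y} : Set X) ∈ irreducibleComponents X := by
  constructor
  · intro hy
    refine ⟨isIrreducible_singleton.closure, ?_⟩
    intro S hS hyS
    have hgen := hS.isGenericPoint_genericPoint_closure
    set z := hS.genericPoint with hz
    have hyz : y ∈ closure S := subset_closure (hyS (subset_closure (Set.mem_singleton y)))
    have h1 : z ⤳ y := hgen.specializes_iff_mem.mpr hyz
    have h2 : y ⤳ z := hy (specLE_iff.mpr h1)
    have h3 : closure ({z} : Set X) ⊆ closure {y} := specializes_iff_closure_subset.mp h2
    calc S ⊆ closure S := subset_closure
      _ = closure {z} := hgen.def.symm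
      _ ⊆ closure {y} := h3
  · intro hy z hyz
    have h1 : z ⤳ y := hyz
    have h2 : closure ({y} : Set X) ⊆ closure {z} := specializes_iff_closure_subset.mp h1
    have h3 : closure ({z} : Set X) ⊆ closure {y} := hy.2 isIrreducible_singleton.closure h2
    exact specLE_iff.mpr (specializes_iff_closure_subset.mpr h3)

/-- Topological form of: "all closed points have codimension one" iff "the irreducible closed
subsets are the irreducible components and the closed points". -/
theorem coheight_closedPoint_eq_one_iff [QuasiSober X] [T0Space X] [CompactSpace X] :
    (∀ x : X, IsClosed ({x} : Set X) → coheight x = 1) ↔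
      ((∀ F : Set X, IsClosed F → IsIrreducible F → F ∉ irreducibleComponents X →
          ∃ x : X, IsClosed ({x} : Set X) ∧ F = {x}) ∧
        ∀ x : X, IsClosed ({x} : Set X) → ({x} : Set X) ∉ irreducibleComponents X) := by
  constructor
  · intro H
    refine ⟨?_, ?_⟩
    · intro F hFc hFi hFn
      have hgen := hFi.isGenericPoint_genericPoint hFc
      set η := hFi.genericPoint with hη
      have hηmax : ¬ IsMax η := by
        rw [isMax_iff_closure_mem_irreducibleComponents, hgen.def]
        exact hFn
      obtain ⟨x, hxF, hxc⟩ := hFc.exists_closed_singleton hFi.nonempty
      have hηx : η ⤳ x := hgen.specializes_iff_mem.mpr hxF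
      by_cases hxη : x = η
      · refine ⟨x, hxc, ?_⟩
        rw [← hgen.def, ← hxη, hxc.closure_eq]
      · exfalso
        apply hηmax
        have hlt : x < η := by
          refine lt_of_le_not_ge (specLE_iff.mpr hηx) ?_
          intro h
          have h' : x ⤳ η := h
          exact hxη ((hηx.antisymm h').eq.symm)
        have h1 : coheight x ≤ ((1 : ℕ) : ℕ∞) := by
          rw [H x hxc]; rfl
        have h2 := (coheight_le_coe_iff.mp h1) η hlt
        have h3 : coheight η = 0 := by
          have : coheight η < 1 := by exact_mod_cast h2
          exact Order.lt_one_iff.mp this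
        exact coheight_eq_zero.mp h3
    · intro x hxc hxcomp
      have h1 : IsMax x := by
        rw [isMax_iff_closure_mem_irreducibleComponents, hxc.closure_eq]
        exact hxcomp
      have h2 : coheight x = 0 := coheight_eq_zero.mpr h1
      rw [H x hxc] at h2
      exact one_ne_zero h2
  · rintro ⟨hA, hB⟩ x hxc
    have hnotmax : ¬ IsMax x := by
      rw [isMax_iff_closure_mem_irreducibleComponents, hxc.closure_eq]
      exact hB x hxc
    have hle : coheight x ≤ ((1 : ℕ) : ℕ∞) := by
      rw [coheight_le_coe_iff]
      intro y hxy
      have hymax : IsMax y := by
        by_cases hcomp : closure ({y} : Set X) ∈ irreducibleComponents X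
        · exact (isMax_iff_closure_mem_irreducibleComponents y).mpr hcomp
        · exfalso
          obtain ⟨x', hx'c, hx'⟩ := hA _ isClosed_closure isIrreducible_singleton.closure hcomp
          have hy : y = x' := by
            have : y ∈ closure ({y} : Set X) := subset_closure (Set.mem_singleton y)
            rw [hx'] at this
            exact this
          have hyx : y ⤳ x := hxy.le
          have hx : x ∈ closure ({y} : Set X) := specializes_iff_mem_closure.mp hyx
          rw [hx'] at hx
          have hxx' : x = x' := hx
          rw [← hy] at hxx'
          exact (ne_of_lt hxy) hxx'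
      have : coheight y = 0 := coheight_eq_zero.mpr hymax
      rw [this]
      exact_mod_cast zero_lt_one
    have hge : 1 ≤ coheight x := by
      have : coheight x ≠ 0 := coheight_ne_zero.mpr hnotmax
      exact Order.one_le_iff_ne_zero.mpr this
    exact le_antisymm (by exact_mod_cast hle) hge

end Groth.Agent.Lib.Helper63
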