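import Mathlib

/-!
# Immersions, locally on a cover of the range (helper63)
-/

set_option autoImplicit false
universe u

open CategoryTheory CategoryTheory.Limits AlgebraicGeometry TopologicalSpace Opposite

namespace Groth.Agent.Lib.Helper63.ImmLocal

variable {Z P A B : Scheme.{u}}

/-- `Spec.map f` is a closed immersion iff `f` is surjective. -/
theorem isClosedImmersion_SpecMap_iff {R S : CommRingCat.{u}} (f : R ⟶ S) :
    IsClosedImmersion (Spec.map f) ↔ Function.Surjective f.hom := by
  constructor
  · intro h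
    have h2 := (IsClosedImmersion.isAffine_surjective_of_isAffine (Spec.map f)).2
    have := RingHom.toMorphismProperty_respectsIso_iff.mp RingHom.surjective_respectsIso
    exact (MorphismProperty.arrow_mk_iso_iff (RingHom.toMorphismProperty (fun f => Function.Surjective f))
      (arrowIsoΓSpecOfIsAffine f)).mpr h2
  · exact IsClosedImmersion.spec_of_surjective f

/-- The restriction `f ∣_ O` is conjugate to any morphism `c` presenting it through open immersions
onto `f⁻¹ O` and `O`. -/
theorem restrict_iff (Q : MorphismProperty Scheme.{u}) [Q.RespectsIso] (f : Z ⟶ P) (O : P.Opens)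
    (jA : A ⟶ Z) [IsOpenImmersion jA] (iB : B ⟶ P) [IsOpenImmersion iB] (c : A ⟶ B)
    (h1 : Set.range jA.base = ((f ⁻¹ᵁ O : Z.Opens) : Set Z)) (h2 : Set.range iB.base = (O : Set P))
    (hc : jA ≫ f = c ≫ iB) : Q (f ∣_ O) ↔ Q c := by
  let α : A ≅ (f ⁻¹ᵁ O).toScheme := IsOpenImmersion.isoOfRangeEq jA (f ⁻¹ᵁ O).ι
    (by rw [h1, Scheme.Opens.range_ι])
  let β : B ≅ O.toScheme := IsOpenImmersion.isoOfRangeEq iB O.ι (by rw [h2, Scheme.Opens.range_ι])
  have hα : α.hom ≫ (f ⁻¹ᵁ O).ι = jA := IsOpenImmersion.isoOfRangeEq_hom_fac _ _ _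
  have hβ : β.hom ≫ O.ι = iB := IsOpenImmersion.isoOfRangeEq_hom_fac _ _ _
  have comm : α.hom ≫ (f ∣_ O) = c ≫ β.hom := by
    rw [← cancel_mono O.ι, Category.assoc, morphismRestrict_ι, ← Category.assoc, hα, Category.assoc,
      hβ, hc]
  exact (Q.arrow_mk_iso_iff (Arrow.isoMk α β comm)).symm

theorem range_subset_of_cover (f : Z ⟶ P) {ι : Type*} (O : ι → P.Opens) (hcov : ⨆ a, f ⁻¹ᵁ O a = ⊤) :
    Set.range f.base ⊆ ((⨆ a, O a : P.Opens) : Set P) := by
  rintro _ ⟨z, rfl⟩
  have hz : z ∈ ⨆ a, f ⁻¹ᵁ O a := by rw [hcov]; exact Opens.mem_top z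
  obtain ⟨a, ha⟩ := Opens.mem_iSup.mp hz
  exact Opens.mem_iSup.mpr ⟨a, ha⟩

/-- If the range of `f` is covered by opens over which `f` is a closed immersion, `f` is an
immersion. -/
theorem isImmersion_of_cover (f : Z ⟶ P) {ι : Type*} (O : ι → P.Opens) (hcov : ⨆ a, f ⁻¹ᵁ O a = ⊤)
    (h : ∀ a, IsClosedImmersion (f ∣_ O a)) : IsImmersion f := by
  have : MorphismProperty.RespectsRight @IsImmersion @IsOpenImmersion :=
    ⟨fun i hi f hf => by
      have := hi
      have := hf
      change IsImmersion (f ≫ i)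
      infer_instance⟩
  refine IsZariskiLocalAtTarget.of_range_subset_iSup (P := @IsImmersion) O
    (range_subset_of_cover f O hcov) ?_
  intro a
  have := h a
  infer_instance

/-- If the range of `f` is covered by opens over which `f` is an isomorphism, `f` is an open
immersion. -/
theorem isOpenImmersion_of_cover (f : Z ⟶ P) {ι : Type*} (O : ι → P.Opens) (hcov : ⨆ a, f ⁻¹ᵁ O a = ⊤)
    (h : ∀ a, IsIso (f ∣_ O a)) : IsOpenImmersion f := by
  have : MorphismProperty.RespectsRight @IsOpenImmersion @IsOpenImmersion :=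
    ⟨fun i hi f hf => by
      have := hi
      have := hf
      change IsOpenImmersion (f ≫ i)
      infer_instance⟩
  refine IsZariskiLocalAtTarget.of_range_subset_iSup (P := @IsOpenImmersion) O
    (range_subset_of_cover f O hcov) ?_
  intro a
  have := h a
  infer_instance

/-- If the target of `f` is covered by opens over which `f` is a closed immersion, `f` is a closed
immersion. -/
theorem isClosedImmersion_of_cover (f : Z ⟶ P) {ι : Type*} (O : ι → P.Opens) (hO : ⨆ a, O a = ⊤)
    (h : ∀ a, IsClosedImmersion (f ∣_ O a)) : IsClosedImmersion f :=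
  IsZariskiLocalAtTarget.of_iSup_eq_top (P := @IsClosedImmersion) O hO h

/-- An immersion is a closed immersion over any open contained in the coborder of its range. -/
theorem isClosedImmersion_restrict_of_isImmersion (f : Z ⟶ P) [IsImmersion f] (O' : P.Opens)
    (hle : O' ≤ f.coborderRange) : IsClosedImmersion (f ∣_ O') := by
  apply IsClosedImmersion.of_isPreimmersion
  have : Set.range (f ∣_ O').base = Subtype.val ⁻¹' closure (Set.range f.base) := by
    ext ⟨x, hx⟩
    constructor
    · rintro ⟨z, hz⟩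
      apply subset_closure
      refine ⟨z.1, ?_⟩
      rw [← morphismRestrict_base_coe, hz]
    · intro hcl
      have hx' : x ∈ coborder (Set.range f.base) := hle hx
      have hxr : x ∈ Set.range f.base := by
        by_contra hnot
        exact hx' ⟨hcl, hnot⟩
      obtain ⟨z, hz⟩ := hxr
      have hzO : z ∈ f ⁻¹ᵁ O' := by
        change f.base z ∈ O'
        rw [hz]; exact hx
      refine ⟨⟨z, hzO⟩, Subtype.ext ?_⟩
      rw [morphismRestrict_base_coe]
      exact hz
  rw [this]
  exact isClosed_closure.preimage continuous_subtype_val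

/-- An open immersion is an isomorphism over any open contained in its range. -/
theorem isIso_restrict_of_isOpenImmersion (f : Z ⟶ P) [IsOpenImmersion f] (O' : P.Opens)
    (hle : O' ≤ f.opensRange) : IsIso (f ∣_ O') := by
  apply isIso_of_isOpenImmersion_of_opensRange_eq_top
  rw [eq_top_iff]
  rintro ⟨x, hx⟩ -
  obtain ⟨z, hz⟩ := hle hx
  have hzO : z ∈ f ⁻¹ᵁ O' := by
    change f.base z ∈ O'
    rw [hz]; exact hx
  refine ⟨⟨z, hzO⟩, Subtype.ext ?_⟩
  rw [morphismRestrict_base_coe]
  exact hz

end Groth.Agent.Lib.Helper63.ImmLocal
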