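import Mathlib

/-!
# Lubin–Tate key lemma (helper63)

For a commutative ring `R`, an element `π`, an integer `q ≥ 2` and a constant `c`, we study, for
power series `H` in finitely many variables with zero constant term, the operator
`eps H = π • H + c • H ^ q - H(π X_i + X_i ^ q)`.
We prove the "continuity" and "first order expansion" estimates on `eps` in terms of
`MvPowerSeries.order`, and deduce existence and uniqueness of solutions of `eps H = 0` with a
prescribed linear part, under a divisibility hypothesis.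
-/

set_option autoImplicit false

namespace Groth.Agent.Lib.Helper63.LT

open MvPowerSeries Finsupp

universe u v w

variable {R : Type u} [CommRing R] {σ : Type v} {τ : Type w}

/-! ## Generalities on the order -/

lemma le_order_sub {n : ℕ∞} {f g : MvPowerSeries σ R} (hf : n ≤ f.order) (hg : n ≤ g.order) :
    n ≤ (f - g).order := by
  rw [sub_eq_add_neg]
  refine le_trans (le_min hf ?_) min_order_le_add
  rwa [order_neg]

lemma le_order_add {n : ℕ∞} {f g : MvPowerSeries σ R} (hf : n ≤ f.order) (hg : n ≤ g.order) :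
    n ≤ (f + g).order :=
  le_trans (le_min hf hg) min_order_le_add

lemma le_order_sum {ι : Type*} (s : Finset ι) (f : ι → MvPowerSeries σ R) {n : ℕ∞}
    (h : ∀ i ∈ s, n ≤ (f i).order) : n ≤ (∑ i ∈ s, f i).order := by
  classical
  induction s using Finset.induction_on with
  | empty => simp
  | insert a s ha ih =>
    rw [Finset.sum_insert ha]
    exact le_order_add (h a (Finset.mem_insert_self a s))
      (ih fun i hi => h i (Finset.mem_insert_of_mem hi))

lemma le_order_smul' {n : ℕ∞} (a : R) {f : MvPowerSeries σ R} (hf : n ≤ f.order) :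
    n ≤ (a • f).order := le_trans hf le_order_smul

lemma le_order_mul' {n m : ℕ∞} {f g : MvPowerSeries σ R} (hf : n ≤ f.order) (hg : m ≤ g.order) :
    n + m ≤ (f * g).order :=
  le_trans (add_le_add hf hg) le_order_mul

lemma eq_zero_of_forall_le_order {f : MvPowerSeries σ R} (h : ∀ n : ℕ, (n : ℕ∞) ≤ f.order) :
    f = 0 := by
  rw [← order_eq_top_iff]
  exact ENat.eq_top_iff_forall_ge.mpr h

lemma coeff_eq_of_le_order_sub {n : ℕ} {f g : MvPowerSeries σ R} (h : (n : ℕ∞) ≤ (f - g).order)
    {d : σ →₀ ℕ} (hd : degree d < n) : coeff d f = coeff d g := by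
  have : coeff d (f - g) = 0 := coeff_of_lt_order (lt_of_lt_of_le (by exact_mod_cast hd) h)
  rwa [map_sub, sub_eq_zero] at this

/-- homogeneous of degree `m` (own predicate) -/
def HomDeg (m : ℕ) (Δ : MvPowerSeries σ R) : Prop := ∀ d : σ →₀ ℕ, degree d ≠ m → coeff d Δ = 0

lemma HomDeg.le_order {m : ℕ} {Δ : MvPowerSeries σ R} (h : HomDeg m Δ) : (m : ℕ∞) ≤ Δ.order := by
  refine MvPowerSeries.le_order fun d hd => h d ?_
  have : degree d < m := by exact_mod_cast hd
  omega

lemma HomDeg.eq_zero_of_lt_order {m : ℕ} {Δ : MvPowerSeries σ R} (h : HomDeg m Δ)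
    (h' : ((m + 1 : ℕ) : ℕ∞) ≤ Δ.order) : Δ = 0 := by
  ext d
  by_cases hd : degree d = m
  · rw [map_zero]
    exact coeff_of_lt_order (lt_of_lt_of_le (by exact_mod_cast (by omega : degree d < m + 1)) h')
  · rw [map_zero]; exact h d hd

lemma HomDeg.smul {m : ℕ} {Δ : MvPowerSeries σ R} (h : HomDeg m Δ) (a : R) : HomDeg m (a • Δ) := by
  intro d hd
  rw [map_smul, h d hd, smul_zero]

lemma HomDeg.neg {m : ℕ} {Δ : MvPowerSeries σ R} (h : HomDeg m Δ) : HomDeg m (-Δ) := by
  intro d hd
  rw [map_neg, h d hd, neg_zero]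

lemma homDeg_homogeneousComponent (m : ℕ) (f : MvPowerSeries σ R) :
    HomDeg m (homogeneousComponent m f) := by
  intro d hd
  rw [coeff_homogeneousComponent, if_neg hd]

lemma le_order_sub_homogeneousComponent {m : ℕ} {f : MvPowerSeries σ R}
    (hf : (m : ℕ∞) ≤ f.order) : ((m + 1 : ℕ) : ℕ∞) ≤ (f - homogeneousComponent m f).order := by
  refine MvPowerSeries.le_order fun d hd => ?_
  have hd' : degree d < m + 1 := by exact_mod_cast hd
  rw [map_sub, coeff_homogeneousComponent]
  by_cases h : degree d = m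
  · rw [if_pos h, sub_self]
  · rw [if_neg h, sub_zero]
    exact coeff_of_lt_order (lt_of_lt_of_le (by exact_mod_cast (by omega : degree d < m)) hf)


/-! ## Powers -/

lemma constantCoeff_pow_of_ne_zero {G : MvPowerSeries σ R} (hG : constantCoeff G = 0) {n : ℕ}
    (hn : n ≠ 0) : constantCoeff (G ^ n) = 0 := by
  rw [map_pow, hG, zero_pow hn]

/-- `(G + Δ)^n - G^n` has order at least `ord Δ + 1` if `n ≥ 2` and `G`, `Δ` have no constant
term. -/
lemma le_order_add_pow_sub_pow {G Δ : MvPowerSeries σ R} (hG : constantCoeff G = 0)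
    (hΔ : constantCoeff Δ = 0) {n : ℕ} (hn : 2 ≤ n) :
    Δ.order + 1 ≤ ((G + Δ) ^ n - G ^ n).order := by
  have h := (Commute.all (G + Δ) G).geom_sum₂_mul n
  rw [add_sub_cancel_left] at h
  rw [← h, add_comm]
  refine le_order_mul' ?_ le_rfl
  rw [one_le_order_iff_constCoeff_eq_zero, map_sum]
  refine Finset.sum_eq_zero fun i hi => ?_
  rw [Finset.mem_range] at hi
  rw [map_mul, map_pow, map_pow, map_add, hG, hΔ, add_zero]
  rcases Nat.eq_zero_or_pos i with h0 | h0
  · subst h0
    rw [pow_zero, one_mul, zero_pow (by omega)]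
  · rw [zero_pow (by omega), zero_mul]

/-! ## Substitution and order -/

section subst

variable [Finite σ] [Finite τ]

lemma le_order_subst' {a : τ → MvPowerSeries σ R} (ha : ∀ j, constantCoeff (a j) = 0)
    (D : MvPowerSeries τ R) : D.order ≤ (D.subst a).order := by
  refine le_trans ?_ (le_order_subst (hasSubst_of_constantCoeff_zero ha) D)
  have h1 : (1 : ℕ∞) ≤ ⨅ i, (a i).order :=
    le_iInf fun i => one_le_order_iff_constCoeff_eq_zero.mpr (ha i)
  calc D.order = 1 * D.order := (one_mul _).symm
    _ ≤ (⨅ i, (a i).order) * D.order := mul_le_mul_left h1 _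

end subst


/-! ## The Lubin–Tate operator -/

section LT

variable (π : R) (q : ℕ) (c : R)

/-- the vector `(π X_i + X_i ^ q)_i` -/
noncomputable def fvec (σ : Type v) : σ → MvPowerSeries σ R := fun i => π • X i + X i ^ q

lemma constantCoeff_fvec (hq : q ≠ 0) (i : σ) : constantCoeff (fvec π q σ i) = 0 := by
  simp [fvec, hq]

lemma hasSubst_fvec [Finite σ] (hq : q ≠ 0) : HasSubst (fvec π q σ) :=
  hasSubst_of_constantCoeff_zero (constantCoeff_fvec π q hq)

lemma fvec_eq (hq : q ≠ 0) (i : σ) : fvec π q σ i = X i * (C π + X i ^ (q - 1)) := by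
  unfold fvec
  rw [mul_add, smul_eq_C_mul, mul_comm (X i) (C π), ← pow_succ']
  congr 2
  omega

/-- the operator `H ↦ π H + c H^q - H(π X + X^q)` -/
noncomputable def eps (H : MvPowerSeries σ R) : MvPowerSeries σ R :=
  π • H + c • H ^ q - H.subst (fvec π q σ)

lemma le_order_monomial (d : σ →₀ ℕ) (a : R) :
    ((degree d : ℕ) : ℕ∞) ≤ (monomial d a : MvPowerSeries σ R).order := by
  classical
  refine MvPowerSeries.le_order fun e he => ?_
  have he' : degree e < degree d := by exact_mod_cast he
  rw [coeff_monomial, if_neg]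
  rintro rfl
  exact lt_irrefl _ he'

lemma le_order_subst_monomial_sub [Finite σ] (hq : 2 ≤ q) (d : σ →₀ ℕ) (a : R) :
    ((degree d + 1 : ℕ) : ℕ∞) ≤
      ((monomial d a).subst (fvec π q σ) - π ^ degree d • monomial d a).order := by
  have hq0 : q ≠ 0 := by omega
  have hs : HasSubst (fvec π q σ) := hasSubst_fvec π q hq0
  rw [subst_monomial hs]
  set U : MvPowerSeries σ R := d.prod fun s n => (C π + X s ^ (q - 1)) ^ n with hU
  have h1 : d.prod (fun s n => fvec π q σ s ^ n) = monomial d 1 * U := by
    rw [monomial_one_eq, hU, ← Finsupp.prod_mul]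
    refine Finsupp.prod_congr fun s _ => ?_
    rw [fvec_eq π q hq0, mul_pow]
  have h2 : constantCoeff U = π ^ degree d := by
    rw [hU, map_finsuppProd, degree_apply, ← Finset.prod_pow_eq_pow_sum, Finsupp.prod]
    refine Finset.prod_congr rfl fun s _ => ?_
    rw [map_pow, map_add, map_pow, constantCoeff_C, constantCoeff_X,
      zero_pow (by omega : q - 1 ≠ 0), add_zero]
  have h3 : (monomial d a : MvPowerSeries σ R) = C a * monomial d 1 := by
    rw [← monomial_zero_eq_C_apply, monomial_mul_monomial, zero_add, mul_one]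
  have h4 : (algebraMap R (MvPowerSeries σ R) a) * (monomial d 1 * U) -
      π ^ degree d • monomial d a = C a * (monomial d 1 * (U - C (π ^ degree d))) := by
    rw [h3, smul_eq_C_mul, MvPowerSeries.algebraMap_apply, Algebra.algebraMap_self, RingHom.id_apply]
    ring
  rw [h1, h4]
  have h5 : (1 : ℕ∞) ≤ (U - C (π ^ degree d)).order := by
    rw [one_le_order_iff_constCoeff_eq_zero, map_sub, h2, constantCoeff_C, sub_self]
  have h6 := le_order_mul' (le_order_monomial d (1 : R)) h5
  have h7 := le_order_mul' (zero_le (a := (C a : MvPowerSeries σ R).order)) h6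
  rw [zero_add] at h7
  exact_mod_cast h7

lemma eq_sum_monomial_of_homDeg [Finite σ] {m : ℕ} {Δ : MvPowerSeries σ R} (hΔ : HomDeg m Δ) :
    ∃ S : Finset (σ →₀ ℕ), (∀ d ∈ S, degree d = m) ∧ Δ = ∑ d ∈ S, monomial d (coeff d Δ) := by
  classical
  refine ⟨(truncTotal (m + 1) Δ).support.filter (fun d => degree d = m), ?_, ?_⟩
  · intro d hd
    exact (Finset.mem_filter.mp hd).2
  · ext e
    rw [map_sum]
    simp_rw [coeff_monomial]
    rw [Finset.sum_ite_eq]
    split_ifs with he
    · rfl
    · by_cases hem : degree e = m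
      · rw [Finset.mem_filter, not_and_or] at he
        rcases he with he | he
        · rw [MvPolynomial.mem_support_iff, not_not, coeff_truncTotal _ (by omega)] at he
          exact he
        · exact absurd hem he
      · exact hΔ e hem

lemma le_order_subst_sub_of_homDeg [Finite σ] (hq : 2 ≤ q) {m : ℕ} {Δ : MvPowerSeries σ R}
    (hΔ : HomDeg m Δ) :
    ((m + 1 : ℕ) : ℕ∞) ≤ (Δ.subst (fvec π q σ) - π ^ m • Δ).order := by
  have hq0 : q ≠ 0 := by omega
  have hs : HasSubst (fvec π q σ) := hasSubst_fvec π q hq0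
  obtain ⟨S, hS, hΔS⟩ := eq_sum_monomial_of_homDeg hΔ
  have key : Δ.subst (fvec π q σ) - π ^ m • Δ =
      ∑ d ∈ S, ((monomial d (coeff d Δ)).subst (fvec π q σ) - π ^ m • monomial d (coeff d Δ)) := by
    rw [Finset.sum_sub_distrib, ← Finset.smul_sum, ← hΔS]
    congr 1
    conv_lhs => rw [hΔS]
    rw [← coe_substAlgHom hs, map_sum]
  rw [key]
  refine le_order_sum _ _ fun d hd => ?_
  have := le_order_subst_monomial_sub π q hq d (coeff d Δ)
  rwa [hS d hd] at this

end LT


section LT2

variable [Finite σ] (π : R) (q : ℕ) (c : R)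

lemma eps_add_sub (hq : q ≠ 0) (G Δ : MvPowerSeries σ R) :
    eps π q c (G + Δ) - eps π q c G =
      π • Δ + c • ((G + Δ) ^ q - G ^ q) - Δ.subst (fvec π q σ) := by
  unfold eps
  rw [subst_add (hasSubst_fvec π q hq), smul_add, smul_sub]
  abel

lemma HomDeg.constantCoeff_eq_zero {m : ℕ} (hm : 1 ≤ m) {Δ : MvPowerSeries σ R}
    (hΔ : HomDeg m Δ) : constantCoeff Δ = 0 := by
  rw [← coeff_zero_eq_constantCoeff_apply]
  refine hΔ 0 ?_
  rw [map_zero]
  omega

/-- continuity of `eps` for the order filtration -/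
lemma le_order_eps_sub (hq : 2 ≤ q) {G G' : MvPowerSeries σ R} (hG : constantCoeff G = 0)
    (hG' : constantCoeff G' = 0) {n : ℕ∞} (h : n ≤ (G' - G).order) :
    n ≤ (eps π q c G' - eps π q c G).order := by
  have hq0 : q ≠ 0 := by omega
  set Δ := G' - G with hΔdef
  have hG'eq : G' = G + Δ := by rw [hΔdef]; abel
  have hΔ0 : constantCoeff Δ = 0 := by rw [hΔdef, map_sub, hG, hG', sub_zero]
  rw [hG'eq, eps_add_sub π q c hq0]
  refine le_order_sub (le_order_add (le_order_smul' π h) (le_order_smul' c ?_)) ?_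
  · exact le_trans (le_trans h le_self_add) (le_order_add_pow_sub_pow hG hΔ0 hq)
  · exact le_trans h (le_order_subst' (constantCoeff_fvec π q hq0) Δ)

/-- first order expansion of `eps` -/
lemma le_order_eps_step (hq : 2 ≤ q) {G Δ : MvPowerSeries σ R} (hG : constantCoeff G = 0) {m : ℕ}
    (hm : 1 ≤ m) (hΔ : HomDeg m Δ) :
    ((m + 1 : ℕ) : ℕ∞) ≤ (eps π q c (G + Δ) - eps π q c G - (π - π ^ m) • Δ).order := by
  have hq0 : q ≠ 0 := by omega
  have hΔ0 : constantCoeff Δ = 0 := hΔ.constantCoeff_eq_zero hm
  have key : eps π q c (G + Δ) - eps π q c G - (π - π ^ m) • Δ =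
      c • ((G + Δ) ^ q - G ^ q) - (Δ.subst (fvec π q σ) - π ^ m • Δ) := by
    rw [eps_add_sub π q c hq0, sub_smul]
    abel
  rw [key]
  refine le_order_sub (le_order_smul' c ?_) (le_order_subst_sub_of_homDeg π q hq hΔ)
  refine le_trans ?_ (le_order_add_pow_sub_pow hG hΔ0 hq)
  have := hΔ.le_order
  calc ((m + 1 : ℕ) : ℕ∞) = (m : ℕ∞) + 1 := by push_cast; rfl
    _ ≤ Δ.order + 1 := add_le_add this le_rfl

end LT2


section Unique

variable [Finite σ] (π : R) (q : ℕ) (c : R)

lemma exists_single_of_degree_eq_one {d : σ →₀ ℕ} (hd : degree d = 1) : ∃ i, d = single i 1 := by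
  have : d ∈ {d : σ →₀ ℕ | d.degree = 1} := hd
  rw [← Finsupp.range_single_one] at this
  obtain ⟨i, hi⟩ := this
  exact ⟨i, hi.symm⟩

lemma two_le_order_sub {H H' : MvPowerSeries σ R} (h0 : constantCoeff H = 0)
    (h0' : constantCoeff H' = 0) (hlin : ∀ i, coeff (single i 1) H = coeff (single i 1) H') :
    ((2 : ℕ) : ℕ∞) ≤ (H' - H).order := by
  refine MvPowerSeries.le_order fun d hd => ?_
  have hd' : degree d < 2 := by exact_mod_cast hd
  rw [map_sub, sub_eq_zero]
  rcases Nat.lt_succ_iff_lt_or_eq.mp hd' with h | h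
  · have : d = 0 := by
      rw [← Finsupp.degree_eq_zero_iff]; omega
    subst this
    rw [coeff_zero_eq_constantCoeff_apply, coeff_zero_eq_constantCoeff_apply, h0, h0']
  · obtain ⟨i, rfl⟩ := exists_single_of_degree_eq_one h
    exact (hlin i).symm

/-- uniqueness of solutions of `eps H = 0` with given linear part -/
theorem eq_of_eps_eq_zero (hq : 2 ≤ q)
    (hnz : ∀ m : ℕ, 2 ≤ m → ∀ x : R, (π - π ^ m) * x = 0 → x = 0)
    {H H' : MvPowerSeries σ R} (h0 : constantCoeff H = 0) (h0' : constantCoeff H' = 0)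
    (hlin : ∀ i, coeff (single i 1) H = coeff (single i 1) H')
    (hH : eps π q c H = 0) (hH' : eps π q c H' = 0) : H = H' := by
  have key : ∀ m : ℕ, (m : ℕ∞) ≤ (H' - H).order := by
    intro m
    induction m with
    | zero => simp
    | succ m ih =>
      rcases Nat.lt_or_ge m 2 with hm | hm
      · refine le_trans ?_ (two_le_order_sub h0 h0' hlin)
        exact_mod_cast (by omega : m + 1 ≤ 2)
      · set D := H' - H with hD
        set Δ := homogeneousComponent m D with hΔ
        have hΔhom : HomDeg m Δ := homDeg_homogeneousComponent m D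
        have hΔ0 : constantCoeff Δ = 0 := hΔhom.constantCoeff_eq_zero (by omega)
        have hD' : ((m + 1 : ℕ) : ℕ∞) ≤ (D - Δ).order := le_order_sub_homogeneousComponent ih
        have hG0 : constantCoeff (H + Δ) = 0 := by rw [map_add, h0, hΔ0, add_zero]
        have e1 : ((m + 1 : ℕ) : ℕ∞) ≤ (eps π q c H' - eps π q c (H + Δ)).order := by
          refine le_order_eps_sub π q c hq hG0 h0' ?_
          have : H' - (H + Δ) = D - Δ := by rw [hD]; abel
          rw [this]; exact hD'
        have e2 := le_order_eps_step π q c hq h0 (by omega : 1 ≤ m) hΔhom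
        have e3 : (π - π ^ m) • Δ = -((eps π q c H' - eps π q c (H + Δ)) +
            (eps π q c (H + Δ) - eps π q c H - (π - π ^ m) • Δ)) := by
          rw [hH, hH']; abel
        have e4 : ((m + 1 : ℕ) : ℕ∞) ≤ ((π - π ^ m) • Δ).order := by
          rw [e3, order_neg]
          exact le_order_add e1 e2
        have e5 : (π - π ^ m) • Δ = 0 := (hΔhom.smul _).eq_zero_of_lt_order e4
        have e6 : Δ = 0 := by
          ext d
          have := congrArg (coeff d) e5
          rw [map_smul, smul_eq_mul, map_zero] at this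
          rw [map_zero]
          exact hnz m hm _ this
        rw [e6, sub_zero] at hD'
        exact hD'
  have := eq_zero_of_forall_le_order key
  exact (sub_eq_zero.mp this).symm

end Unique


section Exists

variable [Finite σ] (π : R) (q : ℕ) (c : R)

/-- one step of the successive approximation -/
lemma exists_step (hq : 2 ≤ q)
    (hdiv : ∀ G : MvPowerSeries σ R, constantCoeff G = 0 → ∀ m : ℕ, 2 ≤ m → ∀ d : σ →₀ ℕ,
      degree d = m → (π - π ^ m) ∣ coeff d (eps π q c G))
    {G : MvPowerSeries σ R} (hG : constantCoeff G = 0) {m : ℕ} (hm : 2 ≤ m)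
    (hord : (m : ℕ∞) ≤ (eps π q c G).order) :
    ∃ Δ : MvPowerSeries σ R, HomDeg m Δ ∧ ((m + 1 : ℕ) : ℕ∞) ≤ (eps π q c (G + Δ)).order := by
  classical
  let Δ : MvPowerSeries σ R := fun d =>
    if h : degree d = m then -(Classical.choose (hdiv G hG m hm d h)) else 0
  have hΔhom : HomDeg m Δ := by
    intro d hd
    rw [coeff_apply]
    simp only [Δ, dif_neg hd]
  have hΔE : (π - π ^ m) • Δ = -homogeneousComponent m (eps π q c G) := by
    ext d
    rw [map_smul, map_neg, coeff_homogeneousComponent, coeff_apply, smul_eq_mul]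
    by_cases h : degree d = m
    · simp only [Δ, dif_pos h, if_pos h]
      rw [mul_neg, ← Classical.choose_spec (hdiv G hG m hm d h)]
    · simp only [Δ, dif_neg h, if_neg h, mul_zero, neg_zero]
  refine ⟨Δ, hΔhom, ?_⟩
  have e1 := le_order_eps_step π q c hq hG (by omega : 1 ≤ m) hΔhom
  have e2 := le_order_sub_homogeneousComponent hord
  have e3 : eps π q c (G + Δ) = (eps π q c (G + Δ) - eps π q c G - (π - π ^ m) • Δ) +
      (eps π q c G - homogeneousComponent m (eps π q c G)) := by
    rw [hΔE]; abel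
  rw [e3]
  exact le_order_add e1 e2

/-- the approximate solutions -/
def Good (a : σ → R) (n : ℕ) (G : MvPowerSeries σ R) : Prop :=
  constantCoeff G = 0 ∧ (∀ i, coeff (single i 1) G = a i) ∧
    ((n + 2 : ℕ) : ℕ∞) ≤ (eps π q c G).order

lemma exists_good_zero (hq : 2 ≤ q) (a : σ → R) : ∃ G : MvPowerSeries σ R, Good π q c a 0 G := by
  classical
  letI := Fintype.ofFinite σ
  have hq0 : q ≠ 0 := by omega
  have hs := hasSubst_fvec (σ := σ) π q hq0
  let L : MvPowerSeries σ R := ∑ j, a j • X j
  have hL0 : constantCoeff L = 0 := by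
    simp only [L, map_sum, smul_eq_C_mul, map_mul, constantCoeff_X, mul_zero, Finset.sum_const_zero]
  refine ⟨L, hL0, ?_, ?_⟩
  · intro i
    simp only [L, map_sum, map_smul, coeff_X, smul_eq_mul]
    rw [Finset.sum_eq_single i]
    · simp
    · intro j _ hji
      rw [if_neg, mul_zero]
      intro h
      exact hji ((Finsupp.single_left_inj one_ne_zero).mp h).symm
    · intro h; exact absurd (Finset.mem_univ i) h
  · have hsub : L.subst (fvec π q σ) = π • L + ∑ j, a j • X j ^ q := by
      rw [← coe_substAlgHom hs]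
      simp only [L, map_sum, map_smul, coe_substAlgHom hs, subst_X hs]
      simp only [fvec, smul_add, Finset.sum_add_distrib, Finset.smul_sum]
      congr 1
      refine Finset.sum_congr rfl fun j _ => ?_
      rw [smul_comm]
    have heps : eps π q c L = c • L ^ q - ∑ j, a j • X j ^ q := by
      unfold eps
      rw [hsub]; abel
    rw [heps]
    have h2 : ((0 + 2 : ℕ) : ℕ∞) ≤ (q : ℕ∞) := by exact_mod_cast hq
    refine le_order_sub (le_order_smul' c ?_) (le_order_sum _ _ fun j _ => le_order_smul' _ ?_)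
    · exact le_trans h2 (le_order_pow_of_constantCoeff_eq_zero q hL0)
    · exact le_trans h2 (le_order_pow_of_constantCoeff_eq_zero q (constantCoeff_X j))

/-- existence of solutions of `eps H = 0` with given linear part -/
theorem exists_eps_eq_zero (hq : 2 ≤ q)
    (hdiv : ∀ G : MvPowerSeries σ R, constantCoeff G = 0 → ∀ m : ℕ, 2 ≤ m → ∀ d : σ →₀ ℕ,
      degree d = m → (π - π ^ m) ∣ coeff d (eps π q c G))
    (a : σ → R) :
    ∃ H : MvPowerSeries σ R, constantCoeff H = 0 ∧ (∀ i, coeff (single i 1) H = a i) ∧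
      eps π q c H = 0 := by
  classical
  have step : ∀ (n : ℕ) (G : {G : MvPowerSeries σ R // Good π q c a n G}),
      ∃ G' : {G' : MvPowerSeries σ R // Good π q c a (n + 1) G'}, HomDeg (n + 2) (G'.1 - G.1) := by
    rintro n ⟨G, hG0, hGlin, hGord⟩
    obtain ⟨Δ, hΔhom, hΔord⟩ := exists_step π q c hq hdiv hG0 (by omega : 2 ≤ n + 2) hGord
    have hΔ0 : constantCoeff Δ = 0 := hΔhom.constantCoeff_eq_zero (by omega)
    refine ⟨⟨G + Δ, ?_, ?_, ?_⟩, ?_⟩
    · rw [map_add, hG0, hΔ0, add_zero]
    · intro i
      rw [map_add, hGlin i, hΔhom (single i 1) (by rw [degree_single]; omega), add_zero]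
    · exact hΔord
    · simpa using hΔhom
  choose next hnext using step
  obtain ⟨G0, hG0⟩ := exists_good_zero π q c hq a
  let seq : (n : ℕ) → {G : MvPowerSeries σ R // Good π q c a n G} := fun n =>
    Nat.rec ⟨G0, hG0⟩ (fun n G => next n G) n
  have hseq : ∀ n, HomDeg (n + 2) ((seq (n + 1)).1 - (seq n).1) := fun n => hnext n (seq n)
  -- stability of coefficients
  have hstab : ∀ (n k : ℕ) (d : σ →₀ ℕ), degree d ≤ n + 1 →
      coeff d (seq (n + k)).1 = coeff d (seq n).1 := by
    intro n k d hd
    induction k with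
    | zero => rfl
    | succ k ih =>
      rw [← ih]
      have := hseq (n + k) d (by omega)
      rw [map_sub, sub_eq_zero] at this
      exact this
  let H : MvPowerSeries σ R := fun d => coeff d (seq (degree d)).1
  have hH : ∀ (n : ℕ) (d : σ →₀ ℕ), degree d ≤ n + 1 → coeff d H = coeff d (seq n).1 := by
    intro n d hd
    rw [coeff_apply]
    change coeff d (seq (degree d)).1 = _
    rcases le_total n (degree d) with h | h
    · obtain ⟨k, hk⟩ := Nat.exists_eq_add_of_le h
      rw [hk]
      exact hstab n k d hd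
    · obtain ⟨k, hk⟩ := Nat.exists_eq_add_of_le h
      rw [hk]
      exact (hstab (degree d) k d (by omega)).symm
  have hHn : ∀ n : ℕ, ((n + 2 : ℕ) : ℕ∞) ≤ (H - (seq n).1).order := by
    intro n
    refine MvPowerSeries.le_order fun d hd => ?_
    have hd' : degree d < n + 2 := by exact_mod_cast hd
    rw [map_sub, hH n d (by omega), sub_self]
  have hH0 : constantCoeff H = 0 := by
    rw [← coeff_zero_eq_constantCoeff_apply, hH 0 0 (by simp), coeff_zero_eq_constantCoeff_apply]
    exact (seq 0).2.1
  refine ⟨H, hH0, ?_, ?_⟩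
  · intro i
    rw [hH 0 (single i 1) (by rw [degree_single])]
    exact (seq 0).2.2.1 i
  · refine eq_zero_of_forall_le_order fun n => ?_
    have e1 := le_order_eps_sub π q c hq (seq n).2.1 hH0 (hHn n)
    have e2 := (seq n).2.2.2
    have e3 : eps π q c H = (eps π q c H - eps π q c (seq n).1) + eps π q c (seq n).1 := by abel
    rw [e3]
    refine le_trans ?_ (le_order_add e1 e2)
    exact_mod_cast (by omega : n ≤ n + 2)

end Exists


section Compose

variable [Finite σ] [Finite τ] (π : R) (q : ℕ) (c : R)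

lemma subst_fvec_of_eps_eq_zero {H : MvPowerSeries σ R} (hH : eps π q c H = 0) :
    H.subst (fvec π q σ) = π • H + c • H ^ q := by
  unfold eps at hH
  exact (sub_eq_zero.mp hH).symm

lemma eps_eq_zero_of_subst_fvec {H : MvPowerSeries σ R}
    (hH : H.subst (fvec π q σ) = π • H + c • H ^ q) : eps π q c H = 0 := by
  unfold eps
  rw [hH, sub_self]

lemma eps_X (hq : q ≠ 0) (i : σ) : eps π q 1 (X i : MvPowerSeries σ R) = 0 := by
  apply eps_eq_zero_of_subst_fvec
  rw [subst_X (hasSubst_fvec π q hq), one_smul]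
  rfl

/-- compatibility of the equation `eps = 0` with substitution -/
theorem eps_subst (hq : q ≠ 0) {G : MvPowerSeries τ R} (hG : eps π q c G = 0)
    {a : τ → MvPowerSeries σ R} (ha0 : ∀ j, constantCoeff (a j) = 0)
    (ha : ∀ j, eps π q 1 (a j) = 0) : eps π q c (G.subst a) = 0 := by
  have hsa : HasSubst a := hasSubst_of_constantCoeff_zero ha0
  have hsσ : HasSubst (fvec π q σ) := hasSubst_fvec π q hq
  have hsτ : HasSubst (fvec π q τ) := hasSubst_fvec π q hq
  apply eps_eq_zero_of_subst_fvec
  have h1 : (G.subst a).subst (fvec π q σ) = G.subst (fun j => π • a j + a j ^ q) := by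
    rw [subst_comp_subst_apply hsa hsσ]
    congr 1
    funext j
    rw [subst_fvec_of_eps_eq_zero π q 1 (ha j), one_smul]
  have h2 : (G.subst (fvec π q τ)).subst a = G.subst (fun j => π • a j + a j ^ q) := by
    rw [subst_comp_subst_apply hsτ hsa]
    congr 1
    funext j
    simp only [fvec]
    rw [subst_add hsa, subst_smul hsa, subst_pow hsa, subst_X hsa]
  rw [h1, ← h2, subst_fvec_of_eps_eq_zero π q c hG, subst_add hsa, subst_smul hsa, subst_smul hsa,
    subst_pow hsa]

/-- the linear coefficients of a substitution -/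
theorem coeff_single_subst [Fintype τ] {a : τ → MvPowerSeries σ R}
    (ha0 : ∀ j, constantCoeff (a j) = 0) {G : MvPowerSeries τ R} (hG : constantCoeff G = 0)
    (i : σ) :
    coeff (single i 1) (G.subst a) = ∑ j, coeff (single j 1) G * coeff (single i 1) (a j) := by
  classical
  have hsa : HasSubst a := hasSubst_of_constantCoeff_zero ha0
  let L : MvPowerSeries τ R := ∑ j, coeff (single j 1) G • X j
  have hL0 : constantCoeff L = 0 := by
    simp only [L, map_sum, smul_eq_C_mul, map_mul, constantCoeff_X, mul_zero,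
      Finset.sum_const_zero]
  have hLlin : ∀ k, coeff (single k 1) L = coeff (single k 1) G := by
    intro k
    simp only [L, map_sum, map_smul, coeff_X, smul_eq_mul]
    rw [Finset.sum_eq_single k]
    · simp
    · intro j _ hjk
      rw [if_neg, mul_zero]
      intro h
      exact hjk ((Finsupp.single_left_inj one_ne_zero).mp h).symm
    · intro h; exact absurd (Finset.mem_univ k) h
  have h2 : ((2 : ℕ) : ℕ∞) ≤ (G - L).order := two_le_order_sub hL0 hG hLlin
  have h3 : ((2 : ℕ) : ℕ∞) ≤ ((G - L).subst a).order := le_trans h2 (le_order_subst' ha0 _)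
  have h4 : coeff (single i 1) ((G - L).subst a) = 0 := by
    refine coeff_of_lt_order (lt_of_lt_of_le ?_ h3)
    rw [degree_single]
    exact_mod_cast (by omega : 1 < 2)
  have h5 : G.subst a = (G - L).subst a + L.subst a := by
    rw [← subst_add hsa, sub_add_cancel]
  have h6 : L.subst a = ∑ j, coeff (single j 1) G • a j := by
    rw [← coe_substAlgHom hsa]
    simp only [L, map_sum, map_smul, coe_substAlgHom hsa, subst_X hsa]
  rw [h5, map_add, h4, zero_add, h6, map_sum]
  simp only [map_smul, smul_eq_mul]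

lemma constantCoeff_subst_zero {a : τ → MvPowerSeries σ R}
    (ha0 : ∀ j, constantCoeff (a j) = 0) {G : MvPowerSeries τ R} (hG : constantCoeff G = 0) :
    constantCoeff (G.subst a) = 0 :=
  constantCoeff_subst_eq_zero (hasSubst_of_constantCoeff_zero ha0) ha0 hG

end Compose

/-! ## Translation from `PowerSeries.subst` -/

section Translate

variable [Finite σ] (π : R) (q : ℕ)

lemma powerSeries_subst_f {H : MvPowerSeries σ R} (hH : constantCoeff H = 0) :
    PowerSeries.subst H (π • PowerSeries.X + PowerSeries.X ^ q : PowerSeries R) =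
      π • H + H ^ q := by
  have hs : PowerSeries.HasSubst H := PowerSeries.HasSubst.of_constantCoeff_zero hH
  rw [PowerSeries.subst_add hs, PowerSeries.subst_smul hs, PowerSeries.subst_pow hs,
    PowerSeries.subst_X hs]

lemma powerSeries_subst_X_f (hq : q ≠ 0) (i : σ) :
    PowerSeries.subst (X i : MvPowerSeries σ R)
      (π • PowerSeries.X + PowerSeries.X ^ q : PowerSeries R) = fvec π q σ i := by
  rw [powerSeries_subst_f π q (constantCoeff_X i)]
  rfl

/-- the Lubin–Tate equation `f ∘ H = H ∘ (f, …, f)` is `eps H = 0` -/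
lemma eps_eq_zero_iff (hq : q ≠ 0) {H : MvPowerSeries σ R} (hH : constantCoeff H = 0) :
    eps π q 1 H = 0 ↔
      PowerSeries.subst H (π • PowerSeries.X + PowerSeries.X ^ q : PowerSeries R) =
        MvPowerSeries.subst (fun i : σ => PowerSeries.subst (X i : MvPowerSeries σ R)
          (π • PowerSeries.X + PowerSeries.X ^ q : PowerSeries R)) H := by
  have : (fun i : σ => PowerSeries.subst (X i : MvPowerSeries σ R)
      (π • PowerSeries.X + PowerSeries.X ^ q : PowerSeries R)) = fvec π q σ :=
    funext fun i => powerSeries_subst_X_f π q hq i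
  rw [this, powerSeries_subst_f π q hH]
  unfold eps
  rw [one_smul, sub_eq_zero]

end Translate

end Groth.Agent.Lib.Helper63.LT
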