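import Mathlib
import Groth.Agent.Lib.Helper63.LTKey

/-!
# Lubin–Tate key lemma over a discrete valuation ring with finite residue field (helper63)
-/

set_option autoImplicit false

namespace Groth.Agent.Lib.Helper63.LT

open MvPowerSeries Finsupp IsLocalRing

universe u v

/-- Frobenius on power series over a finite field -/
lemma frobenius_powerSeries {K : Type*} [Field K] [Finite K] {σ : Type*}
    (g : MvPowerSeries σ K) :
    g ^ Nat.card K = g.subst (fun i => (X i : MvPowerSeries σ K) ^ Nat.card K) := by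
  letI := Fintype.ofFinite K
  obtain ⟨p, hp⟩ := CharP.exists K
  obtain ⟨n, hprime, hcard⟩ := FiniteField.card K p
  haveI : ExpChar K p := ExpChar.prime hprime
  have hq : Nat.card K = p ^ (n : ℕ) := by rw [Nat.card_eq_fintype_card, hcard]
  have h := map_iterateFrobenius_expand p hprime.ne_zero g n
  have hid : iterateFrobenius K p n = RingHom.id K := by
    ext x
    rw [iterateFrobenius_def, ← hcard, FiniteField.pow_card]
    rfl
  rw [hid, MvPowerSeries.map_id] at h
  have hq0 : p ^ (n : ℕ) ≠ 0 := pow_ne_zero _ hprime.ne_zero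
  simp only [hq]
  rw [← h, RingHom.id_apply, expand, coe_substAlgHom]

variable {O : Type u} [CommRing O] [IsDomain O] [IsDiscreteValuationRing O]
  [Finite (ResidueField O)] {π : O}

lemma two_le_card : 2 ≤ Nat.card (ResidueField O) := by
  have := Finite.one_lt_card (α := ResidueField O)
  omega

lemma residue_pi (hπ : Irreducible π) : residue O π = 0 := by
  rw [residue_eq_zero_iff]
  exact (mem_nonunits_iff.mpr hπ.not_isUnit)

lemma dvd_of_residue_eq_zero (hπ : Irreducible π) {x : O} (h : residue O x = 0) : π ∣ x := by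
  rw [residue_eq_zero_iff, hπ.maximalIdeal_eq, Ideal.mem_span_singleton] at h
  exact h

lemma isUnit_one_sub_pow (hπ : Irreducible π) {m : ℕ} (hm : m ≠ 0) : IsUnit (1 - π ^ m) := by
  apply IsLocalRing.isUnit_one_sub_self_of_mem_nonunits
  rw [mem_nonunits_iff, isUnit_pow_iff hm]
  exact hπ.not_isUnit

lemma pi_sub_pow_eq {m : ℕ} (hm : 2 ≤ m) : π - π ^ m = π * (1 - π ^ (m - 1)) := by
  obtain ⟨k, rfl⟩ : ∃ k, m = k + 1 := ⟨m - 1, by omega⟩
  rw [Nat.add_sub_cancel, pow_succ]
  ring

lemma hnz (hπ : Irreducible π) : ∀ m : ℕ, 2 ≤ m → ∀ x : O, (π - π ^ m) * x = 0 → x = 0 := by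
  intro m hm x hx
  rw [pi_sub_pow_eq hm] at hx
  rcases mul_eq_zero.mp hx with h | h
  · rcases mul_eq_zero.mp h with h | h
    · exact absurd h hπ.ne_zero
    · exact absurd h (isUnit_one_sub_pow hπ (by omega)).ne_zero
  · exact h

variable {σ : Type v} [Finite σ]

lemma map_eps (hπ : Irreducible π) (G : MvPowerSeries σ O) :
    (eps π (Nat.card (ResidueField O)) 1 G).map (residue O) = 0 := by
  have hq0 : Nat.card (ResidueField O) ≠ 0 := by have := two_le_card (O := O); omega
  unfold eps
  rw [map_sub, map_add, one_smul, smul_eq_C_mul, map_mul, map_C, residue_pi hπ, map_zero, zero_mul,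
    zero_add, map_pow, map_subst (hasSubst_fvec π _ hq0), frobenius_powerSeries]
  have : (fun i => (fvec π (Nat.card (ResidueField O)) σ i).map (residue O)) =
      fun i => (X i : MvPowerSeries σ (ResidueField O)) ^ Nat.card (ResidueField O) := by
    funext i
    simp only [fvec, smul_eq_C_mul, map_add, map_mul, map_C, residue_pi hπ, map_zero, zero_mul,
      zero_add, map_pow, map_X]
  rw [this, sub_self]

lemma hdiv (hπ : Irreducible π) : ∀ G : MvPowerSeries σ O, constantCoeff G = 0 → ∀ m : ℕ, 2 ≤ m →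
    ∀ d : σ →₀ ℕ, degree d = m →
      (π - π ^ m) ∣ coeff d (eps π (Nat.card (ResidueField O)) 1 G) := by
  intro G _ m hm d _
  rw [pi_sub_pow_eq hm, (isUnit_one_sub_pow hπ (by omega)).mul_right_dvd]
  apply dvd_of_residue_eq_zero hπ
  have := congrArg (coeff d) (map_eps hπ G)
  rwa [coeff_map, map_zero] at this

/-- Lubin–Tate: existence -/
theorem lt_exists (hπ : Irreducible π) (a : σ → O) :
    ∃ H : MvPowerSeries σ O, constantCoeff H = 0 ∧ (∀ i, coeff (single i 1) H = a i) ∧
      eps π (Nat.card (ResidueField O)) 1 H = 0 :=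
  exists_eps_eq_zero π _ 1 two_le_card (hdiv hπ) a

/-- Lubin–Tate: uniqueness -/
theorem lt_unique (hπ : Irreducible π) {H H' : MvPowerSeries σ O} (h0 : constantCoeff H = 0)
    (h0' : constantCoeff H' = 0)
    (hlin : ∀ i, coeff (single i 1) H = coeff (single i 1) H')
    (hH : eps π (Nat.card (ResidueField O)) 1 H = 0)
    (hH' : eps π (Nat.card (ResidueField O)) 1 H' = 0) : H = H' :=
  eq_of_eps_eq_zero π _ 1 two_le_card (hnz hπ) h0 h0' hlin hH hH'

end Groth.Agent.Lib.Helper63.LT
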