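import Mathlib
import Groth.Agent.Lib.Helper63.LTDvr

/-!
# Lubin–Tate: translation lemmas for one-variable series (helper63)
-/

set_option autoImplicit false

namespace Groth.Agent.Lib.Helper63.LT

open MvPowerSeries Finsupp

universe u

variable {R : Type u} [CommRing R] (π : R) (q : ℕ)

/-- the series `f = π T + T ^ q` -/
noncomputable abbrev fser : PowerSeries R := π • PowerSeries.X + PowerSeries.X ^ q

lemma fvec_unit : fvec π q Unit = fun _ => (fser π q : PowerSeries R) := rfl

/-- one variable: `f ∘ g = g ∘ f` iff `eps g = 0` -/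
lemma eps_unit_iff {g : PowerSeries R} (hg : PowerSeries.constantCoeff g = 0) :
    eps π q 1 (g : MvPowerSeries Unit R) = 0 ↔
      PowerSeries.subst g (fser π q) = PowerSeries.subst (fser π q) g := by
  rw [powerSeries_subst_f π q (σ := Unit) hg]
  unfold eps
  rw [one_smul, sub_eq_zero, fvec_unit]
  rfl

lemma coeff_single_unit (g : PowerSeries R) (n : ℕ) :
    MvPowerSeries.coeff (single () n) g = PowerSeries.coeff n g := rfl


section Two

variable {σ : Type*} [Finite σ]

/-- linear coefficients of `G(a₀, a₁)` when `G = X + Y + …` -/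
lemma coeff_single_subst_two {G : MvPowerSeries (Fin 2) R} (hG0 : constantCoeff G = 0)
    (hGX : coeff (single 0 1) G = 1) (hGY : coeff (single 1 1) G = 1)
    {a : Fin 2 → MvPowerSeries σ R} (ha0 : ∀ j, constantCoeff (a j) = 0) (i : σ) :
    coeff (single i 1) (G.subst a) = coeff (single i 1) (a 0) + coeff (single i 1) (a 1) := by
  rw [coeff_single_subst ha0 hG0, Fin.sum_univ_two, hGX, hGY, one_mul, one_mul]

lemma coeff_single_X [DecidableEq σ] (i j : σ) :
    coeff (single i 1) (X j : MvPowerSeries σ R) = if i = j then 1 else 0 := by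
  rw [coeff_X]
  by_cases h : i = j
  · subst h; simp
  · rw [if_neg h, if_neg]
    intro h'
    exact h ((Finsupp.single_left_inj one_ne_zero).mp h')

end Two

end Groth.Agent.Lib.Helper63.LT
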