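import Mathlib
import Groth.Agent.Lib.Helper63.LTApply

/-!
# Inverse series of a one-dimensional formal group law (helper63)
-/

set_option autoImplicit false

namespace Groth.Agent.Lib.Helper63.FGInv

open MvPowerSeries Finsupp Groth.Agent.Lib.Helper63.LT

universe u v w

variable {R : Type u} [CommRing R] {σ : Type v} {τ : Type w} [Finite σ] [Finite τ]

/-- Lipschitz property of substitution for the order filtration -/
theorem le_order_subst_sub {a a' : τ → MvPowerSeries σ R} (ha : ∀ j, constantCoeff (a j) = 0)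
    (ha' : ∀ j, constantCoeff (a' j) = 0) (G : MvPowerSeries τ R) {n : ℕ∞}
    (h : ∀ j, n ≤ (a' j - a j).order) : n ≤ (G.subst a' - G.subst a).order := by
  classical
  induction n using ENat.recTopCoe with
  | top =>
    have : a' = a := by
      funext j
      have := h j
      rw [top_le_iff, order_eq_top_iff, sub_eq_zero] at this
      exact this
    rw [this, sub_self, order_zero]
  | coe k =>
    refine MvPowerSeries.le_order fun d hd => ?_
    have hd' : degree d < k := by exact_mod_cast hd
    have hsa := hasSubst_of_constantCoeff_zero ha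
    have hsa' := hasSubst_of_constantCoeff_zero ha'
    have e1 := truncTotal_subst_eq_truncTotal_subst_truncTotal_of_le (f := G) (k := k)
      (x := fun _ => k) hsa (fun _ => le_rfl)
    have e2 := truncTotal_subst_eq_truncTotal_subst_truncTotal_of_le (f := G) (k := k)
      (x := fun _ => k) hsa' (fun _ => le_rfl)
    have e3 : (fun i => ((a' i).truncTotal k).toMvPowerSeries) =
        fun i => ((a i).truncTotal k).toMvPowerSeries := by
      funext i
      congr 1
      ext e
      rw [coeff_truncTotal_eq_ite, coeff_truncTotal_eq_ite]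
      split_ifs with he
      · exact coeff_eq_of_le_order_sub (h i) he
      · rfl
    rw [map_sub, sub_eq_zero, ← coeff_truncTotal _ hd', ← coeff_truncTotal (G.subst a) hd', e1, e2,
      e3]


section FG

variable (F : FormalGroup R)

/-- `F(a, b)` -/
noncomputable abbrev fadd (a b : MvPowerSeries σ R) : MvPowerSeries σ R :=
  F.toPowerSeries.subst ![a, b]

omit [Finite σ] in
lemma vec0 {a b : MvPowerSeries σ R} (ha : constantCoeff a = 0) (hb : constantCoeff b = 0) :
    ∀ j : Fin 2, constantCoeff ((![a, b] : Fin 2 → MvPowerSeries σ R) j) = 0 := by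
  intro j
  fin_cases j
  · exact ha
  · exact hb

lemma constantCoeff_fadd {a b : MvPowerSeries σ R} (ha : constantCoeff a = 0)
    (hb : constantCoeff b = 0) : constantCoeff (fadd F a b) = 0 :=
  constantCoeff_subst_zero (vec0 ha hb) F.zero_constantCoeff

omit [Finite σ] in
lemma fadd_assoc {a b c : MvPowerSeries σ R} (ha : constantCoeff a = 0) (hb : constantCoeff b = 0)
    (hc : constantCoeff c = 0) : fadd F (fadd F a b) c = fadd F a (fadd F b c) :=
  F.assoc' (PowerSeries.HasSubst.of_constantCoeff_zero ha)
    (PowerSeries.HasSubst.of_constantCoeff_zero hb) (PowerSeries.HasSubst.of_constantCoeff_zero hc)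

omit [Finite σ] in
lemma fadd_zero {a : MvPowerSeries σ R} (ha : constantCoeff a = 0) : fadd F a 0 = a :=
  F.add_zero (PowerSeries.HasSubst.of_constantCoeff_zero ha)

omit [Finite σ] in
lemma zero_fadd {a : MvPowerSeries σ R} (ha : constantCoeff a = 0) : fadd F 0 a = a :=
  F.zero_add (PowerSeries.HasSubst.of_constantCoeff_zero ha)

lemma le_order_fadd_sub_right {a b b' : MvPowerSeries σ R} (ha : constantCoeff a = 0)
    (hb : constantCoeff b = 0) (hb' : constantCoeff b' = 0) {n : ℕ∞} (h : n ≤ (b' - b).order) :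
    n ≤ (fadd F a b' - fadd F a b).order := by
  refine le_order_subst_sub (vec0 ha hb) (vec0 ha hb') _ fun j => ?_
  fin_cases j
  · simp
  · simpa using h

lemma two_le_order_F2 :
    ((2 : ℕ) : ℕ∞) ≤ (F.toPowerSeries - (X 0 + X 1 : MvPowerSeries (Fin 2) R)).order := by
  classical
  refine two_le_order_sub (by simp) F.zero_constantCoeff fun i => ?_
  rw [map_add, coeff_single_X, coeff_single_X]
  fin_cases i
  · simpa using F.lin_coeff_X.symm
  · simpa using F.lin_coeff_Y.symm

lemma le_order_fadd_neg {e : MvPowerSeries σ R} (he : constantCoeff e = 0) :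
    e.order + 1 ≤ (fadd F e (-e)).order := by
  have hne : constantCoeff (-e) = 0 := by rw [map_neg, he, neg_zero]
  have hv := vec0 he hne
  have hs : HasSubst (![e, -e] : Fin 2 → MvPowerSeries σ R) := hasSubst_of_constantCoeff_zero hv
  have h1 : fadd F e (-e) =
      (F.toPowerSeries - (X 0 + X 1 : MvPowerSeries (Fin 2) R)).subst ![e, -e] := by
    rw [subst_sub hs, subst_add hs, subst_X hs, subst_X hs]
    simp
  rw [h1]
  refine le_trans ?_ (le_order_subst hs _)
  have h2 : e.order ≤ ⨅ i, ((![e, -e] : Fin 2 → MvPowerSeries σ R) i).order := by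
    refine le_iInf fun i => ?_
    fin_cases i
    · simp
    · simp [order_neg]
  have h3 : (1 : ℕ∞) ≤ e.order := one_le_order_iff_constCoeff_eq_zero.mpr he
  calc e.order + 1 ≤ e.order + e.order := add_le_add le_rfl h3
    _ = e.order * 2 := (mul_two _).symm
    _ ≤ (⨅ i, ((![e, -e] : Fin 2 → MvPowerSeries σ R) i).order) *
        (F.toPowerSeries - (X 0 + X 1 : MvPowerSeries (Fin 2) R)).order :=
      mul_le_mul' h2 (by exact_mod_cast two_le_order_F2 F)

/-- every point has a right inverse -/
theorem exists_right_inverse {x : MvPowerSeries σ R} (hx : constantCoeff x = 0) :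
    ∃ g : MvPowerSeries σ R, constantCoeff g = 0 ∧ fadd F x g = 0 := by
  classical
  let seq : ℕ → MvPowerSeries σ R := fun k =>
    Nat.rec (0 : MvPowerSeries σ R) (fun _ g => fadd F g (-(fadd F x g))) k
  have hsucc : ∀ k, seq (k + 1) = fadd F (seq k) (-(fadd F x (seq k))) := fun k => rfl
  have hP : ∀ k, constantCoeff (seq k) = 0 ∧ ((k + 1 : ℕ) : ℕ∞) ≤ (fadd F x (seq k)).order := by
    intro k
    induction k with
    | zero =>
      refine ⟨by simp [seq], ?_⟩
      change _ ≤ (fadd F x 0).order
      rw [fadd_zero F hx]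
      exact_mod_cast one_le_order_iff_constCoeff_eq_zero.mpr hx
    | succ k ih =>
      obtain ⟨h0, hord⟩ := ih
      have hE0 : constantCoeff (fadd F x (seq k)) = 0 := constantCoeff_fadd F hx h0
      have hnE0 : constantCoeff (-(fadd F x (seq k))) = 0 := by rw [map_neg, hE0, neg_zero]
      refine ⟨by rw [hsucc]; exact constantCoeff_fadd F h0 hnE0, ?_⟩
      rw [hsucc, ← fadd_assoc F hx h0 hnE0]
      refine le_trans ?_ (le_order_fadd_neg F hE0)
      calc ((k + 1 + 1 : ℕ) : ℕ∞) = ((k + 1 : ℕ) : ℕ∞) + 1 := by push_cast; rfl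
        _ ≤ _ := add_le_add hord le_rfl
  have hD : ∀ k, ((k + 1 : ℕ) : ℕ∞) ≤ (seq (k + 1) - seq k).order := by
    intro k
    obtain ⟨h0, hord⟩ := hP k
    have hE0 : constantCoeff (fadd F x (seq k)) = 0 := constantCoeff_fadd F hx h0
    have hnE0 : constantCoeff (-(fadd F x (seq k))) = 0 := by rw [map_neg, hE0, neg_zero]
    have := le_order_fadd_sub_right F h0 (by simp : constantCoeff (0 : MvPowerSeries σ R) = 0) hnE0
      (n := ((k + 1 : ℕ) : ℕ∞)) (by rw [sub_zero, order_neg]; exact hord)
    rwa [fadd_zero F h0, ← hsucc] at this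
  have hstab : ∀ (k j : ℕ) (d : σ →₀ ℕ), degree d ≤ k → coeff d (seq (k + j)) = coeff d (seq k) := by
    intro k j d hd
    induction j with
    | zero => rfl
    | succ j ih =>
      rw [← ih]
      exact coeff_eq_of_le_order_sub (hD (k + j)) (by omega)
  let H : MvPowerSeries σ R := fun d => coeff d (seq (degree d))
  have hH : ∀ (k : ℕ) (d : σ →₀ ℕ), degree d ≤ k → coeff d H = coeff d (seq k) := by
    intro k d hd
    rw [coeff_apply]
    change coeff d (seq (degree d)) = _
    obtain ⟨j, hj⟩ := Nat.exists_eq_add_of_le hd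
    rw [hj]
    exact (hstab (degree d) j d le_rfl).symm
  have hHk : ∀ k : ℕ, ((k + 1 : ℕ) : ℕ∞) ≤ (H - seq k).order := by
    intro k
    refine MvPowerSeries.le_order fun d hd => ?_
    have hd' : degree d < k + 1 := by exact_mod_cast hd
    rw [map_sub, hH k d (by omega), sub_self]
  have hH0 : constantCoeff H = 0 := by
    rw [← coeff_zero_eq_constantCoeff_apply, hH 0 0 (by simp), coeff_zero_eq_constantCoeff_apply]
    exact (hP 0).1
  refine ⟨H, hH0, eq_zero_of_forall_le_order fun k => ?_⟩
  have e1 := le_order_fadd_sub_right F hx (hP k).1 hH0 (hHk k)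
  have e2 := (hP k).2
  have e3 : fadd F x H = (fadd F x H - fadd F x (seq k)) + fadd F x (seq k) := by abel
  rw [e3]
  refine le_trans ?_ (le_order_add e1 e2)
  exact_mod_cast (by omega : k ≤ k + 1)

/-- every point has a two-sided inverse, which is the unique one-sided inverse -/
theorem exists_inverse {x : MvPowerSeries σ R} (hx : constantCoeff x = 0) :
    ∃ g : MvPowerSeries σ R, constantCoeff g = 0 ∧ fadd F x g = 0 ∧ fadd F g x = 0 ∧
      ∀ k : MvPowerSeries σ R, constantCoeff k = 0 → (fadd F x k = 0 ∨ fadd F k x = 0) → k = g := by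
  obtain ⟨g, hg0, hxg⟩ := exists_right_inverse F hx
  obtain ⟨h, hh0, hgh⟩ := exists_right_inverse F hg0
  have hxh : x = h := by
    calc x = fadd F x 0 := (fadd_zero F hx).symm
      _ = fadd F x (fadd F g h) := by rw [hgh]
      _ = fadd F (fadd F x g) h := (fadd_assoc F hx hg0 hh0).symm
      _ = fadd F 0 h := by rw [hxg]
      _ = h := zero_fadd F hh0
  have hgx : fadd F g x = 0 := by rw [hxh]; exact hgh
  refine ⟨g, hg0, hxg, hgx, ?_⟩
  rintro k hk0 (hk | hk)
  · calc k = fadd F 0 k := (zero_fadd F hk0).symm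
      _ = fadd F (fadd F g x) k := by rw [hgx]
      _ = fadd F g (fadd F x k) := fadd_assoc F hg0 hx hk0
      _ = fadd F g 0 := by rw [hk]
      _ = g := fadd_zero F hg0
  · calc k = fadd F k 0 := (fadd_zero F hk0).symm
      _ = fadd F k (fadd F x g) := by rw [hxg]
      _ = fadd F (fadd F k x) g := (fadd_assoc F hk0 hx hg0).symm
      _ = fadd F 0 g := by rw [hk]
      _ = g := zero_fadd F hg0

end FG

end Groth.Agent.Lib.Helper63.FGInv
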