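import Mathlib
import Groth.Agent.Lib.Helper63.SuccApprox

/-!
# Formal Morse lemma: auxiliary results (helper63)
-/

set_option autoImplicit false

namespace Groth.Agent.Lib.Helper63.Morse

open MvPowerSeries Finsupp Groth.Agent.Lib.Helper63.LT

universe u v w

variable {R : Type u} [CommRing R] {σ : Type v} {τ : Type w}

/-! ## Exponents of small degree -/

lemma exists_ne_zero_of_degree_ne_zero {d : σ →₀ ℕ} (hd : degree d ≠ 0) : ∃ i, d i ≠ 0 := by
  by_contra h
  apply hd
  rw [Finsupp.degree_eq_zero_iff]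
  ext i
  by_contra hi
  exact h ⟨i, hi⟩

lemma degree_tsub_single {d : σ →₀ ℕ} {i : σ} (hi : d i ≠ 0) :
    degree (d - single i 1) + 1 = degree d := by
  have h1 : single i 1 ≤ d := by
    rw [Finsupp.single_le_iff]
    omega
  have h2 : d - single i 1 + single i 1 = d := tsub_add_cancel_of_le h1
  conv_rhs => rw [← h2]
  rw [map_add, degree_single]

lemma tsub_single_add {d : σ →₀ ℕ} {i : σ} (hi : d i ≠ 0) : d - single i 1 + single i 1 = d := by
  apply tsub_add_cancel_of_le
  rw [Finsupp.single_le_iff]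
  omega

lemma exists_add_single_of_degree_eq_two [Finite σ] {d : σ →₀ ℕ} (hd : degree d = 2) :
    ∃ i j, d = single i 1 + single j 1 := by
  obtain ⟨i, hi⟩ := exists_ne_zero_of_degree_ne_zero (d := d) (by omega)
  have h1 := degree_tsub_single hi
  obtain ⟨j, hj⟩ := exists_single_of_degree_eq_one (d := d - single i 1) (by omega)
  refine ⟨j, i, ?_⟩
  rw [← hj, tsub_single_add hi]


/-! ## Homogeneous series -/

lemma homDeg_zero (m : ℕ) : HomDeg m (0 : MvPowerSeries σ R) := fun d _ => by simp

lemma HomDeg.add {m : ℕ} {f g : MvPowerSeries σ R} (hf : HomDeg m f) (hg : HomDeg m g) :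
    HomDeg m (f + g) := fun d hd => by rw [map_add, hf d hd, hg d hd, add_zero]

lemma homDeg_sum {ι : Type*} (s : Finset ι) {m : ℕ} (f : ι → MvPowerSeries σ R)
    (h : ∀ i ∈ s, HomDeg m (f i)) : HomDeg m (∑ i ∈ s, f i) := by
  intro d hd
  rw [map_sum]
  exact Finset.sum_eq_zero fun i hi => h i hi d hd

lemma homDeg_monomial {m : ℕ} {d : σ →₀ ℕ} (hd : degree d = m) (c : R) :
    HomDeg m (monomial d c : MvPowerSeries σ R) := by
  classical
  intro e he
  rw [coeff_monomial, if_neg]
  rintro rfl
  exact he hd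

lemma X_mul_monomial_tsub {d : σ →₀ ℕ} {i : σ} (hi : d i ≠ 0) (c : R) :
    (X i : MvPowerSeries σ R) * monomial (d - single i 1) c = monomial d c := by
  rw [X, monomial_mul_monomial, one_mul, add_comm, tsub_single_add hi]

/-- a homogeneous series of positive degree is a combination of the variables -/
lemma exists_decomp_of_homDeg [Fintype σ] {m : ℕ} {E : MvPowerSeries σ R}
    (hE : HomDeg (m + 1) E) :
    ∃ Ej : σ → MvPowerSeries σ R, (∀ j, HomDeg m (Ej j)) ∧ E = ∑ j, X j * Ej j := by
  classical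
  obtain ⟨S, hS, hES⟩ := eq_sum_monomial_of_homDeg hE
  rcases isEmpty_or_nonempty σ with hσ | hσ
  · refine ⟨fun j => isEmptyElim j, fun j => isEmptyElim j, ?_⟩
    rw [Finset.univ_eq_empty, Finset.sum_empty]
    ext d
    rw [map_zero]
    refine hE d ?_
    have : d = 0 := Subsingleton.elim _ _
    rw [this, map_zero]
    omega
  · have hex : ∀ d : σ →₀ ℕ, ∃ j, d ∈ S → d j ≠ 0 := by
      intro d
      by_cases hd : d ∈ S
      · obtain ⟨j, hj⟩ := exists_ne_zero_of_degree_ne_zero (d := d) (by rw [hS d hd]; omega)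
        exact ⟨j, fun _ => hj⟩
      · exact ⟨Classical.arbitrary σ, fun h => absurd h hd⟩
    choose jd hjd using hex
    refine ⟨fun j => ∑ d ∈ S, if jd d = j then monomial (d - single j 1) (coeff d E) else 0, ?_, ?_⟩
    · intro j
      refine homDeg_sum _ _ fun d hd => ?_
      split_ifs with h
      · refine homDeg_monomial ?_ _
        have h1 := degree_tsub_single (h ▸ hjd d hd : d j ≠ 0)
        rw [hS d hd] at h1
        omega
      · exact homDeg_zero m
    · conv_lhs => rw [hES]
      simp_rw [Finset.mul_sum, mul_ite, mul_zero]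
      rw [Finset.sum_comm]
      refine Finset.sum_congr rfl fun d hd => ?_
      rw [Finset.sum_ite_eq, if_pos (Finset.mem_univ _), X_mul_monomial_tsub (hjd d hd)]


/-! ## Substitution in linear and quadratic forms -/

section Subst

variable [Finite σ] [Finite τ]

lemma subst_monomial_single {a : σ → MvPowerSeries τ R} (ha : HasSubst a) (i : σ) (c : R) :
    subst a (monomial (single i 1) c : MvPowerSeries σ R) =
      algebraMap R (MvPowerSeries τ R) c * a i := by
  rw [subst_monomial ha, Finsupp.prod_single_index (by simp), pow_one]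

lemma subst_monomial_single_add {a : σ → MvPowerSeries τ R} (ha : HasSubst a) (i j : σ) (c : R) :
    subst a (monomial (single i 1 + single j 1) c : MvPowerSeries σ R) =
      algebraMap R (MvPowerSeries τ R) c * (a i * a j) := by
  classical
  rw [subst_monomial ha, Finsupp.prod_add_index' (by simp) (by intro s n m; exact pow_add _ _ _),
    Finsupp.prod_single_index (by simp), Finsupp.prod_single_index (by simp), pow_one, pow_one]

lemma subst_add_of_homDeg_one {L : MvPowerSeries σ R} (hL : HomDeg 1 L)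
    {u v : σ → MvPowerSeries τ R} (hu : HasSubst u) (hv : HasSubst v) (huv : HasSubst (u + v)) :
    L.subst (u + v) = L.subst u + L.subst v := by
  obtain ⟨S, hS, hLS⟩ := eq_sum_monomial_of_homDeg hL
  rw [hLS, ← coe_substAlgHom huv, ← coe_substAlgHom hu, ← coe_substAlgHom hv, map_sum, map_sum,
    map_sum, ← Finset.sum_add_distrib]
  refine Finset.sum_congr rfl fun d hd => ?_
  obtain ⟨i, rfl⟩ := exists_single_of_degree_eq_one (hS d hd)
  rw [coe_substAlgHom, coe_substAlgHom, coe_substAlgHom, subst_monomial_single huv,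
    subst_monomial_single hu, subst_monomial_single hv, Pi.add_apply, mul_add]

lemma pderiv_monomial_single_add [DecidableEq σ] (i j l : σ) (c : R) :
    pderiv R l (monomial (single i 1 + single j 1) c : MvPowerSeries σ R) =
      (if j = l then C c * X i else 0) + (if i = l then C c * X j else 0) := by
  have h1 : (monomial (single i 1 + single j 1) c : MvPowerSeries σ R) = C c * (X i * X j) := by
    rw [X, X, monomial_mul_monomial, ← monomial_zero_eq_C_apply, monomial_mul_monomial, zero_add,
      mul_one, mul_one]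
  rw [h1, Derivation.leibniz, Derivation.leibniz, pderiv_C, smul_zero, add_zero, pderiv_X,
    pderiv_X]
  simp only [smul_eq_mul, Pi.single_apply]
  split_ifs <;> ring

end Subst

section Polar

variable [Fintype σ] [Finite τ]

lemma subst_add_of_homDeg_two {Q : MvPowerSeries σ R} (hQ : HomDeg 2 Q)
    {u v : σ → MvPowerSeries τ R} (hu : HasSubst u) (hv : HasSubst v) (huv : HasSubst (u + v)) :
    Q.subst (u + v) = Q.subst u + Q.subst v + ∑ l, (pderiv R l Q).subst u * v l := by
  classical
  let Φ : MvPowerSeries σ R →ₗ[R] MvPowerSeries τ R :=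
    (substAlgHom huv).toLinearMap - (substAlgHom hu).toLinearMap - (substAlgHom hv).toLinearMap -
      ∑ l, (LinearMap.mulRight R (v l)) ∘ₗ (substAlgHom hu).toLinearMap ∘ₗ
        ((pderiv R l : Derivation R (MvPowerSeries σ R) (MvPowerSeries σ R)) :
          MvPowerSeries σ R →ₗ[R] MvPowerSeries σ R)
  have hΦ : ∀ P : MvPowerSeries σ R, Φ P =
      P.subst (u + v) - P.subst u - P.subst v - ∑ l, (pderiv R l P).subst u * v l := by
    intro P
    simp only [Φ, LinearMap.sub_apply, LinearMap.sum_apply, LinearMap.comp_apply,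
      AlgHom.toLinearMap_apply, coe_substAlgHom, LinearMap.mulRight_apply, Derivation.coeFn_coe]
  have hmon : ∀ d : σ →₀ ℕ, degree d = 2 → ∀ c : R, Φ (monomial d c) = 0 := by
    intro d hd c
    obtain ⟨i, j, rfl⟩ := exists_add_single_of_degree_eq_two hd
    rw [hΦ, subst_monomial_single_add huv, subst_monomial_single_add hu,
      subst_monomial_single_add hv]
    simp_rw [pderiv_monomial_single_add]
    have hzero : subst u (0 : MvPowerSeries σ R) = 0 := by
      rw [← coe_substAlgHom hu, map_zero]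
    have hCX : ∀ k : σ, subst u (C c * X k : MvPowerSeries σ R) =
        algebraMap R (MvPowerSeries τ R) c * u k := by
      intro k
      rw [← coe_substAlgHom hu, map_mul, coe_substAlgHom, subst_X hu, subst_C,
        MvPowerSeries.algebraMap_apply, Algebra.algebraMap_self, RingHom.id_apply]
    have hsum : ∑ l, subst u ((if j = l then C c * X i else 0) +
        (if i = l then C c * X j else 0) : MvPowerSeries σ R) * v l =
        algebraMap R (MvPowerSeries τ R) c * u i * v j +
          algebraMap R (MvPowerSeries τ R) c * u j * v i := by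
      have : ∀ l : σ, subst u ((if j = l then C c * X i else 0) +
          (if i = l then C c * X j else 0) : MvPowerSeries σ R) * v l =
          (if j = l then algebraMap R (MvPowerSeries τ R) c * u i * v l else 0) +
            (if i = l then algebraMap R (MvPowerSeries τ R) c * u j * v l else 0) := by
        intro l
        rw [subst_add hu, apply_ite (subst u), apply_ite (subst u), hzero, hCX, hCX, add_mul,
          ite_mul, ite_mul, zero_mul]
      simp_rw [this]
      rw [Finset.sum_add_distrib, Finset.sum_ite_eq, Finset.sum_ite_eq, if_pos (Finset.mem_univ _),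
        if_pos (Finset.mem_univ _)]
    rw [hsum, Pi.add_apply, Pi.add_apply]
    ring
  obtain ⟨S, hS, hQS⟩ := eq_sum_monomial_of_homDeg hQ
  have hΦQ : Φ Q = 0 := by
    rw [hQS, map_sum]
    exact Finset.sum_eq_zero fun d hd => hmon d (hS d hd) _
  rw [hΦ] at hΦQ
  have := sub_eq_zero.mp hΦQ
  rw [sub_sub] at this
  rw [sub_eq_iff_eq_add] at this
  rw [this]
  abel

end Polar


/-! ## Derivatives and orders -/

lemma homDeg_pderiv {m : ℕ} {Q : MvPowerSeries σ R} (hQ : HomDeg (m + 1) Q) (i : σ) :
    HomDeg m (pderiv R i Q) := by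
  intro d hd
  rw [coeff_pderiv, hQ (d + single i 1) (by rw [map_add, degree_single]; omega), zero_mul]

lemma le_order_pderiv {m : ℕ} {g : MvPowerSeries σ R} (hg : ((m + 1 : ℕ) : ℕ∞) ≤ g.order)
    (i : σ) : (m : ℕ∞) ≤ (pderiv R i g).order := by
  refine MvPowerSeries.le_order fun d hd => ?_
  have hd' : degree d < m := by exact_mod_cast hd
  rw [coeff_pderiv, coeff_of_lt_order, zero_mul]
  refine lt_of_lt_of_le ?_ hg
  rw [map_add, degree_single]
  exact_mod_cast (by omega : degree d + 1 < m + 1)

lemma mul_le_order_subst [Finite σ] [Finite τ] {a : σ → MvPowerSeries τ R} (ha : HasSubst a)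
    {G : MvPowerSeries σ R} {p q : ℕ} (hp : ∀ i, (p : ℕ∞) ≤ (a i).order)
    (hq : (q : ℕ∞) ≤ G.order) : ((p * q : ℕ) : ℕ∞) ≤ (G.subst a).order := by
  refine le_trans ?_ (le_order_subst ha G)
  rw [Nat.cast_mul]
  exact mul_le_mul' (le_iInf hp) hq


lemma HomDeg.sub {m : ℕ} {f g : MvPowerSeries σ R} (hf : HomDeg m f) (hg : HomDeg m g) :
    HomDeg m (f - g) := fun d hd => by rw [map_sub, hf d hd, hg d hd, sub_zero]

lemma homDeg_X (i : σ) : HomDeg 1 (X i : MvPowerSeries σ R) :=
  homDeg_monomial (degree_single i 1) 1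

/-! ## The formal Morse lemma -/

section Main

variable {k : Type u} [Field k] {n : ℕ}

theorem morse (f : MvPowerSeries (Fin n) k) (hf0 : constantCoeff f = 0)
    (hJ : Ideal.span (Set.range fun i : Fin n => pderiv k i f) =
      IsLocalRing.maximalIdeal (MvPowerSeries (Fin n) k)) :
    ∃ (ε : Fin n → MvPowerSeries (Fin n) k) (Q : MvPowerSeries (Fin n) k),
      (∀ i, ((2 : ℕ) : ℕ∞) ≤ (ε i).order) ∧ HomDeg 2 Q ∧
      f = Q.subst (fun i => X i + ε i) := by
  classical
  have hmax : ∀ g : MvPowerSeries (Fin n) k,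
      g ∈ IsLocalRing.maximalIdeal (MvPowerSeries (Fin n) k) ↔ constantCoeff g = 0 := by
    intro g
    rw [IsLocalRing.mem_maximalIdeal, mem_nonunits_iff, MvPowerSeries.isUnit_iff_constantCoeff,
      isUnit_iff_ne_zero, not_not]
  have hd0 : ∀ i, constantCoeff (pderiv k i f) = 0 := by
    intro i
    rw [← hmax, ← hJ]
    exact Ideal.subset_span ⟨i, rfl⟩
  have hlin : ∀ j, coeff (single j 1) f = 0 := by
    intro j
    have := hd0 j
    rw [← coeff_zero_eq_constantCoeff_apply, coeff_pderiv, zero_add] at this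
    simpa using this
  have hord2 : ((2 : ℕ) : ℕ∞) ≤ f.order := by
    have := two_le_order_sub (H := (0 : MvPowerSeries (Fin n) k)) (H' := f) (by simp) hf0
      (fun i => by rw [map_zero, hlin i])
    rwa [sub_zero] at this
  set Q := homogeneousComponent 2 f with hQdef
  have hQ : HomDeg 2 Q := homDeg_homogeneousComponent 2 f
  have hQord : ((2 : ℕ) : ℕ∞) ≤ Q.order := hQ.le_order
  have hfQ : ((2 + 1 : ℕ) : ℕ∞) ≤ (f - Q).order := le_order_sub_homogeneousComponent hord2
  let l : Fin n → MvPowerSeries (Fin n) k := fun i => pderiv k i Q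
  have hl : ∀ i, HomDeg 1 (l i) := fun i => homDeg_pderiv hQ i
  have hXmem : ∀ j : Fin n, (X j : MvPowerSeries (Fin n) k) ∈
      Ideal.span (Set.range fun i : Fin n => pderiv k i f) := by
    intro j
    rw [hJ, hmax]
    exact constantCoeff_X j
  have hc : ∀ j : Fin n, ∃ c : Fin n → MvPowerSeries (Fin n) k,
      ∑ i, c i * pderiv k i f = X j := fun j =>
    (Ideal.mem_span_range_iff_exists_fun).mp (hXmem j)
  choose c hcX using hc
  let c0 : Fin n → Fin n → k := fun j i => constantCoeff (c j i)
  have hX : ∀ j, (X j : MvPowerSeries (Fin n) k) = ∑ i, c0 j i • l i := by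
    intro j
    have hW : HomDeg 1 (X j - ∑ i, c0 j i • l i) :=
      HomDeg.sub (homDeg_X j) (homDeg_sum _ _ fun i _ => (hl i).smul _)
    have hW2 : ((1 + 1 : ℕ) : ℕ∞) ≤ (X j - ∑ i, c0 j i • l i).order := by
      have e : X j - ∑ i, c0 j i • l i = ∑ i, ((c j i - C (c0 j i)) * pderiv k i f +
          C (c0 j i) * pderiv k i (f - Q)) := by
        rw [← hcX j, ← Finset.sum_sub_distrib]
        refine Finset.sum_congr rfl fun i _ => ?_
        rw [map_sub, smul_eq_C_mul]
        ring
      rw [e]
      refine le_order_sum _ _ fun i _ => le_order_add ?_ ?_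
      · have h1 : (1 : ℕ∞) ≤ (c j i - C (c0 j i)).order := by
          rw [one_le_order_iff_constCoeff_eq_zero, map_sub, constantCoeff_C, sub_self]
        have h2 : (1 : ℕ∞) ≤ (pderiv k i f).order :=
          one_le_order_iff_constCoeff_eq_zero.mpr (hd0 i)
        exact_mod_cast le_order_mul' h1 h2
      · have h3 := le_order_pderiv (m := 2) hfQ i
        have h4 := le_order_mul' (zero_le (a := (C (c0 j i) : MvPowerSeries (Fin n) k).order)) h3
        rw [zero_add] at h4
        exact_mod_cast h4
    exact sub_eq_zero.mp (hW.eq_zero_of_lt_order hW2)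
  let Xv : Fin n → MvPowerSeries (Fin n) k := fun i => X i
  let Ψ : (Fin n → MvPowerSeries (Fin n) k) → MvPowerSeries (Fin n) k :=
    fun ε => f - Q.subst (Xv + ε)
  have hconst : ∀ ε : Fin n → MvPowerSeries (Fin n) k, (∀ i, ((2 : ℕ) : ℕ∞) ≤ (ε i).order) →
      ∀ i, constantCoeff ((Xv + ε) i) = 0 := by
    intro ε hε i
    rw [Pi.add_apply, map_add]
    have h1 : constantCoeff (Xv i) = 0 := constantCoeff_X i
    have h2 : constantCoeff (ε i) = 0 :=
      one_le_order_iff_constCoeff_eq_zero.mp (le_trans (by exact_mod_cast (by omega : 1 ≤ 2)) (hε i))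
    rw [h1, h2, add_zero]
  have hC : ∀ ε ε' : Fin n → MvPowerSeries (Fin n) k,
      (∀ i, ((2 : ℕ) : ℕ∞) ≤ (ε i - (0 : Fin n → MvPowerSeries (Fin n) k) i).order) →
      (∀ i, ((2 : ℕ) : ℕ∞) ≤ (ε' i - (0 : Fin n → MvPowerSeries (Fin n) k) i).order) →
      ∀ m : ℕ, (∀ i, (m : ℕ∞) ≤ (ε' i - ε i).order) → (m : ℕ∞) ≤ (Ψ ε' - Ψ ε).order := by
    intro ε ε' hε hε' m hm
    simp only [Pi.zero_apply, sub_zero] at hε hε'
    have e : Ψ ε' - Ψ ε = -(Q.subst (Xv + ε') - Q.subst (Xv + ε)) := by
      simp only [Ψ]; abel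
    rw [e, order_neg]
    refine Groth.Agent.Lib.Helper63.FGInv.le_order_subst_sub (hconst ε hε) (hconst ε' hε') Q
      fun i => ?_
    have : (Xv + ε') i - (Xv + ε) i = ε' i - ε i := by simp only [Pi.add_apply]; abel
    rw [this]
    exact hm i
  have hS : ∀ ε : Fin n → MvPowerSeries (Fin n) k,
      (∀ i, ((2 : ℕ) : ℕ∞) ≤ (ε i - (0 : Fin n → MvPowerSeries (Fin n) k) i).order) →
      ∀ r : ℕ, 2 ≤ r → ((r + 1 : ℕ) : ℕ∞) ≤ (Ψ ε).order →
      ∃ δ : Fin n → MvPowerSeries (Fin n) k, (∀ i, HomDeg r (δ i)) ∧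
        ((r + 2 : ℕ) : ℕ∞) ≤ (Ψ (ε + δ)).order := by
    intro ε hε r hr hord
    simp only [Pi.zero_apply, sub_zero] at hε
    set E := homogeneousComponent (r + 1) (Ψ ε) with hE
    have hEhom : HomDeg (r + 1) E := homDeg_homogeneousComponent _ _
    obtain ⟨Ej, hEj, hEsum⟩ := exists_decomp_of_homDeg hEhom
    let δ : Fin n → MvPowerSeries (Fin n) k := fun i => ∑ j, c0 j i • Ej j
    have hδ : ∀ i, HomDeg r (δ i) := fun i => homDeg_sum _ _ fun j _ => (hEj j).smul _
    have hδord : ∀ i, (r : ℕ∞) ≤ (δ i).order := fun i => (hδ i).le_order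
    have hδ0 : ∀ i, constantCoeff (δ i) = 0 := fun i => (hδ i).constantCoeff_eq_zero (by omega)
    have hlδ : ∑ i, l i * δ i = E := by
      rw [hEsum]
      simp only [δ, Finset.mul_sum]
      rw [Finset.sum_comm]
      refine Finset.sum_congr rfl fun j _ => ?_
      rw [hX j, Finset.sum_mul]
      refine Finset.sum_congr rfl fun i _ => ?_
      rw [mul_smul_comm, smul_mul_assoc]
    refine ⟨δ, hδ, ?_⟩
    have hu0 := hconst ε hε
    have hsu : HasSubst (Xv + ε) := hasSubst_of_constantCoeff_zero hu0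
    have hsδ : HasSubst δ := hasSubst_of_constantCoeff_zero hδ0
    have hsuδ : HasSubst ((Xv + ε) + δ) := hasSubst_of_constantCoeff_zero fun i => by
      rw [Pi.add_apply, map_add, hu0 i, hδ0 i, add_zero]
    have hsX : HasSubst Xv := HasSubst.X
    have hε0 : ∀ i, constantCoeff (ε i) = 0 := fun i =>
      one_le_order_iff_constCoeff_eq_zero.mp (le_trans (by exact_mod_cast (by omega : 1 ≤ 2)) (hε i))
    have hsε : HasSubst ε := hasSubst_of_constantCoeff_zero hε0
    have hpolar := subst_add_of_homDeg_two hQ hsu hsδ hsuδ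
    have hlinl : ∀ i, (l i).subst (Xv + ε) = l i + (l i).subst ε := by
      intro i
      rw [subst_add_of_homDeg_one (hl i) hsX hsε hsu]
      congr 1
      change subst (X : Fin n → MvPowerSeries (Fin n) k) (l i) = l i
      rw [subst_self]; rfl
    have key : Ψ (ε + δ) = (Ψ ε - E) - Q.subst δ - ∑ i, (l i).subst ε * δ i := by
      have : Xv + (ε + δ) = (Xv + ε) + δ := by rw [add_assoc]
      simp only [Ψ]
      rw [this, hpolar]
      simp_rw [show ∀ i, pderiv k i Q = l i from fun i => rfl, hlinl, add_mul]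
      rw [Finset.sum_add_distrib, hlδ]
      abel
    rw [key]
    refine le_order_sub (le_order_sub ?_ ?_) (le_order_sum _ _ fun i _ => ?_)
    · have := le_order_sub_homogeneousComponent hord
      exact this
    · have := mul_le_order_subst hsδ hδord hQord
      refine le_trans ?_ this
      exact_mod_cast (by nlinarith : r + 2 ≤ r * 2)
    · have h1 : ((2 * 1 : ℕ) : ℕ∞) ≤ ((l i).subst ε).order :=
        mul_le_order_subst hsε hε (hl i).le_order
      have h2 := le_order_mul' h1 (hδord i)
      refine le_trans ?_ h2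
      exact_mod_cast (by omega : r + 2 ≤ 2 * 1 + r)
  have h0 : ((2 + 1 : ℕ) : ℕ∞) ≤ (Ψ 0).order := by
    simp only [Ψ, add_zero]
    change _ ≤ (f - subst (X : Fin n → MvPowerSeries (Fin n) k) Q).order
    rw [subst_self]
    exact hfQ
  obtain ⟨ε, hεD, hεΨ⟩ :=
    Groth.Agent.Lib.Helper63.SuccApprox.exists_zero_of_approx Ψ 0 2 hC hS h0
  refine ⟨ε, Q, fun i => by simpa using hεD i, hQ, ?_⟩
  simp only [Ψ] at hεΨ
  exact sub_eq_zero.mp hεΨ

end Main

end Groth.Agent.Lib.Helper63.Morse
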