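import Mathlib
import Groth.Agent.Lib.Helper63.Morse

/-!
# Lipschitz property with gain for substitution of power series (helper63)

`ord (G(u + v) - G(u)) ≥ ord v + ord G - 1`.
-/

set_option autoImplicit false

namespace Groth.Agent.Lib.Helper63.Gain

open MvPowerSeries Finsupp Groth.Agent.Lib.Helper63.LT Groth.Agent.Lib.Helper63.Morse

universe u v w

variable {R : Type u} [CommRing R] {σ : Type v} {τ : Type w}

/-- the monomial `w ^ d` -/
noncomputable abbrev mon (w : τ → MvPowerSeries σ R) (d : τ →₀ ℕ) : MvPowerSeries σ R :=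
  d.prod fun s n => w s ^ n

lemma mon_add_single (w : τ → MvPowerSeries σ R) (d : τ →₀ ℕ) (s : τ) :
    mon w (d + single s 1) = mon w d * w s := by
  classical
  unfold mon
  rw [Finsupp.prod_add_index' (by simp) (by intro s n m; exact pow_add _ _ _),
    Finsupp.prod_single_index (by simp), pow_one]

lemma le_order_mon {w : τ → MvPowerSeries σ R} (hw : ∀ j, constantCoeff (w j) = 0) (d : τ →₀ ℕ) :
    ((degree d : ℕ) : ℕ∞) ≤ (mon w d).order := by
  unfold mon
  rw [Finsupp.prod]
  refine le_trans ?_ (le_order_prod _ _)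
  rw [degree_apply, Nat.cast_sum]
  exact Finset.sum_le_sum fun i _ => le_order_pow_of_constantCoeff_eq_zero _ (hw i)

/-- difference of monomials -/
lemma le_order_mon_sub {u v : τ → MvPowerSeries σ R} (hu : ∀ j, constantCoeff (u j) = 0)
    (hv0 : ∀ j, constantCoeff (v j) = 0) {p : ℕ} (hv : ∀ j, (p : ℕ∞) ≤ (v j).order) :
    ∀ (N : ℕ) (d : τ →₀ ℕ), degree d = N →
      ((p + degree d : ℕ) : ℕ∞) ≤ (mon (u + v) d - mon u d).order + 1 := by
  intro N
  induction N with
  | zero =>
    intro d hd
    have : d = 0 := (Finsupp.degree_eq_zero_iff d).mp hd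
    subst this
    simp [mon]
  | succ N ih =>
    intro d hd
    obtain ⟨s, hs⟩ := exists_ne_zero_of_degree_ne_zero (d := d) (by omega)
    have hd' := degree_tsub_single hs
    have hdeq := tsub_single_add hs
    set d' := d - single s 1 with hd'def
    have hdeg' : degree d' = N := by omega
    have IH := ih d' hdeg'
    have huv0 : ∀ j, constantCoeff ((u + v) j) = 0 := fun j => by
      rw [Pi.add_apply, map_add, hu j, hv0 j, add_zero]
    have e : mon (u + v) d - mon u d =
        (mon (u + v) d' - mon u d') * (u s + v s) + mon u d' * v s := by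
      rw [← hdeq, mon_add_single, mon_add_single, Pi.add_apply]
      ring
    rw [e]
    have h1 : ((p + degree d' : ℕ) : ℕ∞) ≤
        ((mon (u + v) d' - mon u d') * (u s + v s)).order := by
      refine le_trans IH (le_order_mul' le_rfl ?_)
      rw [one_le_order_iff_constCoeff_eq_zero]
      exact huv0 s
    have h2 : ((p + degree d' : ℕ) : ℕ∞) ≤ (mon u d' * v s).order := by
      have := le_order_mul' (le_order_mon hu d') (hv s)
      refine le_trans ?_ this
      rw [add_comm]
      push_cast
      rfl
    have h3 := le_order_add h1 h2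
    calc ((p + degree d : ℕ) : ℕ∞) = ((p + degree d' : ℕ) : ℕ∞) + 1 := by
          rw [← hd']; push_cast; ring
      _ ≤ _ := add_le_add h3 le_rfl

variable [Finite σ] [Finite τ]

/-- Lipschitz property with gain -/
theorem le_order_subst_add_sub {u v : τ → MvPowerSeries σ R} (hu : ∀ j, constantCoeff (u j) = 0)
    (hv0 : ∀ j, constantCoeff (v j) = 0) {p g : ℕ} (hv : ∀ j, (p : ℕ∞) ≤ (v j).order)
    (G : MvPowerSeries τ R) (hG : (g : ℕ∞) ≤ G.order) :
    ((p + g : ℕ) : ℕ∞) ≤ (G.subst (u + v) - G.subst u).order + 1 := by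
  have huv0 : ∀ j, constantCoeff ((u + v) j) = 0 := fun j => by
    rw [Pi.add_apply, map_add, hu j, hv0 j, add_zero]
  have hsu := hasSubst_of_constantCoeff_zero hu
  have hsuv := hasSubst_of_constantCoeff_zero huv0
  -- it suffices to show that coefficients of degree `< p + g - 1` vanish
  rcases Nat.eq_zero_or_pos (p + g) with h0 | hpos
  · rw [h0]; simp
  have key : ((p + g - 1 : ℕ) : ℕ∞) ≤ (G.subst (u + v) - G.subst u).order := by
    refine MvPowerSeries.le_order fun e he => ?_
    have he' : degree e < p + g - 1 := by exact_mod_cast he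
    rw [map_sub, sub_eq_zero, coeff_subst hsuv, coeff_subst hsu]
    refine finsum_congr fun d => ?_
    by_cases hd : degree d < g
    · rw [coeff_of_lt_order (lt_of_lt_of_le (by exact_mod_cast hd) hG), zero_smul, zero_smul]
    · have hM := le_order_mon_sub hu hv0 hv (degree d) d rfl
      have hlt : ((degree e + 1 : ℕ) : ℕ∞) < ((p + degree d : ℕ) : ℕ∞) := by
        exact_mod_cast (by omega : degree e + 1 < p + degree d)
      have h1 : ((degree e : ℕ) : ℕ∞) < (mon (u + v) d - mon u d).order := by
        by_contra hcon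
        rw [not_lt] at hcon
        have := lt_of_lt_of_le hlt (le_trans hM (add_le_add hcon le_rfl))
        push_cast at this
        exact lt_irrefl _ this
      have h2 : coeff e (mon (u + v) d - mon u d) = 0 := coeff_of_lt_order h1
      rw [map_sub, sub_eq_zero] at h2
      change coeff d G • coeff e (mon (u + v) d) = coeff d G • coeff e (mon u d)
      rw [h2]
  calc ((p + g : ℕ) : ℕ∞) = ((p + g - 1 : ℕ) : ℕ∞) + 1 := by
        have : p + g = (p + g - 1) + 1 := by omega
        conv_lhs => rw [this]
        push_cast; rfl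
    _ ≤ _ := add_le_add key le_rfl

end Groth.Agent.Lib.Helper63.Gain
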