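import Mathlib
import Groth.Agent.Lib.Helper63.SuccApprox

/-!
# Successive approximation in power series rings, with a shift parameter (helper63)

An abstract existence lemma: a map `Ψ` from vectors of power series to power series which is
continuous for the order filtration and whose leading error can be corrected degree by degree has a
zero.
-/

set_option autoImplicit false

namespace Groth.Agent.Lib.Helper63.SuccApprox2

open MvPowerSeries Finsupp Groth.Agent.Lib.Helper63.LT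

universe u v w

variable {R : Type u} [CommRing R] {σ : Type v} {ι : Type w}

theorem exists_zero_of_approx_shift (Ψ : (ι → MvPowerSeries σ R) → MvPowerSeries σ R)
    (ε0 : ι → MvPowerSeries σ R) (r0 s : ℕ)
    (hC : ∀ ε ε' : ι → MvPowerSeries σ R, (∀ i, (r0 : ℕ∞) ≤ (ε i - ε0 i).order) →
      (∀ i, (r0 : ℕ∞) ≤ (ε' i - ε0 i).order) →
      ∀ n : ℕ, (∀ i, (n : ℕ∞) ≤ (ε' i - ε i).order) → (n : ℕ∞) ≤ (Ψ ε' - Ψ ε).order)
    (hS : ∀ ε : ι → MvPowerSeries σ R, (∀ i, (r0 : ℕ∞) ≤ (ε i - ε0 i).order) → ∀ r : ℕ, r0 ≤ r →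
      ((r + s : ℕ) : ℕ∞) ≤ (Ψ ε).order →
      ∃ δ : ι → MvPowerSeries σ R, (∀ i, HomDeg r (δ i)) ∧
        ((r + s + 1 : ℕ) : ℕ∞) ≤ (Ψ (ε + δ)).order)
    (h0 : ((r0 + s : ℕ) : ℕ∞) ≤ (Ψ ε0).order) :
    ∃ ε : ι → MvPowerSeries σ R, (∀ i, (r0 : ℕ∞) ≤ (ε i - ε0 i).order) ∧ Ψ ε = 0 := by
  classical
  -- the approximate solutions
  let Good : ℕ → (ι → MvPowerSeries σ R) → Prop := fun k ε =>
    (∀ i, (r0 : ℕ∞) ≤ (ε i - ε0 i).order) ∧ ((r0 + k + s : ℕ) : ℕ∞) ≤ (Ψ ε).order
  have step : ∀ (k : ℕ) (ε : {ε : ι → MvPowerSeries σ R // Good k ε}),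
      ∃ ε' : {ε' : ι → MvPowerSeries σ R // Good (k + 1) ε'},
        ∀ i, HomDeg (r0 + k) (ε'.1 i - ε.1 i) := by
    rintro k ⟨ε, hε, hord⟩
    obtain ⟨δ, hδ, hδord⟩ := hS ε hε (r0 + k) (by omega) hord
    refine ⟨⟨ε + δ, ?_, ?_⟩, ?_⟩
    · intro i
      have h1 : (ε + δ) i - ε0 i = (ε i - ε0 i) + δ i := by simp only [Pi.add_apply]; abel
      rw [h1]
      refine le_order_add (hε i) (le_trans ?_ (hδ i).le_order)
      exact_mod_cast (by omega : r0 ≤ r0 + k)
    · have : r0 + (k + 1) + s = r0 + k + s + 1 := by omega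
      rw [this]; exact hδord
    · intro i
      simpa using hδ i
  choose next hnext using step
  let seq : (k : ℕ) → {ε : ι → MvPowerSeries σ R // Good k ε} := fun k =>
    Nat.rec ⟨ε0, fun i => by simp, h0⟩ (fun k ε => next k ε) k
  have hseq : ∀ k i, HomDeg (r0 + k) ((seq (k + 1)).1 i - (seq k).1 i) := fun k => hnext k (seq k)
  have hstab : ∀ (k j : ℕ) (i : ι) (d : σ →₀ ℕ), degree d < r0 + k →
      coeff d ((seq (k + j)).1 i) = coeff d ((seq k).1 i) := by
    intro k j i d hd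
    induction j with
    | zero => rfl
    | succ j ih =>
      rw [← ih]
      have := hseq (k + j) i d (by omega)
      rw [map_sub, sub_eq_zero] at this
      exact this
  let H : ι → MvPowerSeries σ R := fun i d => coeff d ((seq (degree d + 1)).1 i)
  have hH : ∀ (k : ℕ) (i : ι) (d : σ →₀ ℕ), degree d < r0 + k →
      coeff d (H i) = coeff d ((seq k).1 i) := by
    intro k i d hd
    rw [coeff_apply]
    change coeff d ((seq (degree d + 1)).1 i) = _
    rcases le_total k (degree d + 1) with h | h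
    · obtain ⟨j, hj⟩ := Nat.exists_eq_add_of_le h
      rw [hj]
      exact hstab k j i d hd
    · obtain ⟨j, hj⟩ := Nat.exists_eq_add_of_le h
      rw [hj]
      exact (hstab (degree d + 1) j i d (by omega)).symm
  have hHk : ∀ (k : ℕ) (i : ι), ((r0 + k : ℕ) : ℕ∞) ≤ (H i - (seq k).1 i).order := by
    intro k i
    refine MvPowerSeries.le_order fun d hd => ?_
    have hd' : degree d < r0 + k := by exact_mod_cast hd
    rw [map_sub, hH k i d hd', sub_self]
  have hHD : ∀ i, (r0 : ℕ∞) ≤ (H i - ε0 i).order := fun i => hHk 0 i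
  refine ⟨H, hHD, eq_zero_of_forall_le_order fun k => ?_⟩
  have e1 := hC (seq k).1 H (seq k).2.1 hHD (r0 + k) (hHk k)
  have e2 := (seq k).2.2
  have e3 : Ψ H = (Ψ H - Ψ (seq k).1) + Ψ (seq k).1 := by abel
  rw [e3]
  refine le_trans ?_ (le_order_add e1 (le_trans ?_ e2))
  · exact_mod_cast (by omega : k ≤ r0 + k)
  · exact_mod_cast (by omega : r0 + k ≤ r0 + k + s)

end Groth.Agent.Lib.Helper63.SuccApprox2
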