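import Mathlib
import Groth.Agent.Lib.Helper63.Gain
import Groth.Agent.Lib.Helper63.SuccApprox2

/-!
# Substitutions `x ↦ x + h` tangent to the identity are automorphisms (helper63)
-/

set_option autoImplicit false

namespace Groth.Agent.Lib.Helper63.SubstAut

open MvPowerSeries Finsupp Groth.Agent.Lib.Helper63.LT Groth.Agent.Lib.Helper63.Morse

universe u v w

variable {R : Type u} [CommRing R] {σ : Type v} {τ : Type w}

/-- cancel `+ 1` in an inequality of extended naturals -/
lemma le_of_add_one_le_add_one {k : ℕ} {x : ℕ∞} (h : ((k + 1 : ℕ) : ℕ∞) ≤ x + 1) :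
    (k : ℕ∞) ≤ x := by
  induction x using ENat.recTopCoe with
  | top => exact le_top
  | coe n =>
    have : k + 1 ≤ n + 1 := by exact_mod_cast h
    exact_mod_cast (by omega : k ≤ n)

/-- Lipschitz property with gain, second form -/
theorem le_order_subst_add_sub' [Finite σ] [Finite τ] {u v : τ → MvPowerSeries σ R}
    (hu : ∀ j, constantCoeff (u j) = 0) (hv0 : ∀ j, constantCoeff (v j) = 0) {p g k : ℕ}
    (hv : ∀ j, (p : ℕ∞) ≤ (v j).order) (G : MvPowerSeries τ R) (hG : (g : ℕ∞) ≤ G.order)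
    (hk : k + 1 ≤ p + g) : (k : ℕ∞) ≤ (G.subst (u + v) - G.subst u).order := by
  apply le_of_add_one_le_add_one
  refine le_trans ?_ (Groth.Agent.Lib.Helper63.Gain.le_order_subst_add_sub hu hv0 hv G hG)
  exact_mod_cast hk

variable [Finite σ]

/-- the vector of variables -/
noncomputable abbrev Xv : σ → MvPowerSeries σ R := fun i => X i

lemma constantCoeff_Xv_add {h : σ → MvPowerSeries σ R} (hh : ∀ i, constantCoeff (h i) = 0) (i : σ) :
    constantCoeff (((Xv : σ → MvPowerSeries σ R) + h) i) = 0 := by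
  rw [Pi.add_apply, map_add, hh i, add_zero]
  exact constantCoeff_X i

lemma constantCoeff_of_two_le {f : MvPowerSeries σ R} (hf : ((2 : ℕ) : ℕ∞) ≤ f.order) :
    constantCoeff f = 0 :=
  one_le_order_iff_constCoeff_eq_zero.mp (le_trans (by exact_mod_cast (by omega : 1 ≤ 2)) hf)

lemma subst_Xv (P : MvPowerSeries σ R) : P.subst (Xv : σ → MvPowerSeries σ R) = P := by
  change subst (X : σ → MvPowerSeries σ R) P = P
  rw [subst_self]; rfl

/-- existence of a right inverse of the substitution `x ↦ x + h` -/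
theorem exists_right_inverse (h : σ → MvPowerSeries σ R) (hh : ∀ i, ((2 : ℕ) : ℕ∞) ≤ (h i).order) :
    ∃ g : σ → MvPowerSeries σ R, (∀ i, ((2 : ℕ) : ℕ∞) ≤ (g i).order) ∧
      ∀ i, h i + (g i).subst (Xv + h) = 0 := by
  have hh0 : ∀ i, constantCoeff (h i) = 0 := fun i => constantCoeff_of_two_le (hh i)
  have hu0 := constantCoeff_Xv_add hh0
  have hs : HasSubst (Xv + h) := hasSubst_of_constantCoeff_zero hu0
  have hX0 : ∀ j : σ, constantCoeff ((Xv : σ → MvPowerSeries σ R) j) = 0 := fun j =>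
    constantCoeff_X j
  have main : ∀ i, ∃ γ : MvPowerSeries σ R, ((2 : ℕ) : ℕ∞) ≤ γ.order ∧
      h i + γ.subst (Xv + h) = 0 := by
    intro i
    let Ψ : (Unit → MvPowerSeries σ R) → MvPowerSeries σ R := fun γ => h i + (γ ()).subst (Xv + h)
    have hC : ∀ ε ε' : Unit → MvPowerSeries σ R,
        (∀ j, ((2 : ℕ) : ℕ∞) ≤ (ε j - (0 : Unit → MvPowerSeries σ R) j).order) →
        (∀ j, ((2 : ℕ) : ℕ∞) ≤ (ε' j - (0 : Unit → MvPowerSeries σ R) j).order) →
        ∀ m : ℕ, (∀ j, (m : ℕ∞) ≤ (ε' j - ε j).order) → (m : ℕ∞) ≤ (Ψ ε' - Ψ ε).order := by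
      intro ε ε' _ _ m hm
      have e : Ψ ε' - Ψ ε = (ε' () - ε ()).subst (Xv + h) := by
        simp only [Ψ]
        rw [subst_sub hs]; abel
      rw [e]
      exact le_trans (hm ()) (le_order_subst' hu0 _)
    have hS : ∀ ε : Unit → MvPowerSeries σ R,
        (∀ j, ((2 : ℕ) : ℕ∞) ≤ (ε j - (0 : Unit → MvPowerSeries σ R) j).order) → ∀ r : ℕ, 2 ≤ r →
        ((r + 0 : ℕ) : ℕ∞) ≤ (Ψ ε).order →
        ∃ δ : Unit → MvPowerSeries σ R, (∀ j, HomDeg r (δ j)) ∧
          ((r + 0 + 1 : ℕ) : ℕ∞) ≤ (Ψ (ε + δ)).order := by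
      intro ε _ r hr hord
      rw [add_zero] at hord
      set E := homogeneousComponent r (Ψ ε) with hE
      have hEhom : HomDeg r E := homDeg_homogeneousComponent _ _
      refine ⟨fun _ => -E, fun _ => hEhom.neg, ?_⟩
      have e : Ψ (ε + fun _ => -E) = (Ψ ε - E) + ((-E).subst (Xv + h) - (-E).subst Xv) := by
        simp only [Ψ, Pi.add_apply]
        rw [subst_add hs, subst_Xv]; abel
      rw [e]
      refine le_order_add (le_order_sub_homogeneousComponent hord) ?_
      refine le_order_subst_add_sub' hX0 hh0 hh (-E) (g := r) ?_ (by omega)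
      rw [order_neg]
      exact hEhom.le_order
    have h0 : ((2 + 0 : ℕ) : ℕ∞) ≤ (Ψ 0).order := by
      simp only [Ψ, Pi.zero_apply]
      have : subst (Xv + h) (0 : MvPowerSeries σ R) = 0 := by
        rw [← coe_substAlgHom hs, map_zero]
      rw [this, add_zero]
      simpa using hh i
    obtain ⟨γ, hγD, hγΨ⟩ :=
      Groth.Agent.Lib.Helper63.SuccApprox2.exists_zero_of_approx_shift Ψ 0 2 0 hC hS h0
    exact ⟨γ (), by simpa using hγD (), hγΨ⟩
  choose g hg1 hg2 using main
  exact ⟨g, hg1, hg2⟩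

/-- the substitution `x ↦ x + h` as an algebra endomorphism -/
noncomputable def theta (h : σ → MvPowerSeries σ R) (hh : ∀ i, constantCoeff (h i) = 0) :
    MvPowerSeries σ R →ₐ[R] MvPowerSeries σ R :=
  substAlgHom (hasSubst_of_constantCoeff_zero (constantCoeff_Xv_add hh))

lemma theta_apply (h : σ → MvPowerSeries σ R) (hh : ∀ i, constantCoeff (h i) = 0)
    (P : MvPowerSeries σ R) : theta h hh P = P.subst (Xv + h) := by
  unfold theta
  rw [coe_substAlgHom]

lemma theta_comp (h g : σ → MvPowerSeries σ R) (hh : ∀ i, constantCoeff (h i) = 0)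
    (hg : ∀ i, constantCoeff (g i) = 0) (hinv : ∀ i, h i + (g i).subst (Xv + h) = 0) :
    (theta h hh).comp (theta g hg) = AlgHom.id R _ := by
  ext1 P
  have hsh : HasSubst (Xv + h) := hasSubst_of_constantCoeff_zero (constantCoeff_Xv_add hh)
  have hsg : HasSubst (Xv + g) := hasSubst_of_constantCoeff_zero (constantCoeff_Xv_add hg)
  rw [AlgHom.comp_apply, theta_apply, theta_apply, subst_comp_subst_apply hsg hsh,
    AlgHom.id_apply]
  have : (fun s => subst (Xv + h) (((Xv : σ → MvPowerSeries σ R) + g) s)) =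
      (Xv : σ → MvPowerSeries σ R) := by
    funext s
    rw [Pi.add_apply, subst_add hsh]
    change subst (Xv + h) (X s) + _ = X s
    rw [subst_X hsh, Pi.add_apply, add_assoc, hinv s, add_zero]
  rw [this, subst_Xv]

/-- the substitution `x ↦ x + h` with `ord h ≥ 2` is an algebra automorphism -/
theorem exists_algEquiv (h : σ → MvPowerSeries σ R) (hh : ∀ i, ((2 : ℕ) : ℕ∞) ≤ (h i).order) :
    ∃ e : MvPowerSeries σ R ≃ₐ[R] MvPowerSeries σ R, ∀ P, e P = P.subst (Xv + h) := by
  obtain ⟨g, hg, hhg⟩ := exists_right_inverse h hh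
  obtain ⟨g', hg', hgg'⟩ := exists_right_inverse g hg
  have hh0 : ∀ i, constantCoeff (h i) = 0 := fun i => constantCoeff_of_two_le (hh i)
  have hg0 : ∀ i, constantCoeff (g i) = 0 := fun i => constantCoeff_of_two_le (hg i)
  have hg'0 : ∀ i, constantCoeff (g' i) = 0 := fun i => constantCoeff_of_two_le (hg' i)
  have h1 := theta_comp h g hh0 hg0 hhg
  have h2 := theta_comp g g' hg0 hg'0 hgg'
  have h3 : theta h hh0 = theta g' hg'0 := by
    calc theta h hh0 = (theta h hh0).comp (AlgHom.id R _) := (AlgHom.comp_id _).symm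
      _ = (theta h hh0).comp ((theta g hg0).comp (theta g' hg'0)) := by rw [h2]
      _ = ((theta h hh0).comp (theta g hg0)).comp (theta g' hg'0) := (AlgHom.comp_assoc _ _ _).symm
      _ = theta g' hg'0 := by rw [h1, AlgHom.id_comp]
  have h4 : (theta g hg0).comp (theta h hh0) = AlgHom.id R _ := by rw [h3, h2]
  exact ⟨AlgEquiv.ofAlgHom (theta h hh0) (theta g hg0) h1 h4, fun P => theta_apply h hh0 P⟩

end Groth.Agent.Lib.Helper63.SubstAut
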