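import Mathlib
import Groth.Prelude.Def_QuadSing
import Groth.Agent.Lib.Helper63.SubstAut

/-!
# Relative formal Morse lemma over an arbitrary base ring (helper63)
-/

set_option autoImplicit false

namespace Groth.Agent.Lib.Helper63.MorseRel

open MvPowerSeries Finsupp Groth.Agent.Lib.Helper63.LT Groth.Agent.Lib.Helper63.Morse
  Groth.Agent.Lib.Helper63.SubstAut

universe u

variable {A : Type u} [CommRing A] {n : ℕ}

/-- the abstract relative Morse lemma -/
theorem morse_rel (m : ℕ) (hm : 2 ≤ m) (Q : MvPowerSeries (Fin n) A) (hQ : HomDeg 2 Q)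
    (c0 : Fin n → Fin n → A) (hX : ∀ j, (X j : MvPowerSeries (Fin n) A) = ∑ i, c0 j i • pderiv A i Q)
    (a : A) (F : MvPowerSeries (Fin n) A)
    (hF : ((m + 1 : ℕ) : ℕ∞) ≤ (F - (Q + C a)).order) :
    ∃ h : Fin n → MvPowerSeries (Fin n) A, (∀ i, (m : ℕ∞) ≤ (h i).order) ∧
      F.subst (Xv + h) = Q + C a := by
  classical
  have hQord : ((2 : ℕ) : ℕ∞) ≤ Q.order := hQ.le_order
  let l : Fin n → MvPowerSeries (Fin n) A := fun i => pderiv A i Q
  have hl : ∀ i, HomDeg 1 (l i) := fun i => homDeg_pderiv hQ i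
  set G := F - (Q + C a) with hG
  have hFG : F = Q + C a + G := by rw [hG]; abel
  let Ψ : (Fin n → MvPowerSeries (Fin n) A) → MvPowerSeries (Fin n) A :=
    fun h => F.subst (Xv + h) - (Q + C a)
  have hD0 : ∀ h : Fin n → MvPowerSeries (Fin n) A, (∀ i, (m : ℕ∞) ≤ (h i).order) →
      ∀ i, constantCoeff (h i) = 0 := fun h hh i =>
    one_le_order_iff_constCoeff_eq_zero.mp (le_trans (by exact_mod_cast (by omega : 1 ≤ m)) (hh i))
  have hC : ∀ ε ε' : Fin n → MvPowerSeries (Fin n) A,
      (∀ i, (m : ℕ∞) ≤ (ε i - (0 : Fin n → MvPowerSeries (Fin n) A) i).order) →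
      (∀ i, (m : ℕ∞) ≤ (ε' i - (0 : Fin n → MvPowerSeries (Fin n) A) i).order) →
      ∀ k : ℕ, (∀ i, (k : ℕ∞) ≤ (ε' i - ε i).order) → (k : ℕ∞) ≤ (Ψ ε' - Ψ ε).order := by
    intro ε ε' hε hε' k hk
    simp only [Pi.zero_apply, sub_zero] at hε hε'
    have e : Ψ ε' - Ψ ε = F.subst (Xv + ε') - F.subst (Xv + ε) := by
      simp only [Ψ]; abel
    rw [e]
    refine Groth.Agent.Lib.Helper63.FGInv.le_order_subst_sub
      (constantCoeff_Xv_add (hD0 ε hε)) (constantCoeff_Xv_add (hD0 ε' hε')) F fun i => ?_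
    have : ((Xv : Fin n → MvPowerSeries (Fin n) A) + ε') i -
        ((Xv : Fin n → MvPowerSeries (Fin n) A) + ε) i = ε' i - ε i := by
      simp only [Pi.add_apply]; abel
    rw [this]
    exact hk i
  have hS : ∀ ε : Fin n → MvPowerSeries (Fin n) A,
      (∀ i, (m : ℕ∞) ≤ (ε i - (0 : Fin n → MvPowerSeries (Fin n) A) i).order) →
      ∀ r : ℕ, m ≤ r → ((r + 1 : ℕ) : ℕ∞) ≤ (Ψ ε).order →
      ∃ δ : Fin n → MvPowerSeries (Fin n) A, (∀ i, HomDeg r (δ i)) ∧
        ((r + 1 + 1 : ℕ) : ℕ∞) ≤ (Ψ (ε + δ)).order := by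
    intro ε hε r hr hord
    simp only [Pi.zero_apply, sub_zero] at hε
    set E := homogeneousComponent (r + 1) (Ψ ε) with hE
    have hEhom : HomDeg (r + 1) E := homDeg_homogeneousComponent _ _
    obtain ⟨Ej, hEj, hEsum⟩ := exists_decomp_of_homDeg hEhom
    let δ : Fin n → MvPowerSeries (Fin n) A := fun i => -∑ j, c0 j i • Ej j
    have hδ : ∀ i, HomDeg r (δ i) := fun i =>
      (homDeg_sum _ _ fun j _ => (hEj j).smul _).neg
    have hδord : ∀ i, (r : ℕ∞) ≤ (δ i).order := fun i => (hδ i).le_order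
    have hδ0 : ∀ i, constantCoeff (δ i) = 0 := fun i => (hδ i).constantCoeff_eq_zero (by omega)
    have hlδ : ∑ i, l i * δ i = -E := by
      rw [hEsum]
      simp only [δ, mul_neg, Finset.sum_neg_distrib, Finset.mul_sum]
      rw [Finset.sum_comm]
      congr 1
      refine Finset.sum_congr rfl fun j _ => ?_
      rw [hX j, Finset.sum_mul]
      refine Finset.sum_congr rfl fun i _ => ?_
      rw [mul_smul_comm, smul_mul_assoc]
    refine ⟨δ, hδ, ?_⟩
    have hε0 := hD0 ε hε
    have hu0 := constantCoeff_Xv_add hε0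
    have hsu : HasSubst (Xv + ε) := hasSubst_of_constantCoeff_zero hu0
    have hsδ : HasSubst δ := hasSubst_of_constantCoeff_zero hδ0
    have huδ0 : ∀ i, constantCoeff (((Xv : Fin n → MvPowerSeries (Fin n) A) + ε + δ) i) = 0 :=
      fun i => by rw [Pi.add_apply, map_add, hu0 i, hδ0 i, add_zero]
    have hsuδ : HasSubst ((Xv + ε) + δ) := hasSubst_of_constantCoeff_zero huδ0
    have hsX : HasSubst (Xv : Fin n → MvPowerSeries (Fin n) A) := HasSubst.X
    have hsε : HasSubst ε := hasSubst_of_constantCoeff_zero hε0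
    have hpolar := subst_add_of_homDeg_two hQ hsu hsδ hsuδ
    have hlinl : ∀ i, (l i).subst (Xv + ε) = l i + (l i).subst ε := by
      intro i
      rw [subst_add_of_homDeg_one (hl i) hsX hsε hsu, subst_Xv]
    have key : Ψ (ε + δ) = (Ψ ε - E) + Q.subst δ + ∑ i, (l i).subst ε * δ i +
        (G.subst ((Xv + ε) + δ) - G.subst (Xv + ε)) := by
      have h1 : (Xv : Fin n → MvPowerSeries (Fin n) A) + (ε + δ) = (Xv + ε) + δ := by
        rw [add_assoc]
      simp only [Ψ]
      rw [h1]
      conv_lhs => rw [hFG]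
      conv_rhs => rw [hFG]
      rw [subst_add hsuδ, subst_add hsuδ, subst_add hsu, subst_add hsu, hpolar, subst_C, subst_C]
      simp_rw [show ∀ i, pderiv A i Q = l i from fun i => rfl, hlinl, add_mul]
      rw [Finset.sum_add_distrib, hlδ]
      abel
    rw [key]
    refine le_order_add (le_order_add (le_order_add ?_ ?_) (le_order_sum _ _ fun i _ => ?_)) ?_
    · exact le_order_sub_homogeneousComponent hord
    · have := mul_le_order_subst hsδ hδord hQord
      refine le_trans ?_ this
      exact_mod_cast (by nlinarith : r + 1 + 1 ≤ r * 2)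
    · have h1 : ((m * 1 : ℕ) : ℕ∞) ≤ ((l i).subst ε).order :=
        mul_le_order_subst hsε hε (hl i).le_order
      have h2 := le_order_mul' h1 (hδord i)
      refine le_trans ?_ h2
      exact_mod_cast (by nlinarith : r + 1 + 1 ≤ m * 1 + r)
    · exact le_order_subst_add_sub' hu0 hδ0 hδord G (g := m + 1) hF (by omega)
  have h0 : ((m + 1 : ℕ) : ℕ∞) ≤ (Ψ 0).order := by
    simp only [Ψ, add_zero]
    rw [subst_Xv]
    exact hF
  obtain ⟨h, hhD, hhΨ⟩ :=
    Groth.Agent.Lib.Helper63.SuccApprox2.exists_zero_of_approx_shift Ψ 0 m 1 hC hS h0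
  refine ⟨h, fun i => by simpa using hhD i, ?_⟩
  simp only [Ψ] at hhΨ
  exact sub_eq_zero.mp hhΨ


/-! ## The quadratic form `quadPoly` -/

section QuadPoly

open VanCyc

lemma pderiv_quadPoly (q : Fin n → Fin n → A) (l : Fin n) :
    MvPolynomial.pderiv l (quadPoly q) =
      ∑ k, MvPolynomial.C (polarMatrix q l k) * MvPolynomial.X k := by
  classical
  unfold quadPoly
  simp only [map_sum]
  have hterm : ∀ i j : Fin n, MvPolynomial.pderiv l
      (if i ≤ j then MvPolynomial.C (q i j) * MvPolynomial.X i * MvPolynomial.X j else 0) =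
      (if i = l then (if i ≤ j then MvPolynomial.C (q i j) * MvPolynomial.X j else 0) else 0) +
        (if j = l then (if i ≤ j then MvPolynomial.C (q i j) * MvPolynomial.X i else 0) else 0) := by
    intro i j
    by_cases hij : i ≤ j
    · simp only [if_pos hij]
      rw [mul_assoc, MvPolynomial.pderiv_C_mul, MvPolynomial.pderiv_mul, MvPolynomial.pderiv_X,
        MvPolynomial.pderiv_X]
      simp only [Pi.single_apply]
      by_cases h1 : i = l <;> by_cases h2 : j = l <;> simp [h1, h2] <;> ring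
    · simp only [if_neg hij, map_zero, ite_self, add_zero]
  simp_rw [hterm, Finset.sum_add_distrib]
  have e1 : ∑ i : Fin n, ∑ j : Fin n,
      (if i = l then (if i ≤ j then MvPolynomial.C (q i j) * MvPolynomial.X j else 0) else 0) =
      ∑ k : Fin n, (if l ≤ k then MvPolynomial.C (q l k) * MvPolynomial.X k else 0) := by
    rw [Finset.sum_comm]
    refine Finset.sum_congr rfl fun k _ => ?_
    rw [Finset.sum_ite_eq', if_pos (Finset.mem_univ _)]
  have e2 : ∑ i : Fin n, ∑ j : Fin n,
      (if j = l then (if i ≤ j then MvPolynomial.C (q i j) * MvPolynomial.X i else 0) else 0) =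
      ∑ k : Fin n, (if k ≤ l then MvPolynomial.C (q k l) * MvPolynomial.X k else 0) := by
    refine Finset.sum_congr rfl fun k _ => ?_
    rw [Finset.sum_ite_eq', if_pos (Finset.mem_univ _)]
  rw [e1, e2, ← Finset.sum_add_distrib]
  refine Finset.sum_congr rfl fun k _ => ?_
  unfold polarMatrix
  rcases lt_trichotomy l k with h | h | h
  · rw [if_pos h.le, if_neg (not_le.mpr h), if_neg (ne_of_lt h), if_pos h, add_zero]
  · subst h
    simp only [le_refl, if_true]
    rw [map_mul, ← add_mul, ← two_mul]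
    simp [map_ofNat]
  · rw [if_neg (not_le.mpr h), if_pos h.le, if_neg (ne_of_gt h), if_neg (not_lt.mpr h.le), zero_add]

lemma homDeg_quadPoly (q : Fin n → Fin n → A) :
    HomDeg 2 ((quadPoly q : MvPolynomial (Fin n) A) : MvPowerSeries (Fin n) A) := by
  classical
  unfold quadPoly
  rw [← MvPolynomial.coeToMvPowerSeries.ringHom_apply, map_sum]
  refine homDeg_sum _ _ fun i _ => ?_
  rw [map_sum]
  refine homDeg_sum _ _ fun j _ => ?_
  split_ifs with h
  · have : (MvPolynomial.coeToMvPowerSeries.ringHom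
        (MvPolynomial.C (q i j) * MvPolynomial.X i * MvPolynomial.X j) : MvPowerSeries (Fin n) A) =
        monomial (single i 1 + single j 1) (q i j) := by
      rw [MvPolynomial.coeToMvPowerSeries.ringHom_apply, MvPolynomial.coe_mul,
        MvPolynomial.coe_mul, MvPolynomial.coe_C, MvPolynomial.coe_X, MvPolynomial.coe_X, X, X,
        mul_assoc, monomial_mul_monomial, ← monomial_zero_eq_C_apply, monomial_mul_monomial,
        zero_add, mul_one, mul_one]
    rw [this]
    exact homDeg_monomial (by rw [map_add, degree_single, degree_single]) _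
  · rw [map_zero]
    exact homDeg_zero 2

lemma X_eq_sum_pderiv_quadPoly (q : Fin n → Fin n → A) (hq : QuadNondeg q) (j : Fin n) :
    (X j : MvPowerSeries (Fin n) A) = ∑ i, ((polarMatrix q)⁻¹ j i) •
      pderiv A i ((quadPoly q : MvPolynomial (Fin n) A) : MvPowerSeries (Fin n) A) := by
  classical
  have hP : (polarMatrix q)⁻¹ * polarMatrix q = 1 := Matrix.nonsing_inv_mul _ hq
  have hl : ∀ i, pderiv A i ((quadPoly q : MvPolynomial (Fin n) A) : MvPowerSeries (Fin n) A) =
      ∑ k, (polarMatrix q i k) • (X k : MvPowerSeries (Fin n) A) := by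
    intro i
    rw [pderiv_coe, pderiv_quadPoly, ← MvPolynomial.coeToMvPowerSeries.ringHom_apply, map_sum]
    refine Finset.sum_congr rfl fun k _ => ?_
    rw [MvPolynomial.coeToMvPowerSeries.ringHom_apply, MvPolynomial.coe_mul, MvPolynomial.coe_C,
      MvPolynomial.coe_X, smul_eq_C_mul]
  simp_rw [hl, Finset.smul_sum, smul_smul]
  rw [Finset.sum_comm]
  simp_rw [← Finset.sum_smul]
  have : ∀ k, ∑ i, (polarMatrix q)⁻¹ j i * polarMatrix q i k = if j = k then 1 else 0 := by
    intro k
    have := congrFun (congrFun hP j) k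
    rw [Matrix.mul_apply, Matrix.one_apply] at this
    exact this
  simp_rw [this, ite_smul, one_smul, zero_smul]
  rw [Finset.sum_ite_eq, if_pos (Finset.mem_univ _)]

/-- the relative Morse lemma in the form of S16230 -/
theorem morse_quadPoly (m : ℕ) (hm : 2 ≤ m) (q : Fin n → Fin n → A) (hq : QuadNondeg q) (a : A)
    (F : MvPowerSeries (Fin n) A)
    (hF : ∀ e : Fin n →₀ ℕ, e.degree ≤ m → coeff e F =
      coeff e ((quadPoly q + MvPolynomial.C a : MvPolynomial (Fin n) A) : MvPowerSeries (Fin n) A)) :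
    ∃ h : Fin n → MvPowerSeries (Fin n) A,
      (∀ (i : Fin n) (e : Fin n →₀ ℕ), e.degree < m → coeff e (h i) = 0) ∧
      HasSubst (fun i => X i + h i) ∧
      subst (fun i => X i + h i) F =
        ((quadPoly q + MvPolynomial.C a : MvPolynomial (Fin n) A) : MvPowerSeries (Fin n) A) ∧
      Nonempty ((MvPowerSeries (Fin n) A ⧸ Ideal.span {F}) ≃ₐ[A]
        (MvPowerSeries (Fin n) A ⧸ Ideal.span
          {((quadPoly q + MvPolynomial.C a : MvPolynomial (Fin n) A) : MvPowerSeries (Fin n) A)})) := by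
  have hQa : ((quadPoly q + MvPolynomial.C a : MvPolynomial (Fin n) A) : MvPowerSeries (Fin n) A) =
      ((quadPoly q : MvPolynomial (Fin n) A) : MvPowerSeries (Fin n) A) + C a := by
    rw [MvPolynomial.coe_add, MvPolynomial.coe_C]
  rw [hQa] at hF ⊢
  have hFord : ((m + 1 : ℕ) : ℕ∞) ≤
      (F - (((quadPoly q : MvPolynomial (Fin n) A) : MvPowerSeries (Fin n) A) + C a)).order := by
    refine MvPowerSeries.le_order fun d hd => ?_
    have hd' : degree d < m + 1 := by exact_mod_cast hd
    rw [map_sub, hF d (by omega), sub_self]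
  obtain ⟨h, hh, hsub⟩ := morse_rel m hm _ (homDeg_quadPoly q) _
    (X_eq_sum_pderiv_quadPoly q hq) a F hFord
  have hh2 : ∀ i, ((2 : ℕ) : ℕ∞) ≤ (h i).order := fun i =>
    le_trans (by exact_mod_cast hm) (hh i)
  have hh0 : ∀ i, constantCoeff (h i) = 0 := fun i => constantCoeff_of_two_le (hh2 i)
  refine ⟨h, ?_, hasSubst_of_constantCoeff_zero (constantCoeff_Xv_add hh0), hsub, ?_⟩
  · intro i e he
    exact coeff_of_lt_order (lt_of_lt_of_le (by exact_mod_cast he) (hh i))
  · obtain ⟨e, he⟩ := exists_algEquiv h hh2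
    refine ⟨Ideal.quotientEquivAlg _ _ e ?_⟩
    rw [Ideal.map_span, Set.image_singleton]
    congr 2
    change _ = e F
    rw [he F, hsub]

end QuadPoly

end Groth.Agent.Lib.Helper63.MorseRel
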