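import Mathlib

/-!
# Translation automorphisms `x ↦ x + c` of `A[[x]]` for `A` complete local, `c ∈ 𝔪ⁿ` (helper63)

All statements exported from this file are topology-free; the `𝔪`-adic topology on `A` and the
product topology on `A[[x]]` are only used internally (local instances).
-/

set_option autoImplicit false

namespace Groth.Agent.Lib.Helper63.Translate

open MvPowerSeries MvPowerSeries.WithPiTopology IsLocalRing

universe u

/-- the `𝔪`-adic topology data on a local ring (local instance in this file only) -/
@[instance_reducible]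
noncomputable def wi (A : Type u) [CommRing A] [IsLocalRing A] : WithIdeal A :=
  ⟨maximalIdeal A⟩

attribute [local instance] wi

variable {A : Type u} [CommRing A] [IsLocalRing A] {n : ℕ}

lemma isOpen_pow (k : ℕ) : IsOpen (((maximalIdeal A) ^ k : Ideal A) : Set A) := by
  have h : (((maximalIdeal A) ^ k : Ideal A) : Set A) ∈ nhds (0 : A) :=
    ((maximalIdeal A).hasBasis_nhds_zero_adic).mem_of_mem (i := k) trivial
  exact ((maximalIdeal A) ^ k).toAddSubgroup.isOpen_of_mem_nhds h

lemma isClosed_pow (k : ℕ) : IsClosed (((maximalIdeal A) ^ k : Ideal A) : Set A) :=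
  ((maximalIdeal A) ^ k).toAddSubgroup.isClosed_of_isOpen (isOpen_pow k)

lemma isClosed_max : IsClosed ((maximalIdeal A : Ideal A) : Set A) := by
  have := isClosed_pow (A := A) 1
  rwa [pow_one] at this

variable [IsAdicComplete (maximalIdeal A) A]

instance : CompleteSpace A :=
  ((IsAdic.isAdicComplete_iff (R := A) (I := maximalIdeal A) rfl).mp inferInstance).1

instance : T2Space A :=
  ((IsAdic.isAdicComplete_iff (R := A) (I := maximalIdeal A) rfl).mp inferInstance).2

omit [IsAdicComplete (maximalIdeal A) A] in
lemma hasEval_trans (c : Fin n → maximalIdeal A) :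
    HasEval (fun i => (X i + C (c i : A) : MvPowerSeries (Fin n) A)) := by
  refine ⟨fun i => ?_, ?_⟩
  · apply MvPowerSeries.LinearTopology.isTopologicallyNilpotent_of_constantCoeff
    simp only [map_add, constantCoeff_X, constantCoeff_C, zero_add]
    exact WithIdeal.isTopologicallyNilpotent_of_mem (c i).2
  · simp

/-- the translation homomorphism `G(x) ↦ G(x + c)` -/
noncomputable def T (c : Fin n → maximalIdeal A) :
    MvPowerSeries (Fin n) A →ₐ[A] MvPowerSeries (Fin n) A :=
  aeval (hasEval_trans c)

lemma continuous_T (c : Fin n → maximalIdeal A) : Continuous (T c) :=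
  continuous_aeval (hasEval_trans c)

lemma T_X (c : Fin n → maximalIdeal A) (i : Fin n) :
    T c (X i) = X i + C (c i : A) := by
  rw [T, ← MvPolynomial.coe_X, aeval_coe, MvPolynomial.aeval_X, MvPolynomial.coe_X]

lemma T_C (c : Fin n → maximalIdeal A) (a : A) : T c (C a) = C a := by
  have := (T c).commutes a
  rwa [MvPowerSeries.algebraMap_apply, Algebra.algebraMap_self_apply] at this

omit [IsAdicComplete (maximalIdeal A) A] in
/-- induction principle: a closed predicate which holds on constants, is additive and stable under
multiplication by variables holds everywhere -/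
lemma induction_closed (P : MvPowerSeries (Fin n) A → Prop) (hcl : IsClosed {G | P G})
    (hC : ∀ a, P (C a)) (hadd : ∀ G G', P G → P G' → P (G + G'))
    (hX : ∀ G i, P G → P (G * X i)) (G : MvPowerSeries (Fin n) A) : P G := by
  refine denseRange_toMvPowerSeries.induction_on (p := P) G hcl fun p => ?_
  induction p using MvPolynomial.induction_on with
  | C a => rw [MvPolynomial.coe_C]; exact hC a
  | add p q hp hq => rw [MvPolynomial.coe_add]; exact hadd _ _ hp hq
  | mul_X p i hp => rw [MvPolynomial.coe_mul, MvPolynomial.coe_X]; exact hX _ i hp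

/-- two continuous algebra endomorphisms agreeing on the variables agree -/
lemma algHom_ext_of_continuous {φ ψ : MvPowerSeries (Fin n) A →ₐ[A] MvPowerSeries (Fin n) A}
    (hφ : Continuous φ) (hψ : Continuous ψ) (h : ∀ i, φ (X i) = ψ (X i)) : φ = ψ := by
  ext1 G
  refine induction_closed (fun G => φ G = ψ G) (isClosed_eq hφ hψ) ?_ ?_ ?_ G
  · intro a
    have h1 := φ.commutes a
    have h2 := ψ.commutes a
    rw [MvPowerSeries.algebraMap_apply, Algebra.algebraMap_self_apply] at h1 h2
    rw [h1, h2]
  · intro G G' h1 h2; rw [map_add, map_add, h1, h2]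
  · intro G i h1; rw [map_mul, map_mul, h1, h]

lemma T_comp (c c' : Fin n → maximalIdeal A) : (T c).comp (T c') = T (c + c') := by
  refine algHom_ext_of_continuous ((continuous_T c).comp (continuous_T c')) (continuous_T _) ?_
  intro i
  rw [AlgHom.comp_apply, T_X, map_add, T_X, T_C, T_X, Pi.add_apply, Submodule.coe_add, map_add]
  ring

lemma T_zero : T (0 : Fin n → maximalIdeal A) = AlgHom.id A _ := by
  refine algHom_ext_of_continuous (continuous_T _) continuous_id ?_
  intro i
  rw [T_X, Pi.zero_apply, Submodule.coe_zero, map_zero, add_zero, AlgHom.id_apply]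

/-- the translation automorphism -/
noncomputable def TEquiv (c : Fin n → maximalIdeal A) :
    MvPowerSeries (Fin n) A ≃ₐ[A] MvPowerSeries (Fin n) A :=
  AlgEquiv.ofAlgHom (T c) (T (-c))
    (by rw [T_comp, add_neg_cancel, T_zero]) (by rw [T_comp, neg_add_cancel, T_zero])

lemma TEquiv_apply (c : Fin n → maximalIdeal A) (G : MvPowerSeries (Fin n) A) :
    TEquiv c G = T c G := rfl


/-! ## The ideal of power series with coefficients in an ideal -/

omit [IsAdicComplete (maximalIdeal A) A] in
/-- power series with all coefficients in `J` -/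
noncomputable def KJ (J : Ideal A) : Ideal (MvPowerSeries (Fin n) A) :=
  RingHom.ker (MvPowerSeries.map (σ := Fin n) (Ideal.Quotient.mk J))

omit [IsLocalRing A] [IsAdicComplete (maximalIdeal A) A] in
lemma mem_KJ {J : Ideal A} {H : MvPowerSeries (Fin n) A} :
    H ∈ KJ J ↔ ∀ d, coeff d H ∈ J := by
  rw [KJ, RingHom.mem_ker, MvPowerSeries.ext_iff]
  refine forall_congr' fun d => ?_
  rw [coeff_map, coeff_zero, Ideal.Quotient.eq_zero_iff_mem]

omit [IsAdicComplete (maximalIdeal A) A] in
lemma isClosed_KJ {J : Ideal A} (hJ : IsClosed (J : Set A)) :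
    IsClosed ((KJ J : Ideal (MvPowerSeries (Fin n) A)) : Set (MvPowerSeries (Fin n) A)) := by
  have : ((KJ J : Ideal (MvPowerSeries (Fin n) A)) : Set (MvPowerSeries (Fin n) A)) =
      ⋂ d, (coeff d) ⁻¹' (J : Set A) := by
    ext H
    simp only [SetLike.mem_coe, mem_KJ, Set.mem_iInter, Set.mem_preimage]
  rw [this]
  exact isClosed_iInter fun d => hJ.preimage (continuous_coeff A d)

omit [IsLocalRing A] [IsAdicComplete (maximalIdeal A) A] in
lemma C_mem_KJ {J : Ideal A} {a : A} (ha : a ∈ J) : (C a : MvPowerSeries (Fin n) A) ∈ KJ J := by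
  classical
  rw [mem_KJ]
  intro d
  rw [coeff_C]
  split_ifs
  · exact ha
  · exact J.zero_mem

/-- (F4) translation by `c ∈ 𝔪ⁿ` is the identity modulo `𝔪`, coefficientwise -/
theorem T_sub_self_mem (c : Fin n → maximalIdeal A) (G : MvPowerSeries (Fin n) A) :
    T c G - G ∈ KJ (maximalIdeal A) := by
  refine induction_closed (fun G => T c G - G ∈ KJ (maximalIdeal A)) ?_ ?_ ?_ ?_ G
  · exact (isClosed_KJ isClosed_max).preimage ((continuous_T c).sub continuous_id)
  · intro a
    rw [T_C, sub_self]
    exact Ideal.zero_mem _
  · intro G G' h1 h2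
    have : T c (G + G') - (G + G') = (T c G - G) + (T c G' - G') := by rw [map_add]; ring
    rw [this]
    exact Ideal.add_mem _ h1 h2
  · intro G i h1
    have : T c (G * X i) - G * X i = (T c G - G) * X i + T c G * C (c i : A) := by
      rw [map_mul, T_X]; ring
    rw [this]
    exact Ideal.add_mem _ (Ideal.mul_mem_right _ _ h1)
      (Ideal.mul_mem_left _ _ (C_mem_KJ (c i).2))

theorem coeff_T_sub_mem (c : Fin n → maximalIdeal A) (G : MvPowerSeries (Fin n) A)
    (d : Fin n →₀ ℕ) : coeff d (T c G) - coeff d G ∈ maximalIdeal A := by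
  have := mem_KJ.mp (T_sub_self_mem c G) d
  rwa [map_sub] at this

/-- (E0) nearby translations agree up to the distance -/
theorem T_sub_T_mem {J : Ideal A} (hJ : IsClosed (J : Set A)) (c c' : Fin n → maximalIdeal A)
    (hcc : ∀ i, (c i : A) - c' i ∈ J) (G : MvPowerSeries (Fin n) A) :
    T c G - T c' G ∈ KJ J := by
  refine induction_closed (fun G => T c G - T c' G ∈ KJ J) ?_ ?_ ?_ ?_ G
  · exact (isClosed_KJ hJ).preimage ((continuous_T c).sub (continuous_T c'))
  · intro a
    rw [T_C, T_C, sub_self]
    exact Ideal.zero_mem _
  · intro G G' h1 h2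
    have : T c (G + G') - T c' (G + G') = (T c G - T c' G) + (T c G' - T c' G') := by
      rw [map_add, map_add]; ring
    rw [this]
    exact Ideal.add_mem _ h1 h2
  · intro G i h1
    have : T c (G * X i) - T c' (G * X i) =
        (T c G - T c' G) * (X i + C (c i : A)) + T c' G * C ((c i : A) - c' i) := by
      rw [map_mul, map_mul, T_X, T_X, map_sub]; ring
    rw [this]
    exact Ideal.add_mem _ (Ideal.mul_mem_right _ _ h1)
      (Ideal.mul_mem_left _ _ (C_mem_KJ (hcc i)))

omit [IsLocalRing A] [IsAdicComplete (maximalIdeal A) A] in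
lemma continuous_pderiv [TopologicalSpace A] [IsTopologicalRing A] (j : Fin n) :
    Continuous (fun G : MvPowerSeries (Fin n) A => pderiv A j G) := by
  refine continuous_pi fun d => ?_
  have : (fun G : MvPowerSeries (Fin n) A => (pderiv A j G) d) =
      fun G => coeff (d + Finsupp.single j 1) G * ((d j : A) + 1) := by
    ext G; exact coeff_pderiv G d
  rw [this]
  exact (continuous_coeff A _).mul continuous_const

/-- (F3) translations commute with partial derivatives -/
theorem pderiv_T (c : Fin n → maximalIdeal A) (j : Fin n) (G : MvPowerSeries (Fin n) A) :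
    pderiv A j (T c G) = T c (pderiv A j G) := by
  refine induction_closed (fun G => pderiv A j (T c G) = T c (pderiv A j G)) ?_ ?_ ?_ ?_ G
  · exact isClosed_eq ((continuous_pderiv j).comp (continuous_T c))
      ((continuous_T c).comp (continuous_pderiv j))
  · intro a
    rw [T_C, pderiv_C, map_zero]
  · intro G G' h1 h2
    rw [map_add, map_add, map_add, map_add, h1, h2]
  · intro G i h1
    rw [map_mul, T_X, Derivation.leibniz, Derivation.leibniz, map_add, map_add, pderiv_C, add_zero,
      h1, smul_eq_mul, smul_eq_mul, smul_eq_mul, smul_eq_mul, map_mul, map_mul, T_X]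
    by_cases hij : i = j
    · subst hij
      rw [pderiv_X_self, map_one]
    · rw [pderiv_X_of_ne hij, map_zero]

omit [IsLocalRing A] [IsAdicComplete (maximalIdeal A) A] in
/-- the linear coefficient is the constant coefficient of the derivative -/
lemma coeff_single_eq (j : Fin n) (G : MvPowerSeries (Fin n) A) :
    coeff (Finsupp.single j 1) G = constantCoeff (pderiv A j G) := by
  rw [← coeff_zero_eq_constantCoeff_apply, coeff_pderiv, zero_add, Finsupp.zero_apply]
  simp

/-- the linear coefficients of the translate are the values of the partial derivatives -/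
theorem coeff_single_T (c : Fin n → maximalIdeal A) (j : Fin n) (G : MvPowerSeries (Fin n) A) :
    coeff (Finsupp.single j 1) (T c G) = constantCoeff (T c (pderiv A j G)) := by
  rw [coeff_single_eq, pderiv_T]

omit [IsLocalRing A] [IsAdicComplete (maximalIdeal A) A] in
lemma coeff_single_mul_X (k i : Fin n) (G : MvPowerSeries (Fin n) A) :
    coeff (Finsupp.single k 1) (G * X i) = if k = i then constantCoeff G else 0 := by
  classical
  rw [X, coeff_mul_monomial]
  by_cases hki : k = i
  · subst hki
    rw [if_pos le_rfl, if_pos rfl, tsub_self, mul_one, coeff_zero_eq_constantCoeff_apply]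
  · rw [if_neg hki, if_neg]
    intro hle
    have := hle i
    rw [Finsupp.single_eq_same, Finsupp.single_eq_of_ne (Ne.symm hki)] at this
    omega

/-- (E1) first order Taylor estimate for the value at `c` -/
theorem constantCoeff_T_sub_mem (k : ℕ) (c c' : Fin n → maximalIdeal A)
    (hcc : ∀ i, (c i : A) - c' i ∈ (maximalIdeal A) ^ k) (G : MvPowerSeries (Fin n) A) :
    constantCoeff (T c G) - constantCoeff (T c' G) -
      ∑ i, coeff (Finsupp.single i 1) G * ((c i : A) - c' i) ∈ (maximalIdeal A) ^ (k + 1) := by
  refine induction_closed (fun G => constantCoeff (T c G) - constantCoeff (T c' G) -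
      ∑ i, coeff (Finsupp.single i 1) G * ((c i : A) - c' i) ∈ (maximalIdeal A) ^ (k + 1))
      ?_ ?_ ?_ ?_ G
  · refine (isClosed_pow (k + 1)).preimage ?_
    refine (((continuous_constantCoeff A).comp (continuous_T c)).sub
      ((continuous_constantCoeff A).comp (continuous_T c'))).sub ?_
    exact continuous_finsetSum _ fun i _ => (continuous_coeff A _).mul continuous_const
  · intro a
    have h0 : ∀ i : Fin n, coeff (Finsupp.single i 1) (C a : MvPowerSeries (Fin n) A) = 0 := by
      intro i
      exact coeff_C_of_ne_zero (by simp) a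
    simp only [T_C, h0, zero_mul, Finset.sum_const_zero, sub_self]
    exact Ideal.zero_mem _
  · intro G G' h1 h2
    have : constantCoeff (T c (G + G')) - constantCoeff (T c' (G + G')) -
        ∑ i, coeff (Finsupp.single i 1) (G + G') * ((c i : A) - c' i) =
        (constantCoeff (T c G) - constantCoeff (T c' G) -
          ∑ i, coeff (Finsupp.single i 1) G * ((c i : A) - c' i)) +
        (constantCoeff (T c G') - constantCoeff (T c' G') -
          ∑ i, coeff (Finsupp.single i 1) G' * ((c i : A) - c' i)) := by
      simp only [map_add, add_mul, Finset.sum_add_distrib]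
      ring
    rw [this]
    exact Ideal.add_mem _ h1 h2
  · intro G i _
    have hsum : ∑ l, coeff (Finsupp.single l 1) (G * X i) * ((c l : A) - c' l) =
        constantCoeff G * ((c i : A) - c' i) := by
      rw [Finset.sum_eq_single i]
      · rw [coeff_single_mul_X, if_pos rfl]
      · intro l _ hl
        rw [coeff_single_mul_X, if_neg hl, zero_mul]
      · intro h; exact absurd (Finset.mem_univ i) h
    have hT : ∀ c : Fin n → maximalIdeal A,
        constantCoeff (T c (G * X i)) = constantCoeff (T c G) * (c i : A) := by
      intro c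
      rw [map_mul, T_X, map_mul, map_add, constantCoeff_X, constantCoeff_C, zero_add]
    rw [hsum, hT, hT]
    have : constantCoeff (T c G) * (c i : A) - constantCoeff (T c' G) * (c' i : A) -
        constantCoeff G * ((c i : A) - c' i) =
        ((c i : A) - c' i) * (constantCoeff (T c G) - constantCoeff G) +
          (constantCoeff (T c G) - constantCoeff (T c' G)) * (c' i : A) := by ring
    rw [this, pow_succ]
    refine Ideal.add_mem _ (Ideal.mul_mem_mul (hcc i) ?_) (Ideal.mul_mem_mul ?_ (c' i).2)
    · have := coeff_T_sub_mem c G 0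
      simpa only [coeff_zero_eq_constantCoeff_apply] using this
    · have := mem_KJ.mp (T_sub_T_mem (isClosed_pow k) c c' hcc G) 0
      simpa only [coeff_zero_eq_constantCoeff_apply, map_sub] using this

end Groth.Agent.Lib.Helper63.Translate
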