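import Mathlib
import Groth.Agent.Lib.Helper63.Translate

/-!
# Moving a power series to a critical point by a translation (helper63)

`A` complete local, `F ∈ A[[x]]` with linear coefficients in `𝔪` and invertible Hessian `H` at `0`:
there is `c ∈ 𝔪ⁿ` such that `F(x + c)` has no linear terms (multivariable Hensel via a contraction).
-/

set_option autoImplicit false

namespace Groth.Agent.Lib.Helper63.Translate

open MvPowerSeries IsLocalRing

universe u

variable {A : Type u} [CommRing A] [IsLocalRing A] [IsAdicComplete (maximalIdeal A) A] {n : ℕ}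

section Newton

variable (F : MvPowerSeries (Fin n) A) (H : Matrix (Fin n) (Fin n) A)

/-- the gradient of `F` at `c` -/
noncomputable def grad (c : Fin n → maximalIdeal A) (j : Fin n) : A :=
  constantCoeff (T c (pderiv A j F))

lemma grad_mem (h1 : ∀ j, coeff (Finsupp.single j 1) F ∈ maximalIdeal A)
    (c : Fin n → maximalIdeal A) (j : Fin n) : grad F c j ∈ maximalIdeal A := by
  have h := coeff_T_sub_mem c (pderiv A j F) 0
  rw [coeff_zero_eq_constantCoeff_apply, coeff_zero_eq_constantCoeff_apply,
    ← coeff_single_eq] at h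
  have := Ideal.add_mem _ h (h1 j)
  rwa [sub_add_cancel] at this

/-- the simplified Newton step -/
noncomputable def step (h1 : ∀ j, coeff (Finsupp.single j 1) F ∈ maximalIdeal A)
    (c : Fin n → maximalIdeal A) : Fin n → maximalIdeal A :=
  fun i => ⟨(c i : A) - ∑ j, H⁻¹ i j * grad F c j,
    Ideal.sub_mem _ (c i).2 (Ideal.sum_mem _ fun j _ => Ideal.mul_mem_left _ _ (grad_mem F h1 c j))⟩

lemma step_sub_step (hH : IsUnit H.det)
    (h1 : ∀ j, coeff (Finsupp.single j 1) F ∈ maximalIdeal A)
    (h2 : ∀ j i, coeff (Finsupp.single i 1) (pderiv A j F) = H j i)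
    (k : ℕ) (c c' : Fin n → maximalIdeal A)
    (hcc : ∀ i, (c i : A) - c' i ∈ (maximalIdeal A) ^ k) (i : Fin n) :
    (step F H h1 c i : A) - step F H h1 c' i ∈ (maximalIdeal A) ^ (k + 1) := by
  classical
  set r : Fin n → A := fun j => grad F c j - grad F c' j - ∑ l, H j l * ((c l : A) - c' l) with hr
  have hrmem : ∀ j, r j ∈ (maximalIdeal A) ^ (k + 1) := by
    intro j
    have := constantCoeff_T_sub_mem k c c' hcc (pderiv A j F)
    simp only [h2] at this
    exact this
  have hinv : H⁻¹ * H = 1 := Matrix.nonsing_inv_mul _ hH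
  have hdelta : ∀ l, ∑ j, H⁻¹ i j * H j l = if i = l then 1 else 0 := by
    intro l
    have := congrFun (congrFun hinv i) l
    rwa [Matrix.mul_apply, Matrix.one_apply] at this
  have key : (step F H h1 c i : A) - step F H h1 c' i = - ∑ j, H⁻¹ i j * r j := by
    change ((c i : A) - ∑ j, H⁻¹ i j * grad F c j) - ((c' i : A) - ∑ j, H⁻¹ i j * grad F c' j) = _
    have e1 : ∀ j, grad F c j = grad F c' j + ∑ l, H j l * ((c l : A) - c' l) + r j := by
      intro j; rw [hr]; ring
    have e2 : ∑ j, H⁻¹ i j * ∑ l, H j l * ((c l : A) - c' l) = (c i : A) - c' i := by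
      simp_rw [Finset.mul_sum, ← mul_assoc]
      rw [Finset.sum_comm]
      simp_rw [← Finset.sum_mul, hdelta, ite_mul, one_mul, zero_mul]
      rw [Finset.sum_ite_eq, if_pos (Finset.mem_univ _)]
    simp_rw [e1, mul_add, Finset.sum_add_distrib]
    rw [e2]
    ring
  rw [key]
  exact Ideal.neg_mem_iff _ |>.mpr (Ideal.sum_mem _ fun j _ => Ideal.mul_mem_left _ _ (hrmem j))

/-- the Newton sequence -/
noncomputable def seq (h1 : ∀ j, coeff (Finsupp.single j 1) F ∈ maximalIdeal A) :
    ℕ → (Fin n → maximalIdeal A)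
  | 0 => 0
  | k + 1 => step F H h1 (seq h1 k)

lemma seq_succ_sub (hH : IsUnit H.det)
    (h1 : ∀ j, coeff (Finsupp.single j 1) F ∈ maximalIdeal A)
    (h2 : ∀ j i, coeff (Finsupp.single i 1) (pderiv A j F) = H j i) (k : ℕ) (i : Fin n) :
    (seq F H h1 (k + 1) i : A) - seq F H h1 k i ∈ (maximalIdeal A) ^ (k + 1) := by
  induction k generalizing i with
  | zero =>
    rw [zero_add, pow_one]
    exact Ideal.sub_mem _ (seq F H h1 1 i).2 (seq F H h1 0 i).2
  | succ k ih =>
    exact step_sub_step F H hH h1 h2 (k + 1) _ _ ih i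

lemma seq_sub (hH : IsUnit H.det)
    (h1 : ∀ j, coeff (Finsupp.single j 1) F ∈ maximalIdeal A)
    (h2 : ∀ j i, coeff (Finsupp.single i 1) (pderiv A j F) = H j i) {k l : ℕ} (hkl : k ≤ l)
    (i : Fin n) :
    (seq F H h1 k i : A) - seq F H h1 l i ∈ (maximalIdeal A) ^ k := by
  induction l, hkl using Nat.le_induction with
  | base => rw [sub_self]; exact Ideal.zero_mem _
  | succ l hkl ih =>
    have h := seq_succ_sub F H hH h1 h2 l i
    have h' : (seq F H h1 (l + 1) i : A) - seq F H h1 l i ∈ (maximalIdeal A) ^ k :=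
      Ideal.pow_le_pow_right (by omega) h
    have := Ideal.sub_mem _ ih h'
    have e : (seq F H h1 k i : A) - seq F H h1 l i - ((seq F H h1 (l + 1) i : A) - seq F H h1 l i) =
        (seq F H h1 k i : A) - seq F H h1 (l + 1) i := by ring
    rwa [e] at this

/-- existence of a critical point: a translation killing the linear terms -/
theorem exists_crit (hH : IsUnit H.det)
    (h1 : ∀ j, coeff (Finsupp.single j 1) F ∈ maximalIdeal A)
    (h2 : ∀ j i, coeff (Finsupp.single i 1) (pderiv A j F) = H j i) :
    ∃ c : Fin n → maximalIdeal A, ∀ j, coeff (Finsupp.single j 1) (T c F) = 0 := by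
  classical
  -- the limit
  have hlim : ∀ i : Fin n, ∃ L : A, ∀ k, (seq F H h1 k i : A) - L ∈ (maximalIdeal A) ^ k := by
    intro i
    have hprec : IsPrecomplete (maximalIdeal A) A := inferInstance
    obtain ⟨L, hL⟩ := hprec.prec (f := fun k => (seq F H h1 k i : A)) (by
      intro k l hkl
      rw [SModEq.sub_mem, smul_eq_mul, Ideal.mul_top]
      exact seq_sub F H hH h1 h2 hkl i)
    refine ⟨L, fun k => ?_⟩
    have := hL k
    rwa [SModEq.sub_mem, smul_eq_mul, Ideal.mul_top] at this
  choose L hL using hlim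
  have hLmem : ∀ i, L i ∈ maximalIdeal A := by
    intro i
    have h := hL i 1
    rw [pow_one] at h
    have := Ideal.sub_mem _ (seq F H h1 1 i).2 h
    rwa [sub_sub_cancel] at this
  let c : Fin n → maximalIdeal A := fun i => ⟨L i, hLmem i⟩
  -- `c` is a fixed point of `step`
  have hfix : ∀ i, (step F H h1 c i : A) = c i := by
    intro i
    have hhaus : IsHausdorff (maximalIdeal A) A := inferInstance
    have : (step F H h1 c i : A) - c i = 0 := by
      refine hhaus.haus _ fun k => ?_
      rw [SModEq.sub_mem, smul_eq_mul, Ideal.mul_top, sub_zero]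
      have hk : ∀ i, (c i : A) - seq F H h1 k i ∈ (maximalIdeal A) ^ k := by
        intro i
        have := Ideal.neg_mem_iff _ |>.mpr (hL i k)
        rwa [neg_sub] at this
      have h3 := step_sub_step F H hH h1 h2 k c (seq F H h1 k) hk i
      have h3' : (step F H h1 c i : A) - seq F H h1 (k + 1) i ∈ (maximalIdeal A) ^ k :=
        Ideal.pow_le_pow_right (by omega) h3
      have h4 : (seq F H h1 (k + 1) i : A) - c i ∈ (maximalIdeal A) ^ k :=
        Ideal.pow_le_pow_right (by omega) (hL i (k + 1))
      have := Ideal.add_mem _ h3' h4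
      rwa [sub_add_sub_cancel] at this
    exact sub_eq_zero.mp this
  -- hence the gradient vanishes at `c`
  have hz : ∀ i, ∑ j, H⁻¹ i j * grad F c j = 0 := by
    intro i
    have := hfix i
    change (c i : A) - ∑ j, H⁻¹ i j * grad F c j = c i at this
    exact sub_eq_self.mp this
  have hmul : H * H⁻¹ = 1 := Matrix.mul_nonsing_inv _ hH
  have hgrad : ∀ j, grad F c j = 0 := by
    intro j
    have e : grad F c j = ∑ i, H j i * ∑ l, H⁻¹ i l * grad F c l := by
      simp_rw [Finset.mul_sum, ← mul_assoc]
      rw [Finset.sum_comm]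
      simp_rw [← Finset.sum_mul]
      have hdelta : ∀ l, ∑ i, H j i * H⁻¹ i l = if j = l then 1 else 0 := by
        intro l
        have := congrFun (congrFun hmul j) l
        rwa [Matrix.mul_apply, Matrix.one_apply] at this
      simp_rw [hdelta, ite_mul, one_mul, zero_mul]
      rw [Finset.sum_ite_eq, if_pos (Finset.mem_univ _)]
    rw [e]
    simp_rw [hz, mul_zero]
    exact Finset.sum_const_zero
  refine ⟨c, fun j => ?_⟩
  rw [coeff_single_T]
  exact hgrad j

end Newton

end Groth.Agent.Lib.Helper63.Translate
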