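import Mathlib
import Groth.Prelude.Def_QuadSing
import Groth.Agent.Lib.Helper63.MorseRel
import Groth.Agent.Lib.Helper63.TranslateCrit

/-!
# Morse lemma with linear terms over a complete local ring (helper63)
-/

set_option autoImplicit false

namespace Groth.Agent.Lib.Helper63.MorseComplete

open MvPowerSeries Finsupp IsLocalRing VanCyc Groth.Agent.Lib.Helper63.LT
  Groth.Agent.Lib.Helper63.Morse Groth.Agent.Lib.Helper63.MorseRel
  Groth.Agent.Lib.Helper63.Translate

universe u

variable {A : Type u} [CommRing A] {n : ℕ}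

lemma single_add_single_eq_iff {i j k l : Fin n} (hij : i ≤ j) (hkl : k ≤ l) :
    (single k 1 + single l 1 : Fin n →₀ ℕ) = single i 1 + single j 1 ↔ k = i ∧ l = j := by
  classical
  constructor
  · intro h
    have hk := DFunLike.congr_fun h k
    have hl := DFunLike.congr_fun h l
    have hi := DFunLike.congr_fun h i
    have hj := DFunLike.congr_fun h j
    simp only [Finsupp.add_apply, Finsupp.single_apply] at hk hl hi hj
    by_cases h1 : k = i
    · subst h1
      refine ⟨rfl, ?_⟩
      by_contra h2
      by_cases h3 : k = l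
      · subst h3
        by_cases h4 : k = j
        · exact h2 h4
        · simp [h4] at hj
      · simp [h3] at hl
        omega
    · exfalso
      by_cases h2 : k = j
      · subst h2
        -- then `l = i`, so `k ≤ l = i ≤ k`
        by_cases h3 : l = i
        · subst h3
          exact h1 (le_antisymm hkl hij)
        · by_cases h4 : l = k
          · subst h4
            simp [h1] at hi
          · simp [Ne.symm h3, Ne.symm h4] at hl
      · simp [Ne.symm h1, Ne.symm h2] at hk
  · rintro ⟨rfl, rfl⟩
    rfl

/-- the coefficients of `quadPoly` in degree two -/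
lemma coeff_quadPoly (q : Fin n → Fin n → A) {i j : Fin n} (hij : i ≤ j) :
    MvPolynomial.coeff (single i 1 + single j 1) (quadPoly q) = q i j := by
  classical
  unfold quadPoly
  rw [MvPolynomial.coeff_sum]
  simp_rw [MvPolynomial.coeff_sum]
  have hterm : ∀ k l : Fin n, MvPolynomial.coeff (single i 1 + single j 1)
      (if k ≤ l then MvPolynomial.C (q k l) * MvPolynomial.X k * MvPolynomial.X l else 0) =
      if k = i ∧ l = j then q k l else 0 := by
    intro k l
    by_cases hkl : k ≤ l
    · rw [if_pos hkl, MvPolynomial.C_mul_X_eq_monomial, MvPolynomial.X,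
        MvPolynomial.monomial_mul, mul_one, MvPolynomial.coeff_monomial]
      simp only [single_add_single_eq_iff hij hkl]
    · rw [if_neg hkl, MvPolynomial.coeff_zero, if_neg]
      rintro ⟨rfl, rfl⟩
      exact hkl hij
  simp_rw [hterm]
  rw [Finset.sum_eq_single i, Finset.sum_eq_single j]
  · rw [if_pos ⟨rfl, rfl⟩]
  · intro l _ hl
    rw [if_neg]
    rintro ⟨-, h⟩
    exact hl h
  · intro h; exact absurd (Finset.mem_univ j) h
  · intro k _ hk
    refine Finset.sum_eq_zero fun l _ => ?_
    rw [if_neg]
    rintro ⟨h, -⟩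
    exact hk h
  · intro h; exact absurd (Finset.mem_univ i) h

/-- the polar matrix of the quadratic part in terms of second derivatives -/
lemma polarMatrix_quadPart (G : MvPowerSeries (Fin n) A) (j i : Fin n) :
    polarMatrix (quadPart G) j i = coeff (single i 1) (pderiv A j G) := by
  classical
  rw [coeff_pderiv]
  unfold polarMatrix quadPart
  rcases lt_trichotomy j i with h | h | h
  · rw [if_neg (ne_of_lt h), if_pos h, if_neg (ne_of_lt h), if_pos h,
      Finsupp.single_eq_of_ne (ne_of_lt h)]
    rw [add_comm (single i 1) (single j 1)]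
    simp
  · subst h
    rw [if_pos rfl, if_pos rfl, Finsupp.single_eq_same, ← Finsupp.single_add]
    norm_num
    ring
  · rw [if_neg (ne_of_gt h), if_neg (not_lt.mpr h.le), if_neg (ne_of_lt h), if_pos h,
      Finsupp.single_eq_of_ne (ne_of_gt h)]
    simp


/-- the polynomial `Q + Σ ℓ_i x_i + a` -/
noncomputable def Fpol (q : Fin n → Fin n → A) (ℓ : Fin n → A) (a : A) : MvPolynomial (Fin n) A :=
  quadPoly q + ∑ i, MvPolynomial.C (ℓ i) * MvPolynomial.X i + MvPolynomial.C a

lemma pderiv_Fpol (q : Fin n → Fin n → A) (ℓ : Fin n → A) (a : A) (j : Fin n) :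
    MvPolynomial.pderiv j (Fpol q ℓ a) =
      ∑ k, MvPolynomial.C (polarMatrix q j k) * MvPolynomial.X k + MvPolynomial.C (ℓ j) := by
  classical
  unfold Fpol
  rw [map_add, map_add, pderiv_quadPoly, MvPolynomial.pderiv_C, add_zero, map_sum]
  congr 1
  simp_rw [MvPolynomial.pderiv_C_mul, MvPolynomial.pderiv_X, Pi.single_apply, mul_ite, mul_one,
    mul_zero]
  rw [Finset.sum_ite_eq', if_pos (Finset.mem_univ _)]

lemma constantCoeff_Fpol (q : Fin n → Fin n → A) (ℓ : Fin n → A) (a : A) :
    MvPolynomial.constantCoeff (Fpol q ℓ a) = a := by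
  classical
  unfold Fpol quadPoly
  simp only [map_add, map_sum, map_mul, MvPolynomial.constantCoeff_X, MvPolynomial.constantCoeff_C,
    mul_zero, Finset.sum_const_zero, zero_add, apply_ite (MvPolynomial.constantCoeff (R := A)),
    map_zero, ite_self]

lemma constantCoeff_pderiv_Fpol (q : Fin n → Fin n → A) (ℓ : Fin n → A) (a : A) (j : Fin n) :
    MvPolynomial.constantCoeff (MvPolynomial.pderiv j (Fpol q ℓ a)) = ℓ j := by
  rw [pderiv_Fpol]
  simp only [map_add, map_sum, map_mul, MvPolynomial.constantCoeff_X, MvPolynomial.constantCoeff_C,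
    mul_zero, Finset.sum_const_zero, zero_add]

lemma coeff_single_pderiv_Fpol (q : Fin n → Fin n → A) (ℓ : Fin n → A) (a : A) (j i : Fin n) :
    MvPolynomial.coeff (single i 1) (MvPolynomial.pderiv j (Fpol q ℓ a)) = polarMatrix q j i := by
  classical
  have hne : (0 : Fin n →₀ ℕ) ≠ single i 1 := by
    intro h
    have := DFunLike.congr_fun h i
    simp at this
  rw [pderiv_Fpol, MvPolynomial.coeff_add, MvPolynomial.coeff_sum, MvPolynomial.coeff_C,
    if_neg hne, add_zero]
  simp_rw [MvPolynomial.coeff_C_mul, MvPolynomial.coeff_X, Finsupp.single_left_inj one_ne_zero,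
    mul_ite, mul_one, mul_zero]
  rw [Finset.sum_ite_eq', if_pos (Finset.mem_univ _)]


variable [IsLocalRing A]

/-- unit determinant is stable under perturbation by `𝔪` -/
lemma isUnit_det_of_sub_mem {M N : Matrix (Fin n) (Fin n) A} (hN : IsUnit N.det)
    (h : ∀ i j, M i j - N i j ∈ maximalIdeal A) : IsUnit M.det := by
  have heq : (Ideal.Quotient.mk (maximalIdeal A)) M.det =
      (Ideal.Quotient.mk (maximalIdeal A)) N.det := by
    rw [RingHom.map_det, RingHom.map_det]
    congr 1
    ext i j
    simp only [RingHom.mapMatrix_apply, Matrix.map_apply]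
    exact Ideal.Quotient.eq.mpr (h i j)
  have hmem : M.det - N.det ∈ maximalIdeal A := Ideal.Quotient.eq.mp heq
  by_contra hM
  have hM' : M.det ∈ maximalIdeal A := (IsLocalRing.mem_maximalIdeal _).mpr hM
  have hN' : N.det ∈ maximalIdeal A := by
    have := Ideal.sub_mem _ hM' hmem
    rwa [sub_sub_cancel] at this
  exact (IsLocalRing.mem_maximalIdeal _).mp hN' hN

variable [IsAdicComplete (maximalIdeal A) A]

/-- Morse lemma with linear terms over a complete local ring -/
theorem morse_complete (q : Fin n → Fin n → A) (hq : QuadNondeg q) (a : A)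
    (ha : a ∈ maximalIdeal A) (ℓ : Fin n → A) (hℓ : ∀ i, ℓ i ∈ maximalIdeal A)
    (F : MvPowerSeries (Fin n) A)
    (hF : ∀ e : Fin n →₀ ℕ, e.degree ≤ 2 → coeff e F =
      coeff e ((Fpol q ℓ a : MvPolynomial (Fin n) A) : MvPowerSeries (Fin n) A)) :
    ∃ (a' : A) (q' : Fin n → Fin n → A), a' ∈ maximalIdeal A ∧ QuadNondeg q' ∧
      Nonempty ((MvPowerSeries (Fin n) A ⧸ Ideal.span {F}) ≃ₐ[A]
        (MvPowerSeries (Fin n) A ⧸ Ideal.span
          {((quadPoly q' + MvPolynomial.C a' : MvPolynomial (Fin n) A) :
            MvPowerSeries (Fin n) A)})) := by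
  classical
  set H := polarMatrix q with hH
  have h1 : ∀ j, coeff (single j 1) F ∈ maximalIdeal A := by
    intro j
    rw [hF _ (by rw [degree_single]; norm_num), coeff_single_eq, pderiv_coe,
      ← coeff_zero_eq_constantCoeff_apply, MvPolynomial.coeff_coe,
      ← MvPolynomial.constantCoeff_eq, constantCoeff_pderiv_Fpol]
    exact hℓ j
  have h2 : ∀ j i, coeff (single i 1) (pderiv A j F) = H j i := by
    intro j i
    rw [coeff_pderiv, hF _ (by rw [map_add, degree_single, degree_single]), ← coeff_pderiv,
      pderiv_coe, MvPolynomial.coeff_coe, coeff_single_pderiv_Fpol]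
  obtain ⟨c, hc⟩ := exists_crit F H hq h1 h2
  set G := T c F with hG
  have hqG : QuadNondeg (quadPart G) := by
    refine isUnit_det_of_sub_mem (N := H) hq fun j i => ?_
    rw [polarMatrix_quadPart, hG, pderiv_T, ← h2 j i]
    exact coeff_T_sub_mem c _ _
  refine ⟨constantCoeff G, quadPart G, ?_, hqG, ?_⟩
  · have h := coeff_T_sub_mem c F 0
    rw [hF 0 (by simp), MvPolynomial.coeff_coe, ← MvPolynomial.constantCoeff_eq,
      constantCoeff_Fpol, coeff_zero_eq_constantCoeff_apply] at h
    have := Ideal.add_mem _ h ha
    rwa [sub_add_cancel] at this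
  · have hagree : ∀ e : Fin n →₀ ℕ, e.degree ≤ 2 → coeff e G =
        coeff e ((quadPoly (quadPart G) + MvPolynomial.C (constantCoeff G) :
          MvPolynomial (Fin n) A) : MvPowerSeries (Fin n) A) := by
      intro e he
      rw [MvPolynomial.coe_add, MvPolynomial.coe_C, map_add]
      have hhom := homDeg_quadPoly (quadPart G)
      rcases Nat.lt_or_ge e.degree 2 with hlt | hge
      · rw [hhom e (by omega), zero_add]
        rcases Nat.lt_or_ge e.degree 1 with h0 | h1'
        · have he0 : e = 0 := by rw [← Finsupp.degree_eq_zero_iff]; omega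
          subst he0
          rw [coeff_zero_eq_constantCoeff_apply, coeff_zero_eq_constantCoeff_apply, constantCoeff_C]
        · obtain ⟨j, rfl⟩ := exists_single_of_degree_eq_one (d := e) (by omega)
          rw [hc j, coeff_C_of_ne_zero]
          intro h
          have := DFunLike.congr_fun h j
          simp at this
      · have he2 : e.degree = 2 := by omega
        obtain ⟨i, j, rfl⟩ := exists_add_single_of_degree_eq_two he2
        have hne : (single i 1 + single j 1 : Fin n →₀ ℕ) ≠ 0 := by
          intro h
          have := DFunLike.congr_fun h i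
          simp at this
        rw [coeff_C_of_ne_zero hne, add_zero, MvPolynomial.coeff_coe]
        have key : ∀ i j : Fin n, i ≤ j → coeff (single i 1 + single j 1) G =
            MvPolynomial.coeff (single i 1 + single j 1) (quadPoly (quadPart G)) := by
          intro i j hij
          rw [coeff_quadPoly _ hij]
          unfold quadPart
          rcases hij.eq_or_lt with rfl | hlt
          · rw [if_pos rfl, ← Finsupp.single_add]
          · rw [if_neg (ne_of_lt hlt), if_pos hlt]
        rcases le_total i j with hij | hij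
        · exact key i j hij
        · rw [add_comm]
          exact key j i hij
    obtain ⟨-, -, -, -, ⟨e2⟩⟩ := morse_quadPoly 2 le_rfl (quadPart G) hqG (constantCoeff G) G hagree
    have e1 : (MvPowerSeries (Fin n) A ⧸ Ideal.span {F}) ≃ₐ[A]
        (MvPowerSeries (Fin n) A ⧸ Ideal.span {G}) :=
      Ideal.quotientEquivAlg _ _ (TEquiv c) (by
        rw [Ideal.map_span, Set.image_singleton]
        rfl)
    exact ⟨e1.trans e2⟩

end Groth.Agent.Lib.Helper63.MorseComplete
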