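import Mathlib
import Groth.Agent.Lib.Helper64.CplQuot
import Groth.Agent.Lib.Helper18.ComplMap

/-!
# Completion of a surjection of local rings with kernel `𝔪_A B` (helper63)
-/

set_option autoImplicit false

namespace Groth.Agent.Lib.Helper63.CplSurj

open IsLocalRing AdicCompletion

universe u

section

variable {S T : Type u} [CommRing S] [CommRing T]

theorem complMap_congr (I : Ideal S) (K : Ideal T) {g g' : S →+* T} (hg : g = g')
    (h : I.map g ≤ K) :
    FSch.complMap I K g h = FSch.complMap I K g' (hg ▸ h) := by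
  subst hg; rfl

theorem complMap_id (I : Ideal S) (h : I.map (RingHom.id S) ≤ I) :
    FSch.complMap I I (RingHom.id S) h = RingHom.id _ := by
  ext x : 1
  apply AdicCompletion.ext_evalₐ
  intro n
  rw [Groth.Agent.Lib.Helper18.evalₐ_complMap]
  obtain ⟨r, hr⟩ := Ideal.Quotient.mk_surjective (evalₐ I n x)
  rw [RingHom.id_apply, ← hr]
  rfl

end

section

variable {R₁ R₂ : Type u} [CommRing R₁] [CommRing R₂] [IsLocalRing R₁] [IsLocalRing R₂]

theorem map_max_le_of_equiv (g : R₁ ≃+* R₂) :
    (maximalIdeal R₁).map (g : R₁ →+* R₂) ≤ maximalIdeal R₂ := by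
  rw [Ideal.map_le_iff_le_comap]
  intro x hx
  rw [Ideal.mem_comap, mem_maximalIdeal, mem_nonunits_iff]
  rw [mem_maximalIdeal, mem_nonunits_iff] at hx
  intro hu
  apply hx
  have := hu.map (g.symm : R₂ →+* R₁)
  simpa using this

/-- The isomorphism of completions induced by an isomorphism of local rings. -/
noncomputable def cplEquiv (g : R₁ ≃+* R₂) :
    AdicCompletion (maximalIdeal R₁) R₁ ≃+* AdicCompletion (maximalIdeal R₂) R₂ :=
  RingEquiv.ofRingHom
    (FSch.complMap _ _ (g : R₁ →+* R₂) (map_max_le_of_equiv g))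
    (FSch.complMap _ _ (g.symm : R₂ →+* R₁) (map_max_le_of_equiv g.symm))
    (by
      have hg : (g : R₁ →+* R₂).comp (g.symm : R₂ →+* R₁) = RingHom.id R₂ := by
        ext x; simp
      rw [Groth.Agent.Lib.Helper18.complMap_comp (maximalIdeal R₂) (maximalIdeal R₁)
        (maximalIdeal R₂) (g.symm : R₂ →+* R₁) (g : R₁ →+* R₂) (map_max_le_of_equiv g.symm)
        (map_max_le_of_equiv g) (by rw [hg, Ideal.map_id]),
        complMap_congr _ _ hg, complMap_id])
    (by
      have hg : (g.symm : R₂ →+* R₁).comp (g : R₁ →+* R₂) = RingHom.id R₁ := by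
        ext x; simp
      rw [Groth.Agent.Lib.Helper18.complMap_comp (maximalIdeal R₁) (maximalIdeal R₂)
        (maximalIdeal R₁) (g : R₁ →+* R₂) (g.symm : R₂ →+* R₁) (map_max_le_of_equiv g)
        (map_max_le_of_equiv g.symm) (by rw [hg, Ideal.map_id]),
        complMap_congr _ _ hg, complMap_id])

theorem cplEquiv_of (g : R₁ ≃+* R₂) (r : R₁) :
    cplEquiv g (of (maximalIdeal R₁) R₁ r) = of (maximalIdeal R₂) R₂ (g r) :=
  Groth.Agent.Lib.Helper18.complMap_of _ _ _ (map_max_le_of_equiv g) r

end

section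

variable (A B F : Type u) [CommRing A] [IsLocalRing A] [CommRing B] [IsLocalRing B]
  [IsNoetherianRing B] [Algebra A B] [IsLocalHom (algebraMap A B)] [CommRing F] [IsLocalRing F]
  (φ : B →+* F) (hφ : Function.Surjective φ)
  (hker : RingHom.ker φ = (maximalIdeal A).map (algebraMap A B))

include hφ hker in
theorem exists_cplSurj :
    ∃ π : AdicCompletion (maximalIdeal B) B →+* AdicCompletion (maximalIdeal F) F,
      Function.Surjective π ∧
      RingHom.ker π =
        (maximalIdeal A).map (algebraMap A (AdicCompletion (maximalIdeal B) B)) ∧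
      ∀ b : B, π (algebraMap B _ b) = algebraMap F _ (φ b) := by
  have hJle : (maximalIdeal A).map (algebraMap A B) ≤ maximalIdeal B :=
    IsLocalRing.map_maximalIdeal_le (algebraMap A B)
  haveI : Nontrivial (B ⧸ (maximalIdeal A).map (algebraMap A B)) :=
    Ideal.Quotient.nontrivial_iff.mpr (fun h =>
      (Ideal.IsMaximal.ne_top (maximalIdeal.isMaximal B)) (top_le_iff.mp (h ▸ hJle)))
  let g : (B ⧸ (maximalIdeal A).map (algebraMap A B)) ≃+* F :=
    (Ideal.quotEquivOfEq hker.symm).trans (RingHom.quotientKerEquivOfSurjective hφ)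
  have hg : ∀ b : B, g (Ideal.Quotient.mk _ b) = φ b := fun b => rfl
  haveI : IsScalarTower A B (AdicCompletion (maximalIdeal B) B) :=
    IsScalarTower.of_algebraMap_eq fun a => rfl
  let ge : AdicCompletion (maximalIdeal (B ⧸ (maximalIdeal A).map (algebraMap A B)))
      (B ⧸ (maximalIdeal A).map (algebraMap A B)) →+* AdicCompletion (maximalIdeal F) F :=
    (cplEquiv g).toRingHom
  have hge : Function.Injective ge := (cplEquiv g).injective
  have hges : Function.Surjective ge := (cplEquiv g).surjective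
  refine ⟨ge.comp (Groth.Agent.Lib.Helper64.cplQuotMap B
    ((maximalIdeal A).map (algebraMap A B))).toRingHom, ?_, ?_, ?_⟩
  · exact hges.comp (Groth.Agent.Lib.Helper64.cplQuotMap_surjective B _)
  · have h1 : RingHom.ker (ge.comp (Groth.Agent.Lib.Helper64.cplQuotMap B
        ((maximalIdeal A).map (algebraMap A B))).toRingHom) =
        RingHom.ker (Groth.Agent.Lib.Helper64.cplQuotMap B
          ((maximalIdeal A).map (algebraMap A B))).toRingHom := by
      ext x
      rw [RingHom.mem_ker, RingHom.mem_ker, RingHom.comp_apply, map_eq_zero_iff ge hge]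
    rw [h1, Groth.Agent.Lib.Helper64.ker_cplQuotMap, Ideal.map_map,
      ← IsScalarTower.algebraMap_eq]
  · intro b
    rw [RingHom.comp_apply, AdicCompletion.algebraMap_apply, AdicCompletion.algebraMap_apply]
    change cplEquiv g (Groth.Agent.Lib.Helper64.cplQuotMap B _ (of _ _ b)) = _
    rw [Algebra.algebraMap_self, RingHom.id_apply, Groth.Agent.Lib.Helper64.cplQuotMap_of,
      cplEquiv_of, hg]

end

end Groth.Agent.Lib.Helper63.CplSurj
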