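import Mathlib

/-!
# Generic lemmas for the node isomorphism (helper63)

* `injective_of_surjective_ringEndo`: a surjective ring endomorphism of a Noetherian ring is
  injective.
* `mem_map_C_of_coeff_mem`: a power series all of whose coefficients lie in a finitely generated
  ideal `I` lies in `I · R[[X]]`.
* `ker_inf_smul_top_le`: for `ψ : R → B` surjective linear with `B` flat, `ker ψ ∩ I R ≤ I ker ψ`.
* `injective_of_flat_of_fibre`: Nakayama argument.
-/

set_option autoImplicit false

namespace Groth.Agent.Lib.Helper63.NodeFlat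

open TensorProduct

theorem injective_of_surjective_ringEndo {S : Type*} [CommRing S] [IsNoetherianRing S]
    (f : S →+* S) (hf : Function.Surjective f) : Function.Injective f := by
  let K : ℕ →o Ideal S :=
    ⟨fun n => RingHom.ker (f ^ n), by
      intro m n hmn x hx
      rw [RingHom.mem_ker] at hx ⊢
      obtain ⟨d, rfl⟩ := Nat.exists_eq_add_of_le hmn
      rw [add_comm, pow_add, RingHom.mul_def, RingHom.comp_apply, hx, map_zero]⟩
  obtain ⟨n, hn⟩ := monotone_stabilizes_iff_noetherian.mpr
    (inferInstance : IsNoetherian S S) K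
  rw [injective_iff_map_eq_zero]
  intro x hx
  have hsurj : Function.Surjective (f ^ n) := by
    rw [RingHom.coe_pow]
    exact hf.iterate n
  obtain ⟨y, rfl⟩ := hsurj x
  have h1 : y ∈ K (n + 1) := by
    change y ∈ RingHom.ker (f ^ (n + 1))
    rw [RingHom.mem_ker, pow_succ', RingHom.mul_def, RingHom.comp_apply]
    exact hx
  rw [← hn (n + 1) (Nat.le_succ n)] at h1
  exact h1

theorem mem_map_C_of_coeff_mem {σ R : Type*} [CommRing R] (I : Ideal R) (hI : I.FG)
    (f : MvPowerSeries σ R) (hf : ∀ m, MvPowerSeries.coeff m f ∈ I) :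
    f ∈ I.map (MvPowerSeries.C : R →+* MvPowerSeries σ R) := by
  classical
  obtain ⟨s, rfl⟩ := hI
  have h : ∀ m, ∃ c : R → R, ∑ a ∈ s, c a • a = MvPowerSeries.coeff m f := by
    intro m
    obtain ⟨c, -, hc⟩ := Submodule.mem_span_finset.mp (hf m)
    exact ⟨c, hc⟩
  choose c hc using h
  let g : R → MvPowerSeries σ R := fun a m => c m a
  have hfe : f = ∑ a ∈ s, g a * MvPowerSeries.C a := by
    ext m
    rw [map_sum, ← hc m]
    refine Finset.sum_congr rfl fun a _ => ?_
    rw [MvPowerSeries.coeff_mul_C]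
    rfl
  rw [hfe]
  refine Ideal.sum_mem _ fun a ha => ?_
  exact Ideal.mul_mem_left _ _ (Ideal.mem_map_of_mem _ (Ideal.subset_span ha))

section Flat

variable {A : Type*} [CommRing A] (I : Ideal A)

/-- The multiplication map `I ⊗ M → M`. -/
noncomputable def mu (M : Type*) [AddCommGroup M] [Module A M] : I ⊗[A] M →ₗ[A] M :=
  (TensorProduct.lid A M).toLinearMap ∘ₗ (I.subtype.rTensor M)

@[simp] theorem mu_tmul (M : Type*) [AddCommGroup M] [Module A M] (i : I) (m : M) :
    mu I M (i ⊗ₜ m) = (i : A) • m := by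
  simp [mu]

theorem mu_injective (M : Type*) [AddCommGroup M] [Module A M] [Module.Flat A M] :
    Function.Injective (mu I M) := by
  unfold mu
  rw [LinearMap.coe_comp, LinearEquiv.coe_coe]
  exact (TensorProduct.lid A M).injective.comp
    (Module.Flat.rTensor_preserves_injective_linearMap _ Subtype.val_injective)

theorem mu_natural {M N : Type*} [AddCommGroup M] [Module A M] [AddCommGroup N] [Module A N]
    (ψ : M →ₗ[A] N) (t : I ⊗[A] M) : ψ (mu I M t) = mu I N (ψ.lTensor I t) := by
  induction t using TensorProduct.induction_on with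
  | zero => simp
  | tmul i m => simp
  | add x y hx hy => simp only [map_add, hx, hy]

theorem exists_mu_eq {M : Type*} [AddCommGroup M] [Module A M] (x : M)
    (hx : x ∈ (I • ⊤ : Submodule A M)) : ∃ t, mu I M t = x := by
  refine Submodule.smul_induction_on hx ?_ ?_
  · intro i hi m _
    exact ⟨(⟨i, hi⟩ : I) ⊗ₜ m, by simp⟩
  · rintro x y ⟨t, rfl⟩ ⟨s, rfl⟩
    exact ⟨t + s, map_add _ _ _⟩

theorem ker_inf_smul_top_le {R B : Type*} [AddCommGroup R] [Module A R] [AddCommGroup B]
    [Module A B] [Module.Flat A B] (ψ : R →ₗ[A] B) (hψ : Function.Surjective ψ) :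
    LinearMap.ker ψ ⊓ (I • ⊤ : Submodule A R) ≤ I • LinearMap.ker ψ := by
  rintro x ⟨hxK, hxI⟩
  obtain ⟨t, rfl⟩ := exists_mu_eq I x hxI
  have h0 : ψ.lTensor I t = 0 := by
    apply mu_injective I B
    rw [← mu_natural, map_zero]
    exact hxK
  have hex : Function.Exact ((LinearMap.ker ψ).subtype.lTensor I) (ψ.lTensor I) :=
    lTensor_exact I (LinearMap.exact_subtype_ker_map ψ) hψ
  obtain ⟨s, rfl⟩ := (hex t).mp h0
  clear h0 hxK hxI
  induction s using TensorProduct.induction_on with
  | zero => simp
  | tmul i k =>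
    simp only [LinearMap.lTensor_tmul, Submodule.subtype_apply, mu_tmul]
    exact Submodule.smul_mem_smul i.2 k.2
  | add x y hx hy =>
    simp only [map_add]
    exact Submodule.add_mem _ hx hy

end Flat

open IsLocalRing in
theorem injective_of_flat_of_fibre {A R B : Type*} [CommRing A] (I : Ideal A)
    [CommRing R] [CommRing B] [Algebra A R] [Algebra A B]
    [IsNoetherianRing R] [Module.Flat A B]
    (ψ : R →ₐ[A] B) (hψ : Function.Surjective ψ)
    (hJ : I.map (algebraMap A R) ≤ Ideal.jacobson ⊥)
    (hfib : ∀ r, ψ r ∈ I.map (algebraMap A B) → r ∈ I.map (algebraMap A R)) :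
    Function.Injective ψ := by
  rw [injective_iff_map_eq_zero]
  intro r hr
  set K : Ideal R := RingHom.ker ψ.toRingHom with hK
  have hle : K ≤ I.map (algebraMap A R) • K := by
    intro x hx
    have hxK : x ∈ LinearMap.ker ψ.toLinearMap := by
      rw [LinearMap.mem_ker]; exact hx
    have hxI : x ∈ (I • ⊤ : Submodule A R) := by
      have h0 : ψ x = 0 := hx
      have h1 : x ∈ I.map (algebraMap A R) := hfib x (by rw [h0]; exact Ideal.zero_mem _)
      rw [Ideal.smul_top_eq_map]
      exact h1
    have h := ker_inf_smul_top_le I ψ.toLinearMap hψ ⟨hxK, hxI⟩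
    refine Submodule.smul_induction_on (p := fun y => y ∈ I.map (algebraMap A R) • K) h ?_ ?_
    · intro a ha k hk
      have hk' : k ∈ K := by
        rw [hK, RingHom.mem_ker]
        exact LinearMap.mem_ker.mp hk
      have h2 := Submodule.smul_mem_smul (Ideal.mem_map_of_mem (algebraMap A R) ha) hk'
      have h3 : a • k = algebraMap A R a • k := by rw [Algebra.smul_def, smul_eq_mul]
      rw [h3]
      exact h2
    · intro x y hx hy
      exact Submodule.add_mem _ hx hy
  have hbot : K = ⊥ :=
    Submodule.eq_bot_of_le_smul_of_le_jacobson_bot (I.map (algebraMap A R)) K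
      (IsNoetherian.noetherian K) hle hJ
  have : r ∈ K := hr
  rw [hbot] at this
  exact this

theorem fibre_comparison {R B S : Type*} [CommRing R] [CommRing B] [CommRing S]
    [IsNoetherianRing S] (ψ : R →+* B) (hψ : Function.Surjective ψ)
    (πR : R →+* S) (hπR : Function.Surjective πR) (πB : B →+* S) (hπB : Function.Surjective πB)
    (hker : ∀ r, πR r = 0 → πB (ψ r) = 0) (r : R) (hr : πB (ψ r) = 0) : πR r = 0 := by
  have hle : RingHom.ker πR ≤ RingHom.ker (πB.comp ψ) := fun x hx => hker x hx
  let φ : S →+* S := RingHom.liftOfSurjective πR hπR ⟨πB.comp ψ, hle⟩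
  have hφ : ∀ x, φ (πR x) = πB (ψ x) := fun x =>
    RingHom.liftOfRightInverse_comp_apply _ _ _ _ x
  have hφs : Function.Surjective φ := by
    intro s
    obtain ⟨b, rfl⟩ := hπB s
    obtain ⟨x, rfl⟩ := hψ b
    exact ⟨πR x, hφ x⟩
  have hφi := injective_of_surjective_ringEndo φ hφs
  apply hφi
  rw [hφ, hr, map_zero]

end Groth.Agent.Lib.Helper63.NodeFlat
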