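import Mathlib
import Groth.Agent.Lib.Helper63.Translate

/-!
# Evaluating power series over a complete local ring in a complete local algebra (helper63)

All statements are topology-free; the adic topologies are used internally.
-/

set_option autoImplicit false

namespace Groth.Agent.Lib.Helper63.NodeEval

open MvPowerSeries MvPowerSeries.WithPiTopology IsLocalRing Groth.Agent.Lib.Helper63.Translate

universe u

attribute [local instance] wi

variable {R S : Type u} [CommRing R] [IsLocalRing R] [IsAdicComplete (maximalIdeal R) R]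
  [CommRing S] [IsLocalRing S] [IsAdicComplete (maximalIdeal S) S] [Algebra R S]

omit [IsAdicComplete (maximalIdeal R) R] [IsAdicComplete (maximalIdeal S) S] in
lemma continuous_algebraMap_of_le
    (hRS : (maximalIdeal R).map (algebraMap R S) ≤ maximalIdeal S) :
    Continuous (algebraMap R S) :=
  (WithIdeal.uniformContinuous_of_map_le (f := algebraMap R S) hRS).continuous

omit [IsAdicComplete (maximalIdeal R) R] [IsAdicComplete (maximalIdeal S) S] in
lemma contSMul (hRS : (maximalIdeal R).map (algebraMap R S) ≤ maximalIdeal S) :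
    ContinuousSMul R S :=
  continuousSMul_of_algebraMap R S (continuous_algebraMap_of_le hRS)

omit [IsAdicComplete (maximalIdeal S) S] [IsLocalRing R] [IsAdicComplete (maximalIdeal R) R]
  [Algebra R S] in
lemma hasEval_of_mem {σ : Type*} [Finite σ] (a : σ → S) (ha : ∀ i, a i ∈ maximalIdeal S) :
    HasEval a :=
  ⟨fun i => WithIdeal.isTopologicallyNilpotent_of_mem (ha i), by
    rw [Filter.cofinite_eq_bot]; exact Filter.tendsto_bot⟩

/-- evaluation of power series over `R` at a family in the maximal ideal of `S` -/
noncomputable def ev (hRS : (maximalIdeal R).map (algebraMap R S) ≤ maximalIdeal S)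
    {σ : Type*} [Finite σ] (a : σ → S) (ha : ∀ i, a i ∈ maximalIdeal S) :
    MvPowerSeries σ R →ₐ[R] S :=
  haveI := contSMul hRS
  aeval (hasEval_of_mem a ha)

omit [IsAdicComplete (maximalIdeal R) R] in
lemma continuous_ev (hRS : (maximalIdeal R).map (algebraMap R S) ≤ maximalIdeal S)
    {σ : Type*} [Finite σ] (a : σ → S) (ha : ∀ i, a i ∈ maximalIdeal S) :
    Continuous (ev hRS a ha) :=
  haveI := contSMul hRS
  continuous_aeval (hasEval_of_mem a ha)

omit [IsAdicComplete (maximalIdeal R) R] in
lemma ev_X (hRS : (maximalIdeal R).map (algebraMap R S) ≤ maximalIdeal S)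
    {σ : Type*} [Finite σ] (a : σ → S) (ha : ∀ i, a i ∈ maximalIdeal S) (i : σ) :
    ev hRS a ha (X i) = a i := by
  have := contSMul hRS
  rw [ev, ← MvPolynomial.coe_X, aeval_coe, MvPolynomial.aeval_X]

omit [IsAdicComplete (maximalIdeal R) R] in
lemma ev_C (hRS : (maximalIdeal R).map (algebraMap R S) ≤ maximalIdeal S)
    {σ : Type*} [Finite σ] (a : σ → S) (ha : ∀ i, a i ∈ maximalIdeal S) (r : R) :
    ev hRS a ha (C r) = algebraMap R S r := by
  have := (ev hRS a ha).commutes r
  rwa [MvPowerSeries.algebraMap_apply, Algebra.algebraMap_self_apply] at this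


omit [IsAdicComplete (maximalIdeal R) R] in
lemma aeval_congr [ContinuousSMul R S] {σ : Type*} {a b : σ → S} (h : a = b) (ha : HasEval a)
    (hb : HasEval b) : aeval (R := R) ha = aeval hb := by
  subst h
  rfl

/-- surjectivity of the evaluation when the family and `𝔪_R` generate `𝔪_S` and the residue
fields agree -/
theorem ev_surjective (hRS : (maximalIdeal R).map (algebraMap R S) ≤ maximalIdeal S)
    {n : ℕ} (a : Fin n → S) (ha : ∀ i, a i ∈ maximalIdeal S) {r : ℕ} (g : Fin r → R)
    (hg : ∀ t, g t ∈ maximalIdeal R)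
    (hgen : maximalIdeal S = Ideal.span (Set.range a) ⊔
      Ideal.span (Set.range fun t => algebraMap R S (g t)))
    (hres : ∀ s : S, ∃ c : R, s - algebraMap R S c ∈ maximalIdeal S) :
    Function.Surjective (ev hRS a ha) := by
  classical
  haveI := contSMul hRS
  -- the bigger power series ring
  let b : Fin r ⊕ Fin n → S := Sum.elim (fun t => algebraMap R S (g t)) a
  have hb : ∀ i, b i ∈ maximalIdeal S := by
    rintro (t | i)
    · exact hRS (Ideal.mem_map_of_mem _ (hg t))
    · exact ha i
  let Φ := ev hRS b hb
  -- `Φ` is surjective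
  have hΦ : Function.Surjective Φ := by
    have hImap : (Ideal.span (Set.range (X : Fin r ⊕ Fin n → MvPowerSeries (Fin r ⊕ Fin n) R))).map
        Φ.toRingHom = maximalIdeal S := by
      rw [Ideal.map_span, ← Set.range_comp, hgen]
      have : (⇑Φ.toRingHom ∘ (X : Fin r ⊕ Fin n → MvPowerSeries (Fin r ⊕ Fin n) R)) = b := by
        funext i
        exact ev_X hRS b hb i
      rw [this, Set.Sum.elim_range, Ideal.span_union, sup_comm]
    haveI : IsHausdorff ((Ideal.span (Set.range
        (X : Fin r ⊕ Fin n → MvPowerSeries (Fin r ⊕ Fin n) R))).map Φ.toRingHom) S := by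
      rw [hImap]; infer_instance
    refine surjective_of_mk_map_comp_surjective
      (I := Ideal.span (Set.range (X : Fin r ⊕ Fin n → MvPowerSeries (Fin r ⊕ Fin n) R)))
      Φ.toRingHom ?_
    intro y
    obtain ⟨s, rfl⟩ := Ideal.Quotient.mk_surjective y
    obtain ⟨c, hc⟩ := hres s
    refine ⟨C c, ?_⟩
    rw [RingHom.comp_apply]
    change Ideal.Quotient.mk _ (Φ (C c)) = _
    rw [ev_C, eq_comm, Ideal.Quotient.eq, hImap]
    exact hc
  -- the map from the bigger ring to the smaller one
  let c : Fin r ⊕ Fin n → MvPowerSeries (Fin n) R := Sum.elim (fun t => C (g t)) X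
  have hc : HasEval c := by
    refine ⟨?_, by rw [Filter.cofinite_eq_bot]; exact Filter.tendsto_bot⟩
    rintro (t | i)
    · apply MvPowerSeries.LinearTopology.isTopologicallyNilpotent_of_constantCoeff
      change IsTopologicallyNilpotent (constantCoeff (C (g t)))
      rw [constantCoeff_C]
      exact WithIdeal.isTopologicallyNilpotent_of_mem (hg t)
    · apply MvPowerSeries.LinearTopology.isTopologicallyNilpotent_of_constantCoeff
      change IsTopologicallyNilpotent (constantCoeff (X i))
      rw [constantCoeff_X]
      exact IsTopologicallyNilpotent.zero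
  let θ : MvPowerSeries (Fin r ⊕ Fin n) R →ₐ[R] MvPowerSeries (Fin n) R := aeval hc
  have hcomp : (ev hRS a ha).comp θ = Φ := by
    have h1 := comp_aeval hc (ε := ev hRS a ha) (continuous_ev hRS a ha)
    rw [h1]
    refine aeval_congr ?_ _ _
    funext i
    rcases i with t | i
    · exact ev_C hRS a ha (g t)
    · exact ev_X hRS a ha i
  intro s
  obtain ⟨q, hq⟩ := hΦ s
  refine ⟨θ q, ?_⟩
  rw [← hq, ← hcomp]
  rfl

end Groth.Agent.Lib.Helper63.NodeEval
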