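import Mathlib

/-!
# Limits in completions of Noetherian local rings along a local homomorphism (helper63)
-/

set_option autoImplicit false

namespace Groth.Agent.Lib.Helper63.NodeLim

open IsLocalRing AdicCompletion

universe u

variable {A B : Type u} [CommRing A] [IsLocalRing A] [IsNoetherianRing A]
    [CommRing B] [IsLocalRing B] [IsNoetherianRing B] [Algebra A B] [IsLocalHom (algebraMap A B)]

omit [IsNoetherianRing A] [IsNoetherianRing B] in
lemma map_max_le : (maximalIdeal A).map (algebraMap A B) ≤ maximalIdeal B :=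
  have h : IsLocalHom (algebraMap A B) := inferInstance
  ((IsLocalRing.local_hom_TFAE (algebraMap A B)).out 0 2).mp h

omit [IsNoetherianRing A] [IsNoetherianRing B] in
lemma map_pow_le (n : ℕ) : ((maximalIdeal A) ^ n).map (algebraMap A B) ≤ (maximalIdeal B) ^ n := by
  rw [Ideal.map_pow]
  exact Ideal.pow_right_mono map_max_le n

/-- the limit of a Cauchy sequence in the completion -/
noncomputable def lim {R : Type u} [CommRing R] (I : Ideal R) (f : ℕ → R)
    (hf : ∀ n, f (n + 1) - f n ∈ I ^ n) : AdicCompletion I R :=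
  AdicCompletion.mk I R (AdicCauchySequence.mk I R f (by
    intro n
    rw [SModEq.sub_mem, smul_eq_mul, Ideal.mul_top]
    have := Ideal.neg_mem_iff _ |>.mpr (hf n)
    rwa [neg_sub] at this))

lemma evalₐ_lim {R : Type u} [CommRing R] (I : Ideal R) (f : ℕ → R)
    (hf : ∀ n, f (n + 1) - f n ∈ I ^ n) (n : ℕ) :
    evalₐ I n (lim I f hf) = Ideal.Quotient.mk (I ^ n) (f n) := by
  rw [lim, evalₐ_mk]
  rfl

/-- the levelwise maps `Â → B/𝔪_B^n` -/
noncomputable def ρn (n : ℕ) : AdicCompletion (maximalIdeal A) A →ₐ[A] B ⧸ (maximalIdeal B) ^ n :=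
  (Ideal.quotientMapₐ ((maximalIdeal B) ^ n) (Algebra.ofId A B) (by
    rw [← Ideal.map_le_iff_le_comap]
    exact map_pow_le n)).comp (evalₐ (maximalIdeal A) n)

omit [IsNoetherianRing A] [IsNoetherianRing B] in
lemma ρn_mk (n : ℕ) (c : AdicCauchySequence (maximalIdeal A) A) :
    ρn (B := B) n (AdicCompletion.mk (maximalIdeal A) A c) =
      Ideal.Quotient.mk ((maximalIdeal B) ^ n) (algebraMap A B (c n)) := by
  rw [ρn, AlgHom.comp_apply, evalₐ_mk]
  rfl

omit [IsNoetherianRing A] [IsNoetherianRing B] in
lemma ρn_compat {m n : ℕ} (hle : m ≤ n) :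
    (Ideal.Quotient.factorₐ A (Ideal.pow_le_pow_right hle)).comp (ρn (A := A) (B := B) n) =
      ρn m := by
    ext x
    induction x using AdicCompletion.induction_on with
    | h c =>
      rw [AlgHom.comp_apply, ρn_mk, ρn_mk]
      change Ideal.Quotient.mk _ _ = _
      rw [Ideal.Quotient.eq]
      apply map_pow_le (A := A) (B := B) m
      rw [← map_sub]
      apply Ideal.mem_map_of_mem
      have := c.2 hle
      rw [SModEq.sub_mem, smul_eq_mul, Ideal.mul_top] at this
      have := Ideal.neg_mem_iff _ |>.mpr this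
      rwa [neg_sub] at this

/-- the induced homomorphism of completions -/
noncomputable def ρ : AdicCompletion (maximalIdeal A) A →ₐ[A] AdicCompletion (maximalIdeal B) B :=
  AdicCompletion.liftAlgHom (maximalIdeal B) (fun n => ρn n) ρn_compat

omit [IsNoetherianRing A] [IsNoetherianRing B] in
lemma evalₐ_ρ_lim (f : ℕ → A) (hf : ∀ n, f (n + 1) - f n ∈ (maximalIdeal A) ^ n) (n : ℕ) :
    evalₐ (maximalIdeal B) n (ρ (B := B) (lim (maximalIdeal A) f hf)) =
      Ideal.Quotient.mk ((maximalIdeal B) ^ n) (algebraMap A B (f n)) := by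
  rw [ρ, evalₐ_liftAlgHom (maximalIdeal B) (fun n => ρn n) ρn_compat, lim, ρn_mk]
  rfl


/-- `ρ` maps the maximal ideal into the maximal ideal -/
lemma map_ρ_le : (maximalIdeal (AdicCompletion (maximalIdeal A) A)).map
    (ρ (A := A) (B := B)).toRingHom ≤ maximalIdeal (AdicCompletion (maximalIdeal B) B) := by
  rw [AdicCompletion.maximalIdeal_eq_map, AdicCompletion.maximalIdeal_eq_map, Ideal.map_map,
    Ideal.map_le_iff_le_comap]
  intro a ha
  rw [Ideal.mem_comap, RingHom.comp_apply]
  change ρ (algebraMap A _ a) ∈ _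
  rw [AlgHom.commutes, IsScalarTower.algebraMap_apply A B (AdicCompletion (maximalIdeal B) B)]
  exact Ideal.mem_map_of_mem _ (map_max_le (Ideal.mem_map_of_mem _ ha))

/-- a limit of elements of `𝔪_A` lies in `𝔪_A Â` -/
lemma lim_mem_map (ε : ℕ → A) (hε : ∀ n, ε (n + 1) - ε n ∈ (maximalIdeal A) ^ n)
    (h1 : ε 1 ∈ maximalIdeal A) :
    lim (maximalIdeal A) ε hε ∈
      (maximalIdeal A).map (algebraMap A (AdicCompletion (maximalIdeal A) A)) := by
  rw [← AdicCompletion.maximalIdeal_eq_map, AdicCompletion.mem_maximalIdeal_iff_eval_one_eq_zero]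
  change Submodule.mkQ _ (ε 1) = 0
  rw [Submodule.mkQ_apply, Submodule.Quotient.mk_eq_zero, smul_eq_mul, Ideal.mul_top, pow_one]
  exact h1


omit [IsNoetherianRing A] [IsNoetherianRing B] in
/-- the product of the limits -/
theorem lim_mul_eq (us vs : ℕ → B) (ε : ℕ → A)
    (hus : ∀ n, us (n + 1) - us n ∈ (maximalIdeal B) ^ n)
    (hvs : ∀ n, vs (n + 1) - vs n ∈ (maximalIdeal B) ^ n)
    (hε : ∀ n, ε (n + 1) - ε n ∈ (maximalIdeal A) ^ n)
    (h : ∀ n, us n * vs n - algebraMap A B (ε n) ∈ (maximalIdeal B) ^ n) :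
    lim (maximalIdeal B) us hus * lim (maximalIdeal B) vs hvs =
      ρ (lim (maximalIdeal A) ε hε) := by
  refine ext_evalₐ fun n => ?_
  rw [map_mul, evalₐ_lim, evalₐ_lim, evalₐ_ρ_lim, ← map_mul, Ideal.Quotient.eq]
  exact h n

omit [IsLocalRing A] [IsNoetherianRing A] [IsNoetherianRing B] [IsLocalHom (algebraMap A B)] in
lemma evalₐ_algebraMap (n : ℕ) (a : A) :
    evalₐ (maximalIdeal B) n (algebraMap A (AdicCompletion (maximalIdeal B) B) a) =
      Ideal.Quotient.mk _ (algebraMap A B a) := by
  rw [AdicCompletion.algebraMap_apply, evalₐ_of]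

omit [IsNoetherianRing B] in
/-- (Lemma C) a limit of elements of `𝔪_A B` with increments in `𝔪_A^{n+1} B` lies in `𝔪_A B̂` -/
theorem lim_mem_map_of (x : ℕ → B) (hx0 : x 0 = 0)
    (hx : ∀ n, x (n + 1) - x n ∈ ((maximalIdeal A) ^ (n + 1)).map (algebraMap A B))
    (hx' : ∀ n, x (n + 1) - x n ∈ (maximalIdeal B) ^ n) :
    lim (maximalIdeal B) x hx' ∈
      (maximalIdeal A).map (algebraMap A (AdicCompletion (maximalIdeal B) B)) := by
  classical
  obtain ⟨r, g, hg⟩ := Submodule.fg_iff_exists_fin_generating_family.mp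
    ((maximalIdeal A).fg_of_isNoetherianRing)
  have hgm : ∀ t, g t ∈ maximalIdeal A := fun t => by
    rw [← hg]; exact Submodule.subset_span ⟨t, rfl⟩
  -- decompose the increments
  have hdec : ∀ n, ∃ d : Fin r → B, (∀ t, d t ∈ (maximalIdeal B) ^ n) ∧
      ∑ t, d t * algebraMap A B (g t) = x (n + 1) - x n := by
    intro n
    have h1 : ((maximalIdeal A) ^ (n + 1)).map (algebraMap A B) =
        (((maximalIdeal A) ^ n).map (algebraMap A B)) •
          Submodule.span B (Set.range fun t => algebraMap A B (g t)) := by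
      rw [pow_succ, Ideal.map_mul, smul_eq_mul]
      congr 1
      have hg' : maximalIdeal A = Ideal.span (Set.range g) := hg.symm
      rw [hg', Ideal.map_span, ← Set.range_comp]
      rfl
    have h2 := hx n
    rw [h1, Submodule.mem_ideal_smul_span_iff_exists_sum] at h2
    obtain ⟨a, ha, hsum⟩ := h2
    refine ⟨fun t => a t, fun t => map_pow_le n (ha t), ?_⟩
    rw [← hsum, Finsupp.sum_fintype _ _ (by intro; simp)]
    rfl
  choose d hd hdsum using hdec
  -- partial sums
  let w : Fin r → ℕ → B := fun t n => ∑ k ∈ Finset.range n, d k t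
  have hw : ∀ t n, w t (n + 1) - w t n ∈ (maximalIdeal B) ^ n := by
    intro t n
    change ∑ k ∈ Finset.range (n + 1), d k t - ∑ k ∈ Finset.range n, d k t ∈ _
    rw [Finset.sum_range_succ, add_sub_cancel_left]
    exact hd n t
  have hxn : ∀ n, x n = ∑ t, w t n * algebraMap A B (g t) := by
    intro n
    induction n with
    | zero => simp [w, hx0]
    | succ n ih =>
      have e1 : x (n + 1) = x n + (x (n + 1) - x n) := by ring
      have e2 : x (n + 1) = ∑ t, w t n * algebraMap A B (g t) +
          ∑ t, d n t * algebraMap A B (g t) := by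
        rw [hdsum n, ← ih]
        exact e1
      rw [e2, ← Finset.sum_add_distrib]
      refine Finset.sum_congr rfl fun t _ => ?_
      change _ = (∑ k ∈ Finset.range (n + 1), d k t) * _
      rw [Finset.sum_range_succ, add_mul]
  have key : lim (maximalIdeal B) x hx' =
      ∑ t, lim (maximalIdeal B) (w t) (hw t) *
        algebraMap A (AdicCompletion (maximalIdeal B) B) (g t) := by
    refine ext_evalₐ fun n => ?_
    rw [evalₐ_lim, map_sum, hxn n, map_sum]
    refine Finset.sum_congr rfl fun t _ => ?_
    rw [map_mul, map_mul, evalₐ_lim, evalₐ_algebraMap]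
  rw [key]
  exact Ideal.sum_mem _ fun t _ => Ideal.mul_mem_left _ _ (Ideal.mem_map_of_mem _ (hgm t))

omit [IsNoetherianRing A] [IsLocalHom (algebraMap A B)] in
/-- generators of the maximal ideal of `B̂` -/
theorem maximalIdeal_eq_span_sup (u v : B)
    (hgen : maximalIdeal B = Ideal.span {u, v} ⊔ (maximalIdeal A).map (algebraMap A B))
    (u' v' : AdicCompletion (maximalIdeal B) B)
    (hu' : u' - algebraMap B (AdicCompletion (maximalIdeal B) B) u ∈
      (maximalIdeal A).map (algebraMap A (AdicCompletion (maximalIdeal B) B)))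
    (hv' : v' - algebraMap B (AdicCompletion (maximalIdeal B) B) v ∈
      (maximalIdeal A).map (algebraMap A (AdicCompletion (maximalIdeal B) B))) :
    maximalIdeal (AdicCompletion (maximalIdeal B) B) = Ideal.span {u', v'} ⊔
      (maximalIdeal A).map (algebraMap A (AdicCompletion (maximalIdeal B) B)) := by
  set J := (maximalIdeal A).map (algebraMap A (AdicCompletion (maximalIdeal B) B)) with hJ
  have h1 : maximalIdeal (AdicCompletion (maximalIdeal B) B) =
      Ideal.span {algebraMap B (AdicCompletion (maximalIdeal B) B) u,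
        algebraMap B (AdicCompletion (maximalIdeal B) B) v} ⊔ J := by
    have h0 := congrArg (fun I => Ideal.map (algebraMap B (AdicCompletion (maximalIdeal B) B)) I) hgen
    rw [AdicCompletion.maximalIdeal_eq_map, h0, Ideal.map_sup, Ideal.map_span, Ideal.map_map,
      ← IsScalarTower.algebraMap_eq, Set.image_pair]
  rw [h1]
  apply le_antisymm
  · refine sup_le ?_ le_sup_right
    rw [Ideal.span_le]
    rintro x (rfl | rfl)
    · have : algebraMap B (AdicCompletion (maximalIdeal B) B) u =
          u' - (u' - algebraMap B (AdicCompletion (maximalIdeal B) B) u) := by ring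
      rw [SetLike.mem_coe, this]
      exact Ideal.sub_mem _ (Ideal.mem_sup_left (Ideal.subset_span (by simp)))
        (Ideal.mem_sup_right hu')
    · have : algebraMap B (AdicCompletion (maximalIdeal B) B) v =
          v' - (v' - algebraMap B (AdicCompletion (maximalIdeal B) B) v) := by ring
      rw [SetLike.mem_coe, this]
      exact Ideal.sub_mem _ (Ideal.mem_sup_left (Ideal.subset_span (by simp)))
        (Ideal.mem_sup_right hv')
  · refine sup_le ?_ le_sup_right
    rw [Ideal.span_le]
    rintro x (rfl | rfl)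
    · have : x = algebraMap B (AdicCompletion (maximalIdeal B) B) u +
          (x - algebraMap B (AdicCompletion (maximalIdeal B) B) u) := by ring
      rw [SetLike.mem_coe, this]
      exact Ideal.add_mem _ (Ideal.mem_sup_left (Ideal.subset_span (by simp)))
        (Ideal.mem_sup_right hu')
    · have : x = algebraMap B (AdicCompletion (maximalIdeal B) B) v +
          (x - algebraMap B (AdicCompletion (maximalIdeal B) B) v) := by ring
      rw [SetLike.mem_coe, this]
      exact Ideal.add_mem _ (Ideal.mem_sup_left (Ideal.subset_span (by simp)))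
        (Ideal.mem_sup_right hv')

omit [IsNoetherianRing A] in
/-- every element of `B̂` is congruent to a constant from `A` modulo the maximal ideal -/
theorem exists_sub_mem (hres : Function.Bijective (IsLocalRing.ResidueField.map (algebraMap A B)))
    (s : AdicCompletion (maximalIdeal B) B) :
    ∃ a : A, s - algebraMap A (AdicCompletion (maximalIdeal B) B) a ∈
      maximalIdeal (AdicCompletion (maximalIdeal B) B) := by
  obtain ⟨b, hb⟩ := Ideal.Quotient.mk_surjective (evalₐ (maximalIdeal B) 1 s)
  have h1 : s - AdicCompletion.of (maximalIdeal B) B b ∈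
      maximalIdeal (AdicCompletion (maximalIdeal B) B) := by
    rw [AdicCompletion.mem_maximalIdeal_iff_eval_one_eq_zero]
    have h0 : evalₐ (maximalIdeal B) 1 (s - AdicCompletion.of (maximalIdeal B) B b) = 0 := by
      rw [map_sub, evalₐ_of, hb, sub_self]
    have := factor_evalₐ_eq_eval (maximalIdeal B) (n := 1)
      (s - AdicCompletion.of (maximalIdeal B) B b)
      (le_of_eq (Ideal.mul_top ((maximalIdeal B) ^ 1)).symm)
    rw [h0, _root_.map_zero] at this
    exact this.symm
  obtain ⟨y, hy⟩ := hres.2 (residue B b)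
  obtain ⟨a, rfl⟩ := residue_surjective y
  rw [ResidueField.map_residue] at hy
  have h2 : algebraMap A B a - b ∈ maximalIdeal B := by
    rw [← Ideal.Quotient.eq]
    exact hy
  refine ⟨a, ?_⟩
  have e : s - algebraMap A (AdicCompletion (maximalIdeal B) B) a =
      (s - AdicCompletion.of (maximalIdeal B) B b) -
        AdicCompletion.of (maximalIdeal B) B (algebraMap A B a - b) := by
    rw [AdicCompletion.algebraMap_apply, map_sub]
    ring
  rw [e]
  refine Ideal.sub_mem _ h1 ?_
  rw [AdicCompletion.maximalIdeal_eq_map]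
  exact Ideal.mem_map_of_mem _ h2

end Groth.Agent.Lib.Helper63.NodeLim
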