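import Mathlib
import Groth.Agent.S7923
import Groth.Agent.Lib.Helper63.NodeLim
import Groth.Agent.Lib.Helper63.NodeEval

/-!
# The node: a surjection `Â[[x,y]]/(xy - α) → B̂` (helper63)
-/

set_option autoImplicit false

namespace Groth.Agent.Lib.Helper63.NodeMain

open IsLocalRing AdicCompletion MvPowerSeries Groth.Agent.Lib.Helper63.NodeLim
  Groth.Agent.Lib.Helper63.NodeEval

universe u

theorem node_surjective (A B : Type u) [CommRing A] [IsLocalRing A] [IsNoetherianRing A]
    [CommRing B] [IsLocalRing B] [IsNoetherianRing B] [Algebra A B] [IsLocalHom (algebraMap A B)]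
    (hres : Function.Bijective (IsLocalRing.ResidueField.map (algebraMap A B)))
    (u v : B) (hu : u ∈ IsLocalRing.maximalIdeal B) (hv : v ∈ IsLocalRing.maximalIdeal B)
    (huv : u * v ∈ (IsLocalRing.maximalIdeal A).map (algebraMap A B))
    (hgen : IsLocalRing.maximalIdeal B = Ideal.span {u, v} ⊔
      (IsLocalRing.maximalIdeal A).map (algebraMap A B)) :
    ∃ (α : AdicCompletion (IsLocalRing.maximalIdeal A) A)
      (_ : α ∈ (IsLocalRing.maximalIdeal A).map
        (algebraMap A (AdicCompletion (IsLocalRing.maximalIdeal A) A)))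
      (ψ : (MvPowerSeries (Fin 2) (AdicCompletion (IsLocalRing.maximalIdeal A) A) ⧸ Ideal.span
          {(MvPowerSeries.X 0 * MvPowerSeries.X 1 -
            MvPowerSeries.C α :
              MvPowerSeries (Fin 2) (AdicCompletion (IsLocalRing.maximalIdeal A) A))}) →ₐ[A]
        AdicCompletion (IsLocalRing.maximalIdeal B) B),
      Function.Surjective ψ ∧
        ψ (Ideal.Quotient.mk _ (MvPowerSeries.X 0)) -
            algebraMap B (AdicCompletion (IsLocalRing.maximalIdeal B) B) u ∈
          (IsLocalRing.maximalIdeal A).map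
            (algebraMap A (AdicCompletion (IsLocalRing.maximalIdeal B) B)) ∧
        ψ (Ideal.Quotient.mk _ (MvPowerSeries.X 1)) -
            algebraMap B (AdicCompletion (IsLocalRing.maximalIdeal B) B) v ∈
          (IsLocalRing.maximalIdeal A).map
            (algebraMap A (AdicCompletion (IsLocalRing.maximalIdeal B) B)) := by
  classical
  obtain ⟨us, vs, ε, hus0, hvs0, hseq⟩ := Groth.Agent.S7923.result A B hres u v hu hv huv hgen
  -- Cauchy conditions
  have hus : ∀ n, us (n + 1) - us n ∈ (maximalIdeal B) ^ n := fun n =>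
    Ideal.pow_le_pow_right (Nat.le_succ n) (map_pow_le (n + 1) (hseq n).2.2.2.1)
  have hvs : ∀ n, vs (n + 1) - vs n ∈ (maximalIdeal B) ^ n := fun n =>
    Ideal.pow_le_pow_right (Nat.le_succ n) (map_pow_le (n + 1) (hseq n).2.2.2.2.1)
  have hε : ∀ n, ε (n + 1) - ε n ∈ (maximalIdeal A) ^ n := fun n =>
    Ideal.pow_le_pow_right (Nat.le_succ n) (hseq n).2.2.2.2.2.1
  set u' := lim (maximalIdeal B) us hus with hu'def
  set v' := lim (maximalIdeal B) vs hvs with hv'def
  set α := lim (maximalIdeal A) ε hε with hαdef
  have hα : α ∈ (maximalIdeal A).map (algebraMap A (AdicCompletion (maximalIdeal A) A)) :=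
    lim_mem_map ε hε (hseq 1).2.2.1
  have hprod : u' * v' = ρ α := lim_mul_eq us vs ε hus hvs hε fun n =>
    Ideal.pow_le_pow_right (Nat.le_succ n) (map_pow_le (n + 1) (hseq n).2.2.2.2.2.2)
  -- the limits are congruent to `u`, `v`
  have hsub : ∀ (ws : ℕ → B) (w : B) (hws : ∀ n, ws (n + 1) - ws n ∈ (maximalIdeal B) ^ n),
      ws 0 = w →
      (∀ n, ws (n + 1) - ws n ∈ ((maximalIdeal A) ^ (n + 1)).map (algebraMap A B)) →
      lim (maximalIdeal B) ws hws - algebraMap B (AdicCompletion (maximalIdeal B) B) w ∈
        (maximalIdeal A).map (algebraMap A (AdicCompletion (maximalIdeal B) B)) := by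
    intro ws w hws h0 hinc
    have hx' : ∀ n, (ws (n + 1) - w) - (ws n - w) ∈ (maximalIdeal B) ^ n := by
      intro n
      have : (ws (n + 1) - w) - (ws n - w) = ws (n + 1) - ws n := by ring
      rw [this]; exact hws n
    have e : lim (maximalIdeal B) ws hws - algebraMap B (AdicCompletion (maximalIdeal B) B) w =
        lim (maximalIdeal B) (fun n => ws n - w) hx' := by
      refine ext_evalₐ fun n => ?_
      rw [map_sub, evalₐ_lim, evalₐ_lim, AdicCompletion.algebraMap_apply, evalₐ_of, map_sub]
      rfl
    rw [e]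
    refine lim_mem_map_of (A := A) (fun n => ws n - w) (by simp [h0]) ?_ hx'
    intro n
    have : (ws (n + 1) - w) - (ws n - w) = ws (n + 1) - ws n := by ring
    simp only [this]
    exact hinc n
  have hu' : u' - algebraMap B (AdicCompletion (maximalIdeal B) B) u ∈
      (maximalIdeal A).map (algebraMap A (AdicCompletion (maximalIdeal B) B)) :=
    hsub us u hus hus0 fun n => (hseq n).2.2.2.1
  have hv' : v' - algebraMap B (AdicCompletion (maximalIdeal B) B) v ∈
      (maximalIdeal A).map (algebraMap A (AdicCompletion (maximalIdeal B) B)) :=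
    hsub vs v hvs hvs0 fun n => (hseq n).2.2.2.2.1
  have hmax := maximalIdeal_eq_span_sup (A := A) u v hgen u' v' hu' hv'
  -- the algebra structure of `B̂` over `Â`
  let _ : Algebra (AdicCompletion (maximalIdeal A) A) (AdicCompletion (maximalIdeal B) B) :=
    (ρ (A := A) (B := B)).toRingHom.toAlgebra
  have hRS : (maximalIdeal (AdicCompletion (maximalIdeal A) A)).map
      (algebraMap (AdicCompletion (maximalIdeal A) A) (AdicCompletion (maximalIdeal B) B)) ≤
      maximalIdeal (AdicCompletion (maximalIdeal B) B) := map_ρ_le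
  have halg : ∀ x, algebraMap (AdicCompletion (maximalIdeal A) A)
      (AdicCompletion (maximalIdeal B) B) x = ρ x := fun x => rfl
  have : IsScalarTower A (AdicCompletion (maximalIdeal A) A)
      (AdicCompletion (maximalIdeal B) B) :=
    IsScalarTower.of_algebraMap_eq fun a => by
      rw [halg, AlgHom.commutes]
  -- the family
  let a : Fin 2 → AdicCompletion (maximalIdeal B) B := ![u', v']
  have hspan : Ideal.span (Set.range a) = Ideal.span {u', v'} := by
    congr 1
    ext x
    simp only [a, Set.mem_range, Fin.exists_fin_two, Matrix.cons_val_zero, Matrix.cons_val_one,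
      Set.mem_insert_iff, Set.mem_singleton_iff]
    constructor
    · rintro (h | h)
      · exact Or.inl h.symm
      · exact Or.inr h.symm
    · rintro (h | h)
      · exact Or.inl h.symm
      · exact Or.inr h.symm
  have ha : ∀ i, a i ∈ maximalIdeal (AdicCompletion (maximalIdeal B) B) := by
    intro i
    rw [hmax]
    refine Ideal.mem_sup_left ?_
    rw [← hspan]
    exact Ideal.subset_span ⟨i, rfl⟩
  let Ψ := ev hRS a ha
  -- generators of `𝔪_Â`
  obtain ⟨r, g, hg⟩ := Submodule.fg_iff_exists_fin_generating_family.mp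
    ((maximalIdeal A).fg_of_isNoetherianRing)
  have hgm : ∀ t, g t ∈ maximalIdeal A := fun t => by
    rw [← hg]; exact Submodule.subset_span ⟨t, rfl⟩
  let g' : Fin r → AdicCompletion (maximalIdeal A) A := fun t => algebraMap A _ (g t)
  have hg' : ∀ t, g' t ∈ maximalIdeal (AdicCompletion (maximalIdeal A) A) := by
    intro t
    rw [AdicCompletion.maximalIdeal_eq_map]
    exact Ideal.mem_map_of_mem _ (hgm t)
  have hgen' : maximalIdeal (AdicCompletion (maximalIdeal B) B) = Ideal.span (Set.range a) ⊔
      Ideal.span (Set.range fun t => algebraMap (AdicCompletion (maximalIdeal A) A)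
        (AdicCompletion (maximalIdeal B) B) (g' t)) := by
    rw [hmax, hspan]
    congr 1
    have hg'' : maximalIdeal A = Ideal.span (Set.range g) := hg.symm
    have hg3 := congrArg
      (fun I => Ideal.map (algebraMap A (AdicCompletion (maximalIdeal B) B)) I) hg''
    rw [hg3, Ideal.map_span, ← Set.range_comp]
    have hfun : (⇑(algebraMap A (AdicCompletion (maximalIdeal B) B)) ∘ g) =
        fun t => algebraMap (AdicCompletion (maximalIdeal A) A)
          (AdicCompletion (maximalIdeal B) B) (g' t) := by
      funext t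
      simp only [Function.comp_apply, g']
      rw [← IsScalarTower.algebraMap_apply]
    rw [hfun]
  have hres' : ∀ s : AdicCompletion (maximalIdeal B) B,
      ∃ c : AdicCompletion (maximalIdeal A) A,
        s - algebraMap (AdicCompletion (maximalIdeal A) A) _ c ∈
          maximalIdeal (AdicCompletion (maximalIdeal B) B) := by
    intro s
    obtain ⟨c, hc⟩ := exists_sub_mem (A := A) hres s
    refine ⟨algebraMap A _ c, ?_⟩
    rw [← IsScalarTower.algebraMap_apply]
    exact hc
  have hsurj : Function.Surjective Ψ := ev_surjective hRS a ha g' hg' hgen' hres'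
  have hkill : Ψ (X 0 * X 1 - C α) = 0 := by
    rw [map_sub, map_mul, ev_X, ev_X, ev_C, halg]
    change u' * v' - ρ α = 0
    rw [hprod, sub_self]
  let ψ := Ideal.Quotient.liftₐ (Ideal.span {(X 0 * X 1 - C α :
      MvPowerSeries (Fin 2) (AdicCompletion (maximalIdeal A) A))}) (Ψ.restrictScalars A) (by
    intro x hx
    obtain ⟨y, rfl⟩ := Ideal.mem_span_singleton'.mp hx
    rw [AlgHom.restrictScalars_apply, map_mul, hkill, mul_zero])
  have hψ : ∀ p, ψ (Ideal.Quotient.mk _ p) = Ψ p := fun p => rfl
  refine ⟨α, hα, ψ, ?_, ?_, ?_⟩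
  · intro s
    obtain ⟨p, hp⟩ := hsurj s
    exact ⟨Ideal.Quotient.mk _ p, (hψ p).trans hp⟩
  · rw [hψ, ev_X]
    exact hu'
  · rw [hψ, ev_X]
    exact hv'

end Groth.Agent.Lib.Helper63.NodeMain
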