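import Mathlib
import Groth.Agent.Lib.Helper63.NodeMain
import Groth.Agent.Lib.Helper63.NodeFlat
import Groth.Agent.Lib.Helper64.CplQuot
import Groth.Agent.S0543

/-!
# The node: the isomorphism `Â[[x,y]]/(xy - α) ≃ B̂` under flatness (helper63)
-/

set_option autoImplicit false

namespace Groth.Agent.Lib.Helper63.NodeIso

open IsLocalRing AdicCompletion MvPowerSeries Groth.Agent.Lib.Helper63.NodeFlat

universe u

theorem mvMap_surjective {σ R S : Type*} [CommRing R] [CommRing S] (f : R →+* S)
    (hf : Function.Surjective f) : Function.Surjective (MvPowerSeries.map (σ := σ) f) := by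
  intro g
  let g' : MvPowerSeries σ R := fun m => Function.surjInv hf (MvPowerSeries.coeff m g)
  refine ⟨g', ?_⟩
  ext m
  rw [MvPowerSeries.coeff_map]
  exact Function.surjInv_eq hf _

section PiR

variable (A : Type u) [CommRing A] [IsLocalRing A] [IsNoetherianRing A]

/-- The residue map `Â → k`. -/
noncomputable def q : AdicCompletion (maximalIdeal A) A →+* ResidueField A :=
  ((RingEquiv.ofBijective (ResidueField.map (algebraMap A (AdicCompletion (maximalIdeal A) A)))
    (AdicCompletion.residueField_map_bijective A)).symm :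
      ResidueField (AdicCompletion (maximalIdeal A) A) →+* ResidueField A).comp
    (IsLocalRing.residue (AdicCompletion (maximalIdeal A) A))

theorem q_algebraMap (a : A) :
    q A (algebraMap A (AdicCompletion (maximalIdeal A) A) a) = residue A a := by
  unfold q
  rw [RingHom.comp_apply, ← ResidueField.map_residue]
  exact RingEquiv.symm_apply_apply (RingEquiv.ofBijective
    (ResidueField.map (algebraMap A (AdicCompletion (maximalIdeal A) A)))
    (AdicCompletion.residueField_map_bijective A)) (residue A a)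

theorem q_eq_zero_iff (x : AdicCompletion (maximalIdeal A) A) :
    q A x = 0 ↔ x ∈ (maximalIdeal A).map (algebraMap A (AdicCompletion (maximalIdeal A) A)) := by
  unfold q
  rw [RingHom.comp_apply, ← AdicCompletion.maximalIdeal_eq_map, RingHom.coe_coe,
    EmbeddingLike.map_eq_zero_iff]
  exact residue_eq_zero_iff x

theorem q_surjective : Function.Surjective (q A) := fun y => by
  obtain ⟨a, rfl⟩ := residue_surjective y
  exact ⟨algebraMap A _ a, q_algebraMap A a⟩

variable {A}

/-- `Â[[x,y]] → k[[x,y]]/(xy)`. -/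
noncomputable def piR0 : MvPowerSeries (Fin 2) (AdicCompletion (maximalIdeal A) A) →+*
    (MvPowerSeries (Fin 2) (ResidueField A) ⧸
      Ideal.span {(X 0 * X 1 : MvPowerSeries (Fin 2) (ResidueField A))}) :=
  (Ideal.Quotient.mk _).comp (MvPowerSeries.map (q A))

theorem piR0_surjective : Function.Surjective (piR0 (A := A)) :=
  Ideal.Quotient.mk_surjective.comp (mvMap_surjective (q A) (q_surjective A))

variable (α : AdicCompletion (maximalIdeal A) A)
  (hα : α ∈ (maximalIdeal A).map (algebraMap A (AdicCompletion (maximalIdeal A) A)))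

include hα in
theorem piR0_rel : piR0 (A := A) (X 0 * X 1 - C α) = 0 := by
  unfold piR0
  rw [RingHom.comp_apply, map_sub, map_mul, MvPowerSeries.map_X, MvPowerSeries.map_X,
    MvPowerSeries.map_C, (q_eq_zero_iff A α).mpr hα, _root_.map_zero, sub_zero]
  exact Ideal.Quotient.eq_zero_iff_mem.mpr (Ideal.subset_span rfl)

/-- `Â[[x,y]]/(xy - α) → k[[x,y]]/(xy)`. -/
noncomputable def piR : (MvPowerSeries (Fin 2) (AdicCompletion (maximalIdeal A) A) ⧸
      Ideal.span {(X 0 * X 1 - C α :
        MvPowerSeries (Fin 2) (AdicCompletion (maximalIdeal A) A))}) →+*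
    (MvPowerSeries (Fin 2) (ResidueField A) ⧸
      Ideal.span {(X 0 * X 1 : MvPowerSeries (Fin 2) (ResidueField A))}) :=
  Ideal.Quotient.lift _ (piR0 (A := A)) (by
    intro a ha
    obtain ⟨c, rfl⟩ := Ideal.mem_span_singleton'.mp ha
    rw [map_mul, piR0_rel α hα, mul_zero])

theorem piR_mk (p : MvPowerSeries (Fin 2) (AdicCompletion (maximalIdeal A) A)) :
    piR α hα (Ideal.Quotient.mk _ p) = piR0 p := rfl

theorem piR_surjective : Function.Surjective (piR α hα) :=
  Ideal.Quotient.lift_surjective_of_surjective _ _ piR0_surjective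

theorem map_algebraMap_eq : (maximalIdeal A).map (algebraMap A
      (MvPowerSeries (Fin 2) (AdicCompletion (maximalIdeal A) A) ⧸
      Ideal.span {(X 0 * X 1 - C α :
        MvPowerSeries (Fin 2) (AdicCompletion (maximalIdeal A) A))})) =
    (((maximalIdeal A).map (algebraMap A (AdicCompletion (maximalIdeal A) A))).map
      (C : _ →+* MvPowerSeries (Fin 2) (AdicCompletion (maximalIdeal A) A))).map
        (Ideal.Quotient.mk _) := by
  rw [Ideal.map_map, Ideal.map_map]
  congr 1
  ext a
  rw [RingHom.comp_apply, RingHom.comp_apply, ← MvPowerSeries.algebraMap_apply,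
    Ideal.Quotient.mk_algebraMap]

theorem mem_of_piR_eq_zero (r : MvPowerSeries (Fin 2) (AdicCompletion (maximalIdeal A) A) ⧸
      Ideal.span {(X 0 * X 1 - C α :
        MvPowerSeries (Fin 2) (AdicCompletion (maximalIdeal A) A))})
    (hr : piR α hα r = 0) : r ∈ (maximalIdeal A).map (algebraMap A _) := by
  obtain ⟨p, rfl⟩ := Ideal.Quotient.mk_surjective r
  rw [piR_mk] at hr
  have h1 : Ideal.Quotient.mk (Ideal.span {(X 0 * X 1 : MvPowerSeries (Fin 2) (ResidueField A))})
      (MvPowerSeries.map (q A) p) = 0 := hr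
  rw [Ideal.Quotient.eq_zero_iff_mem, Ideal.mem_span_singleton'] at h1
  obtain ⟨g, hg⟩ := h1
  obtain ⟨g', rfl⟩ := mvMap_surjective (q A) (q_surjective A) g
  set d := p - g' * (X 0 * X 1) with hd
  have hdmap : MvPowerSeries.map (q A) d = 0 := by
    rw [hd, map_sub, map_mul, map_mul, MvPowerSeries.map_X, MvPowerSeries.map_X, hg, sub_self]
  have hdmem : d ∈ ((maximalIdeal A).map (algebraMap A (AdicCompletion (maximalIdeal A) A))).map
      (C : _ →+* MvPowerSeries (Fin 2) (AdicCompletion (maximalIdeal A) A)) := by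
    refine mem_map_C_of_coeff_mem _ ?_ d fun m => ?_
    · exact ((maximalIdeal A).fg_of_isNoetherianRing).map _
    · rw [← q_eq_zero_iff, ← MvPowerSeries.coeff_map, hdmap, _root_.map_zero]
  have hp : p = d + g' * (X 0 * X 1 - C α) + g' * C α := by rw [hd]; ring
  rw [map_algebraMap_eq, hp, map_add, map_add]
  refine Ideal.add_mem _ (Ideal.add_mem _ ?_ ?_) ?_
  · exact Ideal.mem_map_of_mem _ hdmem
  · rw [Ideal.Quotient.eq_zero_iff_mem.mpr
      (Ideal.mul_mem_left _ g' (Ideal.subset_span (Set.mem_singleton _)))]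
    exact Ideal.zero_mem _
  · rw [map_mul]
    exact Ideal.mul_mem_left _ _ (Ideal.mem_map_of_mem _ (Ideal.mem_map_of_mem _ hα))

theorem map_le_jacobson : (maximalIdeal A).map (algebraMap A
      (MvPowerSeries (Fin 2) (AdicCompletion (maximalIdeal A) A) ⧸
      Ideal.span {(X 0 * X 1 - C α :
        MvPowerSeries (Fin 2) (AdicCompletion (maximalIdeal A) A))})) ≤ Ideal.jacobson ⊥ := by
  rw [map_algebraMap_eq, Ideal.map_map, Ideal.map_le_iff_le_comap]
  intro a' ha'
  rw [Ideal.mem_comap, Ideal.mem_jacobson_bot]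
  intro y
  obtain ⟨p, rfl⟩ := Ideal.Quotient.mk_surjective y
  rw [RingHom.comp_apply, ← map_mul, ← map_one (Ideal.Quotient.mk _), ← map_add]
  apply IsUnit.map
  rw [MvPowerSeries.isUnit_iff_constantCoeff, map_add, map_mul, MvPowerSeries.constantCoeff_C,
    map_one]
  rw [← AdicCompletion.maximalIdeal_eq_map] at ha'
  have h2 : a' * MvPowerSeries.constantCoeff p ∈
      maximalIdeal (AdicCompletion (maximalIdeal A) A) := Ideal.mul_mem_right _ _ ha'
  have := IsLocalRing.isUnit_one_sub_self_of_mem_nonunits _ (by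
    have : -(a' * MvPowerSeries.constantCoeff p) ∈
      maximalIdeal (AdicCompletion (maximalIdeal A) A) := Ideal.neg_mem_iff _ |>.mpr h2
    exact this)
  rw [sub_neg_eq_add, add_comm] at this
  exact this

end PiR

section Main

variable (A B : Type u) [CommRing A] [IsLocalRing A] [IsNoetherianRing A]
    [CommRing B] [IsLocalRing B] [IsNoetherianRing B] [Algebra A B] [IsLocalHom (algebraMap A B)]

theorem node_injective [Module.Flat A B]
    (𝔫' : Ideal (B ⧸ (maximalIdeal A).map (algebraMap A B)))
    (h𝔫 : 𝔫' = (maximalIdeal B).map (Ideal.Quotient.mk _))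
    (e : AdicCompletion 𝔫' (B ⧸ (maximalIdeal A).map (algebraMap A B)) ≃+*
      (MvPowerSeries (Fin 2) (ResidueField A) ⧸
        Ideal.span {(X 0 * X 1 : MvPowerSeries (Fin 2) (ResidueField A))}))
    (α : AdicCompletion (maximalIdeal A) A)
    (hα : α ∈ (maximalIdeal A).map (algebraMap A (AdicCompletion (maximalIdeal A) A)))
    (ψ : (MvPowerSeries (Fin 2) (AdicCompletion (maximalIdeal A) A) ⧸
      Ideal.span {(X 0 * X 1 - C α :
        MvPowerSeries (Fin 2) (AdicCompletion (maximalIdeal A) A))}) →ₐ[A]
        AdicCompletion (maximalIdeal B) B)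
    (hψ : Function.Surjective ψ) : Function.Injective ψ := by
  classical
  have hJle : (maximalIdeal A).map (algebraMap A B) ≤ maximalIdeal B :=
    Groth.Agent.Lib.Helper63.NodeLim.map_max_le
  haveI : Nontrivial (B ⧸ (maximalIdeal A).map (algebraMap A B)) :=
    Ideal.Quotient.nontrivial_iff.mpr (fun h =>
      (Ideal.IsMaximal.ne_top (maximalIdeal.isMaximal B)) (top_le_iff.mp (h ▸ hJle)))
  have h𝔫' : 𝔫' = maximalIdeal (B ⧸ (maximalIdeal A).map (algebraMap A B)) :=
    h𝔫.trans (Groth.Agent.Lib.Helper64.maximalIdeal_quotient B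
      ((maximalIdeal A).map (algebraMap A B))).symm
  subst h𝔫'
  haveI : IsNoetherianRing (AdicCompletion (maximalIdeal A) A) := Groth.Agent.S0543.result A _
  haveI : IsScalarTower A B (AdicCompletion (maximalIdeal B) B) :=
    IsScalarTower.of_algebraMap_eq fun a => rfl
  haveI : Module.Flat A (AdicCompletion (maximalIdeal B) B) :=
    Module.Flat.trans A B (AdicCompletion (maximalIdeal B) B)
  let πB : AdicCompletion (maximalIdeal B) B →+* (MvPowerSeries (Fin 2) (ResidueField A) ⧸
        Ideal.span {(X 0 * X 1 : MvPowerSeries (Fin 2) (ResidueField A))}) :=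
    (e : _ →+* _).comp (Groth.Agent.Lib.Helper64.cplQuotMap B
      ((maximalIdeal A).map (algebraMap A B))).toRingHom
  have hπB : Function.Surjective πB :=
    e.surjective.comp (Groth.Agent.Lib.Helper64.cplQuotMap_surjective B
      ((maximalIdeal A).map (algebraMap A B)))
  have hπBker : ∀ b ∈ (maximalIdeal A).map (algebraMap A (AdicCompletion (maximalIdeal B) B)),
      πB b = 0 := by
    intro b hb
    have hb' : b ∈ RingHom.ker (Groth.Agent.Lib.Helper64.cplQuotMap B
        ((maximalIdeal A).map (algebraMap A B))).toRingHom := by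
      rw [Groth.Agent.Lib.Helper64.ker_cplQuotMap, Ideal.map_map,
        ← IsScalarTower.algebraMap_eq]
      exact hb
    change e (Groth.Agent.Lib.Helper64.cplQuotMap B
      ((maximalIdeal A).map (algebraMap A B)) b) = 0
    rw [show Groth.Agent.Lib.Helper64.cplQuotMap B
      ((maximalIdeal A).map (algebraMap A B)) b = 0 from hb', _root_.map_zero]
  refine injective_of_flat_of_fibre (maximalIdeal A) ψ hψ (map_le_jacobson α) ?_
  intro r hr
  apply mem_of_piR_eq_zero α hα r
  refine fibre_comparison ψ.toRingHom hψ (piR α hα) (piR_surjective α hα) πB hπB ?_ r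
    (hπBker _ hr)
  intro r' hr'
  apply hπBker
  have h1 := mem_of_piR_eq_zero α hα r' hr'
  have h2 := Ideal.mem_map_of_mem ψ.toRingHom h1
  rw [Ideal.map_map] at h2
  have h3 : ψ.toRingHom.comp (algebraMap A _) =
      algebraMap A (AdicCompletion (maximalIdeal B) B) := ψ.comp_algebraMap
  rw [h3] at h2
  exact h2

theorem node_iso
    (hres : Function.Bijective (IsLocalRing.ResidueField.map (algebraMap A B)))
    (u v : B) (hu : u ∈ IsLocalRing.maximalIdeal B) (hv : v ∈ IsLocalRing.maximalIdeal B)
    (huv : u * v ∈ (IsLocalRing.maximalIdeal A).map (algebraMap A B))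
    (hgen : IsLocalRing.maximalIdeal B = Ideal.span {u, v} ⊔
      (IsLocalRing.maximalIdeal A).map (algebraMap A B)) [Module.Flat A B]
    (hfib : ∃ e : AdicCompletion ((IsLocalRing.maximalIdeal B).map (Ideal.Quotient.mk
          ((IsLocalRing.maximalIdeal A).map (algebraMap A B))))
          (B ⧸ (IsLocalRing.maximalIdeal A).map (algebraMap A B)) ≃+*
        (MvPowerSeries (Fin 2) (IsLocalRing.ResidueField A) ⧸
          Ideal.span {(MvPowerSeries.X 0 * MvPowerSeries.X 1 :
            MvPowerSeries (Fin 2) (IsLocalRing.ResidueField A))}),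
      ∀ a : A, e (algebraMap (B ⧸ (IsLocalRing.maximalIdeal A).map (algebraMap A B)) _
          (Ideal.Quotient.mk _ (algebraMap A B a))) =
        Ideal.Quotient.mk _ (MvPowerSeries.C (IsLocalRing.residue A a))) :
    ∃ (α : AdicCompletion (IsLocalRing.maximalIdeal A) A)
      (_ : α ∈ (IsLocalRing.maximalIdeal A).map
        (algebraMap A (AdicCompletion (IsLocalRing.maximalIdeal A) A)))
      (ψ : (MvPowerSeries (Fin 2) (AdicCompletion (IsLocalRing.maximalIdeal A) A) ⧸ Ideal.span
          {(MvPowerSeries.X 0 * MvPowerSeries.X 1 -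
            MvPowerSeries.C α :
              MvPowerSeries (Fin 2) (AdicCompletion (IsLocalRing.maximalIdeal A) A))}) ≃ₐ[A]
        AdicCompletion (IsLocalRing.maximalIdeal B) B),
      ψ (Ideal.Quotient.mk _ (MvPowerSeries.X 0)) -
            algebraMap B (AdicCompletion (IsLocalRing.maximalIdeal B) B) u ∈
          (IsLocalRing.maximalIdeal A).map
            (algebraMap A (AdicCompletion (IsLocalRing.maximalIdeal B) B)) ∧
        ψ (Ideal.Quotient.mk _ (MvPowerSeries.X 1)) -
            algebraMap B (AdicCompletion (IsLocalRing.maximalIdeal B) B) v ∈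
          (IsLocalRing.maximalIdeal A).map
            (algebraMap A (AdicCompletion (IsLocalRing.maximalIdeal B) B)) := by
  obtain ⟨e, -⟩ := hfib
  obtain ⟨α, hα, ψ, hsurj, h0, h1⟩ :=
    Groth.Agent.Lib.Helper63.NodeMain.node_surjective A B hres u v hu hv huv hgen
  have hinj := node_injective A B _ rfl e α hα ψ hsurj
  exact ⟨α, hα, AlgEquiv.ofBijective ψ ⟨hinj, hsurj⟩, h0, h1⟩

end Main

end Groth.Agent.Lib.Helper63.NodeIso
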