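import Mathlib
import Groth.Agent.Lib.Helper63.NodeIso
import Groth.Agent.Lib.Helper63.CplSurj
import Groth.Agent.Lib.Helper90.PSIdeal

/-!
# The node: core statements over a flat local homomorphism with nodal completed fibre (helper63)
-/

set_option autoImplicit false

namespace Groth.Agent.Lib.Helper63.NodeCore

open IsLocalRing AdicCompletion MvPowerSeries Groth.Agent.Lib.Helper63.NodeFlat
  Groth.Agent.Lib.Helper63.NodeIso

universe u

theorem algebraMap_quot_eq {A A' : Type*} [CommRing A] [CommRing A'] [Algebra A A']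
    (I : Ideal (MvPowerSeries (Fin 2) A')) (a : A) :
    algebraMap A (MvPowerSeries (Fin 2) A' ⧸ I) a =
      Ideal.Quotient.mk I (C (algebraMap A A' a)) := by
  rw [← MvPowerSeries.algebraMap_apply, Ideal.Quotient.mk_algebraMap]

section PiRF

variable {A : Type u} [CommRing A] [IsLocalRing A] [IsNoetherianRing A]
  {K : Type u} [Field K] (qK : AdicCompletion (maximalIdeal A) A →+* K)
  (hqs : Function.Surjective qK)
  (hq0 : ∀ x, qK x = 0 ↔
    x ∈ (maximalIdeal A).map (algebraMap A (AdicCompletion (maximalIdeal A) A)))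
  (F : MvPowerSeries (Fin 2) (AdicCompletion (maximalIdeal A) A))

/-- `Â[[x,y]]/(F) → k[[x,y]]/(F mod 𝔪)`. -/
noncomputable def piRF : (MvPowerSeries (Fin 2) (AdicCompletion (maximalIdeal A) A) ⧸
      Ideal.span {F}) →+*
    (MvPowerSeries (Fin 2) K ⧸
      Ideal.span {MvPowerSeries.map qK F}) :=
  Ideal.Quotient.lift _ ((Ideal.Quotient.mk _).comp (MvPowerSeries.map qK)) (by
    intro a ha
    obtain ⟨c, rfl⟩ := Ideal.mem_span_singleton'.mp ha
    rw [RingHom.comp_apply, map_mul, map_mul]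
    rw [Ideal.Quotient.eq_zero_iff_mem.mpr (Ideal.subset_span (Set.mem_singleton _)), mul_zero])

omit [IsNoetherianRing A] in
theorem piRF_mk (p : MvPowerSeries (Fin 2) (AdicCompletion (maximalIdeal A) A)) :
    piRF qK F (Ideal.Quotient.mk _ p) = Ideal.Quotient.mk _ (MvPowerSeries.map qK p) := rfl

omit [IsNoetherianRing A] in
include hqs in
theorem piRF_surjective : Function.Surjective (piRF qK F) :=
  Ideal.Quotient.lift_surjective_of_surjective _ _
    (Ideal.Quotient.mk_surjective.comp (mvMap_surjective qK hqs))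

omit [IsNoetherianRing A] in
theorem map_algebraMap_eq' : (maximalIdeal A).map (algebraMap A
      (MvPowerSeries (Fin 2) (AdicCompletion (maximalIdeal A) A) ⧸ Ideal.span {F})) =
    (((maximalIdeal A).map (algebraMap A (AdicCompletion (maximalIdeal A) A))).map
      (C : _ →+* MvPowerSeries (Fin 2) (AdicCompletion (maximalIdeal A) A))).map
        (Ideal.Quotient.mk _) := by
  rw [Ideal.map_map, Ideal.map_map]
  congr 1
  ext a
  rw [RingHom.comp_apply, RingHom.comp_apply, ← MvPowerSeries.algebraMap_apply,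
    Ideal.Quotient.mk_algebraMap]

include hqs hq0 in
theorem mem_of_piRF_eq_zero (r : MvPowerSeries (Fin 2) (AdicCompletion (maximalIdeal A) A) ⧸
      Ideal.span {F}) (hr : piRF qK F r = 0) : r ∈ (maximalIdeal A).map (algebraMap A _) := by
  obtain ⟨p, rfl⟩ := Ideal.Quotient.mk_surjective r
  rw [piRF_mk, Ideal.Quotient.eq_zero_iff_mem, Ideal.mem_span_singleton'] at hr
  obtain ⟨g, hg⟩ := hr
  obtain ⟨g', rfl⟩ := mvMap_surjective qK hqs g
  set d := p - g' * F with hd
  have hdmap : MvPowerSeries.map qK d = 0 := by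
    rw [hd, map_sub, map_mul, hg, sub_self]
  have hdmem : d ∈ ((maximalIdeal A).map (algebraMap A (AdicCompletion (maximalIdeal A) A))).map
      (C : _ →+* MvPowerSeries (Fin 2) (AdicCompletion (maximalIdeal A) A)) := by
    refine mem_map_C_of_coeff_mem _ ?_ d fun m => ?_
    · exact ((maximalIdeal A).fg_of_isNoetherianRing).map _
    · rw [← hq0, ← MvPowerSeries.coeff_map, hdmap, _root_.map_zero]
  have hp : p = d + g' * F := by rw [hd]; ring
  rw [map_algebraMap_eq', hp, map_add]
  refine Ideal.add_mem _ (Ideal.mem_map_of_mem _ hdmem) ?_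
  rw [Ideal.Quotient.eq_zero_iff_mem.mpr
    (Ideal.mul_mem_left _ g' (Ideal.subset_span (Set.mem_singleton _)))]
  exact Ideal.zero_mem _

theorem map_le_jacobson' : (maximalIdeal A).map (algebraMap A
      (MvPowerSeries (Fin 2) (AdicCompletion (maximalIdeal A) A) ⧸ Ideal.span {F})) ≤
      Ideal.jacobson ⊥ := by
  rw [map_algebraMap_eq', Ideal.map_map, Ideal.map_le_iff_le_comap]
  intro a' ha'
  rw [Ideal.mem_comap, Ideal.mem_jacobson_bot]
  intro y
  obtain ⟨p, rfl⟩ := Ideal.Quotient.mk_surjective y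
  rw [RingHom.comp_apply, ← map_mul, ← map_one (Ideal.Quotient.mk _), ← map_add]
  apply IsUnit.map
  rw [MvPowerSeries.isUnit_iff_constantCoeff, map_add, map_mul, MvPowerSeries.constantCoeff_C,
    map_one]
  rw [← AdicCompletion.maximalIdeal_eq_map] at ha'
  have h2 : a' * MvPowerSeries.constantCoeff p ∈
      maximalIdeal (AdicCompletion (maximalIdeal A) A) := Ideal.mul_mem_right _ _ ha'
  have := IsLocalRing.isUnit_one_sub_self_of_mem_nonunits _ (by
    have : -(a' * MvPowerSeries.constantCoeff p) ∈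
      maximalIdeal (AdicCompletion (maximalIdeal A) A) := Ideal.neg_mem_iff _ |>.mpr h2
    exact this)
  rw [sub_neg_eq_add, add_comm] at this
  exact this

include hqs hq0 in
/-- Injectivity from flatness and comparison of the fibres. -/
theorem injective_general {Cc : Type u} [CommRing Cc] [Algebra A Cc] [Module.Flat A Cc]
    (ψ : (MvPowerSeries (Fin 2) (AdicCompletion (maximalIdeal A) A) ⧸ Ideal.span {F}) →ₐ[A] Cc)
    (hψ : Function.Surjective ψ)
    (π₀ : Cc →+* (MvPowerSeries (Fin 2) K ⧸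
      Ideal.span {MvPowerSeries.map qK F}))
    (hπ₀ : Function.Surjective π₀)
    (hπ₀k : ∀ b ∈ (maximalIdeal A).map (algebraMap A Cc), π₀ b = 0) :
    Function.Injective ψ := by
  haveI : IsNoetherianRing (AdicCompletion (maximalIdeal A) A) := Groth.Agent.S0543.result A _
  refine injective_of_flat_of_fibre (maximalIdeal A) ψ hψ (map_le_jacobson' F) ?_
  intro r hr
  apply mem_of_piRF_eq_zero qK hqs hq0 F r
  refine fibre_comparison ψ.toRingHom hψ (piRF qK F) (piRF_surjective qK hqs F) π₀ hπ₀ ?_ r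
    (hπ₀k _ hr)
  intro r' hr'
  apply hπ₀k
  have h1 := mem_of_piRF_eq_zero qK hqs hq0 F r' hr'
  have h2 := Ideal.mem_map_of_mem ψ.toRingHom h1
  rw [Ideal.map_map] at h2
  have h3 : ψ.toRingHom.comp (algebraMap A _) = algebraMap A Cc := ψ.comp_algebraMap
  rw [h3] at h2
  exact h2

end PiRF

section FibreData

open Groth.Agent.Lib.Helper90

variable {A : Type u} [CommRing A] [IsLocalRing A]
  {K : Type u} [Field K] (resK : A →+* K) (hresK : Function.Surjective resK)
  {Cc : Type u} [CommRing Cc] [IsLocalRing Cc] [Algebra A Cc]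
  (𝔮 : Ideal (MvPowerSeries (Fin 2) K))
  (h𝔮 : 𝔮 ≤ Ideal.span (Set.range (X : Fin 2 → MvPowerSeries (Fin 2) K)))
  (π₀ : Cc →+* (MvPowerSeries (Fin 2) K ⧸ 𝔮))
  (hπ₀ : Function.Surjective π₀)
  (hker : RingHom.ker π₀ = (maximalIdeal A).map (algebraMap A Cc))
  (hcompat : ∀ a : A, π₀ (algebraMap A Cc a) = Ideal.Quotient.mk _ (C (resK a)))

/-- The constant coefficient on the quotient. -/
noncomputable def eps : (MvPowerSeries (Fin 2) K ⧸ 𝔮) →+* K :=
  Ideal.Quotient.lift 𝔮 constantCoeff (fun p hp => (PSIdeal.mem_span_X_iff p).mp (h𝔮 hp))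

theorem eps_mk (p : MvPowerSeries (Fin 2) K) :
    eps 𝔮 h𝔮 (Ideal.Quotient.mk _ p) = constantCoeff p := rfl

theorem eps_surjective : Function.Surjective (eps 𝔮 h𝔮) := fun c =>
  ⟨Ideal.Quotient.mk _ (C c), by rw [eps_mk, constantCoeff_C]⟩

omit [Algebra A Cc] in
include hπ₀ in
theorem mem_max_iff (c : Cc) : c ∈ maximalIdeal Cc ↔ eps 𝔮 h𝔮 (π₀ c) = 0 := by
  have hsurj : Function.Surjective ((eps 𝔮 h𝔮).comp π₀) := (eps_surjective 𝔮 h𝔮).comp hπ₀
  have hmax : (RingHom.ker ((eps 𝔮 h𝔮).comp π₀)).IsMaximal :=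
    RingHom.ker_isMaximal_of_surjective _ hsurj
  rw [← IsLocalRing.eq_maximalIdeal hmax, RingHom.mem_ker, RingHom.comp_apply]

include h𝔮 hπ₀ hcompat hresK in
theorem residue_bijective [IsLocalHom (algebraMap A Cc)] :
    Function.Bijective (IsLocalRing.ResidueField.map (algebraMap A Cc)) := by
  refine ⟨RingHom.injective _, fun y => ?_⟩
  obtain ⟨c, rfl⟩ := residue_surjective y
  obtain ⟨a, ha⟩ := hresK (eps 𝔮 h𝔮 (π₀ c))
  refine ⟨residue A a, ?_⟩
  rw [ResidueField.map_residue]
  symm
  rw [← sub_eq_zero, ← map_sub, residue_eq_zero_iff, mem_max_iff 𝔮 h𝔮 π₀ hπ₀, map_sub, map_sub,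
    hcompat, eps_mk, constantCoeff_C, ha, sub_self]

include h𝔮 hπ₀ hker in
theorem exists_generators :
    ∃ u v : Cc, π₀ u = Ideal.Quotient.mk _ (X 0) ∧ π₀ v = Ideal.Quotient.mk _ (X 1) ∧
      u ∈ maximalIdeal Cc ∧ v ∈ maximalIdeal Cc ∧
      maximalIdeal Cc = Ideal.span {u, v} ⊔ (maximalIdeal A).map (algebraMap A Cc) := by
  obtain ⟨u, hu⟩ := hπ₀ (Ideal.Quotient.mk _ (X 0))
  obtain ⟨v, hv⟩ := hπ₀ (Ideal.Quotient.mk _ (X 1))
  have hum : u ∈ maximalIdeal Cc := by
    rw [mem_max_iff 𝔮 h𝔮 π₀ hπ₀, hu, eps_mk, constantCoeff_X]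
  have hvm : v ∈ maximalIdeal Cc := by
    rw [mem_max_iff 𝔮 h𝔮 π₀ hπ₀, hv, eps_mk, constantCoeff_X]
  refine ⟨u, v, hu, hv, hum, hvm, le_antisymm ?_ ?_⟩
  · intro c hc
    rw [mem_max_iff 𝔮 h𝔮 π₀ hπ₀] at hc
    obtain ⟨p, hp⟩ := Ideal.Quotient.mk_surjective (π₀ c)
    rw [← hp, eps_mk, ← PSIdeal.mem_span_X_iff] at hc
    have hrange : Set.range (X : Fin 2 → MvPowerSeries (Fin 2) K) =
        {X 0, X 1} := by
      ext x
      simp only [Set.mem_range, Fin.exists_fin_two, Set.mem_insert_iff, Set.mem_singleton_iff]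
      constructor
      · rintro (h | h)
        · exact Or.inl h.symm
        · exact Or.inr h.symm
      · rintro (h | h)
        · exact Or.inl h.symm
        · exact Or.inr h.symm
    rw [hrange, Ideal.mem_span_pair] at hc
    obtain ⟨p₁, p₂, hp12⟩ := hc
    obtain ⟨c₁, hc₁⟩ := hπ₀ (Ideal.Quotient.mk _ p₁)
    obtain ⟨c₂, hc₂⟩ := hπ₀ (Ideal.Quotient.mk _ p₂)
    have hmem : c - (c₁ * u + c₂ * v) ∈ RingHom.ker π₀ := by
      rw [RingHom.mem_ker, map_sub, map_add, map_mul, map_mul, hc₁, hc₂, hu, hv, ← hp, ← hp12]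
      simp only [map_add, map_mul]
      ring
    rw [hker] at hmem
    have : c = (c₁ * u + c₂ * v) + (c - (c₁ * u + c₂ * v)) := by ring
    rw [this]
    refine Ideal.add_mem _ (Ideal.mem_sup_left ?_) (Ideal.mem_sup_right hmem)
    exact Ideal.add_mem _ (Ideal.mul_mem_left _ _ (Ideal.subset_span (by simp)))
      (Ideal.mul_mem_left _ _ (Ideal.subset_span (by simp)))
  · refine sup_le ?_ ?_
    · rw [Ideal.span_le]
      intro x hx
      rcases hx with rfl | rfl
      · exact hum
      · exact hvm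
    · rw [← hker]
      intro x hx
      rw [mem_max_iff 𝔮 h𝔮 π₀ hπ₀, show π₀ x = 0 from hx, _root_.map_zero]

end FibreData

section SplitCore

variable (A B : Type u) [CommRing A] [IsLocalRing A] [IsNoetherianRing A]
    [CommRing B] [IsLocalRing B] [IsNoetherianRing B] [Algebra A B] [IsLocalHom (algebraMap A B)]
    [Module.Flat A B]
    {K : Type u} [Field K] (resK : A →+* K) (hresK : Function.Surjective resK)
    (hresK0 : ∀ a, resK a = 0 ↔ a ∈ maximalIdeal A)

omit [IsLocalRing A] [IsNoetherianRing A] [Module.Flat A B] in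
theorem isLocalHom_algebraMap_cpl :
    IsLocalHom (algebraMap A (AdicCompletion (maximalIdeal B) B)) := by
  have h : algebraMap A (AdicCompletion (maximalIdeal B) B) =
      (algebraMap B (AdicCompletion (maximalIdeal B) B)).comp (algebraMap A B) := by
    ext a; rfl
  rw [h]
  exact RingHom.isLocalHom_comp _ _

omit [CommRing B] [IsLocalRing B] [IsNoetherianRing B] [Algebra A B]
  [IsLocalHom (algebraMap A B)] [Module.Flat A B] in
include hresK hresK0 in
/-- The residue map `Â → K`. -/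
theorem exists_qK : ∃ qK : AdicCompletion (maximalIdeal A) A →+* K,
    Function.Surjective qK ∧
    (∀ x, qK x = 0 ↔
      x ∈ (maximalIdeal A).map (algebraMap A (AdicCompletion (maximalIdeal A) A))) ∧
    ∀ a, qK (algebraMap A _ a) = resK a := by
  haveI : IsLocalHom resK := ⟨fun a ha => by
    by_contra hna
    have : a ∈ maximalIdeal A := hna
    rw [← hresK0] at this
    rw [this] at ha
    exact not_isUnit_zero ha⟩
  let ι : ResidueField A →+* K := IsLocalRing.ResidueField.lift resK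
  have hι : ∀ a, ι (residue A a) = resK a := fun a => IsLocalRing.ResidueField.lift_residue_apply resK a
  have hιs : Function.Surjective ι := fun k => by
    obtain ⟨a, rfl⟩ := hresK k
    exact ⟨residue A a, hι a⟩
  refine ⟨ι.comp (q A), hιs.comp (q_surjective A), fun x => ?_, fun a => ?_⟩
  · rw [RingHom.comp_apply, map_eq_zero_iff ι ι.injective, q_eq_zero_iff]
  · rw [RingHom.comp_apply, q_algebraMap, hι]

include hresK hresK0 in
theorem node_split_of_pi
    (π₀ : AdicCompletion (maximalIdeal B) B →+* (MvPowerSeries (Fin 2) K ⧸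
      Ideal.span {(X 0 * X 1 : MvPowerSeries (Fin 2) K)}))
    (hπ₀ : Function.Surjective π₀)
    (hker : RingHom.ker π₀ =
      (maximalIdeal A).map (algebraMap A (AdicCompletion (maximalIdeal B) B)))
    (hcompat : ∀ a : A, π₀ (algebraMap A _ a) = Ideal.Quotient.mk _ (C (resK a))) :
    ∃ h ∈ maximalIdeal (AdicCompletion (maximalIdeal A) A),
      Nonempty (AdicCompletion (maximalIdeal B) B ≃ₐ[A]
        (MvPowerSeries (Fin 2) (AdicCompletion (maximalIdeal A) A) ⧸
          Ideal.span {(X 0 * X 1 - C h :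
            MvPowerSeries (Fin 2) (AdicCompletion (maximalIdeal A) A))})) := by
  classical
  haveI : IsNoetherianRing (AdicCompletion (maximalIdeal B) B) := Groth.Agent.S0543.result B _
  haveI : IsScalarTower A B (AdicCompletion (maximalIdeal B) B) :=
    IsScalarTower.of_algebraMap_eq fun a => rfl
  haveI : IsLocalHom (algebraMap A (AdicCompletion (maximalIdeal B) B)) :=
    isLocalHom_algebraMap_cpl A B
  haveI : Module.Flat A (AdicCompletion (maximalIdeal B) B) :=
    Module.Flat.trans A B (AdicCompletion (maximalIdeal B) B)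
  obtain ⟨qK, hqs, hq0, -⟩ := exists_qK A resK hresK hresK0
  have h𝔮 : Ideal.span {(X 0 * X 1 : MvPowerSeries (Fin 2) K)} ≤
      Ideal.span (Set.range (X : Fin 2 → MvPowerSeries (Fin 2) K)) := by
    rw [Ideal.span_le, Set.singleton_subset_iff]
    exact Ideal.mul_mem_right _ _ (Ideal.subset_span ⟨0, rfl⟩)
  obtain ⟨u, v, hu, hv, hum, hvm, hgen⟩ := exists_generators _ h𝔮 π₀ hπ₀ hker
  have huv : u * v ∈ (maximalIdeal A).map
      (algebraMap A (AdicCompletion (maximalIdeal B) B)) := by
    rw [← hker, RingHom.mem_ker, map_mul, hu, hv, ← map_mul]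
    exact Ideal.Quotient.eq_zero_iff_mem.mpr (Ideal.subset_span (Set.mem_singleton _))
  have hres := residue_bijective resK hresK _ h𝔮 π₀ hπ₀ hcompat
  obtain ⟨α, hα, ψ, hsurj, -, -⟩ :=
    Groth.Agent.Lib.Helper63.NodeMain.node_surjective A (AdicCompletion (maximalIdeal B) B)
      hres u v hum hvm huv hgen
  haveI : IsScalarTower A (AdicCompletion (maximalIdeal B) B)
      (AdicCompletion (maximalIdeal (AdicCompletion (maximalIdeal B) B))
        (AdicCompletion (maximalIdeal B) B)) :=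
    IsScalarTower.of_algebraMap_eq fun a => rfl
  let E : AdicCompletion (maximalIdeal B) B ≃ₐ[A]
      AdicCompletion (maximalIdeal (AdicCompletion (maximalIdeal B) B))
        (AdicCompletion (maximalIdeal B) B) :=
    (AdicCompletion.ofAlgEquiv (maximalIdeal (AdicCompletion (maximalIdeal B) B))).restrictScalars A
  let ψ' := (E.symm : _ →ₐ[A] AdicCompletion (maximalIdeal B) B).comp ψ
  have hsurj' : Function.Surjective ψ' := E.symm.surjective.comp hsurj
  have hI : Ideal.span {(X 0 * X 1 : MvPowerSeries (Fin 2) K)} =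
      Ideal.span {MvPowerSeries.map qK (X 0 * X 1 - C α :
        MvPowerSeries (Fin 2) (AdicCompletion (maximalIdeal A) A))} := by
    rw [map_sub, map_mul, MvPowerSeries.map_X, MvPowerSeries.map_X, MvPowerSeries.map_C,
      (hq0 α).mpr hα, _root_.map_zero, sub_zero]
  let π₀' := (Ideal.quotEquivOfEq hI).toRingHom.comp π₀
  have hπ₀' : Function.Surjective π₀' := (Ideal.quotEquivOfEq hI).surjective.comp hπ₀
  have hπ₀k : ∀ b ∈ (maximalIdeal A).map (algebraMap A (AdicCompletion (maximalIdeal B) B)),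
      π₀' b = 0 := by
    intro b hb
    rw [← hker] at hb
    change (Ideal.quotEquivOfEq hI) (π₀ b) = 0
    rw [show π₀ b = 0 from hb, _root_.map_zero]
  have hinj' : Function.Injective ψ' :=
    injective_general qK hqs hq0 _ ψ' hsurj' π₀' hπ₀' hπ₀k
  refine ⟨α, ?_, ⟨(AlgEquiv.ofBijective ψ' ⟨hinj', hsurj'⟩).symm⟩⟩
  rw [AdicCompletion.maximalIdeal_eq_map]
  exact hα

omit [IsNoetherianRing A] [Module.Flat A B] in
/-- From a presentation of the fibre ring `F = B/𝔪_A B` and an isomorphism of its completion with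
`k[[x,y]]/𝔮`, the surjection `B̂ → k[[x,y]]/𝔮` with kernel `𝔪_A B̂`. -/
theorem exists_pi_of_fibre (F : Type u) [CommRing F] [IsLocalRing F]
    (φ : B →+* F) (hφ : Function.Surjective φ)
    (hker : RingHom.ker φ = (maximalIdeal A).map (algebraMap A B))
    (j : K →+* F) (hj : ∀ a, φ (algebraMap A B a) = j (resK a))
    (𝔮 : Ideal (MvPowerSeries (Fin 2) K))
    (e : AdicCompletion (maximalIdeal F) F ≃+* (MvPowerSeries (Fin 2) K ⧸ 𝔮))
    (he : ∀ c, e (algebraMap F _ (j c)) = Ideal.Quotient.mk _ (C c)) :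
    ∃ π₀ : AdicCompletion (maximalIdeal B) B →+* (MvPowerSeries (Fin 2) K ⧸ 𝔮),
      Function.Surjective π₀ ∧
      RingHom.ker π₀ =
        (maximalIdeal A).map (algebraMap A (AdicCompletion (maximalIdeal B) B)) ∧
      ∀ a : A, π₀ (algebraMap A _ a) = Ideal.Quotient.mk _ (C (resK a)) := by
  obtain ⟨π, hπs, hπk, hπc⟩ := Groth.Agent.Lib.Helper63.CplSurj.exists_cplSurj A B F φ hφ hker
  refine ⟨e.toRingHom.comp π, e.surjective.comp hπs, ?_, ?_⟩
  · rw [← hπk]
    ext x
    rw [RingHom.mem_ker, RingHom.mem_ker, RingHom.comp_apply]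
    exact map_eq_zero_iff e.toRingHom e.injective
  · intro a
    have h1 : algebraMap A (AdicCompletion (maximalIdeal B) B) a =
        algebraMap B (AdicCompletion (maximalIdeal B) B) (algebraMap A B a) := rfl
    rw [RingHom.comp_apply, h1, hπc, hj]
    exact he _

include hresK hresK0 in
theorem node_split_core (F : Type u) [CommRing F] [IsLocalRing F]
    (φ : B →+* F) (hφ : Function.Surjective φ)
    (hker : RingHom.ker φ = (maximalIdeal A).map (algebraMap A B))
    (j : K →+* F) (hj : ∀ a, φ (algebraMap A B a) = j (resK a))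
    (e : AdicCompletion (maximalIdeal F) F ≃+* (MvPowerSeries (Fin 2) K ⧸
      Ideal.span {(X 0 * X 1 : MvPowerSeries (Fin 2) K)}))
    (he : ∀ c, e (algebraMap F _ (j c)) = Ideal.Quotient.mk _ (C c)) :
    ∃ h ∈ maximalIdeal (AdicCompletion (maximalIdeal A) A),
      Nonempty (AdicCompletion (maximalIdeal B) B ≃ₐ[A]
        (MvPowerSeries (Fin 2) (AdicCompletion (maximalIdeal A) A) ⧸
          Ideal.span {(X 0 * X 1 - C h :
            MvPowerSeries (Fin 2) (AdicCompletion (maximalIdeal A) A))})) := by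
  obtain ⟨π₀, h1, h2, h3⟩ := exists_pi_of_fibre A B resK F φ hφ hker j hj _ e he
  exact node_split_of_pi A B resK hresK hresK0 π₀ h1 h2 h3

end SplitCore

end Groth.Agent.Lib.Helper63.NodeCore
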