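import Mathlib
import Groth.Agent.Lib.Helper63.NodeCore
import Groth.Agent.Lib.Helper63.MorseComplete

/-!
# The node with a general non-degenerate binary quadratic form (helper63)
-/

set_option autoImplicit false

namespace Groth.Agent.Lib.Helper63.NodeQuad

open IsLocalRing AdicCompletion MvPowerSeries Finsupp VanCyc
  Groth.Agent.Lib.Helper63.NodeFlat Groth.Agent.Lib.Helper63.NodeIso
  Groth.Agent.Lib.Helper63.NodeCore Groth.Agent.Lib.Helper63.MorseComplete
  Groth.Agent.Lib.Helper63.MorseRel Groth.Agent.Lib.Helper63.Morse Groth.Agent.Lib.Helper63.LT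

universe u

section Agree

variable {A : Type u} [CommRing A] {n : ℕ}

/-- every power series agrees in degrees `≤ 2` with the polynomial built from its coefficients -/
lemma coeff_eq_coeff_Fpol (G : MvPowerSeries (Fin n) A) (e : Fin n →₀ ℕ) (he : e.degree ≤ 2) :
    coeff e G = coeff e ((Fpol (quadPart G) (fun i => coeff (single i 1) G) (constantCoeff G) :
      MvPolynomial (Fin n) A) : MvPowerSeries (Fin n) A) := by
  classical
  unfold Fpol
  rw [MvPolynomial.coe_add, MvPolynomial.coe_add, MvPolynomial.coe_C, map_add, map_add]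
  have hhom := homDeg_quadPoly (quadPart G)
  have hlin : ∀ d : Fin n →₀ ℕ, coeff d ((∑ i, MvPolynomial.C (coeff (single i 1) G) *
      MvPolynomial.X i : MvPolynomial (Fin n) A) : MvPowerSeries (Fin n) A) =
      ∑ i, if d = single i 1 then coeff (single i 1) G else 0 := by
    intro d
    rw [MvPolynomial.coeff_coe, MvPolynomial.coeff_sum]
    refine Finset.sum_congr rfl fun i _ => ?_
    rw [MvPolynomial.coeff_C_mul, MvPolynomial.coeff_X']
    split_ifs with h1 h2 h2
    · rw [mul_one]
    · exact absurd h1.symm h2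
    · exact absurd h2.symm h1
    · rw [mul_zero]
  rw [hlin]
  rcases Nat.lt_or_ge e.degree 2 with hlt | hge
  · rw [hhom e (by omega), zero_add]
    rcases Nat.lt_or_ge e.degree 1 with h0 | h1'
    · have he0 : e = 0 := by rw [← Finsupp.degree_eq_zero_iff]; omega
      subst he0
      rw [coeff_zero_eq_constantCoeff_apply, coeff_zero_eq_constantCoeff_apply, constantCoeff_C]
      rw [Finset.sum_eq_zero, zero_add]
      intro i _
      rw [if_neg]
      intro h
      have := DFunLike.congr_fun h i
      simp at this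
    · obtain ⟨j, rfl⟩ := exists_single_of_degree_eq_one (d := e) (by omega)
      rw [coeff_C_of_ne_zero, add_zero, Finset.sum_eq_single j]
      · rw [if_pos rfl]
      · intro i _ hij
        rw [if_neg]
        intro h
        have := DFunLike.congr_fun h j
        simp [hij] at this
      · intro h; exact absurd (Finset.mem_univ j) h
      · intro h
        have := DFunLike.congr_fun h j
        simp at this
  · have he2 : e.degree = 2 := by omega
    obtain ⟨i, j, rfl⟩ := exists_add_single_of_degree_eq_two he2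
    have hne : (single i 1 + single j 1 : Fin n →₀ ℕ) ≠ 0 := by
      intro h
      have := DFunLike.congr_fun h i
      simp at this
    rw [coeff_C_of_ne_zero hne, add_zero, Finset.sum_eq_zero, add_zero, MvPolynomial.coeff_coe]
    · have key : ∀ i j : Fin n, i ≤ j → coeff (single i 1 + single j 1) G =
          MvPolynomial.coeff (single i 1 + single j 1) (quadPoly (quadPart G)) := by
        intro i j hij
        rw [coeff_quadPoly _ hij]
        unfold quadPart
        rcases hij.eq_or_lt with rfl | hlt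
        · rw [if_pos rfl, ← Finsupp.single_add]
        · rw [if_neg (ne_of_lt hlt), if_pos hlt]
      rcases le_total i j with hij | hij
      · exact key i j hij
      · rw [add_comm]
        exact key j i hij
    · intro k _
      rw [if_neg]
      intro h
      have := congrArg Finsupp.degree h
      rw [map_add, Finsupp.degree_single, Finsupp.degree_single, Finsupp.degree_single] at this
      omega

/-- the binary quadratic form as a power series -/
lemma coe_quadPoly_two (q : Fin 2 → Fin 2 → A) :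
    ((quadPoly q : MvPolynomial (Fin 2) A) : MvPowerSeries (Fin 2) A) =
      C (q 0 0) * X 0 ^ 2 + C (q 0 1) * X 0 * X 1 + C (q 1 1) * X 1 ^ 2 := by
  unfold quadPoly
  simp only [Fin.sum_univ_two, Fin.isValue, le_refl, ↓reduceIte, Fin.zero_le,
    show ¬ ((1 : Fin 2) ≤ 0) by decide]
  simp only [MvPolynomial.coe_add, MvPolynomial.coe_mul, MvPolynomial.coe_C, MvPolynomial.coe_X,
    MvPolynomial.coe_zero]
  ring

end Agree

section Main

open Groth.Agent.Lib.Helper63.NodeLim Groth.Agent.Lib.Helper63.NodeEval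

variable (A B : Type u) [CommRing A] [IsLocalRing A] [IsNoetherianRing A]
    [CommRing B] [IsLocalRing B] [IsNoetherianRing B] [Algebra A B] [IsLocalHom (algebraMap A B)]
    [Module.Flat A B]
    {K : Type u} [Field K] (resK : A →+* K) (hresK : Function.Surjective resK)
    (hresK0 : ∀ a, resK a = 0 ↔ a ∈ maximalIdeal A)

include hresK hresK0 in
/-- presentation of `B̂` as `Â[[x,y]]/(F)` with `F` reducing to the quadratic form -/
theorem exists_presentation (a₀ b₀ c₀ : K) (qbar : MvPowerSeries (Fin 2) K)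
    (hqbar : qbar = C a₀ * X 0 ^ 2 + C b₀ * X 0 * X 1 + C c₀ * X 1 ^ 2)
    (π₀ : AdicCompletion (maximalIdeal B) B →+* (MvPowerSeries (Fin 2) K ⧸
      Ideal.span {qbar}))
    (hπ₀ : Function.Surjective π₀)
    (hker : RingHom.ker π₀ =
      (maximalIdeal A).map (algebraMap A (AdicCompletion (maximalIdeal B) B)))
    (hcompat : ∀ a : A, π₀ (algebraMap A _ a) = Ideal.Quotient.mk _ (C (resK a))) :
    ∃ (qK : AdicCompletion (maximalIdeal A) A →+* K)
      (F : MvPowerSeries (Fin 2) (AdicCompletion (maximalIdeal A) A)),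
      (∀ x, qK x = 0 ↔
        x ∈ (maximalIdeal A).map (algebraMap A (AdicCompletion (maximalIdeal A) A))) ∧
      MvPowerSeries.map qK F = qbar ∧
      Nonempty (AdicCompletion (maximalIdeal B) B ≃ₐ[A]
        (MvPowerSeries (Fin 2) (AdicCompletion (maximalIdeal A) A) ⧸ Ideal.span {F})) := by
  classical
  haveI : IsNoetherianRing (AdicCompletion (maximalIdeal B) B) := Groth.Agent.S0543.result B _
  haveI : IsScalarTower A B (AdicCompletion (maximalIdeal B) B) :=
    IsScalarTower.of_algebraMap_eq fun a => rfl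
  haveI : IsLocalHom (algebraMap A (AdicCompletion (maximalIdeal B) B)) :=
    isLocalHom_algebraMap_cpl A B
  haveI : Module.Flat A (AdicCompletion (maximalIdeal B) B) :=
    Module.Flat.trans A B (AdicCompletion (maximalIdeal B) B)
  obtain ⟨qK, hqs, hq0, hqa⟩ := exists_qK A resK hresK hresK0
  have h𝔮 : Ideal.span {qbar} ≤
      Ideal.span (Set.range (X : Fin 2 → MvPowerSeries (Fin 2) K)) := by
    rw [Ideal.span_le, Set.singleton_subset_iff, hqbar]
    have h0 : (X 0 : MvPowerSeries (Fin 2) K) ∈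
        Ideal.span (Set.range (X : Fin 2 → MvPowerSeries (Fin 2) K)) :=
      Ideal.subset_span ⟨0, rfl⟩
    have h1 : (X 1 : MvPowerSeries (Fin 2) K) ∈
        Ideal.span (Set.range (X : Fin 2 → MvPowerSeries (Fin 2) K)) :=
      Ideal.subset_span ⟨1, rfl⟩
    refine Ideal.add_mem _ (Ideal.add_mem _ ?_ ?_) ?_
    · rw [pow_two, ← mul_assoc]; exact Ideal.mul_mem_left _ _ h0
    · exact Ideal.mul_mem_left _ _ h1
    · rw [pow_two, ← mul_assoc]; exact Ideal.mul_mem_left _ _ h1
  obtain ⟨u, v, hu, hv, hum, hvm, hgen⟩ := exists_generators _ h𝔮 π₀ hπ₀ hker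
  -- the algebra structure of `B̂` over `Â`
  let _ : Algebra (AdicCompletion (maximalIdeal A) A) (AdicCompletion (maximalIdeal B) B) :=
    (ρ (A := A) (B := B)).toRingHom.toAlgebra
  have hRS : (maximalIdeal (AdicCompletion (maximalIdeal A) A)).map
      (algebraMap (AdicCompletion (maximalIdeal A) A) (AdicCompletion (maximalIdeal B) B)) ≤
      maximalIdeal (AdicCompletion (maximalIdeal B) B) := map_ρ_le
  have halg : ∀ x, algebraMap (AdicCompletion (maximalIdeal A) A)
      (AdicCompletion (maximalIdeal B) B) x = ρ x := fun x => rfl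
  have : IsScalarTower A (AdicCompletion (maximalIdeal A) A)
      (AdicCompletion (maximalIdeal B) B) :=
    IsScalarTower.of_algebraMap_eq fun a => by
      rw [halg, AlgHom.commutes]
  -- the family
  let a : Fin 2 → AdicCompletion (maximalIdeal B) B := ![u, v]
  have hspan : Ideal.span (Set.range a) = Ideal.span {u, v} := by
    congr 1
    ext x
    simp only [a, Set.mem_range, Fin.exists_fin_two, Matrix.cons_val_zero, Matrix.cons_val_one,
      Set.mem_insert_iff, Set.mem_singleton_iff]
    constructor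
    · rintro (h | h)
      · exact Or.inl h.symm
      · exact Or.inr h.symm
    · rintro (h | h)
      · exact Or.inl h.symm
      · exact Or.inr h.symm
  have ha : ∀ i, a i ∈ maximalIdeal (AdicCompletion (maximalIdeal B) B) := by
    intro i
    fin_cases i
    · exact hum
    · exact hvm
  let Ψ := ev hRS a ha
  -- generators of `𝔪_Â`
  obtain ⟨r, g, hg⟩ := Submodule.fg_iff_exists_fin_generating_family.mp
    ((maximalIdeal A).fg_of_isNoetherianRing)
  have hgm : ∀ t, g t ∈ maximalIdeal A := fun t => by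
    rw [← hg]; exact Submodule.subset_span ⟨t, rfl⟩
  let g' : Fin r → AdicCompletion (maximalIdeal A) A := fun t => algebraMap A _ (g t)
  have hg' : ∀ t, g' t ∈ maximalIdeal (AdicCompletion (maximalIdeal A) A) := by
    intro t
    rw [AdicCompletion.maximalIdeal_eq_map]
    exact Ideal.mem_map_of_mem _ (hgm t)
  have hgen' : maximalIdeal (AdicCompletion (maximalIdeal B) B) = Ideal.span (Set.range a) ⊔
      Ideal.span (Set.range fun t => algebraMap (AdicCompletion (maximalIdeal A) A)
        (AdicCompletion (maximalIdeal B) B) (g' t)) := by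
    rw [hgen, hspan]
    congr 1
    have hg'' : maximalIdeal A = Ideal.span (Set.range g) := hg.symm
    have hg3 := congrArg
      (fun I => Ideal.map (algebraMap A (AdicCompletion (maximalIdeal B) B)) I) hg''
    rw [hg3, Ideal.map_span, ← Set.range_comp]
    have hfun : (⇑(algebraMap A (AdicCompletion (maximalIdeal B) B)) ∘ g) =
        fun t => algebraMap (AdicCompletion (maximalIdeal A) A)
          (AdicCompletion (maximalIdeal B) B) (g' t) := by
      funext t
      simp only [Function.comp_apply, g']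
      rw [← IsScalarTower.algebraMap_apply]
    rw [hfun]
  have hres' : ∀ s : AdicCompletion (maximalIdeal B) B,
      ∃ c : AdicCompletion (maximalIdeal A) A,
        s - algebraMap (AdicCompletion (maximalIdeal A) A) _ c ∈
          maximalIdeal (AdicCompletion (maximalIdeal B) B) := by
    intro s
    obtain ⟨c, hc⟩ := hresK (eps _ h𝔮 (π₀ s))
    refine ⟨algebraMap A _ c, ?_⟩
    rw [← IsScalarTower.algebraMap_apply, mem_max_iff _ h𝔮 π₀ hπ₀, map_sub, map_sub, hcompat,
      eps_mk, constantCoeff_C, hc, sub_self]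
  have hsurj : Function.Surjective Ψ := ev_surjective hRS a ha g' hg' hgen' hres'
  -- lifting the quadratic form
  obtain ⟨a₁, ha₁⟩ := hresK a₀
  obtain ⟨b₁, hb₁⟩ := hresK b₀
  obtain ⟨c₁, hc₁⟩ := hresK c₀
  set F₀ : MvPowerSeries (Fin 2) (AdicCompletion (maximalIdeal A) A) :=
    C (algebraMap A _ a₁) * X 0 ^ 2 + C (algebraMap A _ b₁) * X 0 * X 1 +
      C (algebraMap A _ c₁) * X 1 ^ 2 with hF₀
  have hΨC : ∀ x : A, Ψ (C (algebraMap A (AdicCompletion (maximalIdeal A) A) x)) =
      algebraMap A (AdicCompletion (maximalIdeal B) B) x := by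
    intro x
    rw [ev_C, ← IsScalarTower.algebraMap_apply]
  have hΨF₀ : Ψ F₀ ∈ (maximalIdeal A).map
      (algebraMap A (AdicCompletion (maximalIdeal B) B)) := by
    rw [← hker, RingHom.mem_ker, hF₀]
    simp only [map_add, map_mul, map_pow, hΨC]
    rw [ev_X, ev_X, hcompat, hcompat, hcompat, ha₁, hb₁, hc₁]
    change Ideal.Quotient.mk _ (C a₀) * π₀ u ^ 2 + Ideal.Quotient.mk _ (C b₀) * π₀ u * π₀ v +
      Ideal.Quotient.mk _ (C c₀) * π₀ v ^ 2 = 0
    rw [hu, hv]
    simp only [← map_mul, ← map_pow, ← map_add]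
    rw [← hqbar]
    exact Ideal.Quotient.eq_zero_iff_mem.mpr (Ideal.subset_span (Set.mem_singleton _))
  have hΨalg : ∀ x : A, Ψ (algebraMap A _ x) =
      algebraMap A (AdicCompletion (maximalIdeal B) B) x := by
    intro x
    rw [MvPowerSeries.algebraMap_apply]
    exact hΨC x
  have hmap : Ideal.map Ψ.toRingHom ((maximalIdeal A).map (algebraMap A
      (MvPowerSeries (Fin 2) (AdicCompletion (maximalIdeal A) A)))) =
      (maximalIdeal A).map (algebraMap A (AdicCompletion (maximalIdeal B) B)) := by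
    rw [Ideal.map_map]
    congr 1
    exact RingHom.ext fun x => hΨalg x
  rw [← hmap, Ideal.mem_map_iff_of_surjective Ψ.toRingHom hsurj] at hΨF₀
  obtain ⟨G, hG, hGΨ⟩ := hΨF₀
  set F := F₀ - G with hF
  have hΨF : Ψ F = 0 := by
    rw [hF, map_sub]
    exact sub_eq_zero.mpr hGΨ.symm
  -- reduction of `F`
  have hmapG : MvPowerSeries.map qK G = 0 := by
    have hle : (maximalIdeal A).map (algebraMap A
        (MvPowerSeries (Fin 2) (AdicCompletion (maximalIdeal A) A))) ≤
        RingHom.ker (MvPowerSeries.map (σ := Fin 2) qK) := by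
      rw [Ideal.map_le_iff_le_comap]
      intro x hx
      rw [Ideal.mem_comap, RingHom.mem_ker, MvPowerSeries.algebraMap_apply, MvPowerSeries.map_C,
        hqa, (hresK0 x).mpr hx, _root_.map_zero]
    exact hle hG
  have hmapF : MvPowerSeries.map qK F = qbar := by
    rw [hF, map_sub, hmapG, sub_zero, hF₀, hqbar]
    simp only [map_add, map_mul, map_pow, MvPowerSeries.map_C, MvPowerSeries.map_X, hqa, ha₁,
      hb₁, hc₁]
  -- the map from the quotient
  let ψ := Ideal.Quotient.liftₐ (Ideal.span {F}) (Ψ.restrictScalars A) (by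
    intro x hx
    obtain ⟨y, rfl⟩ := Ideal.mem_span_singleton'.mp hx
    rw [AlgHom.restrictScalars_apply, map_mul, hΨF, mul_zero])
  have hψ : ∀ p, ψ (Ideal.Quotient.mk _ p) = Ψ p := fun p => rfl
  have hψs : Function.Surjective ψ := by
    intro s
    obtain ⟨p, hp⟩ := hsurj s
    exact ⟨Ideal.Quotient.mk _ p, (hψ p).trans hp⟩
  have hI : Ideal.span {qbar} = Ideal.span {MvPowerSeries.map qK F} := by rw [hmapF]
  let π₀' := (Ideal.quotEquivOfEq hI).toRingHom.comp π₀
  have hπ₀' : Function.Surjective π₀' := (Ideal.quotEquivOfEq hI).surjective.comp hπ₀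
  have hπ₀k : ∀ b ∈ (maximalIdeal A).map (algebraMap A (AdicCompletion (maximalIdeal B) B)),
      π₀' b = 0 := by
    intro b hb
    rw [← hker] at hb
    change (Ideal.quotEquivOfEq hI) (π₀ b) = 0
    rw [show π₀ b = 0 from hb, _root_.map_zero]
  have hinj : Function.Injective ψ := injective_general qK hqs hq0 F ψ hψs π₀' hπ₀' hπ₀k
  exact ⟨qK, F, hq0, hmapF, ⟨(AlgEquiv.ofBijective ψ ⟨hinj, hψs⟩).symm⟩⟩

include hresK hresK0 in
theorem node_quad_of_pi (a₀ b₀ c₀ : K) (hdisc : b₀ ^ 2 - 4 * a₀ * c₀ ≠ 0)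
    (qbar : MvPowerSeries (Fin 2) K)
    (hqbar : qbar = C a₀ * X 0 ^ 2 + C b₀ * X 0 * X 1 + C c₀ * X 1 ^ 2)
    (π₀ : AdicCompletion (maximalIdeal B) B →+* (MvPowerSeries (Fin 2) K ⧸
      Ideal.span {qbar}))
    (hπ₀ : Function.Surjective π₀)
    (hker : RingHom.ker π₀ =
      (maximalIdeal A).map (algebraMap A (AdicCompletion (maximalIdeal B) B)))
    (hcompat : ∀ a : A, π₀ (algebraMap A _ a) = Ideal.Quotient.mk _ (C (resK a))) :
    ∃ a b c : AdicCompletion (maximalIdeal A) A, IsUnit (b ^ 2 - 4 * a * c) ∧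
      ∃ h ∈ maximalIdeal (AdicCompletion (maximalIdeal A) A),
        Nonempty (AdicCompletion (maximalIdeal B) B ≃ₐ[A]
          (MvPowerSeries (Fin 2) (AdicCompletion (maximalIdeal A) A) ⧸
            Ideal.span {(C a * X 0 ^ 2 + C b * X 0 * X 1 + C c * X 1 ^ 2 - C h :
              MvPowerSeries (Fin 2) (AdicCompletion (maximalIdeal A) A))})) := by
  classical
  obtain ⟨qK, F, hq0, hmapF, ⟨E₁⟩⟩ := exists_presentation A B resK hresK hresK0 a₀ b₀ c₀ qbar
    hqbar π₀ hπ₀ hker hcompat
  have hcoef : ∀ e, qK (coeff e F) = coeff e qbar := fun e => by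
    rw [← hmapF, MvPowerSeries.coeff_map]
  let q₀ : Fin 2 → Fin 2 → K := fun i j =>
    if i = 0 ∧ j = 0 then a₀ else if i = 0 ∧ j = 1 then b₀ else if i = 1 ∧ j = 1 then c₀ else 0
  have hq₀ : qbar = ((quadPoly q₀ : MvPolynomial (Fin 2) K) : MvPowerSeries (Fin 2) K) := by
    rw [coe_quadPoly_two, hqbar]
    simp [q₀]
  have hmem : ∀ x : AdicCompletion (maximalIdeal A) A,
      x ∈ maximalIdeal (AdicCompletion (maximalIdeal A) A) ↔ qK x = 0 := fun x => by
    rw [hq0, AdicCompletion.maximalIdeal_eq_map]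
  have ha : constantCoeff F ∈ maximalIdeal (AdicCompletion (maximalIdeal A) A) := by
    rw [hmem, ← coeff_zero_eq_constantCoeff_apply, hcoef, hq₀, (homDeg_quadPoly q₀) 0 (by simp)]
  have hℓ : ∀ i, coeff (single i 1) F ∈ maximalIdeal (AdicCompletion (maximalIdeal A) A) := by
    intro i
    rw [hmem, hcoef, hq₀, (homDeg_quadPoly q₀) _ (by rw [degree_single]; norm_num)]
  have hquad : ∀ i j : Fin 2, i ≤ j → qK (quadPart F i j) = q₀ i j := by
    intro i j hij
    unfold quadPart
    rcases hij.eq_or_lt with rfl | hlt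
    · rw [if_pos rfl, hcoef, hq₀, MvPolynomial.coeff_coe,
        show (single i 2 : Fin 2 →₀ ℕ) = single i 1 + single i 1 by rw [← single_add],
        coeff_quadPoly _ le_rfl]
    · rw [if_neg (ne_of_lt hlt), if_pos hlt, hcoef, hq₀, MvPolynomial.coeff_coe,
        coeff_quadPoly _ hij]
  have hdet : ∀ q : Fin 2 → Fin 2 → AdicCompletion (maximalIdeal A) A,
      (polarMatrix q).det = 4 * q 0 0 * q 1 1 - q 0 1 ^ 2 := by
    intro q
    rw [Matrix.det_fin_two]
    simp [polarMatrix]
    ring
  have hq : QuadNondeg (quadPart F) := by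
    unfold QuadNondeg
    by_contra hnu
    have hm : (polarMatrix (quadPart F)).det ∈
        maximalIdeal (AdicCompletion (maximalIdeal A) A) := hnu
    rw [hmem, hdet, map_sub, map_mul, map_mul, map_pow, hquad 0 0 le_rfl, hquad 1 1 le_rfl,
      hquad 0 1 (by decide)] at hm
    simp only [q₀] at hm
    apply hdisc
    have h4 : qK 4 = 4 := map_ofNat qK 4
    rw [h4] at hm
    simp at hm
    linear_combination -hm
  obtain ⟨a', q', ha', hq', ⟨E₂⟩⟩ := morse_complete (quadPart F) hq (constantCoeff F) ha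
    (fun i => coeff (single i 1) F) hℓ F (coeff_eq_coeff_Fpol F)
  have hIeq : Ideal.span {((quadPoly q' + MvPolynomial.C a' :
      MvPolynomial (Fin 2) (AdicCompletion (maximalIdeal A) A)) :
        MvPowerSeries (Fin 2) (AdicCompletion (maximalIdeal A) A))} =
      Ideal.span {(C (q' 0 0) * X 0 ^ 2 + C (q' 0 1) * X 0 * X 1 + C (q' 1 1) * X 1 ^ 2 -
        C (-a') : MvPowerSeries (Fin 2) (AdicCompletion (maximalIdeal A) A))} := by
    rw [MvPolynomial.coe_add, coe_quadPoly_two, MvPolynomial.coe_C, map_neg, sub_neg_eq_add]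
  refine ⟨q' 0 0, q' 0 1, q' 1 1, ?_, -a', neg_mem ha',
    ⟨E₁.trans ((E₂.restrictScalars A).trans (Ideal.quotientEquivAlgOfEq A hIeq))⟩⟩
  unfold QuadNondeg at hq'
  rw [hdet] at hq'
  have := hq'.neg
  rwa [neg_sub] at this

include hresK hresK0 in
theorem node_quad_core (F : Type u) [CommRing F] [IsLocalRing F]
    (φ : B →+* F) (hφ : Function.Surjective φ)
    (hker : RingHom.ker φ = (maximalIdeal A).map (algebraMap A B))
    (j : K →+* F) (hj : ∀ a, φ (algebraMap A B a) = j (resK a))
    (a₀ b₀ c₀ : K) (hdisc : b₀ ^ 2 - 4 * a₀ * c₀ ≠ 0)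
    (e : AdicCompletion (maximalIdeal F) F ≃+* (MvPowerSeries (Fin 2) K ⧸
      Ideal.span {(C a₀ * X 0 ^ 2 + C b₀ * X 0 * X 1 + C c₀ * X 1 ^ 2 :
        MvPowerSeries (Fin 2) K)}))
    (he : ∀ c, e (algebraMap F _ (j c)) = Ideal.Quotient.mk _ (C c)) :
    ∃ a b c : AdicCompletion (maximalIdeal A) A, IsUnit (b ^ 2 - 4 * a * c) ∧
      ∃ h ∈ maximalIdeal (AdicCompletion (maximalIdeal A) A),
        Nonempty (AdicCompletion (maximalIdeal B) B ≃ₐ[A]
          (MvPowerSeries (Fin 2) (AdicCompletion (maximalIdeal A) A) ⧸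
            Ideal.span {(C a * X 0 ^ 2 + C b * X 0 * X 1 + C c * X 1 ^ 2 - C h :
              MvPowerSeries (Fin 2) (AdicCompletion (maximalIdeal A) A))})) := by
  obtain ⟨π₀, h1, h2, h3⟩ := exists_pi_of_fibre A B resK F φ hφ hker j hj _ e he
  exact node_quad_of_pi A B resK hresK hresK0 a₀ b₀ c₀ hdisc _ rfl π₀ h1 h2 h3

end Main

end Groth.Agent.Lib.Helper63.NodeQuad
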