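import Mathlib
import Groth.Agent.Lib.Helper90.PSIdeal
import Groth.Agent.Lib.Helper63.LTKey
import Groth.Agent.Lib.Helper63.Morse

/-!
# The node `K[[x,y]]/(a x² + b xy + c y²)` is reduced (helper63)

For a field `K` and a nondegenerate binary quadratic form `Q = a x² + b xy + c y²`
(`4ac - b² ≠ 0`) we show that the ideal `(Q)` of `K[[x,y]]` is radical, that `x, y` are
independent modulo `𝔪² + (Q)` and that `𝔪² ⊆ ℓ𝔪 + (Q)` for a suitable linear form `ℓ`
(the node has minimal multiplicity).
-/

set_option autoImplicit false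
universe u

namespace Groth.Agent.Lib.Helper63.NodeRed

section Poly

open MvPolynomial

variable {K : Type u} [Field K] (a b c : K)

/-- the binary quadratic form as a polynomial -/
noncomputable def Qp : MvPolynomial (Fin 2) K :=
  C a * X 0 ^ 2 + C b * X 0 * X 1 + C c * X 1 ^ 2

lemma pderiv_zero_Qp : pderiv 0 (Qp a b c) = C (2 * a) * X 0 + C b * X 1 := by
  unfold Qp
  simp only [map_add, Derivation.leibniz, Derivation.leibniz_pow, pderiv_C, pderiv_X_self,
    pderiv_X_of_ne (show (1 : Fin 2) ≠ 0 by decide), smul_eq_mul, map_mul]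
  simp only [map_ofNat]
  simp
  ring

lemma pderiv_one_Qp : pderiv 1 (Qp a b c) = C b * X 0 + C (2 * c) * X 1 := by
  unfold Qp
  simp only [map_add, Derivation.leibniz, Derivation.leibniz_pow, pderiv_C, pderiv_X_self,
    pderiv_X_of_ne (show (0 : Fin 2) ≠ 1 by decide), smul_eq_mul, map_mul]
  simp only [map_ofNat]
  simp
  ring

variable {a b c}

lemma dvd_X_of_sq_dvd (hdisc : 4 * a * c - b ^ 2 ≠ 0) {x : MvPolynomial (Fin 2) K}
    (hx : x * x ∣ Qp a b c) (i : Fin 2) : x ∣ X i := by
  obtain ⟨w, hw⟩ := hx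
  have hd : ∀ j, x ∣ pderiv j (Qp a b c) := by
    intro j
    refine ⟨x * pderiv j w + 2 * w * pderiv j x, ?_⟩
    rw [hw]
    simp only [Derivation.leibniz, smul_eq_mul]
    ring
  have h0 := hd 0
  have h1 := hd 1
  rw [pderiv_zero_Qp] at h0
  rw [pderiv_one_Qp] at h1
  have hu : (C (4 * a * c - b ^ 2) : MvPolynomial (Fin 2) K) * C (4 * a * c - b ^ 2)⁻¹ = 1 := by
    rw [← C_mul, mul_inv_cancel₀ hdisc, C_1]
  fin_cases i
  · have h : x ∣ C (2 * c) * (C (2 * a) * X 0 + C b * X 1) - C b * (C b * X 0 + C (2 * c) * X 1) :=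
      dvd_sub (Dvd.dvd.mul_left h0 _) (Dvd.dvd.mul_left h1 _)
    have e : C (2 * c) * (C (2 * a) * X 0 + C b * X 1) - C b * (C b * X 0 + C (2 * c) * X 1) =
        C (4 * a * c - b ^ 2) * (X 0 : MvPolynomial (Fin 2) K) := by
      simp only [map_sub, map_mul, map_pow, map_ofNat]
      ring
    rw [e] at h
    have := Dvd.dvd.mul_left h (C (4 * a * c - b ^ 2)⁻¹)
    rwa [← mul_assoc, mul_comm (C _) (C _), hu, one_mul] at this
  · have h : x ∣ C (2 * a) * (C b * X 0 + C (2 * c) * X 1) - C b * (C (2 * a) * X 0 + C b * X 1) :=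
      dvd_sub (Dvd.dvd.mul_left h1 _) (Dvd.dvd.mul_left h0 _)
    have e : C (2 * a) * (C b * X 0 + C (2 * c) * X 1) - C b * (C (2 * a) * X 0 + C b * X 1) =
        C (4 * a * c - b ^ 2) * (X 1 : MvPolynomial (Fin 2) K) := by
      simp only [map_sub, map_mul, map_pow, map_ofNat]
      ring
    rw [e] at h
    have := Dvd.dvd.mul_left h (C (4 * a * c - b ^ 2)⁻¹)
    rwa [← mul_assoc, mul_comm (C _) (C _), hu, one_mul] at this

lemma squarefree_Qp (hdisc : 4 * a * c - b ^ 2 ≠ 0) : Squarefree (Qp a b c) := by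
  intro x hx
  have h0 := dvd_X_of_sq_dvd hdisc hx 0
  have h1 := dvd_X_of_sq_dvd hdisc hx 1
  rcases ((X_prime (R := K) (i := (0 : Fin 2))).irreducible.dvd_iff).mp h0 with h | h
  · exact h
  · exfalso
    have : (X 0 : MvPolynomial (Fin 2) K) ∣ X 1 := h.dvd.trans h1
    rw [X_dvd_X] at this
    exact absurd this (by decide)

lemma Qp_dvd_of_dvd_sq (hdisc : 4 * a * c - b ^ 2 ≠ 0) {F : MvPolynomial (Fin 2) K}
    (h : Qp a b c ∣ F * F) : Qp a b c ∣ F := by
  have := (squarefree_Qp hdisc).isRadical 2 F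
  rw [pow_two] at this
  exact this h

end Poly

section Series

open MvPowerSeries Finsupp Groth.Agent.Lib.Helper63.LT

variable {K : Type u} [Field K] (a b c : K)

/-- the binary quadratic form as a power series -/
noncomputable def Qs : MvPowerSeries (Fin 2) K :=
  C a * X 0 ^ 2 + C b * X 0 * X 1 + C c * X 1 ^ 2

lemma coe_Qp : ((Qp a b c : MvPolynomial (Fin 2) K) : MvPowerSeries (Fin 2) K) = Qs a b c := by
  unfold Qp Qs
  simp only [MvPolynomial.coe_add, MvPolynomial.coe_mul, MvPolynomial.coe_pow, MvPolynomial.coe_C,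
    MvPolynomial.coe_X]

lemma isHomogeneous_Qs : (Qs a b c).IsHomogeneous 2 := by
  rw [← coe_Qp]
  have hp : (Qp a b c).IsHomogeneous 2 := by
    unfold Qp
    refine MvPolynomial.IsHomogeneous.add (MvPolynomial.IsHomogeneous.add ?_ ?_) ?_
    · have := (MvPolynomial.isHomogeneous_C (Fin 2) a).mul
        ((MvPolynomial.isHomogeneous_X K (0 : Fin 2)).pow 2)
      simpa using this
    · have := ((MvPolynomial.isHomogeneous_C (Fin 2) b).mul
        (MvPolynomial.isHomogeneous_X K (0 : Fin 2))).mul (MvPolynomial.isHomogeneous_X K (1 : Fin 2))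
      simpa using this
    · have := (MvPolynomial.isHomogeneous_C (Fin 2) c).mul
        ((MvPolynomial.isHomogeneous_X K (1 : Fin 2)).pow 2)
      simpa using this
  intro d hd
  rw [MvPolynomial.coeff_coe] at hd
  exact hp hd


/-- multiplication by a homogeneous element shifts homogeneous components -/
lemma homogeneousComponent_mul_of_isHomogeneous {σ : Type*} {R : Type*} [CommSemiring R]
    {F h : MvPowerSeries σ R} {p : ℕ} (q : ℕ) (hF : F.IsHomogeneous p) :
    homogeneousComponent (p + q) (F * h) = F * homogeneousComponent q h := by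
  classical
  ext d
  rw [coeff_homogeneousComponent, coeff_mul, coeff_mul]
  split_ifs with hd
  · refine Finset.sum_congr rfl fun x hx => ?_
    have hx := Finset.HasAntidiagonal.mem_antidiagonal.mp hx
    by_cases h1 : degree x.1 = p
    · have h2 : degree x.2 = q := by
        have := congrArg degree hx
        rw [map_add] at this
        omega
      rw [coeff_homogeneousComponent, if_pos h2]
    · rw [hF.coeff_eq_zero h1, zero_mul, zero_mul]
  · symm
    refine Finset.sum_eq_zero fun x hx => ?_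
    have hx := Finset.HasAntidiagonal.mem_antidiagonal.mp hx
    by_cases h1 : degree x.1 = p
    · have h2 : degree x.2 ≠ q := by
        have := congrArg degree hx
        rw [map_add] at this
        omega
      rw [coeff_homogeneousComponent, if_neg h2, mul_zero]
    · rw [hF.coeff_eq_zero h1, zero_mul]

/-- a homogeneous power series in finitely many variables is a polynomial -/
lemma coe_truncTotal_homogeneousComponent {σ : Type*} [Finite σ] {R : Type*} [CommSemiring R]
    (n : ℕ) (f : MvPowerSeries σ R) :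
    ((truncTotal (n + 1) (homogeneousComponent n f) : MvPolynomial σ R) : MvPowerSeries σ R) =
      homogeneousComponent n f := by
  ext d
  rw [MvPolynomial.coeff_coe, coeff_truncTotal_eq_ite]
  split_ifs with hd
  · rfl
  · rw [coeff_homogeneousComponent, if_neg (by omega)]

variable {a b c}

lemma constantCoeff_Qs : constantCoeff (Qs a b c) = 0 := by
  unfold Qs
  simp

/-- key divisibility step: if `r² ∈ (Q)` and `r` has order `≥ n` then `Q` divides the
degree `n` part of `r` -/
lemma exists_homogeneousComponent_eq (hdisc : 4 * a * c - b ^ 2 ≠ 0) (n : ℕ)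
    (r h : MvPowerSeries (Fin 2) K) (hr : (n : ℕ∞) ≤ r.order) (hh : r * r = Qs a b c * h) :
    ∃ G : MvPowerSeries (Fin 2) K, homogeneousComponent n r = Qs a b c * G := by
  have hmul : homogeneousComponent n r * homogeneousComponent n r =
      homogeneousComponent (n + n) (Qs a b c * h) := by
    rw [← hh, homogeneousComponent_mul_of_le_order hr hr]
  rcases n with _ | m
  · refine ⟨0, ?_⟩
    rw [mul_zero]
    have h0 : homogeneousComponent (0 + 0) (Qs a b c * h) = 0 := by
      ext d
      rw [coeff_homogeneousComponent, map_zero]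
      split_ifs with hd
      · have hd0 : d = 0 := by
          rw [add_zero] at hd
          exact (Finsupp.degree_eq_zero_iff d).mp hd
        rw [hd0, coeff_zero_eq_constantCoeff_apply, map_mul, constantCoeff_Qs, zero_mul]
      · rfl
    rw [h0] at hmul
    exact mul_self_eq_zero.mp hmul
  · have e : m + 1 + (m + 1) = 2 + 2 * m := by ring
    rw [e, homogeneousComponent_mul_of_isHomogeneous (2 * m) (isHomogeneous_Qs a b c)] at hmul
    set F : MvPolynomial (Fin 2) K := truncTotal (m + 1 + 1) (homogeneousComponent (m + 1) r)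
      with hF
    set H : MvPolynomial (Fin 2) K := truncTotal (2 * m + 1) (homogeneousComponent (2 * m) h)
      with hH
    have hFc : (F : MvPowerSeries (Fin 2) K) = homogeneousComponent (m + 1) r :=
      coe_truncTotal_homogeneousComponent (m + 1) r
    have hHc : (H : MvPowerSeries (Fin 2) K) = homogeneousComponent (2 * m) h :=
      coe_truncTotal_homogeneousComponent (2 * m) h
    have hpoly : F * F = Qp a b c * H := by
      apply MvPolynomial.coe_injective
      rw [MvPolynomial.coe_mul, MvPolynomial.coe_mul, hFc, hHc, coe_Qp]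
      exact hmul
    obtain ⟨G, hG⟩ := Qp_dvd_of_dvd_sq hdisc ⟨H, hpoly⟩
    refine ⟨(G : MvPowerSeries (Fin 2) K), ?_⟩
    rw [← hFc, hG, MvPolynomial.coe_mul, coe_Qp]

/-- successive approximation: `f` lies in `(Q) + 𝔪ⁿ` for all `n` -/
lemma exists_approx (hdisc : 4 * a * c - b ^ 2 ≠ 0) (f : MvPowerSeries (Fin 2) K)
    (hf : f * f ∈ Ideal.span {Qs a b c}) (n : ℕ) :
    ∃ g : MvPowerSeries (Fin 2) K, (n : ℕ∞) ≤ (f - Qs a b c * g).order := by
  induction n with
  | zero => exact ⟨0, by simp⟩
  | succ n ih =>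
    obtain ⟨g, hg⟩ := ih
    obtain ⟨w, hw⟩ := Ideal.mem_span_singleton'.mp hf
    have hh : (f - Qs a b c * g) * (f - Qs a b c * g) =
        Qs a b c * (w - 2 * f * g + Qs a b c * g * g) := by
      have : (f - Qs a b c * g) * (f - Qs a b c * g) =
          f * f - Qs a b c * (2 * f * g) + Qs a b c * (Qs a b c * g * g) := by ring
      rw [this, ← hw]
      ring
    obtain ⟨G, hG⟩ := exists_homogeneousComponent_eq hdisc n _ _ hg hh
    refine ⟨g + G, ?_⟩
    have := le_order_sub_homogeneousComponent hg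
    rw [hG] at this
    have e : f - Qs a b c * (g + G) = f - Qs a b c * g - Qs a b c * G := by ring
    rw [e]
    exact this

/-- the ideal `(Q)` is radical -/
theorem mem_span_of_sq_mem (hdisc : 4 * a * c - b ^ 2 ≠ 0) (f : MvPowerSeries (Fin 2) K)
    (hf : f * f ∈ Ideal.span {Qs a b c}) : f ∈ Ideal.span {Qs a b c} := by
  set I : Ideal (MvPowerSeries (Fin 2) K) := Ideal.span {Qs a b c} with hI
  have hkrull := Ideal.iInf_pow_smul_eq_bot_of_isLocalRing
    (R := MvPowerSeries (Fin 2) K) (M := MvPowerSeries (Fin 2) K ⧸ I)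
    (IsLocalRing.maximalIdeal (MvPowerSeries (Fin 2) K)) Ideal.IsPrime.ne_top'
  have hmem : (Submodule.Quotient.mk f : MvPowerSeries (Fin 2) K ⧸ I) ∈
      (⨅ i : ℕ, IsLocalRing.maximalIdeal (MvPowerSeries (Fin 2) K) ^ i •
        (⊤ : Submodule (MvPowerSeries (Fin 2) K) (MvPowerSeries (Fin 2) K ⧸ I))) := by
    rw [Submodule.mem_iInf]
    intro i
    obtain ⟨g, hg⟩ := exists_approx hdisc f hf i
    have h1 : f - Qs a b c * g ∈ IsLocalRing.maximalIdeal (MvPowerSeries (Fin 2) K) ^ i := by
      rw [Groth.Agent.Lib.Helper90.PSIdeal.maximalIdeal_eq_span_X,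
        Groth.Agent.Lib.Helper90.PSIdeal.mem_pow_iff]
      intro d hd
      exact coeff_of_lt_order (lt_of_lt_of_le (by exact_mod_cast hd) hg)
    have h2 : (Submodule.Quotient.mk f : MvPowerSeries (Fin 2) K ⧸ I) =
        (f - Qs a b c * g) • (Submodule.Quotient.mk 1 : MvPowerSeries (Fin 2) K ⧸ I) := by
      rw [← Submodule.Quotient.mk_smul, smul_eq_mul, mul_one]
      rw [Submodule.Quotient.eq]
      have : f - (f - Qs a b c * g) = Qs a b c * g := by ring
      rw [this]
      exact Ideal.mul_mem_right _ _ (Ideal.subset_span rfl)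
    rw [h2]
    exact Submodule.smul_mem_smul h1 Submodule.mem_top
  rw [hkrull, Submodule.mem_bot] at hmem
  exact (Submodule.Quotient.mk_eq_zero I).mp hmem

/-- the node is reduced -/
theorem isReduced_node (hdisc : 4 * a * c - b ^ 2 ≠ 0) :
    IsReduced (MvPowerSeries (Fin 2) K ⧸ Ideal.span {Qs a b c}) := by
  rw [isReduced_iff_pow_one_lt 2 (by norm_num)]
  intro x hx
  obtain ⟨f, rfl⟩ := Ideal.Quotient.mk_surjective x
  rw [← map_pow, Ideal.Quotient.eq_zero_iff_mem, pow_two] at hx
  rw [Ideal.Quotient.eq_zero_iff_mem]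
  exact mem_span_of_sq_mem hdisc f hx


/-! ## Independence of `x, y` modulo `𝔪² + (Q)` -/

lemma Qs_mem_sq : Qs a b c ∈ IsLocalRing.maximalIdeal (MvPowerSeries (Fin 2) K) ^ 2 := by
  rw [Groth.Agent.Lib.Helper90.PSIdeal.maximalIdeal_eq_span_X,
    Groth.Agent.Lib.Helper90.PSIdeal.mem_pow_iff]
  intro d hd
  exact MvPowerSeries.IsHomogeneous.coeff_eq_zero (isHomogeneous_Qs a b c) (by omega)

lemma constantCoeff_eq_zero_of_mem (p q : MvPowerSeries (Fin 2) K)
    (h : p * X 0 + q * X 1 ∈ IsLocalRing.maximalIdeal (MvPowerSeries (Fin 2) K) ^ 2 ⊔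
      Ideal.span {Qs a b c}) :
    constantCoeff p = 0 ∧ constantCoeff q = 0 := by
  have hle : IsLocalRing.maximalIdeal (MvPowerSeries (Fin 2) K) ^ 2 ⊔ Ideal.span {Qs a b c} ≤
      IsLocalRing.maximalIdeal (MvPowerSeries (Fin 2) K) ^ 2 :=
    sup_le le_rfl ((Ideal.span_singleton_le_iff_mem _).mpr Qs_mem_sq)
  have h' := hle h
  rw [Groth.Agent.Lib.Helper90.PSIdeal.maximalIdeal_eq_span_X,
    Groth.Agent.Lib.Helper90.PSIdeal.mem_pow_iff] at h'
  have h2 : ((1 + 1 : ℕ) : ℕ∞) ≤ (p * X 0 + q * X 1).order :=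
    MvPowerSeries.le_order fun d hd => h' d (by exact_mod_cast hd)
  have key : ∀ i : Fin 2, constantCoeff (pderiv K i (p * X 0 + q * X 1)) = 0 := by
    intro i
    have h3 := Groth.Agent.Lib.Helper63.Morse.le_order_pderiv h2 i
    rw [← coeff_zero_eq_constantCoeff_apply]
    exact coeff_of_lt_order (lt_of_lt_of_le (by simp) h3)
  constructor
  · have := key 0
    rw [map_add, Derivation.leibniz, Derivation.leibniz, pderiv_X_self,
      pderiv_X_of_ne (show (1 : Fin 2) ≠ 0 by decide)] at this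
    simpa using this
  · have := key 1
    rw [map_add, Derivation.leibniz, Derivation.leibniz, pderiv_X_self,
      pderiv_X_of_ne (show (0 : Fin 2) ≠ 1 by decide)] at this
    simpa using this

/-! ## Minimal multiplicity: `𝔪² ⊆ ℓ𝔪 + (Q)` -/

lemma maximalIdeal_eq_span_pair : IsLocalRing.maximalIdeal (MvPowerSeries (Fin 2) K) =
    Ideal.span {X 0, X 1} := by
  rw [Groth.Agent.Lib.Helper90.PSIdeal.maximalIdeal_eq_span_X]
  congr 1
  ext x
  simp only [Set.mem_range, Fin.exists_fin_two, Set.mem_insert_iff, Set.mem_singleton_iff]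
  constructor
  · rintro (h | h)
    · exact Or.inl h.symm
    · exact Or.inr h.symm
  · rintro (h | h)
    · exact Or.inl h.symm
    · exact Or.inr h.symm

theorem exists_reduction (hdisc : 4 * a * c - b ^ 2 ≠ 0) :
    ∃ ℓ ∈ IsLocalRing.maximalIdeal (MvPowerSeries (Fin 2) K),
      IsLocalRing.maximalIdeal (MvPowerSeries (Fin 2) K) ^ 2 ≤
        Ideal.span {ℓ} * IsLocalRing.maximalIdeal (MvPowerSeries (Fin 2) K) ⊔
          Ideal.span {Qs a b c} := by
  have hX0 : (X 0 : MvPowerSeries (Fin 2) K) ∈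
      IsLocalRing.maximalIdeal (MvPowerSeries (Fin 2) K) := by
    rw [maximalIdeal_eq_span_pair]; exact Ideal.subset_span (by simp)
  have hX1 : (X 1 : MvPowerSeries (Fin 2) K) ∈
      IsLocalRing.maximalIdeal (MvPowerSeries (Fin 2) K) := by
    rw [maximalIdeal_eq_span_pair]; exact Ideal.subset_span (by simp)
  have hsq : IsLocalRing.maximalIdeal (MvPowerSeries (Fin 2) K) ^ 2 =
      Ideal.span {X 0 * X 0, X 0 * X 1, X 1 * X 0, X 1 * X 1} := by
    rw [pow_two, maximalIdeal_eq_span_pair, Ideal.span_pair_mul_span_pair]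
  -- membership helper
  have hmem : ∀ (ℓ m r : MvPowerSeries (Fin 2) K),
      m ∈ IsLocalRing.maximalIdeal (MvPowerSeries (Fin 2) K) →
      ℓ * m + r * Qs a b c ∈
        Ideal.span {ℓ} * IsLocalRing.maximalIdeal (MvPowerSeries (Fin 2) K) ⊔
          Ideal.span {Qs a b c} := fun ℓ m r hm =>
    Ideal.add_mem _ (Ideal.mem_sup_left (Ideal.mul_mem_mul (Ideal.subset_span rfl) hm))
      (Ideal.mem_sup_right (Ideal.mul_mem_left _ _ (Ideal.subset_span rfl)))
  by_cases ha : a = 0
  · by_cases hc : c = 0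
    · -- `Q = b x y`
      have hb : b ≠ 0 := by
        rintro rfl
        apply hdisc
        rw [ha, hc]
        ring
      refine ⟨X 0 + X 1, Ideal.add_mem _ hX0 hX1, ?_⟩
      have hxy : (X 0 * X 1 : MvPowerSeries (Fin 2) K) = C b⁻¹ * Qs a b c := by
        unfold Qs
        rw [ha, hc]
        simp only [map_zero, zero_mul, add_zero, zero_add]
        rw [← mul_assoc, ← mul_assoc, ← map_mul, inv_mul_cancel₀ hb, map_one, one_mul]
      rw [hsq, Ideal.span_le]
      rintro z (rfl | rfl | rfl | rfl)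
      · have e : (X 0 * X 0 : MvPowerSeries (Fin 2) K) =
            (X 0 + X 1) * X 0 + (-C b⁻¹) * Qs a b c := by
          rw [neg_mul, ← hxy]; ring
        rw [e]
        exact hmem _ _ _ hX0
      · have e : (X 0 * X 1 : MvPowerSeries (Fin 2) K) =
            (X 0 + X 1) * 0 + (C b⁻¹) * Qs a b c := by
          rw [← hxy]; ring
        rw [e]
        exact hmem _ _ _ (Ideal.zero_mem _)
      · have e : (X 1 * X 0 : MvPowerSeries (Fin 2) K) =
            (X 0 + X 1) * 0 + (C b⁻¹) * Qs a b c := by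
          rw [← hxy]; ring
        rw [e]
        exact hmem _ _ _ (Ideal.zero_mem _)
      · have e : (X 1 * X 1 : MvPowerSeries (Fin 2) K) =
            (X 0 + X 1) * X 1 + (-C b⁻¹) * Qs a b c := by
          rw [neg_mul, ← hxy]; ring
        rw [e]
        exact hmem _ _ _ hX1
    · -- `c ≠ 0`, take `ℓ = x`
      refine ⟨X 0, hX0, ?_⟩
      have hyy : (X 1 * X 1 : MvPowerSeries (Fin 2) K) =
          X 0 * (-(C (c⁻¹ * a) * X 0 + C (c⁻¹ * b) * X 1)) + C c⁻¹ * Qs a b c := by
        unfold Qs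
        have h1 : (C c⁻¹ * C c : MvPowerSeries (Fin 2) K) = 1 := by
          rw [← map_mul, inv_mul_cancel₀ hc, map_one]
        simp only [map_mul]
        linear_combination (-(X 1 * X 1 : MvPowerSeries (Fin 2) K)) * h1
      rw [hsq, Ideal.span_le]
      rintro z (rfl | rfl | rfl | rfl)
      · have e : (X 0 * X 0 : MvPowerSeries (Fin 2) K) = X 0 * X 0 + 0 * Qs a b c := by ring
        rw [e]
        exact hmem _ _ _ hX0
      · have e : (X 0 * X 1 : MvPowerSeries (Fin 2) K) = X 0 * X 1 + 0 * Qs a b c := by ring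
        rw [e]
        exact hmem _ _ _ hX1
      · have e : (X 1 * X 0 : MvPowerSeries (Fin 2) K) = X 0 * X 1 + 0 * Qs a b c := by ring
        rw [e]
        exact hmem _ _ _ hX1
      · rw [hyy]
        exact hmem _ _ _ (neg_mem (Ideal.add_mem _ (Ideal.mul_mem_left _ _ hX0)
          (Ideal.mul_mem_left _ _ hX1)))
  · -- `a ≠ 0`, take `ℓ = y`
    refine ⟨X 1, hX1, ?_⟩
    have hxx : (X 0 * X 0 : MvPowerSeries (Fin 2) K) =
        X 1 * (-(C (a⁻¹ * b) * X 0 + C (a⁻¹ * c) * X 1)) + C a⁻¹ * Qs a b c := by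
      unfold Qs
      have h1 : (C a⁻¹ * C a : MvPowerSeries (Fin 2) K) = 1 := by
        rw [← map_mul, inv_mul_cancel₀ ha, map_one]
      simp only [map_mul]
      linear_combination (-(X 0 * X 0 : MvPowerSeries (Fin 2) K)) * h1
    rw [hsq, Ideal.span_le]
    rintro z (rfl | rfl | rfl | rfl)
    · rw [hxx]
      exact hmem _ _ _ (neg_mem (Ideal.add_mem _ (Ideal.mul_mem_left _ _ hX0)
        (Ideal.mul_mem_left _ _ hX1)))
    · have e : (X 0 * X 1 : MvPowerSeries (Fin 2) K) = X 1 * X 0 + 0 * Qs a b c := by ring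
      rw [e]
      exact hmem _ _ _ hX0
    · have e : (X 1 * X 0 : MvPowerSeries (Fin 2) K) = X 1 * X 0 + 0 * Qs a b c := by ring
      rw [e]
      exact hmem _ _ _ hX0
    · have e : (X 1 * X 1 : MvPowerSeries (Fin 2) K) = X 1 * X 1 + 0 * Qs a b c := by ring
      rw [e]
      exact hmem _ _ _ hX1

end Series

end Groth.Agent.Lib.Helper63.NodeRed
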