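import Mathlib
import Groth.Agent.Lib.Helper90.PSSurj
import Groth.Agent.Lib.Helper63.NodeQuad
import Groth.Agent.Lib.Helper63.NodeRed

/-!
# Algebraic characterisation of nodes: the complete case (helper63)

Let `B` be a complete Noetherian local ring with a coefficient field `K`, of embedding dimension
two, of positive depth, whose maximal ideal is generated by `x, y` with
`a x² + b xy + c y² ∈ 𝔪³` for a nondegenerate form.  Then `B ≅ K[[u,v]]/(a'u² + b'uv + c'v²)`
for a nondegenerate form.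
-/

set_option autoImplicit false
set_option linter.style.haveILetI false
universe u

namespace Groth.Agent.Lib.Helper63.NodeAlg

open IsLocalRing MvPowerSeries Finsupp VanCyc Groth.Agent.Lib.Helper63.NodeRed
  Groth.Agent.Lib.Helper63.MorseComplete Groth.Agent.Lib.Helper63.NodeQuad
  Groth.Agent.Lib.Helper63.MorseRel

/-- Morse lemma over a field in the form needed -/
theorem morse_field {K : Type u} [Field K] (a b c : K) (hdisc : 4 * a * c - b ^ 2 ≠ 0)
    (h : MvPowerSeries (Fin 2) K)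
    (hh : h ∈ maximalIdeal (MvPowerSeries (Fin 2) K) ^ 3) :
    ∃ a' b' c' : K, 4 * a' * c' - b' ^ 2 ≠ 0 ∧
      Nonempty ((MvPowerSeries (Fin 2) K ⧸ Ideal.span {Qs a b c - h}) ≃ₐ[K]
        (MvPowerSeries (Fin 2) K ⧸ Ideal.span {Qs a' b' c'})) := by
  classical
  haveI : IsAdicComplete (maximalIdeal K) K := by
    rw [IsLocalRing.maximalIdeal_eq_bot]; infer_instance
  set F := Qs a b c - h with hF
  have hh' : ∀ d : Fin 2 →₀ ℕ, d.degree < 3 → coeff d h = 0 := by
    rw [Groth.Agent.Lib.Helper90.PSIdeal.maximalIdeal_eq_span_X,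
      Groth.Agent.Lib.Helper90.PSIdeal.mem_pow_iff] at hh
    exact hh
  let q₀ : Fin 2 → Fin 2 → K := fun i j =>
    if i = 0 ∧ j = 0 then a else if i = 0 ∧ j = 1 then b else if i = 1 ∧ j = 1 then c else 0
  have hq₀ : Qs a b c = ((quadPoly q₀ : MvPolynomial (Fin 2) K) : MvPowerSeries (Fin 2) K) := by
    rw [coe_quadPoly_two]
    simp [q₀, Qs]
  have hcoefF : ∀ d : Fin 2 →₀ ℕ, d.degree ≤ 2 → coeff d F = coeff d (Qs a b c) := by
    intro d hd
    rw [hF, map_sub, hh' d (by omega), sub_zero]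
  have hc0 : constantCoeff F = 0 := by
    rw [← coeff_zero_eq_constantCoeff_apply, hcoefF 0 (by simp), coeff_zero_eq_constantCoeff_apply,
      constantCoeff_Qs]
  have hlin : ∀ i, coeff (single i 1) F = 0 := by
    intro i
    rw [hcoefF _ (by rw [degree_single]; norm_num)]
    exact MvPowerSeries.IsHomogeneous.coeff_eq_zero (isHomogeneous_Qs a b c)
      (by rw [degree_single]; norm_num)
  have hquad : ∀ i j : Fin 2, i ≤ j → quadPart F i j = q₀ i j := by
    intro i j hij
    unfold quadPart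
    rcases hij.eq_or_lt with rfl | hlt
    · rw [if_pos rfl, hcoefF _ (by rw [degree_single]), hq₀, MvPolynomial.coeff_coe,
        show (single i 2 : Fin 2 →₀ ℕ) = single i 1 + single i 1 by rw [← single_add],
        coeff_quadPoly _ le_rfl]
    · rw [if_neg (ne_of_lt hlt), if_pos hlt,
        hcoefF _ (by rw [map_add, degree_single, degree_single]), hq₀, MvPolynomial.coeff_coe,
        coeff_quadPoly _ hij]
  have hdet : ∀ q : Fin 2 → Fin 2 → K,
      (polarMatrix q).det = 4 * q 0 0 * q 1 1 - q 0 1 ^ 2 := by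
    intro q
    rw [Matrix.det_fin_two]
    simp [polarMatrix]
    ring
  have hq : QuadNondeg (quadPart F) := by
    unfold QuadNondeg
    rw [hdet, hquad 0 0 le_rfl, hquad 1 1 le_rfl, hquad 0 1 (by decide), isUnit_iff_ne_zero]
    simpa [q₀] using hdisc
  obtain ⟨a', q', ha', hq', ⟨E₂⟩⟩ := morse_complete (quadPart F) hq (constantCoeff F)
    (by rw [hc0]; exact Ideal.zero_mem _)
    (fun i => coeff (single i 1) F) (fun i => by rw [hlin i]; exact Ideal.zero_mem _) F
    (coeff_eq_coeff_Fpol F)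
  have ha0 : a' = 0 := by
    rw [IsLocalRing.maximalIdeal_eq_bot] at ha'
    exact ha'
  have hIeq : Ideal.span {((quadPoly q' + MvPolynomial.C a' :
      MvPolynomial (Fin 2) K) : MvPowerSeries (Fin 2) K)} =
      Ideal.span {Qs (q' 0 0) (q' 0 1) (q' 1 1)} := by
    rw [ha0, map_zero, add_zero, coe_quadPoly_two]
    rfl
  refine ⟨q' 0 0, q' 0 1, q' 1 1, ?_, ⟨E₂.trans (Ideal.quotientEquivAlgOfEq K hIeq)⟩⟩
  unfold QuadNondeg at hq'
  rw [hdet, isUnit_iff_ne_zero] at hq'
  exact hq'

/-- injectivity of a surjection from the node onto a complete local ring of embedding dimension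
two and positive depth -/
theorem ker_le_span {K : Type u} [Field K] {B : Type u} [CommRing B] [IsLocalRing B]
    [IsNoetherianRing B] (a b c : K) (hdisc : 4 * a * c - b ^ 2 ≠ 0)
    (ψ : MvPowerSeries (Fin 2) K →+* B) (hψ : Function.Surjective ψ)
    (hQ : ψ (Qs a b c) = 0)
    (hfr : (maximalIdeal B).spanFinrank = 2)
    (s : B) (hs : s ∈ maximalIdeal B) (hsreg : ∀ w, s * w = 0 → w = 0) :
    RingHom.ker ψ ≤ Ideal.span {Qs a b c} := by
  classical
  set P := MvPowerSeries (Fin 2) K with hP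
  haveI hloc : IsLocalHom ψ := IsLocalHom.of_surjective ψ hψ
  have hmap : (maximalIdeal P).map ψ = maximalIdeal B := map_maximalIdeal_of_surjective ψ hψ
  have hmemP : ∀ p : P, p ∈ maximalIdeal P ↔ ψ p ∈ maximalIdeal B := by
    intro p
    rw [← maximalIdeal_comap ψ, Ideal.mem_comap]
  -- generators
  have hgen : Ideal.span (Set.range ![ψ (X 0), ψ (X 1)]) = maximalIdeal B := by
    rw [← hmap, maximalIdeal_eq_span_pair, Ideal.map_span]
    congr 1
    ext z
    simp only [Set.mem_range, Fin.exists_fin_two, Matrix.cons_val_zero, Matrix.cons_val_one,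
      Set.mem_image, Set.mem_insert_iff, Set.mem_singleton_iff, exists_eq_or_imp, exists_eq_left]
  have hindep : ∀ p q : B, p * ψ (X 0) + q * ψ (X 1) ∈ maximalIdeal B ^ 2 →
      p ∈ maximalIdeal B ∧ q ∈ maximalIdeal B := by
    intro p q hpq
    have := Groth.Agent.Lib.Helper90.PSSurj.mem_maximalIdeal_of_sum_mem_sq (A := B) (n := 2)
      hfr.symm ![ψ (X 0), ψ (X 1)] hgen ![p, q] (by simpa [Fin.sum_univ_two] using hpq)
    exact ⟨this 0, this 1⟩
  -- the kernel is contained in `𝔪²`
  have hker2 : RingHom.ker ψ ≤ maximalIdeal P ^ 2 := by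
    intro j hj
    have hj0 : ψ j = 0 := hj
    have hjm : j ∈ maximalIdeal P := by
      rw [hmemP, hj0]; exact Ideal.zero_mem _
    rw [maximalIdeal_eq_span_pair, Ideal.mem_span_pair] at hjm
    obtain ⟨p, q, rfl⟩ := hjm
    rw [map_add, map_mul, map_mul] at hj0
    have := hindep (ψ p) (ψ q) (by rw [hj0]; exact Ideal.zero_mem _)
    rw [← hmemP, ← hmemP] at this
    rw [pow_two]
    exact Ideal.add_mem _ (Ideal.mul_mem_mul this.1 (by
        rw [maximalIdeal_eq_span_pair]; exact Ideal.subset_span (by simp)))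
      (Ideal.mul_mem_mul this.2 (by
        rw [maximalIdeal_eq_span_pair]; exact Ideal.subset_span (by simp)))
  -- the reduction
  obtain ⟨ℓ, hℓ, hred⟩ := exists_reduction (a := a) (b := b) (c := c) hdisc
  set t := ψ ℓ with ht
  -- `t` is regular
  have hsq : ∀ z ∈ maximalIdeal P ^ 2, ∃ m ∈ maximalIdeal P, ∃ r : P, z = ℓ * m + r * Qs a b c := by
    intro z hz
    have := hred hz
    rw [Submodule.mem_sup] at this
    obtain ⟨u, hu, v, hv, rfl⟩ := this
    obtain ⟨m, hm, rfl⟩ := Ideal.mem_span_singleton_mul.mp hu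
    obtain ⟨r, rfl⟩ := Ideal.mem_span_singleton'.mp hv
    exact ⟨m, hm, r, rfl⟩
  have htreg : ∀ w, t * w = 0 → w = 0 := by
    intro w hw
    obtain ⟨s', rfl⟩ := hψ s
    have hs' : s' ∈ maximalIdeal P := (hmemP s').mpr hs
    obtain ⟨m, -, r, hmr⟩ := hsq (s' * s') (by rw [pow_two]; exact Ideal.mul_mem_mul hs' hs')
    have h1 : ψ s' * ψ s' = t * ψ m := by
      rw [← map_mul, hmr, map_add, map_mul, map_mul, hQ, mul_zero, add_zero]
    apply hsreg
    apply hsreg
    rw [← mul_assoc, h1, mul_assoc, mul_comm (ψ m) w, ← mul_assoc, hw, zero_mul]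
  -- Nakayama
  have hJ : RingHom.ker ψ ≤ Ideal.span {Qs a b c} ⊔ maximalIdeal P • RingHom.ker ψ := by
    intro j hj
    obtain ⟨m, hm, r, rfl⟩ := hsq j (hker2 hj)
    have hj0 : ψ (ℓ * m + r * Qs a b c) = 0 := hj
    rw [map_add, map_mul, map_mul, hQ, mul_zero, add_zero] at hj0
    have hm0 : m ∈ RingHom.ker ψ := htreg _ hj0
    rw [add_comm]
    exact Ideal.add_mem _ (Ideal.mem_sup_left (Ideal.mul_mem_left _ _ (Ideal.subset_span rfl)))
      (Ideal.mem_sup_right (by
        rw [smul_eq_mul]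
        exact Ideal.mul_mem_mul hℓ hm0))
  exact Submodule.le_of_le_smul_of_le_jacobson_bot (IsNoetherian.noetherian _)
    (maximalIdeal_le_jacobson _) hJ

theorem core {K : Type u} [Field K] {B : Type u} [CommRing B] [IsLocalRing B]
    [IsNoetherianRing B] [IsAdicComplete (maximalIdeal B) B]
    (g : K →+* B) (hg : Function.Surjective ((residue B).comp g))
    (hfr : (maximalIdeal B).spanFinrank = 2) (x y : B)
    (hxy : Ideal.span {x, y} = maximalIdeal B)
    (a b c : K) (hdisc : 4 * a * c - b ^ 2 ≠ 0)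
    (hq : g a * x ^ 2 + g b * x * y + g c * y ^ 2 ∈ maximalIdeal B ^ 3)
    (s : B) (hs : s ∈ maximalIdeal B) (hsreg : ∀ w, s * w = 0 → w = 0) :
    ∃ a' b' c' : K, 4 * a' * c' - b' ^ 2 ≠ 0 ∧
      ∃ e : B ≃+* (MvPowerSeries (Fin 2) K ⧸ Ideal.span {Qs a' b' c'}),
        ∀ k, e (g k) = Ideal.Quotient.mk _ (C k) := by
  classical
  letI : Algebra K B := g.toAlgebra
  have halg : ∀ k, algebraMap K B k = g k := fun k => rfl
  have hspan : Ideal.span (Set.range ![x, y]) = maximalIdeal B := by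
    rw [← hxy]
    congr 1
    ext z
    simp only [Set.mem_range, Fin.exists_fin_two, Matrix.cons_val_zero, Matrix.cons_val_one,
      Set.mem_insert_iff, Set.mem_singleton_iff]
    constructor
    · rintro (h | h)
      · exact Or.inl h.symm
      · exact Or.inr h.symm
    · rintro (h | h)
      · exact Or.inl h.symm
      · exact Or.inr h.symm
  obtain ⟨φ, hφs, hφX, hφp, -⟩ := Groth.Agent.Lib.Helper90.PSSurj.exists_surjective_eval
    (B := K) (A := B) (maximalIdeal B) ![x, y] hspan hg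
  have hφC : ∀ k, φ (C k) = g k := by
    intro k
    have : (C k : MvPowerSeries (Fin 2) K) = algebraMap K (MvPowerSeries (Fin 2) K) k := rfl
    rw [this, AlgHom.commutes, halg]
  -- the image of the quadratic form
  have hφQ : φ (Qs a b c) = g a * x ^ 2 + g b * x * y + g c * y ^ 2 := by
    unfold Qs
    simp only [map_add, map_mul, map_pow, hφC, hφX]
    simp
  -- lift to `𝔪³`
  have hmap : (maximalIdeal (MvPowerSeries (Fin 2) K)).map φ.toRingHom = maximalIdeal B :=
    map_maximalIdeal_of_surjective φ.toRingHom hφs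
  have h3 : g a * x ^ 2 + g b * x * y + g c * y ^ 2 ∈
      (maximalIdeal (MvPowerSeries (Fin 2) K) ^ 3).map φ.toRingHom := by
    rw [Ideal.map_pow, hmap]
    exact hq
  obtain ⟨h, hh, hφh⟩ := (Ideal.mem_map_iff_of_surjective φ.toRingHom hφs).mp h3
  have hφh' : φ h = g a * x ^ 2 + g b * x * y + g c * y ^ 2 := hφh
  obtain ⟨a', b', c', hdisc', ⟨E₂⟩⟩ := morse_field a b c hdisc h hh
  refine ⟨a', b', c', hdisc', ?_⟩
  -- the induced map from `P/(F)`
  have hF : ∀ z ∈ Ideal.span {Qs a b c - h}, φ z = 0 := by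
    intro z hz
    obtain ⟨w, rfl⟩ := Ideal.mem_span_singleton'.mp hz
    rw [map_mul, map_sub, hφQ, hφh', sub_self, mul_zero]
  let φbar : (MvPowerSeries (Fin 2) K ⧸ Ideal.span {Qs a b c - h}) →ₐ[K] B :=
    Ideal.Quotient.liftₐ _ φ hF
  have hφbar : Function.Surjective φbar := by
    intro z
    obtain ⟨p, rfl⟩ := hφs z
    exact ⟨Ideal.Quotient.mk _ p, rfl⟩
  let π' : (MvPowerSeries (Fin 2) K ⧸ Ideal.span {Qs a' b' c'}) →ₐ[K] B :=
    φbar.comp E₂.symm.toAlgHom
  have hπ's : Function.Surjective π' := hφbar.comp E₂.symm.surjective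
  let ψ : MvPowerSeries (Fin 2) K →+* B := π'.toRingHom.comp (Ideal.Quotient.mk _)
  have hψs : Function.Surjective ψ := hπ's.comp Ideal.Quotient.mk_surjective
  have hψQ : ψ (Qs a' b' c') = 0 := by
    change π' (Ideal.Quotient.mk _ (Qs a' b' c')) = 0
    have h0 : Ideal.Quotient.mk (Ideal.span {Qs a' b' c'}) (Qs a' b' c') = 0 :=
      Ideal.Quotient.eq_zero_iff_mem.mpr (Ideal.subset_span rfl)
    rw [h0, map_zero]
  have hker := ker_le_span a' b' c' hdisc' ψ hψs hψQ hfr s hs hsreg
  have hπ'i : Function.Injective π' := by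
    rw [injective_iff_map_eq_zero]
    intro z hz
    obtain ⟨p, rfl⟩ := Ideal.Quotient.mk_surjective z
    rw [Ideal.Quotient.eq_zero_iff_mem]
    exact hker hz
  let e' : (MvPowerSeries (Fin 2) K ⧸ Ideal.span {Qs a' b' c'}) ≃+* B :=
    RingEquiv.ofBijective π'.toRingHom ⟨hπ'i, hπ's⟩
  refine ⟨e'.symm, fun k => ?_⟩
  rw [RingEquiv.symm_apply_eq]
  change g k = π' (Ideal.Quotient.mk _ (C k))
  have : (Ideal.Quotient.mk (Ideal.span {Qs a' b' c'}) (C k)) =
      algebraMap K (MvPowerSeries (Fin 2) K ⧸ Ideal.span {Qs a' b' c'}) k := rfl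
  rw [this, AlgHom.commutes, halg]

end Groth.Agent.Lib.Helper63.NodeAlg
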