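import Mathlib
import Groth.Agent.Lib.Helper63.NodeRed

/-!
# Algebraic characterisation of nodes: from the completion back to the ring (helper63)

If a Noetherian local ring `A` maps to the node `N = K[[u,v]]/(a'u² + b'uv + c'v²)` by a ring
homomorphism which is "dense" and strict for the adic filtrations (as is the case when `N` is
the completion of `A`), then `A` is reduced, has embedding dimension two and satisfies the
elementary criterion for nodes.
-/

set_option autoImplicit false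
set_option linter.style.haveILetI false
universe u

namespace Groth.Agent.Lib.Helper63.NodeAlgConv

open IsLocalRing MvPowerSeries Finsupp Groth.Agent.Lib.Helper63.NodeRed

section Cong

variable {K : Type u} [Field K] (a' b' c' : K)

/-- the image of `𝔪ⁿ` in the node -/
noncomputable def nn (n : ℕ) : Ideal (MvPowerSeries (Fin 2) K ⧸ Ideal.span {Qs a' b' c'}) :=
  (maximalIdeal (MvPowerSeries (Fin 2) K) ^ n).map (Ideal.Quotient.mk _)

variable {a' b' c'}

lemma nn_mono {i j : ℕ} (h : i ≤ j) : nn a' b' c' j ≤ nn a' b' c' i :=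
  Ideal.map_mono (Ideal.pow_le_pow_right h)

lemma nn_zero : nn a' b' c' 0 = ⊤ := by
  unfold nn
  rw [pow_zero, Ideal.one_eq_top, Ideal.map_top]

lemma mul_mem_nn {i j : ℕ} {z w : MvPowerSeries (Fin 2) K ⧸ Ideal.span {Qs a' b' c'}}
    (hz : z ∈ nn a' b' c' i) (hw : w ∈ nn a' b' c' j) : z * w ∈ nn a' b' c' (i + j) := by
  unfold nn at *
  rw [pow_add, Ideal.map_mul]
  exact Ideal.mul_mem_mul hz hw

lemma mem_nn_iff {n : ℕ} {z : MvPowerSeries (Fin 2) K ⧸ Ideal.span {Qs a' b' c'}} :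
    z ∈ nn a' b' c' n ↔ ∃ p ∈ maximalIdeal (MvPowerSeries (Fin 2) K) ^ n,
      Ideal.Quotient.mk _ p = z :=
  Ideal.mem_map_iff_of_surjective _ Ideal.Quotient.mk_surjective

/-- congruence of products -/
lemma cong_mul {i i' j j' n : ℕ} {u u' v v' : MvPowerSeries (Fin 2) K ⧸ Ideal.span {Qs a' b' c'}}
    (hu : u - u' ∈ nn a' b' c' i) (hv : v ∈ nn a' b' c' j') (hu' : u' ∈ nn a' b' c' i')
    (hvv : v - v' ∈ nn a' b' c' j) (h1 : n ≤ i + j') (h2 : n ≤ i' + j) :
    u * v - u' * v' ∈ nn a' b' c' n := by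
  have e : u * v - u' * v' = (u - u') * v + u' * (v - v') := by ring
  rw [e]
  exact Ideal.add_mem _ (nn_mono h1 (mul_mem_nn hu hv)) (nn_mono h2 (mul_mem_nn hu' hvv))

lemma mk_X_mem (i : Fin 2) :
    (Ideal.Quotient.mk (Ideal.span {Qs a' b' c'}) (X i)) ∈ nn a' b' c' 1 := by
  rw [mem_nn_iff]
  refine ⟨X i, ?_, rfl⟩
  rw [pow_one, maximalIdeal_eq_span_pair]
  fin_cases i
  · exact Ideal.subset_span (by simp)
  · exact Ideal.subset_span (by simp)

lemma eq_zero_of_mk_C_mem {k : K}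
    (h : (Ideal.Quotient.mk (Ideal.span {Qs a' b' c'}) (C k)) ∈ nn a' b' c' 1) : k = 0 := by
  rw [mem_nn_iff] at h
  obtain ⟨p, hp, hpk⟩ := h
  rw [pow_one] at hp
  have h1 : p - C k ∈ Ideal.span {Qs a' b' c'} := by
    rw [← Ideal.Quotient.eq]; exact hpk
  have h2 : Ideal.span {Qs a' b' c'} ≤ maximalIdeal (MvPowerSeries (Fin 2) K) := by
    rw [Ideal.span_singleton_le_iff_mem]
    have := Qs_mem_sq (a := a') (b := b') (c := c')
    exact Ideal.pow_le_self (by norm_num) this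
  have h3 : C k ∈ maximalIdeal (MvPowerSeries (Fin 2) K) := by
    have := Ideal.sub_mem _ hp (h2 h1)
    rwa [sub_sub_cancel] at this
  rw [Groth.Agent.Lib.Helper90.PSIdeal.maximalIdeal_eq_span_X,
    Groth.Agent.Lib.Helper90.PSIdeal.mem_span_X_iff, constantCoeff_C] at h3
  exact h3

end Cong


/-- cotangent space dimension from generators independent modulo `𝔪²` -/
theorem finrank_cotangentSpace_eq_two {A : Type u} [CommRing A] [IsLocalRing A]
    (x y : A) (hx : x ∈ maximalIdeal A) (hy : y ∈ maximalIdeal A)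
    (hspan : ∀ z ∈ maximalIdeal A, ∃ p q : A, z - (p * x + q * y) ∈ maximalIdeal A ^ 2)
    (hli : ∀ p q : A, p * x + q * y ∈ maximalIdeal A ^ 2 →
      p ∈ maximalIdeal A ∧ q ∈ maximalIdeal A) :
    Module.finrank (ResidueField A) (CotangentSpace A) = 2 := by
  classical
  let v : Fin 2 → CotangentSpace A :=
    ![(maximalIdeal A).toCotangent ⟨x, hx⟩, (maximalIdeal A).toCotangent ⟨y, hy⟩]
  have hcomb : ∀ p q : A, (maximalIdeal A).toCotangent
      ⟨p * x + q * y, Ideal.add_mem _ (Ideal.mul_mem_left _ _ hx) (Ideal.mul_mem_left _ _ hy)⟩ =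
      residue A p • v 0 + residue A q • v 1 := by
    intro p q
    have h2 : (⟨p * x + q * y, Ideal.add_mem _ (Ideal.mul_mem_left _ _ hx)
        (Ideal.mul_mem_left _ _ hy)⟩ : maximalIdeal A) =
        p • (⟨x, hx⟩ : maximalIdeal A) + q • (⟨y, hy⟩ : maximalIdeal A) := by
      apply Subtype.ext
      simp
    rw [h2, map_add, map_smul, map_smul]
    rfl
  have hsp : ⊤ ≤ Submodule.span (ResidueField A) (Set.range v) := by
    intro w _
    obtain ⟨⟨z, hz⟩, rfl⟩ := (maximalIdeal A).toCotangent_surjective w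
    obtain ⟨p, q, hpq⟩ := hspan z hz
    have : (maximalIdeal A).toCotangent ⟨z, hz⟩ = residue A p • v 0 + residue A q • v 1 := by
      rw [← hcomb, Ideal.toCotangent_eq]
      exact hpq
    rw [this]
    exact Submodule.add_mem _ (Submodule.smul_mem _ _ (Submodule.subset_span ⟨0, rfl⟩))
      (Submodule.smul_mem _ _ (Submodule.subset_span ⟨1, rfl⟩))
  have hLI : LinearIndependent (ResidueField A) v := by
    rw [LinearIndependent.pair_iff]
    intro s t hst
    obtain ⟨p, rfl⟩ := residue_surjective s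
    obtain ⟨q, rfl⟩ := residue_surjective t
    have h0 : (maximalIdeal A).toCotangent
        ⟨p * x + q * y, Ideal.add_mem _ (Ideal.mul_mem_left _ _ hx)
          (Ideal.mul_mem_left _ _ hy)⟩ = 0 := by
      rw [hcomb]; exact hst
    rw [Ideal.toCotangent_eq_zero] at h0
    have := hli p q h0
    exact ⟨(residue_eq_zero_iff _).mpr this.1, (residue_eq_zero_iff _).mpr this.2⟩
  have := Module.finrank_eq_card_basis (Module.Basis.mk hLI hsp)
  rw [this, Fintype.card_fin]


theorem converse {K : Type u} [Field K] {a' b' c' : K} (hdisc : 4 * a' * c' - b' ^ 2 ≠ 0)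
    {A : Type u} [CommRing A] [IsLocalRing A] [IsNoetherianRing A]
    (ρ : A →+* (MvPowerSeries (Fin 2) K ⧸ Ideal.span {Qs a' b' c'}))
    (h1 : ∀ (n : ℕ) z, ∃ a : A, z - ρ a ∈ nn a' b' c' n)
    (h3 : ∀ (n : ℕ) (a : A), ρ a ∈ nn a' b' c' n ↔ a ∈ maximalIdeal A ^ n) :
    IsReduced A ∧ Module.finrank (ResidueField A) (CotangentSpace A) = 2 ∧
      ∃ x y a b c : A, x ∈ maximalIdeal A ∧ y ∈ maximalIdeal A ∧
        Ideal.span {x, y} ⊔ maximalIdeal A ^ 2 = maximalIdeal A ∧
        residue A (4 * a * c - b ^ 2) ≠ 0 ∧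
        a * x ^ 2 + b * x * y + c * y ^ 2 ∈ maximalIdeal A ^ 3 := by
  classical
  set mk := Ideal.Quotient.mk (Ideal.span {Qs a' b' c'}) with hmk
  have htop : ∀ z : MvPowerSeries (Fin 2) K ⧸ Ideal.span {Qs a' b' c'}, z ∈ nn a' b' c' 0 := by
    intro z; rw [nn_zero]; trivial
  have hmem1 : ∀ a : A, ρ a ∈ nn a' b' c' 1 ↔ a ∈ maximalIdeal A := by
    intro a; rw [h3, pow_one]
  -- reducedness
  have hinj : Function.Injective ρ := by
    rw [injective_iff_map_eq_zero]
    intro a ha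
    have : a ∈ ⨅ n : ℕ, maximalIdeal A ^ n := by
      rw [Ideal.mem_iInf]
      intro n
      rw [← h3, ha]
      exact Ideal.zero_mem _
    rwa [Ideal.iInf_pow_eq_bot_of_isLocalRing _ Ideal.IsPrime.ne_top', Ideal.mem_bot] at this
  haveI := isReduced_node hdisc
  have hred : IsReduced A := isReduced_of_injective ρ hinj
  -- choices
  obtain ⟨x, hx0⟩ := h1 2 (mk (X 0))
  obtain ⟨y, hy0⟩ := h1 2 (mk (X 1))
  obtain ⟨a, ha0⟩ := h1 1 (mk (C a'))
  obtain ⟨b, hb0⟩ := h1 1 (mk (C b'))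
  obtain ⟨c, hc0⟩ := h1 1 (mk (C c'))
  have hx : ρ x - mk (X 0) ∈ nn a' b' c' 2 := by rw [← neg_sub]; exact neg_mem hx0
  have hy : ρ y - mk (X 1) ∈ nn a' b' c' 2 := by rw [← neg_sub]; exact neg_mem hy0
  have ha : ρ a - mk (C a') ∈ nn a' b' c' 1 := by rw [← neg_sub]; exact neg_mem ha0
  have hb : ρ b - mk (C b') ∈ nn a' b' c' 1 := by rw [← neg_sub]; exact neg_mem hb0
  have hc : ρ c - mk (C c') ∈ nn a' b' c' 1 := by rw [← neg_sub]; exact neg_mem hc0
  have hρx : ρ x ∈ nn a' b' c' 1 := by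
    have := Ideal.add_mem _ (nn_mono (by norm_num : 1 ≤ 2) hx) (mk_X_mem (a' := a') (b' := b')
      (c' := c') 0)
    rwa [sub_add_cancel] at this
  have hρy : ρ y ∈ nn a' b' c' 1 := by
    have := Ideal.add_mem _ (nn_mono (by norm_num : 1 ≤ 2) hy) (mk_X_mem (a' := a') (b' := b')
      (c' := c') 1)
    rwa [sub_add_cancel] at this
  have hxm : x ∈ maximalIdeal A := (hmem1 x).mp hρx
  have hym : y ∈ maximalIdeal A := (hmem1 y).mp hρy
  -- independence
  have hli : ∀ p q : A, p * x + q * y ∈ maximalIdeal A ^ 2 →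
      p ∈ maximalIdeal A ∧ q ∈ maximalIdeal A := by
    intro p q hpq
    have h2 : ρ p * ρ x + ρ q * ρ y ∈ nn a' b' c' 2 := by
      rw [← map_mul, ← map_mul, ← map_add, h3]
      exact hpq
    have h2' : ρ p * mk (X 0) + ρ q * mk (X 1) ∈ nn a' b' c' 2 := by
      have e1 : ρ p * ρ x - ρ p * mk (X 0) ∈ nn a' b' c' 2 :=
        cong_mul (i := 2) (j' := 1) (i' := 0) (j := 2) (by rw [sub_self]; exact Ideal.zero_mem _)
          hρx (htop _) hx (by norm_num) (by norm_num)
      have e2 : ρ q * ρ y - ρ q * mk (X 1) ∈ nn a' b' c' 2 :=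
        cong_mul (i := 2) (j' := 1) (i' := 0) (j := 2) (by rw [sub_self]; exact Ideal.zero_mem _)
          hρy (htop _) hy (by norm_num) (by norm_num)
      have := Ideal.sub_mem _ h2 (Ideal.add_mem _ e1 e2)
      convert this using 1
      ring
    obtain ⟨p', hp'⟩ := Ideal.Quotient.mk_surjective (ρ p)
    obtain ⟨q', hq'⟩ := Ideal.Quotient.mk_surjective (ρ q)
    rw [← hp', ← hq', ← map_mul, ← map_mul, ← map_add, mem_nn_iff] at h2'
    obtain ⟨r, hr, hrpq⟩ := h2'
    have hmem : p' * X 0 + q' * X 1 ∈ maximalIdeal (MvPowerSeries (Fin 2) K) ^ 2 ⊔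
        Ideal.span {Qs a' b' c'} := by
      have : p' * X 0 + q' * X 1 - r ∈ Ideal.span {Qs a' b' c'} := by
        rw [← Ideal.Quotient.eq]; exact hrpq.symm
      have h' := Ideal.add_mem _ (Ideal.mem_sup_left hr) (Ideal.mem_sup_right this)
      rwa [add_sub_cancel] at h'
    obtain ⟨hcp, hcq⟩ := constantCoeff_eq_zero_of_mem p' q' hmem
    have hp1 : ρ p ∈ nn a' b' c' 1 := by
      rw [← hp', mem_nn_iff]
      refine ⟨p', ?_, rfl⟩
      rw [pow_one, Groth.Agent.Lib.Helper90.PSIdeal.maximalIdeal_eq_span_X,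
        Groth.Agent.Lib.Helper90.PSIdeal.mem_span_X_iff]
      exact hcp
    have hq1 : ρ q ∈ nn a' b' c' 1 := by
      rw [← hq', mem_nn_iff]
      refine ⟨q', ?_, rfl⟩
      rw [pow_one, Groth.Agent.Lib.Helper90.PSIdeal.maximalIdeal_eq_span_X,
        Groth.Agent.Lib.Helper90.PSIdeal.mem_span_X_iff]
      exact hcq
    exact ⟨(hmem1 p).mp hp1, (hmem1 q).mp hq1⟩
  -- spanning
  have hspan : ∀ z ∈ maximalIdeal A, ∃ p q : A, z - (p * x + q * y) ∈ maximalIdeal A ^ 2 := by
    intro z hz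
    have hz1 := (hmem1 z).mpr hz
    rw [mem_nn_iff] at hz1
    obtain ⟨r, hr, hrz⟩ := hz1
    rw [pow_one, maximalIdeal_eq_span_pair, Ideal.mem_span_pair] at hr
    obtain ⟨r₀, r₁, rfl⟩ := hr
    obtain ⟨p, hp0⟩ := h1 1 (mk r₀)
    obtain ⟨q, hq0⟩ := h1 1 (mk r₁)
    have hp : ρ p - mk r₀ ∈ nn a' b' c' 1 := by rw [← neg_sub]; exact neg_mem hp0
    have hq : ρ q - mk r₁ ∈ nn a' b' c' 1 := by rw [← neg_sub]; exact neg_mem hq0
    refine ⟨p, q, ?_⟩
    rw [← h3, map_sub, map_add, map_mul, map_mul, ← hrz, map_add, map_mul, map_mul]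
    have e1 : ρ p * ρ x - mk r₀ * mk (X 0) ∈ nn a' b' c' 2 :=
      cong_mul (i := 1) (j' := 1) (i' := 0) (j := 2) hp hρx (htop _) hx (by norm_num)
        (by norm_num)
    have e2 : ρ q * ρ y - mk r₁ * mk (X 1) ∈ nn a' b' c' 2 :=
      cong_mul (i := 1) (j' := 1) (i' := 0) (j := 2) hq hρy (htop _) hy (by norm_num)
        (by norm_num)
    have := neg_mem (Ideal.add_mem _ e1 e2)
    convert this using 1
    ring
  refine ⟨hred, finrank_cotangentSpace_eq_two x y hxm hym hspan hli, x, y, a, b, c, hxm, hym,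
    ?_, ?_, ?_⟩
  · -- generation
    apply le_antisymm
    · refine sup_le ?_ (Ideal.pow_le_self (by norm_num))
      rw [Ideal.span_le]
      rintro z (rfl | rfl)
      · exact hxm
      · exact hym
    · intro z hz
      obtain ⟨p, q, hpq⟩ := hspan z hz
      have : z = (p * x + q * y) + (z - (p * x + q * y)) := by ring
      rw [this]
      exact Ideal.add_mem _ (Ideal.mem_sup_left (Ideal.add_mem _
        (Ideal.mul_mem_left _ _ (Ideal.subset_span (by simp)))
        (Ideal.mul_mem_left _ _ (Ideal.subset_span (by simp))))) (Ideal.mem_sup_right hpq)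
  · -- discriminant
    rw [Ne, residue_eq_zero_iff, ← hmem1]
    intro hmem
    apply hdisc
    apply eq_zero_of_mk_C_mem (a' := a') (b' := b') (c' := c')
    have hac : ρ a * ρ c - mk (C a') * mk (C c') ∈ nn a' b' c' 1 :=
      cong_mul (i := 1) (j' := 0) (i' := 0) (j := 1) ha (htop _) (htop _) hc (by norm_num)
        (by norm_num)
    have hbb : ρ b * ρ b - mk (C b') * mk (C b') ∈ nn a' b' c' 1 :=
      cong_mul (i := 1) (j' := 0) (i' := 0) (j := 1) hb (htop _) (htop _) hb (by norm_num)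
        (by norm_num)
    have h4 : ρ 4 = 4 := map_ofNat ρ 4
    have h4' : mk (C (4 : K)) = 4 := by
      rw [map_ofNat C 4, map_ofNat mk 4]
    have e : mk (C (4 * a' * c' - b' ^ 2)) = ρ (4 * a * c - b ^ 2) -
        (4 * (ρ a * ρ c - mk (C a') * mk (C c')) - (ρ b * ρ b - mk (C b') * mk (C b'))) := by
      simp only [map_sub, map_mul, map_pow, h4, h4']
      ring
    rw [e]
    exact Ideal.sub_mem _ hmem (Ideal.sub_mem _ (Ideal.mul_mem_left _ _ hac) hbb)
  · -- the quadratic relation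
    rw [← h3]
    have hxx : ρ x * ρ x - mk (X 0) * mk (X 0) ∈ nn a' b' c' 3 :=
      cong_mul (i := 2) (j' := 1) (i' := 1) (j := 2) hx hρx (mk_X_mem 0) hx (by norm_num)
        (by norm_num)
    have hxy : ρ x * ρ y - mk (X 0) * mk (X 1) ∈ nn a' b' c' 3 :=
      cong_mul (i := 2) (j' := 1) (i' := 1) (j := 2) hx hρy (mk_X_mem 0) hy (by norm_num)
        (by norm_num)
    have hyy : ρ y * ρ y - mk (X 1) * mk (X 1) ∈ nn a' b' c' 3 :=
      cong_mul (i := 2) (j' := 1) (i' := 1) (j := 2) hy hρy (mk_X_mem 1) hy (by norm_num)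
        (by norm_num)
    have hA : ρ a * (ρ x * ρ x) - mk (C a') * (mk (X 0) * mk (X 0)) ∈ nn a' b' c' 3 :=
      cong_mul (i := 1) (j' := 1 + 1) (i' := 0) (j := 3) ha (mul_mem_nn hρx hρx) (htop _) hxx
        (by norm_num) (by norm_num)
    have hB : ρ b * (ρ x * ρ y) - mk (C b') * (mk (X 0) * mk (X 1)) ∈ nn a' b' c' 3 :=
      cong_mul (i := 1) (j' := 1 + 1) (i' := 0) (j := 3) hb (mul_mem_nn hρx hρy) (htop _) hxy
        (by norm_num) (by norm_num)
    have hC : ρ c * (ρ y * ρ y) - mk (C c') * (mk (X 1) * mk (X 1)) ∈ nn a' b' c' 3 :=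
      cong_mul (i := 1) (j' := 1 + 1) (i' := 0) (j := 3) hc (mul_mem_nn hρy hρy) (htop _) hyy
        (by norm_num) (by norm_num)
    have hQ0 : mk (Qs a' b' c') = 0 :=
      Ideal.Quotient.eq_zero_iff_mem.mpr (Ideal.subset_span rfl)
    have hQe : mk (Qs a' b' c') = mk (C a') * (mk (X 0) * mk (X 0)) +
        mk (C b') * (mk (X 0) * mk (X 1)) + mk (C c') * (mk (X 1) * mk (X 1)) := by
      change mk (C a' * X 0 ^ 2 + C b' * X 0 * X 1 + C c' * X 1 ^ 2) = _
      rw [map_add, map_add, map_mul, map_mul, map_mul, map_mul, map_pow, map_pow]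
      ring
    have e : ρ (a * x ^ 2 + b * x * y + c * y ^ 2) =
        (ρ a * (ρ x * ρ x) - mk (C a') * (mk (X 0) * mk (X 0))) +
        (ρ b * (ρ x * ρ y) - mk (C b') * (mk (X 0) * mk (X 1))) +
        (ρ c * (ρ y * ρ y) - mk (C c') * (mk (X 1) * mk (X 1))) + mk (Qs a' b' c') := by
      rw [hQe, map_add, map_add, map_mul, map_mul, map_mul, map_mul, map_pow, map_pow]
      ring
    rw [e, hQ0, add_zero]
    exact Ideal.add_mem _ (Ideal.add_mem _ hA hB) hC

end Groth.Agent.Lib.Helper63.NodeAlgConv
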