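import Mathlib
import Groth.Agent.S0543
import Groth.Agent.Lib.Helper63.NodeAlg
import Groth.Agent.Lib.Helper63.NodeAlgConv

/-!
# Algebraic characterisation of nodes (helper63)

For a Noetherian local `k`-algebra `A` with residue field `κ` separable algebraic over `k`:
`A` is reduced of embedding dimension two with a nondegenerate quadratic relation modulo `𝔪³`
iff the completion of `A` is `κ[[u,v]]/(q)` for a nondegenerate binary quadratic form `q`.
-/

set_option autoImplicit false
set_option linter.style.haveILetI false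
universe u

namespace Groth.Agent.Lib.Helper63.NodeAlgGlue

open IsLocalRing MvPowerSeries Groth.Agent.Lib.Helper63.NodeRed
  Groth.Agent.Lib.Helper63.NodeAlgConv

section Regular

/-- a reduced Noetherian local ring which is not a field has a regular element in its maximal
ideal -/
theorem exists_regular_of_isReduced {A : Type u} [CommRing A] [IsLocalRing A] [IsNoetherianRing A]
    [IsReduced A] (hm : maximalIdeal A ≠ ⊥) :
    ∃ s ∈ maximalIdeal A, ∀ w : A, s * w = 0 → w = 0 := by
  classical
  by_contra hcon
  push Not at hcon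
  have hfin := minimalPrimes.finite_of_isNoetherianRing A
  have hnil : sInf (minimalPrimes A) = (⊥ : Ideal A) := by
    change sInf (⊥ : Ideal A).minimalPrimes = ⊥
    rw [Ideal.sInf_minimalPrimes]
    exact nilradical_eq_zero A
  -- every element of `𝔪` lies in a minimal prime
  have hsub : ((maximalIdeal A : Ideal A) : Set A) ⊆
      ⋃ p ∈ (hfin.toFinset : Set (Ideal A)), ((id p : Ideal A) : Set A) := by
    intro s hs
    obtain ⟨w, hw, hw0⟩ := hcon s hs
    have hwn : w ∉ sInf (minimalPrimes A) := by
      rw [hnil, Ideal.mem_bot]; exact hw0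
    rw [Ideal.mem_sInf] at hwn
    push Not at hwn
    obtain ⟨p, hp, hwp⟩ := hwn
    have hpp : p.IsPrime := hp.1.1
    have hsp : s ∈ p := by
      have : s * w ∈ p := by rw [hw]; exact Ideal.zero_mem _
      exact (hpp.mem_or_mem this).resolve_right hwp
    simp only [Set.mem_iUnion]
    exact ⟨p, by simpa using hp, hsp⟩
  rw [Ideal.subset_union_prime (⊥ : Ideal A) ⊥ (fun p hp _ _ => by
    have : p ∈ minimalPrimes A := by simpa using hp
    exact this.1.1)] at hsub
  obtain ⟨p, hp, hle⟩ := hsub
  have hpmin : p ∈ minimalPrimes A := by simpa using hp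
  have hpp : p.IsPrime := hpmin.1.1
  -- all minimal primes contain `𝔪`
  have hall : ∀ q ∈ minimalPrimes A, maximalIdeal A ≤ q := by
    intro q hq
    have hqp : q.IsPrime := hq.1.1
    have hqle : q ≤ p := (le_maximalIdeal hqp.ne_top).trans hle
    exact hle.trans (hpmin.2 ⟨hqp, bot_le⟩ hqle)
  apply hm
  rw [eq_bot_iff, ← hnil]
  exact le_sInf hall

end Regular

section Completion

variable (A : Type u) [CommRing A] [IsLocalRing A] [IsNoetherianRing A]

/-- kernel of the projection of the completion (copied from helper81's `CompletionFlat`) -/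
theorem ker_evalₐ_eq_map {R : Type*} [CommRing R] (I : Ideal R) (fg : I.FG) (n : ℕ) :
    RingHom.ker (AdicCompletion.evalₐ I n).toRingHom =
      (I ^ n).map (algebraMap R (AdicCompletion I R)) := by
  ext x
  trans x ∈ (AdicCompletion.eval I R n).ker
  · have eq : I ^ n * ⊤ = I ^ n := by simp
    have : Function.Injective (Ideal.Quotient.factor ((le_of_eq eq))) := by
      simpa [RingHom.injective_iff_ker_eq_bot, Ideal.Quotient.factor_ker]
        using Ideal.map_mk_eq_bot_of_le (le_of_eq eq.symm)
    simpa [← AdicCompletion.factor_eval_eq_evalₐ] using map_eq_zero_iff _ this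
  · rw [← AdicCompletion.pow_smul_top_eq_ker_eval fg, Ideal.smul_top_eq_map]
    rfl

theorem mem_pow_iff_evalₐ (z : AdicCompletion (maximalIdeal A) A) (n : ℕ) :
    z ∈ maximalIdeal (AdicCompletion (maximalIdeal A) A) ^ n ↔
      AdicCompletion.evalₐ (maximalIdeal A) n z = 0 := by
  rw [AdicCompletion.maximalIdeal_eq_map, ← Ideal.map_pow,
    ← ker_evalₐ_eq_map (maximalIdeal A) (maximalIdeal A).fg_of_isNoetherianRing n]
  rfl

theorem algebraMap_mem_pow_iff (a : A) (n : ℕ) :
    algebraMap A (AdicCompletion (maximalIdeal A) A) a ∈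
      maximalIdeal (AdicCompletion (maximalIdeal A) A) ^ n ↔ a ∈ maximalIdeal A ^ n := by
  rw [mem_pow_iff_evalₐ]
  change AdicCompletion.evalₐ (maximalIdeal A) n (AdicCompletion.of _ _ a) = 0 ↔ _
  rw [AdicCompletion.evalₐ_of, Ideal.Quotient.eq_zero_iff_mem]

theorem exists_approx (z : AdicCompletion (maximalIdeal A) A) (n : ℕ) :
    ∃ a : A, z - algebraMap A (AdicCompletion (maximalIdeal A) A) a ∈
      maximalIdeal (AdicCompletion (maximalIdeal A) A) ^ n := by
  obtain ⟨a, ha⟩ := Ideal.Quotient.mk_surjective (AdicCompletion.evalₐ (maximalIdeal A) n z)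
  refine ⟨a, ?_⟩
  rw [mem_pow_iff_evalₐ, map_sub]
  change _ - AdicCompletion.evalₐ (maximalIdeal A) n (AdicCompletion.of _ _ a) = 0
  rw [AdicCompletion.evalₐ_of, ha, sub_self]

end Completion

section Backward

variable (A : Type u) [CommRing A] [IsLocalRing A] [IsNoetherianRing A]

theorem backward {K : Type u} [Field K] {a' b' c' : K} (hdisc : 4 * a' * c' - b' ^ 2 ≠ 0)
    (e : AdicCompletion (maximalIdeal A) A ≃+*
      (MvPowerSeries (Fin 2) K ⧸ Ideal.span {Qs a' b' c'})) :
    IsReduced A ∧ Module.finrank (ResidueField A) (CotangentSpace A) = 2 ∧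
      ∃ x y a b c : A, x ∈ maximalIdeal A ∧ y ∈ maximalIdeal A ∧
        Ideal.span {x, y} ⊔ maximalIdeal A ^ 2 = maximalIdeal A ∧
        residue A (4 * a * c - b ^ 2) ≠ 0 ∧
        a * x ^ 2 + b * x * y + c * y ^ 2 ∈ maximalIdeal A ^ 3 := by
  haveI hN : IsNoetherianRing (AdicCompletion (maximalIdeal A) A) :=
    Groth.Agent.S0543.result A (maximalIdeal A)
  haveI hloc : IsLocalRing (MvPowerSeries (Fin 2) K ⧸ Ideal.span {Qs a' b' c'}) :=
    e.isLocalRing
  have hnn : ∀ n : ℕ, nn a' b' c' n =
      maximalIdeal (MvPowerSeries (Fin 2) K ⧸ Ideal.span {Qs a' b' c'}) ^ n := by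
    intro n
    unfold nn
    rw [Ideal.map_pow, map_maximalIdeal_of_surjective _ Ideal.Quotient.mk_surjective]
  have hmem : ∀ (n : ℕ) (z : AdicCompletion (maximalIdeal A) A),
      e z ∈ nn a' b' c' n ↔ z ∈ maximalIdeal (AdicCompletion (maximalIdeal A) A) ^ n := by
    intro n z
    rw [hnn, ← map_ringEquiv_maximalIdeal e, ← Ideal.map_pow, Ideal.mem_map_of_equiv]
    constructor
    · rintro ⟨w, hw, hwz⟩
      rwa [← e.injective hwz]
    · intro hz
      exact ⟨z, hz, rfl⟩
  refine converse hdisc (e.toRingHom.comp (algebraMap A (AdicCompletion (maximalIdeal A) A)))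
    ?_ ?_
  · intro n z
    obtain ⟨a, ha⟩ := exists_approx A (e.symm z) n
    refine ⟨a, ?_⟩
    have : z - (e.toRingHom.comp (algebraMap A (AdicCompletion (maximalIdeal A) A))) a =
        e (e.symm z - algebraMap A (AdicCompletion (maximalIdeal A) A) a) := by
      rw [map_sub, RingEquiv.apply_symm_apply]
      rfl
    rw [this, hmem]
    exact ha
  · intro n a
    change e (algebraMap A (AdicCompletion (maximalIdeal A) A) a) ∈ _ ↔ _
    rw [hmem, algebraMap_mem_pow_iff]

end Backward

section Forward

variable (k : Type u) [Field k] (A : Type u) [CommRing A] [IsLocalRing A] [IsNoetherianRing A]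
  [Algebra k A]

theorem forward [Algebra.IsSeparable k (ResidueField A)] [IsReduced A]
    (hfin : Module.finrank (ResidueField A) (CotangentSpace A) = 2)
    (x y a b c : A) (hx : x ∈ maximalIdeal A) (hy : y ∈ maximalIdeal A)
    (hspan : Ideal.span {x, y} ⊔ maximalIdeal A ^ 2 = maximalIdeal A)
    (hdisc : residue A (4 * a * c - b ^ 2) ≠ 0)
    (hq : a * x ^ 2 + b * x * y + c * y ^ 2 ∈ maximalIdeal A ^ 3) :
    ∃ a' b' c' : ResidueField A, 4 * a' * c' - b' ^ 2 ≠ 0 ∧
      ∃ e : AdicCompletion (maximalIdeal A) A ≃+*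
          (MvPowerSeries (Fin 2) (ResidueField A) ⧸ Ideal.span {Qs a' b' c'}),
        ∀ t : k, e (algebraMap A _ (algebraMap k A t)) =
          Ideal.Quotient.mk _ (C (algebraMap A (ResidueField A) (algebraMap k A t))) := by
  classical
  haveI hN : IsNoetherianRing (AdicCompletion (maximalIdeal A) A) :=
    Groth.Agent.S0543.result A (maximalIdeal A)
  haveI : Algebra.FormallyEtale k (ResidueField A) := Algebra.FormallyEtale.of_isSeparable k _
  haveI hsm : Algebra.FormallySmooth k (ResidueField A) := inferInstance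
  -- the coefficient field
  let f₀ : ResidueField A →ₐ[k] A ⧸ maximalIdeal A := AlgHom.id k (ResidueField A)
  obtain ⟨g, hg⟩ := Algebra.FormallySmooth.exists_adicCompletionEvalOneₐ_comp_eq f₀
  have hg' : ∀ c : ResidueField A, AdicCompletion.evalOneₐ (maximalIdeal A) (g c) = c := by
    intro c
    exact congr($hg c)
  have hmem : ∀ z : AdicCompletion (maximalIdeal A) A,
      AdicCompletion.evalOneₐ (maximalIdeal A) z = 0 →
        z ∈ maximalIdeal (AdicCompletion (maximalIdeal A) A) := by
    intro z hz
    rw [AdicCompletion.maximalIdeal_eq_map,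
      ← AdicCompletion.ker_evalOneₐ_eq_map _ (maximalIdeal A).fg_of_isNoetherianRing]
    exact hz
  have hgres : ∀ r : A, g (residue A r) - algebraMap A (AdicCompletion (maximalIdeal A) A) r ∈
      maximalIdeal (AdicCompletion (maximalIdeal A) A) := by
    intro r
    apply hmem
    rw [map_sub, sub_eq_zero, hg']
    rfl
  have hsurj : Function.Surjective
      ((residue (AdicCompletion (maximalIdeal A) A)).comp g.toRingHom) := by
    intro z
    obtain ⟨w, rfl⟩ := residue_surjective z
    refine ⟨AdicCompletion.evalOneₐ (maximalIdeal A) w, ?_⟩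
    change residue _ (g (AdicCompletion.evalOneₐ (maximalIdeal A) w)) = residue _ w
    rw [← sub_eq_zero, ← map_sub, residue_eq_zero_iff]
    apply hmem
    have := hg' (AdicCompletion.evalOneₐ (maximalIdeal A) w : ResidueField A)
    rw [map_sub, sub_eq_zero]
    exact this
  -- embedding dimension
  have hfr : (maximalIdeal (AdicCompletion (maximalIdeal A) A)).spanFinrank = 2 := by
    rw [AdicCompletion.spanFinrank_maximalIdeal_eq,
      spanFinrank_maximalIdeal_eq_finrank_cotangentSpace, hfin]
  -- generators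
  have hmA : maximalIdeal A = Ideal.span {x, y} := by
    apply le_antisymm
    · refine Submodule.le_of_le_smul_of_le_jacobson_bot (IsNoetherian.noetherian _)
        (maximalIdeal_le_jacobson _) ?_
      rw [smul_eq_mul, ← pow_two, hspan]
    · rw [Ideal.span_le]
      rintro z (rfl | rfl)
      · exact hx
      · exact hy
  set φ := algebraMap A (AdicCompletion (maximalIdeal A) A) with hφ
  have hxy : Ideal.span {φ x, φ y} = maximalIdeal (AdicCompletion (maximalIdeal A) A) := by
    have h1 : (maximalIdeal A).map φ = (Ideal.span {x, y}).map φ :=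
      congrArg (fun I => Ideal.map φ I) hmA
    rw [AdicCompletion.maximalIdeal_eq_map, h1, Ideal.map_span, Set.image_pair]
  have hmaxmap : ∀ (n : ℕ) (r : A), r ∈ maximalIdeal A ^ n →
      φ r ∈ maximalIdeal (AdicCompletion (maximalIdeal A) A) ^ n := by
    intro n r hr
    rw [AdicCompletion.maximalIdeal_eq_map, ← Ideal.map_pow]
    exact Ideal.mem_map_of_mem _ hr
  have hφx : φ x ∈ maximalIdeal (AdicCompletion (maximalIdeal A) A) := by
    have := hmaxmap 1 x (by rwa [pow_one]); rwa [pow_one] at this
  have hφy : φ y ∈ maximalIdeal (AdicCompletion (maximalIdeal A) A) := by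
    have := hmaxmap 1 y (by rwa [pow_one]); rwa [pow_one] at this
  -- the quadratic relation
  have hq' : g.toRingHom (residue A a) * φ x ^ 2 + g.toRingHom (residue A b) * φ x * φ y +
      g.toRingHom (residue A c) * φ y ^ 2 ∈
        maximalIdeal (AdicCompletion (maximalIdeal A) A) ^ 3 := by
    have h0 := hmaxmap 3 _ hq
    have e : g.toRingHom (residue A a) * φ x ^ 2 + g.toRingHom (residue A b) * φ x * φ y +
        g.toRingHom (residue A c) * φ y ^ 2 = φ (a * x ^ 2 + b * x * y + c * y ^ 2) +
        ((g (residue A a) - φ a) * (φ x * φ x) + (g (residue A b) - φ b) * (φ x * φ y) +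
          (g (residue A c) - φ c) * (φ y * φ y)) := by
      simp only [map_add, map_mul, map_pow, AlgHom.toRingHom_eq_coe, RingHom.coe_coe]
      ring
    rw [e]
    have h3 : ∀ (u v w : AdicCompletion (maximalIdeal A) A),
        u ∈ maximalIdeal (AdicCompletion (maximalIdeal A) A) →
        v ∈ maximalIdeal (AdicCompletion (maximalIdeal A) A) →
        w ∈ maximalIdeal (AdicCompletion (maximalIdeal A) A) →
        u * (v * w) ∈ maximalIdeal (AdicCompletion (maximalIdeal A) A) ^ 3 := by
      intro u v w hu hv hw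
      rw [show (3 : ℕ) = 1 + 2 from rfl, pow_add, pow_one, pow_two]
      exact Ideal.mul_mem_mul hu (Ideal.mul_mem_mul hv hw)
    exact Ideal.add_mem _ h0 (Ideal.add_mem _ (Ideal.add_mem _
      (h3 _ _ _ (hgres a) hφx hφx) (h3 _ _ _ (hgres b) hφx hφy)) (h3 _ _ _ (hgres c) hφy hφy))
  have hdisc' : 4 * residue A a * residue A c - residue A b ^ 2 ≠ 0 := by
    have : residue A (4 * a * c - b ^ 2) = 4 * residue A a * residue A c - residue A b ^ 2 := by
      rw [map_sub, map_mul, map_mul, map_pow, map_ofNat]
    rwa [this] at hdisc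
  -- a regular element
  have hm0 : maximalIdeal A ≠ ⊥ := by
    intro h0
    have hf : IsField A := isField_iff_maximalIdeal_eq.mpr h0
    have := (subsingleton_cotangentSpace_iff (R := A)).mpr hf
    rw [Module.finrank_zero_of_subsingleton] at hfin
    exact absurd hfin (by norm_num)
  obtain ⟨s, hs, hsreg⟩ := exists_regular_of_isReduced hm0
  have hsreg' : ∀ w : AdicCompletion (maximalIdeal A) A, φ s * w = 0 → w = 0 := by
    have h1 : IsSMulRegular A s := by
      intro u v huv
      have : s * (u - v) = 0 := by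
        rw [mul_sub, sub_eq_zero]; exact huv
      exact sub_eq_zero.mp (hsreg _ this)
    have h2 : IsSMulRegular (AdicCompletion (maximalIdeal A) A) (φ s) := IsSMulRegular.of_flat h1
    intro w hw
    exact h2.right_eq_zero_of_smul hw
  have hφs : φ s ∈ maximalIdeal (AdicCompletion (maximalIdeal A) A) := by
    have := hmaxmap 1 s (by rwa [pow_one]); rwa [pow_one] at this
  obtain ⟨a', b', c', hd', e, he⟩ := Groth.Agent.Lib.Helper63.NodeAlg.core g.toRingHom hsurj hfr
    (φ x) (φ y) hxy (residue A a) (residue A b) (residue A c) hdisc' hq' (φ s) hφs hsreg'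
  refine ⟨a', b', c', hd', e, fun t => ?_⟩
  have h1 : φ (algebraMap k A t) = g (algebraMap k (ResidueField A) t) := by
    rw [AlgHom.commutes]
    rfl
  have h2 : algebraMap A (ResidueField A) (algebraMap k A t) =
      algebraMap k (ResidueField A) t := rfl
  rw [h2, h1]
  exact he _

end Forward

end Groth.Agent.Lib.Helper63.NodeAlgGlue
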