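import Mathlib.RingTheory.LocalRing.Module
import Mathlib.RingTheory.Flat.Basic
import Mathlib.LinearAlgebra.TensorProduct.Tower
import Mathlib.LinearAlgebra.TensorProduct.RightExactness
import Mathlib.Algebra.Module.Torsion.Basic

/-!
# A Tor-free form of `Tor₁^R(N, M) = 0` for `R/I`-modules `N` (helper63)
-/

universe u
open TensorProduct

namespace Groth.Agent.Lib.Helper63

variable {R : Type u} [CommRing R]

/-- Let `K → F → M → 0` be exact, `S` an `R`-algebra with `S ⊗ K → S ⊗ F` injective and
`S ⊗ M` flat over `S`. Then `N ⊗_R K → N ⊗_R F` is injective for every `S`-module `N`. -/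
theorem lTensor_injective_of_baseChange_flat (S : Type u) [CommRing S] [Algebra R S]
    {K F M : Type u} [AddCommGroup K] [Module R K] [AddCommGroup F] [Module R F]
    [AddCommGroup M] [Module R M]
    (ι : K →ₗ[R] F) (π : F →ₗ[R] M) (hex : Function.Exact ι π) (hπ : Function.Surjective π)
    [Module.Flat S (S ⊗[R] M)]
    (h1 : Function.Injective (LinearMap.lTensor S ι))
    (N : Type u) [AddCommGroup N] [Module R N] [Module S N] [IsScalarTower R S N] :
    Function.Injective (LinearMap.lTensor N ι) := by
  -- S-linear maps
  let ιS : S ⊗[R] K →ₗ[S] S ⊗[R] F := ι.baseChange S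
  let πS : S ⊗[R] F →ₗ[S] S ⊗[R] M := π.baseChange S
  have hιS : Function.Injective ιS := h1
  have hexS : Function.Exact ιS πS := lTensor_exact S hex hπ
  have hπS : Function.Surjective πS := LinearMap.lTensor_surjective S hπ
  -- presentation of `N` over `S`
  let p : (N →₀ S) →ₗ[S] N := Finsupp.linearCombination S id
  have hp : Function.Surjective p := Finsupp.linearCombination_id_surjective S N
  have key : Function.Injective (ιS.lTensor N) := by
    refine lTensor_injective_of_exact_of_exact_of_rTensor_injective (R := S)
      (M₁ := LinearMap.ker p) (M₂ := N →₀ S) (M₃ := N) (f₁ := (LinearMap.ker p).subtype) (f₂ := p)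
      (LinearMap.exact_subtype_ker_map p) hp hexS hπS ?_ ?_
    · exact Module.Flat.rTensor_preserves_injective_linearMap _
        (LinearMap.ker p).injective_subtype
    · exact Module.Flat.lTensor_preserves_injective_linearMap _ hιS
  -- transfer along `N ⊗[S] (S ⊗[R] X) ≃ N ⊗[R] X`
  let eK := AlgebraTensorModule.cancelBaseChange R S S N K
  let eF := AlgebraTensorModule.cancelBaseChange R S S N F
  have hcomm : ∀ x, eF (ιS.lTensor N x) = LinearMap.lTensor N ι (eK x) := by
    intro x
    induction x using TensorProduct.induction_on with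
    | zero => simp
    | tmul n y =>
      induction y using TensorProduct.induction_on with
      | zero => simp
      | tmul s k => simp [eK, eF, ιS]
      | add y z hy hz => simp only [tmul_add, map_add, hy, hz]
    | add x y hx hy => simp only [map_add, hx, hy]
  intro x y hxy
  obtain ⟨x', rfl⟩ := eK.surjective x
  obtain ⟨y', rfl⟩ := eK.surjective y
  rw [← hcomm, ← hcomm] at hxy
  rw [key (eF.injective hxy)]

/-- The same for `S = R ⧸ I` and an `R`-module `N` killed by `I`. -/
theorem lTensor_injective_of_killed (I : Ideal R)
    {K F M : Type u} [AddCommGroup K] [Module R K] [AddCommGroup F] [Module R F]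
    [AddCommGroup M] [Module R M]
    (ι : K →ₗ[R] F) (π : F →ₗ[R] M) (hex : Function.Exact ι π) (hπ : Function.Surjective π)
    [Module.Flat (R ⧸ I) ((R ⧸ I) ⊗[R] M)]
    (h1 : Function.Injective (LinearMap.lTensor (R ⧸ I) ι))
    (N : Type u) [AddCommGroup N] [Module R N] (hN : ∀ a : R, a ∈ I → ∀ x : N, a • x = 0) :
    Function.Injective (LinearMap.lTensor N ι) := by
  have htors : Module.IsTorsionBySet R N (I : Set R) := fun x a => hN a.1 a.2 x
  let inst1 : Module (R ⧸ I) N := htors.module
  have inst2 : IsScalarTower R (R ⧸ I) N := htors.isScalarTower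
  exact lTensor_injective_of_baseChange_flat (R ⧸ I) ι π hex hπ h1 N

end Groth.Agent.Lib.Helper63
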