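import Groth.Agent.Lib.Helper73.TorFirstVar

/-!
# Tor₁ vanishing as injectivity (helper63)

`IsZero (Tor₁(N, M))` (Mathlib's `CategoryTheory.Tor`, derived in the second variable) is
equivalent to injectivity of `N ⊗ K → N ⊗ F` for any short exact `0 → K → F → M → 0` with `F`
projective.  Also the free presentation of a module as a short exact sequence in `ModuleCat`.
-/

universe u
open CategoryTheory CategoryTheory.Limits MonoidalCategory TensorProduct

namespace Groth.Agent.Lib.Helper63

variable {R : Type u} [CommRing R]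

set_option backward.isDefEq.respectTransparency false

/-- `Tor₁(N, S.X₃) = 0` iff `N ⊗ S.X₁ → N ⊗ S.X₂` is injective, for `S` short exact with
projective middle term. -/
theorem tor_one_isZero_iff (N : ModuleCat.{u} R) (S : ShortComplex (ModuleCat.{u} R))
    (hS : S.ShortExact) [Projective S.X₂] :
    IsZero (((Tor (ModuleCat.{u} R) 1).obj N).obj S.X₃) ↔
      Function.Injective (LinearMap.lTensor N S.f.hom) := by
  let F := (tensoringLeft (ModuleCat.{u} R)).obj N
  obtain ⟨-, δ, w₁, w₂, ex₁, ex₂⟩ := Groth.Agent.Lib.Helper73.leftDerived_les F hS 0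
  have hz : IsZero ((F.leftDerived (0 + 1)).obj S.X₂) :=
    Functor.isZero_leftDerived_obj_projective_succ F 0 S.X₂
  have hδ : Mono δ := ex₁.mono_g (hz.eq_of_src _ _)
  have hiso := (Functor.leftDerivedZeroIsoSelf F)
  have hmono_iff : Mono ((F.leftDerived 0).map S.f) ↔ Mono (F.map S.f) := by
    have e : Arrow.mk ((F.leftDerived 0).map S.f) ≅ Arrow.mk (F.map S.f) :=
      Arrow.isoMk (hiso.app _) (hiso.app _) (by simp)
    exact (MorphismProperty.monomorphisms _).arrow_mk_iso_iff e
  have hinj_iff : Mono (F.map S.f) ↔ Function.Injective (LinearMap.lTensor N S.f.hom) := by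
    rw [ModuleCat.mono_iff_injective]
    rfl
  rw [← hinj_iff, ← hmono_iff]
  constructor
  · intro h0
    exact ex₂.mono_g (h0.eq_of_src _ _)
  · intro hm
    have : δ = 0 := by
      rw [← cancel_mono ((F.leftDerived 0).map S.f), w₂, zero_comp]
    exact IsZero.of_mono_eq_zero δ this

/-- The short complex `P → N → N/P` in `ModuleCat`. -/
noncomputable def quotSC {N : Type u} [AddCommGroup N] [Module R N] (P : Submodule R N) :
    ShortComplex (ModuleCat.{u} R) :=
  ShortComplex.mk (ModuleCat.ofHom P.subtype) (ModuleCat.ofHom P.mkQ) (by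
    ext x
    simp)

theorem quotSC_shortExact {N : Type u} [AddCommGroup N] [Module R N] (P : Submodule R N) :
    (quotSC P).ShortExact :=
  ModuleCat.shortComplex_shortExact _ (LinearMap.exact_subtype_mkQ P) Subtype.val_injective
    P.mkQ_surjective

/-- Vanishing of `Tor₁(-, M)` passes to extensions (first variable). -/
theorem tor_one_isZero_of_shortExact {S : ShortComplex (ModuleCat.{u} R)} (hS : S.ShortExact)
    (M : ModuleCat.{u} R)
    (h₁ : IsZero (((Tor (ModuleCat.{u} R) 1).obj S.X₁).obj M))
    (h₃ : IsZero (((Tor (ModuleCat.{u} R) 1).obj S.X₃).obj M)) :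
    IsZero (((Tor (ModuleCat.{u} R) 1).obj S.X₂).obj M) := by
  obtain ⟨⟨w₀, hex⟩, -⟩ := Groth.Agent.Lib.Helper73.tor_les_first hS M 1
  exact hex.isZero_of_both_zeros (h₁.eq_of_src _ _) (h₃.eq_of_tgt _ _)

end Groth.Agent.Lib.Helper63
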