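import Mathlib
import Groth.Agent.Lib.Helper67.EulerLES
import Groth.Agent.S0016

/-! Additivity of the Euler characteristic `Curv2.euler` in short exact sequences, given finite
dimensionality of all cohomology groups (helper63). -/

set_option autoImplicit false
set_option linter.style.haveILetI false
universe u
open AlgebraicGeometry CategoryTheory Limits

namespace Groth.Agent.Lib.Helper63.EulerAdd

open Groth.Agent.Lib.Helper1 Groth.Agent.Lib.Helper17.HHLinLES Groth.Agent.Lib.Helper67.HHLES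

variable (k : Type u) [Field k] {X : Scheme.{u}} [X.Over (Spec (CommRingCat.of k))]

/-- The Euler characteristic as a finite sum, when cohomology vanishes from degree `N` on. -/
theorem euler_eq_sum (F : X.Modules) (N : ℕ)
    (hN : ∀ p : ℕ, N ≤ p → Subsingleton (Coh.HH X F p)) :
    Curv2.euler k X F =
      ∑ i ∈ Finset.range N, (-1 : ℤ) ^ i * (Module.finrank k (Coh.HH X F i) : ℤ) := by
  unfold Curv2.euler
  have hsupp : (Function.support fun i : ℕ =>
      (-1 : ℤ) ^ i * (Module.finrank k (Coh.HH X F i) : ℤ)) ⊆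
        ((Finset.range N : Finset ℕ) : Set ℕ) := by
    intro i hi
    simp only [Finset.coe_range, Set.mem_Iio]
    by_contra hge
    push Not at hge
    haveI := hN i hge
    apply hi
    simp [Module.finrank_zero_of_subsingleton]
  rw [finsum_eq_sum_of_support_subset _ hsupp]

variable {S : ShortComplex X.Modules} (hS : S.ShortExact)

include hS in
/-- The per-degree identity from the long exact sequence. -/
theorem degree_identity (hf₁ : ∀ i, Module.Finite k (Coh.HH X S.X₁ i))
    (hf₂ : ∀ i, Module.Finite k (Coh.HH X S.X₂ i)) (hf₃ : ∀ i, Module.Finite k (Coh.HH X S.X₃ i))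
    (n : ℕ) :
    (Module.finrank k (Coh.HH X S.X₂ n) : ℤ) - Module.finrank k (Coh.HH X S.X₁ n) -
        Module.finrank k (Coh.HH X S.X₃ n) =
      - (Module.finrank k (LinearMap.ker (Canon.HHlin k S.f n)) : ℤ) -
        Module.finrank k (LinearMap.ker (Canon.HHlin k S.f (n + 1))) := by
  haveI := hf₁ n
  haveI := hf₁ (n + 1)
  haveI := hf₂ n
  haveI := hf₃ n
  have e1 := LinearMap.finrank_range_add_finrank_ker (Canon.HHlin k S.f n)
  have e2 := LinearMap.finrank_range_add_finrank_ker (Canon.HHlin k S.g n)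
  have e3 := LinearMap.finrank_range_add_finrank_ker (deltaLin k hS n)
  rw [← range_f_eq_ker_g k hS n] at e2
  rw [← range_eq_ker k hS n] at e3
  rw [range_delta_eq_ker_f k hS n] at e3
  omega

include hS in
theorem telescope (hf₁ : ∀ i, Module.Finite k (Coh.HH X S.X₁ i))
    (hf₂ : ∀ i, Module.Finite k (Coh.HH X S.X₂ i)) (hf₃ : ∀ i, Module.Finite k (Coh.HH X S.X₃ i))
    (n : ℕ) :
    ∑ i ∈ Finset.range n, (-1 : ℤ) ^ i *
        ((Module.finrank k (Coh.HH X S.X₂ i) : ℤ) - Module.finrank k (Coh.HH X S.X₁ i) -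
          Module.finrank k (Coh.HH X S.X₃ i)) =
      (-1 : ℤ) ^ n * Module.finrank k (LinearMap.ker (Canon.HHlin k S.f n)) := by
  induction n with
  | zero =>
    have h0 : LinearMap.ker (Canon.HHlin k S.f 0) = ⊥ :=
      LinearMap.ker_eq_bot.mpr (HHlin_f_zero_injective k hS)
    rw [h0, finrank_bot]
    simp
  | succ n ih =>
    rw [Finset.sum_range_succ, ih, degree_identity k hS hf₁ hf₂ hf₃ n, pow_succ]
    ring

include hS in
/-- **Additivity of the Euler characteristic**, given finite-dimensionality and eventual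
vanishing. -/
theorem euler_additive_of_finite (N : ℕ)
    (hN₁ : ∀ p : ℕ, N ≤ p → Subsingleton (Coh.HH X S.X₁ p))
    (hN₂ : ∀ p : ℕ, N ≤ p → Subsingleton (Coh.HH X S.X₂ p))
    (hN₃ : ∀ p : ℕ, N ≤ p → Subsingleton (Coh.HH X S.X₃ p))
    (hf₁ : ∀ i, Module.Finite k (Coh.HH X S.X₁ i))
    (hf₂ : ∀ i, Module.Finite k (Coh.HH X S.X₂ i)) (hf₃ : ∀ i, Module.Finite k (Coh.HH X S.X₃ i)) :
    Curv2.euler k X S.X₂ = Curv2.euler k X S.X₁ + Curv2.euler k X S.X₃ := by
  rw [euler_eq_sum k S.X₁ N hN₁, euler_eq_sum k S.X₂ N hN₂, euler_eq_sum k S.X₃ N hN₃]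
  have hT := telescope k hS hf₁ hf₂ hf₃ N
  have hker : Module.finrank k (LinearMap.ker (Canon.HHlin k S.f N)) = 0 := by
    haveI := hN₁ N le_rfl
    exact Module.finrank_zero_of_subsingleton
  rw [hker] at hT
  simp only [mul_sub, Finset.sum_sub_distrib, Nat.cast_zero, mul_zero] at hT
  linarith

include hS in
/-- Additivity on a qcqs scheme for quasi-coherent modules with finite-dimensional cohomology. -/
theorem euler_additive_of_qcqs [CompactSpace X] [QuasiSeparatedSpace X]
    (h₁ : Coh.IsQCoh S.X₁) (h₂ : Coh.IsQCoh S.X₂) (h₃ : Coh.IsQCoh S.X₃)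
    (hf₁ : ∀ i, Module.Finite k (Coh.HH X S.X₁ i))
    (hf₂ : ∀ i, Module.Finite k (Coh.HH X S.X₂ i)) (hf₃ : ∀ i, Module.Finite k (Coh.HH X S.X₃ i)) :
    Curv2.euler k X S.X₂ = Curv2.euler k X S.X₁ + Curv2.euler k X S.X₃ := by
  obtain ⟨d, hd⟩ := Groth.Agent.S0016.result X
  exact euler_additive_of_finite k hS d (hd _ h₁) (hd _ h₂) (hd _ h₃) hf₁ hf₂ hf₃

end Groth.Agent.Lib.Helper63.EulerAdd
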