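import Groth.Agent.Lib.Helper63.RelFP

set_option autoImplicit false
universe u

namespace Groth.Agent.Lib.Helper63.RelFP

open TensorProduct

attribute [local instance] MvPolynomial.algebraMvPolynomial

theorem fp_congr_smul {B N : Type*} [Ring B] [AddCommGroup N] (m₁ m₂ : Module B N)
    (h : ∀ (b : B) (x : N), (letI := m₁; b • x) = (letI := m₂; b • x))
    (hfp : @Module.FinitePresentation B N _ _ m₁) : @Module.FinitePresentation B N _ _ m₂ := by
  have : m₁ = m₂ := Module.ext' _ _ h
  subst this
  exact hfp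

section
variable {R A R' A' : Type u} [CommRing R] [CommRing A] [CommRing R'] [CommRing A']
    [Algebra R A] [Algebra R R'] [Algebra A A'] [Algebra R' A'] [Algebra R A'] [IsScalarTower R A A']
    [IsScalarTower R R' A'] [Algebra.IsPushout R A R' A']

/-- the base-changed presentation map -/
noncomputable def bcPres {n : ℕ} (α : MvPolynomial (Fin n) R →ₐ[R] A) : MvPolynomial (Fin n) R' →ₐ[R'] A' :=
  MvPolynomial.aeval (fun i => algebraMap A A' (α (MvPolynomial.X i)))

theorem bcPres_map {n : ℕ} (α : MvPolynomial (Fin n) R →ₐ[R] A) (p : MvPolynomial (Fin n) R) :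
    bcPres (R' := R') (A' := A') α (MvPolynomial.map (algebraMap R R') p) = algebraMap A A' (α p) := by
  induction p using MvPolynomial.induction_on with
  | C r =>
    simp only [bcPres, MvPolynomial.map_C, MvPolynomial.aeval_C]
    rw [← IsScalarTower.algebraMap_apply R R' A', ← MvPolynomial.algebraMap_eq, AlgHom.commutes,
      ← IsScalarTower.algebraMap_apply R A A']
  | add p q hp hq => simp only [map_add, hp, hq]
  | mul_X p i hp =>
    simp only [bcPres] at hp ⊢
    simp only [map_mul, MvPolynomial.map_X, MvPolynomial.aeval_X, hp]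

theorem fp_baseChange {n : ℕ} (M : Type u) [AddCommGroup M] [Module A M]
    (α : MvPolynomial (Fin n) R →ₐ[R] A)
    (hM : @Module.FinitePresentation (MvPolynomial (Fin n) R) M _ _ (Module.compHom M α.toRingHom)) :
    @Module.FinitePresentation (MvPolynomial (Fin n) R') (A' ⊗[A] M) _ _
      (Module.compHom (A' ⊗[A] M) (bcPres (R' := R') (A' := A') α).toRingHom) := by
  let iPA : Algebra (MvPolynomial (Fin n) R) A := α.toRingHom.toAlgebra
  let iPM : Module (MvPolynomial (Fin n) R) M := Module.compHom M α.toRingHom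
  have : IsScalarTower (MvPolynomial (Fin n) R) A M := ⟨fun p a m => by
    change (α p * a) • m = α p • (a • m); rw [mul_smul]⟩
  let iP₁A' : Algebra (MvPolynomial (Fin n) R') A' := (bcPres (R' := R') (A' := A') α).toRingHom.toAlgebra
  let iPA' : Algebra (MvPolynomial (Fin n) R) A' := ((algebraMap A A').comp α.toRingHom).toAlgebra
  have : IsScalarTower (MvPolynomial (Fin n) R) A A' := IsScalarTower.of_algebraMap_eq (fun p => rfl)
  have : IsScalarTower (MvPolynomial (Fin n) R) (MvPolynomial (Fin n) R') A' :=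
    IsScalarTower.of_algebraMap_eq (fun p => (bcPres_map α p).symm)
  have : IsScalarTower R (MvPolynomial (Fin n) R) A :=
    IsScalarTower.of_algebraMap_eq (fun r => (α.commutes r).symm)
  have : IsScalarTower R' (MvPolynomial (Fin n) R') A' :=
    IsScalarTower.of_algebraMap_eq (fun r => ((bcPres (R' := R') (A' := A') α).commutes r).symm)
  have : IsScalarTower R (MvPolynomial (Fin n) R') A' := by
    refine IsScalarTower.of_algebraMap_eq (fun r => ?_)
    rw [IsScalarTower.algebraMap_apply R R' A', IsScalarTower.algebraMap_apply R R' (MvPolynomial (Fin n) R'),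
      ← IsScalarTower.algebraMap_apply R' (MvPolynomial (Fin n) R') A']
  have hpo : Algebra.IsPushout (MvPolynomial (Fin n) R) A (MvPolynomial (Fin n) R') A' :=
    (Algebra.IsPushout.comp_iff R (MvPolynomial (Fin n) R) R' (MvPolynomial (Fin n) R')).mp inferInstance
  have : Algebra.IsPushout (MvPolynomial (Fin n) R) (MvPolynomial (Fin n) R') A A' := hpo.symm
  let e : A' ⊗[A] M ≃ₗ[MvPolynomial (Fin n) R'] (MvPolynomial (Fin n) R') ⊗[MvPolynomial (Fin n) R] M :=
    Algebra.IsPushout.cancelBaseChange (MvPolynomial (Fin n) R) (MvPolynomial (Fin n) R') A A' M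
  have := hM
  have h1 : Module.FinitePresentation (MvPolynomial (Fin n) R') (A' ⊗[A] M) :=
    Module.FinitePresentation.of_equiv e.symm
  have hsmul : ∀ (s : MvPolynomial (Fin n) R') (x : A' ⊗[A] M),
      s • x = (bcPres (R' := R') (A' := A') α s) • x := fun s x => (algebraMap_smul A' s x).symm
  exact fp_congr_smul _ _ hsmul h1

theorem bcPres_surjective {n : ℕ} (α : MvPolynomial (Fin n) R →ₐ[R] A) (hα : Function.Surjective α) :
    Function.Surjective (bcPres (R' := R') (A' := A') α) := by
  intro x
  have hbc : IsBaseChange A (IsScalarTower.toAlgHom R R' A').toLinearMap := Algebra.IsPushout.out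
  refine hbc.inductionOn x (fun x => ∃ y, bcPres (R' := R') (A' := A') α y = x) ⟨0, map_zero _⟩ ?_ ?_ ?_
  · intro r'
    refine ⟨MvPolynomial.C r', ?_⟩
    simp [bcPres]
  · rintro a _ ⟨y, rfl⟩
    obtain ⟨p, rfl⟩ := hα a
    refine ⟨MvPolynomial.map (algebraMap R R') p * y, ?_⟩
    rw [map_mul, bcPres_map, Algebra.smul_def]
  · rintro _ _ ⟨y₁, rfl⟩ ⟨y₂, rfl⟩
    exact ⟨y₁ + y₂, map_add _ _ _⟩

end

/-- independence of the presentation -/
theorem fp_change_presentation {R' A' N : Type u} [CommRing R'] [CommRing A'] [Algebra R' A']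
    [AddCommGroup N] [Module A' N] {n k : ℕ}
    (α' : MvPolynomial (Fin n) R' →ₐ[R'] A') (hα' : Function.Surjective α')
    (γ : MvPolynomial (Fin k) R' →ₐ[R'] A') (hγ : Function.Surjective γ)
    (h : @Module.FinitePresentation (MvPolynomial (Fin n) R') N _ _ (Module.compHom N α'.toRingHom)) :
    @Module.FinitePresentation (MvPolynomial (Fin k) R') N _ _ (Module.compHom N γ.toRingHom) := by
  choose q hq using fun j : Fin k => hα' (γ (MvPolynomial.X j))
  choose p hp using fun i : Fin n => hγ (α' (MvPolynomial.X i))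
  let a₁ : MvPolynomial (Fin n ⊕ Fin k) R' →ₐ[R'] MvPolynomial (Fin n) R' :=
    MvPolynomial.aeval (Sum.elim MvPolynomial.X q)
  let a₂ : MvPolynomial (Fin n ⊕ Fin k) R' →ₐ[R'] MvPolynomial (Fin k) R' :=
    MvPolynomial.aeval (Sum.elim p MvPolynomial.X)
  let δ : MvPolynomial (Fin n ⊕ Fin k) R' →ₐ[R'] A' :=
    MvPolynomial.aeval (Sum.elim (fun i => α' (MvPolynomial.X i)) (fun j => γ (MvPolynomial.X j)))
  have h₁ : α'.comp a₁ = δ := by
    apply MvPolynomial.algHom_ext
    rintro (i | j) <;> simp [a₁, δ, hq]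
  have h₂ : γ.comp a₂ = δ := by
    apply MvPolynomial.algHom_ext
    rintro (i | j) <;> simp [a₂, δ, hp]
  have ha₁ : Function.Surjective a₁ := by
    intro x
    refine ⟨MvPolynomial.rename Sum.inl x, ?_⟩
    simp only [a₁, MvPolynomial.aeval_rename]
    have : (Sum.elim MvPolynomial.X q ∘ Sum.inl : Fin n → MvPolynomial (Fin n) R') = MvPolynomial.X := by
      ext i; simp
    rw [this, MvPolynomial.aeval_X_left, AlgHom.id_apply]
  have ha₂ : Function.Surjective a₂ := by
    intro x
    refine ⟨MvPolynomial.rename Sum.inr x, ?_⟩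
    simp only [a₂, MvPolynomial.aeval_rename]
    have : (Sum.elim p MvPolynomial.X ∘ Sum.inr : Fin k → MvPolynomial (Fin k) R') = MvPolynomial.X := by
      ext i; simp
    rw [this, MvPolynomial.aeval_X_left, AlgHom.id_apply]
  have hk₁ : (RingHom.ker a₁.toRingHom).FG := Algebra.FinitePresentation.ker_fG_of_surjective a₁ ha₁
  -- module structures
  let mδ : Module (MvPolynomial (Fin n ⊕ Fin k) R') N := Module.compHom N δ.toRingHom
  -- step (ii): finitely presented over P''
  have hδ : @Module.FinitePresentation (MvPolynomial (Fin n ⊕ Fin k) R') N _ _ mδ := by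
    let m₁ : Module (MvPolynomial (Fin n) R') N := Module.compHom N α'.toRingHom
    let alg : Algebra (MvPolynomial (Fin n ⊕ Fin k) R') (MvPolynomial (Fin n) R') := a₁.toRingHom.toAlgebra
    have : IsScalarTower (MvPolynomial (Fin n ⊕ Fin k) R') (MvPolynomial (Fin n) R') N := ⟨fun b c x => by
      change α' (a₁ b * c) • x = δ b • (α' c • x)
      rw [map_mul, mul_smul, ← h₁]; rfl⟩
    have := h
    exact fp_of_surjective_of_fg_ker (B := MvPolynomial (Fin n ⊕ Fin k) R') (C := MvPolynomial (Fin n) R')
      ha₁ hk₁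
  -- step (iii)
  let m₂ : Module (MvPolynomial (Fin k) R') N := Module.compHom N γ.toRingHom
  let alg : Algebra (MvPolynomial (Fin n ⊕ Fin k) R') (MvPolynomial (Fin k) R') := a₂.toRingHom.toAlgebra
  have : IsScalarTower (MvPolynomial (Fin n ⊕ Fin k) R') (MvPolynomial (Fin k) R') N := ⟨fun b c x => by
    change γ (a₂ b * c) • x = δ b • (γ c • x)
    rw [map_mul, mul_smul, ← h₂]; rfl⟩
  have := hδ
  exact fp_of_surjective (B := MvPolynomial (Fin n ⊕ Fin k) R') (C := MvPolynomial (Fin k) R') ha₂


end Groth.Agent.Lib.Helper63.RelFP
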