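import Mathlib
import Groth.Agent.Lib.Helper90.PSIdeal
import Groth.Agent.Lib.Helper58.MvPSComplete

/-!
# The ring `k[[s]]` as `MvPowerSeries (Fin 1) k`: factorisation and square roots of units
-/

set_option autoImplicit false

namespace Groth.Agent.Lib.Helper63.ASingA1

open MvPowerSeries IsLocalRing Groth.Agent.Lib.Helper90

universe u

variable {k : Type u} [Field k]

/-- the ring `k[[s]]` -/
abbrev A1 (k : Type u) [Field k] := MvPowerSeries (Fin 1) k

lemma isAdicComplete_A1 : IsAdicComplete (maximalIdeal (A1 k)) (A1 k) := by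
  have : IsAdicComplete (maximalIdeal k) k := by
    rw [IsLocalRing.maximalIdeal_eq_bot]; infer_instance
  exact Groth.Agent.Lib.Helper58.MvPSComplete.isAdicComplete

lemma range_X_eq : Set.range (X : Fin 1 → A1 k) = {X 0} := by
  ext f
  constructor
  · rintro ⟨i, rfl⟩
    fin_cases i
    exact rfl
  · rintro rfl
    exact ⟨0, rfl⟩

lemma maxA1_eq : maximalIdeal (A1 k) = Ideal.span {(X 0 : A1 k)} := by
  rw [PSIdeal.maximalIdeal_eq_span_X, range_X_eq]

lemma mem_maxA1_iff (g : A1 k) : g ∈ maximalIdeal (A1 k) ↔ constantCoeff g = 0 := by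
  rw [PSIdeal.maximalIdeal_eq_span_X, PSIdeal.mem_span_X_iff]

lemma maxA1_pow_eq (m : ℕ) : maximalIdeal (A1 k) ^ m = Ideal.span {(X 0 : A1 k) ^ m} := by
  rw [maxA1_eq, Ideal.span_singleton_pow]

theorem exists_factor (g : A1 k) (hg : g ≠ 0) :
    ∃ (m : ℕ) (w : A1 k), IsUnit w ∧ g = X 0 ^ m * w := by
  classical
  have hex : ∃ m : ℕ, g ∉ maximalIdeal (A1 k) ^ m := by
    obtain ⟨e, he⟩ : ∃ e, coeff e g ≠ 0 := by
      by_contra hcon
      push Not at hcon
      exact hg (MvPowerSeries.ext hcon)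
    refine ⟨e.degree + 1, fun hmem => he ?_⟩
    rw [PSIdeal.maximalIdeal_eq_span_X] at hmem
    exact PSUniv.coeff_eq_zero_of_mem_pow hmem (Nat.lt_succ_self _)
  obtain ⟨m₀, hm₀⟩ : ∃ m₀, m₀ = Nat.find hex := ⟨_, rfl⟩
  have h1 : g ∉ maximalIdeal (A1 k) ^ m₀ := hm₀ ▸ Nat.find_spec hex
  have hm₀0 : m₀ ≠ 0 := by
    rintro rfl
    apply h1
    rw [pow_zero, Ideal.one_eq_top]
    exact Submodule.mem_top
  obtain ⟨m, rfl⟩ := Nat.exists_eq_succ_of_ne_zero hm₀0
  have h2 : g ∈ maximalIdeal (A1 k) ^ m := by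
    by_contra hcon
    have := Nat.find_min' hex hcon
    omega
  rw [maxA1_pow_eq, Ideal.mem_span_singleton] at h2
  obtain ⟨w, hw⟩ := h2
  refine ⟨m, w, ?_, hw⟩
  rw [← IsLocalRing.notMem_maximalIdeal]
  intro hwm
  rw [maxA1_eq, Ideal.mem_span_singleton] at hwm
  obtain ⟨w', hw'⟩ := hwm
  apply h1
  rw [maxA1_pow_eq, Ideal.mem_span_singleton]
  exact ⟨w', by rw [hw, hw', Nat.succ_eq_add_one, pow_succ]; ring⟩

theorem exists_sqrt [IsAlgClosed k] (h2 : (2 : k) ≠ 0) (w : A1 k) (hw : IsUnit w) :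
    ∃ v : A1 k, IsUnit v ∧ v ^ 2 = w := by
  have hc : IsAdicComplete (maximalIdeal (A1 k)) (A1 k) := isAdicComplete_A1
  have ha : constantCoeff w ≠ 0 := by
    rw [MvPowerSeries.isUnit_iff_constantCoeff, isUnit_iff_ne_zero] at hw
    exact hw
  obtain ⟨r, hr⟩ := IsAlgClosed.exists_pow_nat_eq (constantCoeff w) (n := 2) (by norm_num)
  have hr0 : r ≠ 0 := by
    rintro rfl
    rw [zero_pow (by norm_num)] at hr
    exact ha hr.symm
  have hmonic : (Polynomial.X ^ 2 - Polynomial.C w : Polynomial (A1 k)).Monic :=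
    Polynomial.monic_X_pow_sub_C w (by norm_num)
  have heval : (Polynomial.X ^ 2 - Polynomial.C w : Polynomial (A1 k)).eval (C r) ∈
      maximalIdeal (A1 k) := by
    rw [Polynomial.eval_sub, Polynomial.eval_pow, Polynomial.eval_X, Polynomial.eval_C,
      mem_maxA1_iff, map_sub, map_pow, constantCoeff_C, hr, sub_self]
  have hder : IsUnit (Ideal.Quotient.mk (maximalIdeal (A1 k))
      ((Polynomial.X ^ 2 - Polynomial.C w : Polynomial (A1 k)).derivative.eval (C r))) := by
    apply IsUnit.map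
    rw [Polynomial.derivative_sub, Polynomial.derivative_C, sub_zero, Polynomial.derivative_X_pow,
      Polynomial.eval_mul, Polynomial.eval_C, Polynomial.eval_pow, Polynomial.eval_X,
      MvPowerSeries.isUnit_iff_constantCoeff, map_mul, map_pow, constantCoeff_C, isUnit_iff_ne_zero]
    have h2' : constantCoeff (((2 : ℕ) : A1 k)) = (2 : k) := by
      rw [Nat.cast_ofNat]
      exact map_ofNat (constantCoeff (σ := Fin 1) (R := k)) 2
    rw [h2']
    exact mul_ne_zero h2 (pow_ne_zero _ hr0)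
  obtain ⟨v, hv, -⟩ := HenselianRing.is_henselian
    (Polynomial.X ^ 2 - Polynomial.C w : Polynomial (A1 k)) hmonic (C r) heval hder
  rw [Polynomial.IsRoot, Polynomial.eval_sub, Polynomial.eval_pow, Polynomial.eval_X,
    Polynomial.eval_C, sub_eq_zero] at hv
  refine ⟨v, ?_, hv⟩
  have : IsUnit (v ^ 2) := hv ▸ hw
  exact (isUnit_pow_iff (by norm_num)).mp this

end Groth.Agent.Lib.Helper63.ASingA1
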