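import Mathlib
import Groth.Agent.Lib.Helper90.PSSurj
import Groth.Agent.Lib.Helper90.PSIdeal
import Groth.Agent.Lib.Helper58.MvPSComplete
import Groth.Agent.Lib.Helper63.NodeFlat

/-!
# Generalities on `k[[x, y]]`: generators of the maximal ideal, automorphisms, quotients
-/

set_option autoImplicit false

namespace Groth.Agent.Lib.Helper63.ASingGen

open MvPowerSeries IsLocalRing Groth.Agent.Lib.Helper90

universe u

variable {k : Type u} [Field k]

/-- the ring `k[[x, y]]` -/
abbrev PS (k : Type u) [Field k] := MvPowerSeries (Fin 2) k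

/-- its maximal ideal -/
noncomputable abbrev mI (k : Type u) [Field k] : Ideal (PS k) := maximalIdeal (PS k)

lemma mI_eq : mI k = Ideal.span (Set.range (X : Fin 2 → PS k)) :=
  PSIdeal.maximalIdeal_eq_span_X

lemma mem_mI_iff (f : PS k) : f ∈ mI k ↔ constantCoeff f = 0 := by
  rw [mI_eq, PSIdeal.mem_span_X_iff]

lemma mem_mI_pow_iff (n : ℕ) (f : PS k) :
    f ∈ mI k ^ n ↔ ∀ d : Fin 2 →₀ ℕ, d.degree < n → coeff d f = 0 := by
  rw [mI_eq]
  exact PSIdeal.mem_pow_iff n f

lemma X_mem_mI (i : Fin 2) : (X i : PS k) ∈ mI k := by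
  rw [mem_mI_iff, constantCoeff_X]

lemma range_X_eq : Set.range (X : Fin 2 → PS k) = {X 0, X 1} := by
  ext f
  constructor
  · rintro ⟨i, rfl⟩
    fin_cases i
    · exact Or.inl rfl
    · exact Or.inr rfl
  · rintro (rfl | rfl)
    · exact ⟨0, rfl⟩
    · exact ⟨1, rfl⟩

lemma mI_eq' : mI k = Ideal.span {(X 0 : PS k), X 1} := by
  rw [mI_eq, range_X_eq]

/-- Nakayama: a subset of `m` generating `m` modulo `m²` generates `m`. -/
theorem span_eq_of_le_sup (S : Set (PS k)) (hS : ∀ s ∈ S, s ∈ mI k)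
    (h : mI k ≤ Ideal.span S ⊔ mI k ^ 2) : Ideal.span S = mI k := by
  apply le_antisymm
  · rw [Ideal.span_le]
    exact hS
  · apply Submodule.le_of_le_smul_of_le_jacobson_bot (I := mI k)
    · rw [mI_eq]
      exact Submodule.fg_span (Set.finite_range _)
    · exact IsLocalRing.maximalIdeal_le_jacobson _
    · rw [smul_eq_mul, ← pow_two]
      exact h

/-- ring automorphisms preserve the powers of the maximal ideal -/
theorem map_mem_pow (φ : PS k ≃+* PS k) (n : ℕ) {f : PS k} (hf : f ∈ mI k ^ n) :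
    φ f ∈ mI k ^ n := by
  have h1 : mI k ≤ Ideal.comap (φ : PS k →+* PS k) (mI k) := by
    intro g hg
    rw [Ideal.mem_comap, IsLocalRing.mem_maximalIdeal, mem_nonunits_iff]
    rw [IsLocalRing.mem_maximalIdeal, mem_nonunits_iff] at hg
    intro hu
    apply hg
    have := hu.map φ.symm
    simpa using this
  have h2 : mI k ^ n ≤ Ideal.comap (φ : PS k →+* PS k) (mI k ^ n) :=
    le_trans (Ideal.pow_right_mono h1 n) (Ideal.le_comap_pow _ n)
  exact h2 hf

lemma isAdicComplete_PS : IsAdicComplete (mI k) (PS k) := by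
  have : IsAdicComplete (maximalIdeal k) k := by
    rw [IsLocalRing.maximalIdeal_eq_bot]; infer_instance
  exact Groth.Agent.Lib.Helper58.MvPSComplete.isAdicComplete

lemma coe_eq_aeval_X (p : MvPolynomial (Fin 2) k) :
    (p : PS k) = MvPolynomial.aeval (X : Fin 2 → PS k) p := by
  induction p using MvPolynomial.induction_on with
  | C r => rw [MvPolynomial.coe_C, MvPolynomial.aeval_C]; rfl
  | add p q hp hq => rw [MvPolynomial.coe_add, map_add, hp, hq]
  | mul_X p j hp => rw [MvPolynomial.coe_mul, MvPolynomial.coe_X, map_mul, MvPolynomial.aeval_X, hp]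

/-- generators of the maximal ideal define an automorphism -/
theorem exists_aut (A B : PS k) (h : Ideal.span {A, B} = mI k) :
    ∃ ψ : PS k ≃ₐ[k] PS k, ψ (X 0) = A ∧ ψ (X 1) = B ∧
      ∀ p : MvPolynomial (Fin 2) k, ψ (p : PS k) = MvPolynomial.aeval ![A, B] p := by
  have hc : IsAdicComplete (mI k) (PS k) := isAdicComplete_PS
  have hrange : Set.range ![A, B] = {A, B} := by
    rw [Matrix.range_cons, Matrix.range_cons, Matrix.range_empty, Set.union_empty,
      Set.singleton_union]
  have hsurjk : Function.Surjective ((Ideal.Quotient.mk (mI k)).comp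
      (algebraMap k (PS k))) := by
    intro z
    obtain ⟨f, rfl⟩ := Ideal.Quotient.mk_surjective z
    refine ⟨constantCoeff f, ?_⟩
    rw [RingHom.comp_apply, Ideal.Quotient.eq, mem_mI_iff, map_sub]
    change constantCoeff (C (constantCoeff f)) - _ = 0
    rw [constantCoeff_C, sub_self]
  obtain ⟨Φ, hΦs, hΦX, hΦp, -⟩ := PSSurj.exists_surjective_eval
    (B := k) (mI k) ![A, B] (by rw [hrange, h]) hsurjk
  have hinj : Function.Injective Φ :=
    Groth.Agent.Lib.Helper63.NodeFlat.injective_of_surjective_ringEndo Φ.toRingHom hΦs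
  refine ⟨AlgEquiv.ofBijective Φ ⟨hinj, hΦs⟩, hΦX 0, hΦX 1, hΦp⟩

/-- the criterion for an isomorphism of quotients -/
theorem nonempty_quot_equiv (F : PS k) (p : MvPolynomial (Fin 2) k) (A B U : PS k)
    (h : Ideal.span {A, B} = mI k) (hU : IsUnit U)
    (hE : MvPolynomial.aeval ![A, B] p = U * F) :
    Nonempty ((PS k ⧸ Ideal.span {F}) ≃ₐ[k] (PS k ⧸ Ideal.span {(p : PS k)})) := by
  obtain ⟨ψ, -, -, hψ⟩ := exists_aut A B h
  have hIJ : Ideal.span {F} = (Ideal.span {(p : PS k)}).map (ψ : PS k →ₐ[k] PS k) := by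
    rw [Ideal.map_span, Set.image_singleton]
    change _ = Ideal.span {ψ (p : PS k)}
    rw [hψ, hE, Ideal.span_singleton_mul_left_unit hU]
  exact ⟨(Ideal.quotientEquivAlg _ _ ψ hIJ).symm⟩

end Groth.Agent.Lib.Helper63.ASingGen
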