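import Mathlib
import Groth.Agent.Lib.Helper63.ASingGen

/-!
# Non-isomorphism: `k[[x,y]]/(F)` with `F ∈ m³` is not `k[[x,y]]/(p)` for `p ∉ m³`
-/

set_option autoImplicit false

namespace Groth.Agent.Lib.Helper63.ASingNot

open MvPowerSeries IsLocalRing Groth.Agent.Lib.Helper63.ASingGen

universe u

variable {k : Type u} [Field k]

/-- the constant coefficient as an algebra map -/
noncomputable def ccAlg (k : Type u) [Field k] : PS k →ₐ[k] k :=
  { (constantCoeff : PS k →+* k) with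
    commutes' := fun r => constantCoeff_C r }

lemma ccAlg_apply (f : PS k) : ccAlg k f = constantCoeff f := rfl

/-- every `k`-algebra map `k[[x,y]] → k` kills the maximal ideal -/
theorem algHom_eq_zero (χ : PS k →ₐ[k] k) {f : PS k} (hf : f ∈ mI k) : χ f = 0 := by
  have hX : ∀ i : Fin 2, χ (X i) = 0 := by
    intro i
    by_contra hc
    have hu : IsUnit ((X i : PS k) - C (χ (X i))) := by
      rw [MvPowerSeries.isUnit_iff_constantCoeff, map_sub, constantCoeff_X, constantCoeff_C,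
        zero_sub, isUnit_iff_ne_zero]
      exact neg_ne_zero.mpr hc
    have h1 := hu.map χ
    rw [map_sub] at h1
    have h2 : χ (C (χ (X i))) = χ (X i) := by
      have := χ.commutes (χ (X i))
      exact this
    rw [h2, sub_self] at h1
    exact not_isUnit_zero h1
  have hle : mI k ≤ RingHom.ker (χ : PS k →+* k) := by
    rw [mI_eq, Ideal.span_le]
    rintro _ ⟨i, rfl⟩
    exact hX i
  exact hle hf

theorem not_nonempty_quot_equiv (F : PS k) (hF : F ∈ mI k ^ 3) (p : MvPolynomial (Fin 2) k)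
    (hp0 : (p : PS k) ∈ mI k) (hp : (p : PS k) ∉ mI k ^ 3) :
    ¬ Nonempty ((PS k ⧸ Ideal.span {F}) ≃ₐ[k] (PS k ⧸ Ideal.span {(p : PS k)})) := by
  rintro ⟨e⟩
  have h31 : mI k ^ 3 ≤ mI k := Ideal.pow_le_self (by norm_num)
  have h32 : mI k ^ 3 ≤ mI k ^ 2 := Ideal.pow_le_pow_right (by norm_num)
  have hF1 : F ∈ mI k := h31 hF
  have hspanF : Ideal.span {F} ≤ mI k ^ 3 := by
    rw [Ideal.span_le, Set.singleton_subset_iff]; exact hF
  -- augmentations
  obtain ⟨εF, hεF⟩ : ∃ εF : (PS k ⧸ Ideal.span {F}) →ₐ[k] k,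
      ∀ f, εF (Ideal.Quotient.mk _ f) = constantCoeff f := by
    refine ⟨Ideal.Quotient.liftₐ (Ideal.span {F}) (ccAlg k) ?_, fun f => rfl⟩
    intro a ha
    have : a ∈ mI k := h31 (hspanF ha)
    rwa [mem_mI_iff] at this
  obtain ⟨εp, hεp⟩ : ∃ εp : (PS k ⧸ Ideal.span {(p : PS k)}) →ₐ[k] k,
      ∀ f, εp (Ideal.Quotient.mk _ f) = constantCoeff f := by
    refine ⟨Ideal.Quotient.liftₐ (Ideal.span {(p : PS k)}) (ccAlg k) ?_, fun f => rfl⟩
    intro a ha
    have hle : Ideal.span {(p : PS k)} ≤ mI k := by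
      rw [Ideal.span_le, Set.singleton_subset_iff]; exact hp0
    have : a ∈ mI k := hle ha
    rwa [mem_mI_iff] at this
  obtain ⟨mkF, hmkF⟩ : ∃ mkF : PS k →ₐ[k] (PS k ⧸ Ideal.span {F}),
      mkF = Ideal.Quotient.mkₐ k (Ideal.span {F}) := ⟨_, rfl⟩
  obtain ⟨mkp, hmkp⟩ : ∃ mkp : PS k →ₐ[k] (PS k ⧸ Ideal.span {(p : PS k)}),
      mkp = Ideal.Quotient.mkₐ k (Ideal.span {(p : PS k)}) := ⟨_, rfl⟩
  have hmkF_surj : Function.Surjective mkF := by
    rw [hmkF]; exact Ideal.Quotient.mkₐ_surjective k _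
  have hmkF_c : ∀ f, εF (mkF f) = constantCoeff f := by
    intro f; rw [hmkF]; exact hεF f
  have hmkp_c : ∀ f, εp (mkp f) = constantCoeff f := by
    intro f; rw [hmkp]; exact hεp f
  have hmkF_ker : ∀ f, mkF f = 0 → f ∈ Ideal.span {F} := by
    intro f hf
    rw [hmkF] at hf
    exact Ideal.Quotient.eq_zero_iff_mem.mp hf
  -- lifts of the images of the variables
  obtain ⟨A, hA⟩ := hmkF_surj (e.symm (mkp (X 0)))
  obtain ⟨B, hB⟩ := hmkF_surj (e.symm (mkp (X 1)))
  have hAm : A ∈ mI k := by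
    rw [mem_mI_iff, ← hmkF_c, hA]
    exact algHom_eq_zero ((εF.comp (e.symm : _ →ₐ[k] _)).comp mkp) (X_mem_mI 0)
  have hBm : B ∈ mI k := by
    rw [mem_mI_iff, ← hmkF_c, hB]
    exact algHom_eq_zero ((εF.comp (e.symm : _ →ₐ[k] _)).comp mkp) (X_mem_mI 1)
  have hmkp_surj : Function.Surjective mkp := by
    rw [hmkp]; exact Ideal.Quotient.mkₐ_surjective k _
  have hspan : Ideal.span {A, B} = mI k := by
    apply span_eq_of_le_sup
    · rintro s (rfl | rfl)
      · exact hAm
      · exact hBm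
    · intro f hf
      obtain ⟨g, hg⟩ := hmkp_surj (e (mkF f))
      have hgm : g ∈ mI k := by
        rw [mem_mI_iff, ← hmkp_c, hg]
        exact algHom_eq_zero ((εp.comp (e : _ →ₐ[k] _)).comp mkF) hf
      rw [mI_eq', Ideal.mem_span_pair] at hgm
      obtain ⟨u, v, huv⟩ := hgm
      obtain ⟨u', hu'⟩ := hmkF_surj (e.symm (mkp u))
      obtain ⟨v', hv'⟩ := hmkF_surj (e.symm (mkp v))
      have h0 : mkF (u' * A + v' * B) = mkF f := by
        calc mkF (u' * A + v' * B) = mkF u' * mkF A + mkF v' * mkF B := by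
              rw [map_add, map_mul, map_mul]
          _ = e.symm (mkp u) * e.symm (mkp (X 0)) + e.symm (mkp v) * e.symm (mkp (X 1)) := by
              rw [hu', hv', hA, hB]
          _ = e.symm (mkp (u * X 0 + v * X 1)) := by
              rw [map_add mkp, map_mul mkp, map_mul mkp, map_add e.symm, map_mul e.symm,
                map_mul e.symm]
          _ = mkF f := by rw [huv, hg, AlgEquiv.symm_apply_apply]
      have h1 : mkF (f - (u' * A + v' * B)) = 0 := by
        rw [map_sub, h0, sub_self]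
      have h2 : f - (u' * A + v' * B) ∈ mI k ^ 2 := h32 (hspanF (hmkF_ker _ h1))
      have h3 : f = (u' * A + v' * B) + (f - (u' * A + v' * B)) := by ring
      rw [h3]
      refine Submodule.add_mem_sup ?_ h2
      rw [Ideal.mem_span_pair]
      exact ⟨u', v', rfl⟩
  obtain ⟨ψ, -, -, hψ⟩ := exists_aut A B hspan
  have h4 : mkF (MvPolynomial.aeval ![A, B] p) = 0 := by
    rw [MvPolynomial.comp_aeval_apply]
    have hfun : (fun i => mkF (![A, B] i)) =
        fun i => (e.symm : (PS k ⧸ Ideal.span {(p : PS k)}) →ₐ[k]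
        (PS k ⧸ Ideal.span {F})) (mkp ((X : Fin 2 → PS k) i)) := by
      funext i
      fin_cases i
      · exact hA
      · exact hB
    have hstep : MvPolynomial.aeval (fun i => (e.symm : (PS k ⧸ Ideal.span {(p : PS k)}) →ₐ[k]
        (PS k ⧸ Ideal.span {F})) (mkp ((X : Fin 2 → PS k) i))) p =
        (e.symm : (PS k ⧸ Ideal.span {(p : PS k)}) →ₐ[k] (PS k ⧸ Ideal.span {F}))
          (mkp (MvPolynomial.aeval (X : Fin 2 → PS k) p)) := by
      rw [MvPolynomial.comp_aeval_apply, MvPolynomial.comp_aeval_apply]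
    rw [hfun, hstep, ← coe_eq_aeval_X]
    have : mkp (p : PS k) = 0 := by
      rw [hmkp]
      exact Ideal.Quotient.eq_zero_iff_mem.mpr (Ideal.mem_span_singleton_self _)
    rw [this, map_zero]
  have h5 : ψ (p : PS k) ∈ mI k ^ 3 := by
    rw [hψ]
    exact hspanF (hmkF_ker _ h4)
  have h6 := map_mem_pow (ψ.symm : PS k ≃ₐ[k] PS k).toRingEquiv 3 h5
  have h7 : (ψ.symm : PS k ≃ₐ[k] PS k).toRingEquiv (ψ (p : PS k)) = (p : PS k) :=
    ψ.symm_apply_apply _
  rw [h7] at h6
  exact hp h6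

end Groth.Agent.Lib.Helper63.ASingNot
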