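import Mathlib
import Groth.Prelude.Def_W4c1arstab1appArSing
import Groth.Agent.Lib.Helper63.ASingGen

/-!
# The smooth case: `k[[x,y]]/(F) ≅ k[[x,y]]/(y² - x)` when `F` has a non-zero linear term
-/

set_option autoImplicit false

namespace Groth.Agent.Lib.Helper63.ASingSmooth

open MvPowerSeries IsLocalRing Groth.Agent.Lib.Helper63.ASingGen Groth.Agent.Lib.Helper90

universe u

variable {k : Type u} [Field k]

/-- the polynomial `y² - x^(n+1)` -/
noncomputable def pA (k : Type u) [Field k] (n : ℕ) : MvPolynomial (Fin 2) k :=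
  MvPolynomial.X 1 ^ 2 - MvPolynomial.X 0 ^ (n + 1)

lemma coe_pA (n : ℕ) : ((pA k n : MvPolynomial (Fin 2) k) : PS k) = ArSing.eqn k n := by
  rw [pA, ArSing.eqn, ← MvPolynomial.coeToMvPowerSeries.ringHom_apply, map_sub, map_pow, map_pow,
    MvPolynomial.coeToMvPowerSeries.ringHom_apply, MvPolynomial.coeToMvPowerSeries.ringHom_apply,
    MvPolynomial.coe_X, MvPolynomial.coe_X]

lemma aeval_pA (n : ℕ) (A B : PS k) :
    MvPolynomial.aeval ![A, B] (pA k n) = B ^ 2 - A ^ (n + 1) := by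
  rw [pA, map_sub, map_pow, map_pow, MvPolynomial.aeval_X, MvPolynomial.aeval_X]
  rfl

theorem span_smooth (F : PS k) (hF0 : constantCoeff F = 0) (i j : Fin 2) (hij : j ≠ i)
    (hi : coeff (Finsupp.single i 1) F ≠ 0) :
    Ideal.span {X j ^ 2 - F, X j} = mI k := by
  classical
  obtain ⟨ci, hci⟩ : ∃ ci, ci = coeff (Finsupp.single i 1) F := ⟨_, rfl⟩
  obtain ⟨cj, hcj⟩ : ∃ cj, cj = coeff (Finsupp.single j 1) F := ⟨_, rfl⟩
  rw [← hci] at hi
  obtain ⟨F₂, hF₂⟩ : ∃ F₂, F₂ = F - C ci * X i - C cj * X j := ⟨_, rfl⟩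
  have hl : ∀ l : Fin 2, l = i ∨ l = j := by
    intro l
    fin_cases l <;> fin_cases i <;> fin_cases j <;> simp at hij ⊢
  have hsij : (Finsupp.single i 1 : Fin 2 →₀ ℕ) ≠ Finsupp.single j 1 := by
    intro h
    exact hij ((Finsupp.single_left_inj one_ne_zero).mp h).symm
  have hF₂m : F₂ ∈ mI k ^ 2 := by
    rw [mem_mI_pow_iff]
    intro d hd
    rcases PSSurj.eq_zero_or_single_of_degree_lt_two d hd with rfl | ⟨l, rfl⟩
    · rw [hF₂, coeff_zero_eq_constantCoeff_apply, map_sub, map_sub, map_mul, map_mul,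
        constantCoeff_X, constantCoeff_X, hF0, mul_zero, mul_zero, sub_zero, sub_zero]
    · rw [hF₂, map_sub, map_sub, coeff_C_mul, coeff_C_mul, coeff_X, coeff_X]
      rcases hl l with rfl | rfl
      · rw [if_pos rfl, if_neg hsij, ← hci]; ring
      · rw [if_neg (Ne.symm hsij), if_pos rfl, ← hcj]; ring
  have hinv : (C ci⁻¹ : PS k) * C ci = 1 := by
    rw [← map_mul, inv_mul_cancel₀ hi, map_one]
  apply span_eq_of_le_sup
  · rintro s (rfl | rfl)
    · rw [mem_mI_iff, map_sub, map_pow, constantCoeff_X, hF0, sub_zero]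
      exact zero_pow (by norm_num)
    · exact X_mem_mI j
  · refine le_trans (le_of_eq mI_eq) ?_
    rw [Ideal.span_le]
    rintro _ ⟨l, rfl⟩
    rcases hl l with rfl | rfl
    · have hXi : (X l : PS k) = ((C ci⁻¹ * (X j - C cj)) * X j + (-C ci⁻¹) * (X j ^ 2 - F)) +
          (-C ci⁻¹ * F₂) := by
        rw [hF₂]
        linear_combination (-(X l : PS k)) * hinv
      rw [hXi]
      refine Submodule.add_mem_sup ?_ (Ideal.mul_mem_left _ _ hF₂m)
      rw [Ideal.mem_span_pair]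
      exact ⟨-C ci⁻¹, C ci⁻¹ * (X j - C cj), by ring⟩
    · exact le_sup_left (α := Ideal (PS k)) (Ideal.subset_span (Or.inr rfl))

theorem smooth_case (F : PS k) (hF0 : constantCoeff F = 0) (i : Fin 2)
    (hi : coeff (Finsupp.single i 1) F ≠ 0) :
    Nonempty ((PS k ⧸ Ideal.span {F}) ≃ₐ[k] ArSing.ring k 0) := by
  obtain ⟨j, hj⟩ : ∃ j : Fin 2, j ≠ i := by
    fin_cases i
    · exact ⟨1, by decide⟩
    · exact ⟨0, by decide⟩
  have hspan := span_smooth F hF0 i j hj hi
  have h := nonempty_quot_equiv F (pA k 0) (X j ^ 2 - F) (X j) 1 hspan isUnit_one (by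
    rw [aeval_pA, one_mul]; ring)
  rw [coe_pA] at h
  exact h

end Groth.Agent.Lib.Helper63.ASingSmooth
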