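import Mathlib

/-!
# Coefficient functionals on `R[[x,y]]` (helper63)

`Lam c e p N g = ∑_{j ≤ N} c^j · coeff_{x^e y^(2j+p)} g`: the `x^e y^p`-coordinate of the image of
`g` in `R[[x,y]]/(y² - c)` (up to `c^(N+1)`).
-/

set_option autoImplicit false

namespace Groth.Agent.Lib.Helper63.WeierSing2

open MvPowerSeries

variable {R : Type*} [CommRing R]

/-- the exponent of the monomial `x^e y^n` -/
noncomputable def mon (e n : ℕ) : Fin 2 →₀ ℕ := Finsupp.single 0 e + Finsupp.single 1 n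

theorem mon_apply_zero (e n : ℕ) : mon e n 0 = e := by simp [mon]

theorem mon_apply_one (e n : ℕ) : mon e n 1 = n := by simp [mon]

theorem mon_add (e n e' n' : ℕ) : mon e n + mon e' n' = mon (e + e') (n + n') := by
  ext i
  fin_cases i <;> simp [mon]

theorem single_zero_eq (e : ℕ) : (Finsupp.single 0 e : Fin 2 →₀ ℕ) = mon e 0 := by
  simp [mon]

theorem single_one_eq (n : ℕ) : (Finsupp.single 1 n : Fin 2 →₀ ℕ) = mon 0 n := by
  simp [mon]

theorem mon_le_iff (e n e' n' : ℕ) : mon e n ≤ mon e' n' ↔ e ≤ e' ∧ n ≤ n' := by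
  rw [Finsupp.le_def]
  constructor
  · intro h
    have h0 := h 0
    have h1 := h 1
    rw [mon_apply_zero, mon_apply_zero] at h0
    rw [mon_apply_one, mon_apply_one] at h1
    exact ⟨h0, h1⟩
  · rintro ⟨h0, h1⟩ i
    fin_cases i
    · change mon e n 0 ≤ mon e' n' 0
      rw [mon_apply_zero, mon_apply_zero]; exact h0
    · change mon e n 1 ≤ mon e' n' 1
      rw [mon_apply_one, mon_apply_one]; exact h1

theorem mon_inj (e n e' n' : ℕ) : mon e n = mon e' n' ↔ e = e' ∧ n = n' := by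
  constructor
  · intro h
    have h0 := DFunLike.congr_fun h 0
    have h1 := DFunLike.congr_fun h 1
    rw [mon_apply_zero, mon_apply_zero] at h0
    rw [mon_apply_one, mon_apply_one] at h1
    exact ⟨h0, h1⟩
  · rintro ⟨rfl, rfl⟩; rfl

theorem X0_pow_eq (e : ℕ) : (X 0 : MvPowerSeries (Fin 2) R) ^ e = monomial (mon e 0) 1 := by
  rw [X_pow_eq, single_zero_eq]

theorem X1_pow_eq (n : ℕ) : (X 1 : MvPowerSeries (Fin 2) R) ^ n = monomial (mon 0 n) 1 := by
  rw [X_pow_eq, single_one_eq]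

theorem coeff_X0_pow_mul (e n k : ℕ) (g : MvPowerSeries (Fin 2) R) :
    coeff (mon e n) (X 0 ^ k * g) = if k ≤ e then coeff (mon (e - k) n) g else 0 := by
  classical
  rw [X0_pow_eq, coeff_monomial_mul, one_mul]
  by_cases hk : k ≤ e
  · have h1 : mon k 0 ≤ mon e n := by rw [mon_le_iff]; exact ⟨hk, Nat.zero_le _⟩
    rw [if_pos h1, if_pos hk]
    have h2 : mon e n - mon k 0 = mon (e - k) n := by
      ext i
      fin_cases i
      · change (mon e n - mon k 0) 0 = mon (e - k) n 0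
        rw [Finsupp.tsub_apply, mon_apply_zero, mon_apply_zero, mon_apply_zero]
      · change (mon e n - mon k 0) 1 = mon (e - k) n 1
        rw [Finsupp.tsub_apply, mon_apply_one, mon_apply_one, mon_apply_one, Nat.sub_zero]
    rw [h2]
  · have h1 : ¬ mon k 0 ≤ mon e n := by rw [mon_le_iff]; exact fun h => hk h.1
    rw [if_neg h1, if_neg hk]

theorem coeff_X1_pow_mul (e n k : ℕ) (g : MvPowerSeries (Fin 2) R) :
    coeff (mon e n) (X 1 ^ k * g) = if k ≤ n then coeff (mon e (n - k)) g else 0 := by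
  classical
  rw [X1_pow_eq, coeff_monomial_mul, one_mul]
  by_cases hk : k ≤ n
  · have h1 : mon 0 k ≤ mon e n := by rw [mon_le_iff]; exact ⟨Nat.zero_le _, hk⟩
    rw [if_pos h1, if_pos hk]
    have h2 : mon e n - mon 0 k = mon e (n - k) := by
      ext i
      fin_cases i
      · change (mon e n - mon 0 k) 0 = mon e (n - k) 0
        rw [Finsupp.tsub_apply, mon_apply_zero, mon_apply_zero, mon_apply_zero, Nat.sub_zero]
      · change (mon e n - mon 0 k) 1 = mon e (n - k) 1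
        rw [Finsupp.tsub_apply, mon_apply_one, mon_apply_one, mon_apply_one]
    rw [h2]
  · have h1 : ¬ mon 0 k ≤ mon e n := by rw [mon_le_iff]; exact fun h => hk h.2
    rw [if_neg h1, if_neg hk]

theorem coeff_mon_C (e n : ℕ) (r : R) :
    coeff (mon e n) (C r : MvPowerSeries (Fin 2) R) = if e = 0 ∧ n = 0 then r else 0 := by
  classical
  rw [coeff_C]
  have h0 : (0 : Fin 2 →₀ ℕ) = mon 0 0 := by simp [mon]
  by_cases h : e = 0 ∧ n = 0
  · rw [if_pos h, if_pos]
    rw [h0, mon_inj]; exact h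
  · rw [if_neg h, if_neg]
    rw [h0, mon_inj]; exact h

/-- the functional `g ↦ ∑_{j ≤ N} c^j · coeff_{x^e y^(2j+p)} g` -/
noncomputable def Lam (c : R) (e p N : ℕ) : MvPowerSeries (Fin 2) R →ₗ[R] R :=
  ∑ j ∈ Finset.range (N + 1),
    c ^ j • (coeff (mon e (2 * j + p)) : MvPowerSeries (Fin 2) R →ₗ[R] R)

theorem Lam_apply (c : R) (e p N : ℕ) (g : MvPowerSeries (Fin 2) R) :
    Lam c e p N g = ∑ j ∈ Finset.range (N + 1), c ^ j * coeff (mon e (2 * j + p)) g := by
  simp [Lam, LinearMap.sum_apply, smul_eq_mul]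

theorem Lam_C_mul (c : R) (e p N : ℕ) (r : R) (g : MvPowerSeries (Fin 2) R) :
    Lam c e p N (C r * g) = r * Lam c e p N g := by
  rw [← smul_eq_C_mul, map_smul, smul_eq_mul]

theorem Lam_succ (c : R) (e p N : ℕ) (g : MvPowerSeries (Fin 2) R) :
    Lam c e p (N + 1) g = Lam c e p N g + c ^ (N + 1) * coeff (mon e (2 * (N + 1) + p)) g := by
  rw [Lam_apply, Lam_apply, Finset.sum_range_succ]

/-- telescoping -/
theorem Lam_sq_sub_mul (c : R) (e p : ℕ) (hp : p < 2) (N : ℕ) (h : MvPowerSeries (Fin 2) R) :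
    Lam c e p N ((X 1 ^ 2 - C c) * h) = - (c ^ (N + 1) * coeff (mon e (2 * N + p)) h) := by
  induction N with
  | zero =>
    rw [Lam_apply, Finset.sum_range_one, sub_mul, map_sub, coeff_X1_pow_mul, coeff_C_mul,
      if_neg (by omega)]
    ring
  | succ N ih =>
    rw [Lam_succ, ih, sub_mul, map_sub, coeff_X1_pow_mul, coeff_C_mul, if_pos (by omega)]
    have h1 : 2 * (N + 1) + p - 2 = 2 * N + p := by omega
    rw [h1]
    ring

theorem Lam_X0_pow_mul (c : R) (e p N k : ℕ) (hk : e < k) (h : MvPowerSeries (Fin 2) R) :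
    Lam c e p N (X 0 ^ k * h) = 0 := by
  rw [Lam_apply]
  apply Finset.sum_eq_zero
  intro j _
  rw [coeff_X0_pow_mul, if_neg (by omega), mul_zero]

theorem dvd_Lam_X1_mul (c q : R) (hq : q ∣ c) (e N : ℕ) (h : MvPowerSeries (Fin 2) R) :
    q ∣ Lam c e 0 N (X 1 * h) := by
  rw [Lam_apply]
  apply Finset.dvd_sum
  intro j _
  have h1 : (X 1 : MvPowerSeries (Fin 2) R) * h = X 1 ^ 1 * h := by rw [pow_one]
  rw [h1, coeff_X1_pow_mul]
  rcases Nat.eq_zero_or_pos j with hj | hj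
  · rw [if_neg (by omega), mul_zero]
    exact dvd_zero _
  · apply Dvd.dvd.mul_right
    exact dvd_trans hq (dvd_pow_self c (by omega))

theorem Lam_C (c : R) (N : ℕ) (r : R) : Lam c 0 0 N (C r) = r := by
  rw [Lam_apply, Finset.sum_eq_single 0]
  · rw [coeff_mon_C, if_pos ⟨rfl, by omega⟩, pow_zero, one_mul]
  · intro j _ hj
    rw [coeff_mon_C, if_neg (by omega), mul_zero]
  · intro h
    exact absurd (Finset.mem_range.mpr (Nat.succ_pos N)) h

theorem Lam_C_mul_X0_mul_X1 (c : R) (N : ℕ) (r : R) :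
    Lam c 1 1 N (C r * (X 0 * X 1)) = r := by
  classical
  have h1 : (X 0 * X 1 : MvPowerSeries (Fin 2) R) = monomial (mon 1 1) 1 := by
    have h2 : (X 0 : MvPowerSeries (Fin 2) R) = X 0 ^ 1 := (pow_one _).symm
    have h3 : (X 1 : MvPowerSeries (Fin 2) R) = X 1 ^ 1 := (pow_one _).symm
    rw [h2, h3, X0_pow_eq, X1_pow_eq, monomial_mul_monomial, mon_add, one_mul]
  rw [Lam_C_mul, Lam_apply, Finset.sum_eq_single 0]
  · rw [h1, coeff_monomial, if_pos rfl, pow_zero, one_mul, mul_one]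
  · intro j _ hj
    rw [h1, coeff_monomial, if_neg, mul_zero]
    rw [mon_inj]
    omega
  · intro h
    exact absurd (Finset.mem_range.mpr (Nat.succ_pos N)) h

/-- a functional divisible by `q` on all multiples of the generators is divisible by `q` on the
ideal -/
theorem dvd_of_mem_span {q : R} (Λ : MvPowerSeries (Fin 2) R →ₗ[R] R)
    (s : Set (MvPowerSeries (Fin 2) R)) (hs : ∀ g ∈ s, ∀ h, q ∣ Λ (h * g)) :
    ∀ g ∈ Ideal.span s, q ∣ Λ g := by
  have key : ∀ g ∈ Ideal.span s, ∀ h, q ∣ Λ (h * g) := by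
    intro g hg
    refine Submodule.span_induction (p := fun g _ => ∀ h, q ∣ Λ (h * g)) ?_ ?_ ?_ ?_ hg
    · intro g hg h
      exact hs g hg h
    · intro h
      rw [mul_zero, map_zero]
      exact dvd_zero _
    · intro g₁ g₂ _ _ h₁ h₂ h
      rw [mul_add, map_add]
      exact dvd_add (h₁ h) (h₂ h)
    · intro a g _ hg h
      rw [smul_eq_mul, ← mul_assoc]
      exact hg (h * a)
  intro g hg
  have := key g hg 1
  rwa [one_mul] at this

theorem detect_a (c q : R) (hq : q ∣ c) (v : ℕ) (g : MvPowerSeries (Fin 2) R)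
    (hg : g ∈ Ideal.span {(X 0 : MvPowerSeries (Fin 2) R), X 1 ^ 2 - C c, C (q ^ v) * X 1,
      C (q ^ (v + 1))}) :
    q ^ (v + 1) ∣ Lam c 0 0 v g := by
  refine dvd_of_mem_span (Lam c 0 0 v) _ ?_ g hg
  intro g hg h
  simp only [Set.mem_insert_iff, Set.mem_singleton_iff] at hg
  rcases hg with hg | hg | hg | hg <;> rw [hg]
  · have h1 : h * X 0 = X 0 ^ 1 * h := by ring
    rw [h1, Lam_X0_pow_mul c 0 0 v 1 (by omega)]
    exact dvd_zero _
  · rw [mul_comm, Lam_sq_sub_mul c 0 0 (by omega)]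
    apply Dvd.dvd.neg_right
    apply Dvd.dvd.mul_right
    exact pow_dvd_pow_of_dvd hq _
  · have h1 : h * (C (q ^ v) * X 1) = C (q ^ v) * (X 1 * h) := by ring
    rw [h1, Lam_C_mul, pow_succ]
    exact mul_dvd_mul_left _ (dvd_Lam_X1_mul c q hq 0 v h)
  · rw [mul_comm, Lam_C_mul]
    exact Dvd.intro _ rfl

theorem detect_b (c q : R) (hq : q ∣ c) (w : ℕ) (g : MvPowerSeries (Fin 2) R)
    (hg : g ∈ Ideal.span {(X 0 : MvPowerSeries (Fin 2) R) ^ 2, X 1 ^ 2 - C c,
      C (q ^ (w + 1))}) :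
    q ^ (w + 1) ∣ Lam c 1 1 w g := by
  refine dvd_of_mem_span (Lam c 1 1 w) _ ?_ g hg
  intro g hg h
  simp only [Set.mem_insert_iff, Set.mem_singleton_iff] at hg
  rcases hg with hg | hg | hg <;> rw [hg]
  · rw [mul_comm, Lam_X0_pow_mul c 1 1 w 2 (by omega)]
    exact dvd_zero _
  · rw [mul_comm, Lam_sq_sub_mul c 1 1 (by omega)]
    apply Dvd.dvd.neg_right
    apply Dvd.dvd.mul_right
    exact pow_dvd_pow_of_dvd hq _
  · rw [mul_comm, Lam_C_mul]
    exact Dvd.intro _ rfl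

end Groth.Agent.Lib.Helper63.WeierSing2
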