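import Mathlib
import Groth.Agent.Lib.Helper63.ASingGen
import Groth.Agent.Lib.Helper63.ASingA1
import Groth.Agent.Lib.Helper63.WeierSing2

/-!
# Weierstrass preparation and completing the square in `k[[x, y]]`
-/

set_option autoImplicit false

namespace Groth.Agent.Lib.Helper63.ASingWeier

open MvPowerSeries IsLocalRing Groth.Agent.Lib.Helper63.ASingGen Groth.Agent.Lib.Helper63.ASingA1
  Groth.Agent.Lib.Helper63.WeierSing2

universe u

variable {k : Type u} [Field k]

/-- `k[[x,y]] ≅ k[[s]][[T]]`, `x ↦ T`, `y ↦ s` -/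
noncomputable def eps (k : Type u) [Field k] : PS k ≃ₐ[k] PowerSeries (A1 k) :=
  MvPowerSeries.finSuccEquiv k 1

/-- `k[[s]] → k[[x,y]]`, `s ↦ y` -/
noncomputable def iota (k : Type u) [Field k] : A1 k →+* PS k :=
  ((eps k).symm : PowerSeries (A1 k) →+* PS k).comp PowerSeries.C

lemma eps_X0 : eps k (X 0) = PowerSeries.X := MvPowerSeries.finSuccEquiv_X_zero

lemma eps_X1 : eps k (X 1) = PowerSeries.C (X 0) :=
  MvPowerSeries.finSuccEquiv_X_succ (R := k) (n := 1) 0

lemma symm_X : (eps k).symm PowerSeries.X = X 0 := by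
  rw [← eps_X0, AlgEquiv.symm_apply_apply]

lemma iota_apply (g : A1 k) : iota k g = (eps k).symm (PowerSeries.C g) := rfl

lemma iota_X0 : iota k (X 0) = X 1 := by
  rw [iota_apply, ← eps_X1, AlgEquiv.symm_apply_apply]

lemma cons_zero_eq_mon (j : ℕ) : (Finsupp.cons j (0 : Fin 1 →₀ ℕ) : Fin 2 →₀ ℕ) = mon j 0 := by
  rw [Finsupp.cons_zero_eq_single_zero, mon, Finsupp.single_zero, add_zero]

lemma constantCoeff_coeff_eps (F : PS k) (j : ℕ) :
    constantCoeff (PowerSeries.coeff j (eps k F)) = coeff (mon j 0) F := by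
  rw [← coeff_zero_eq_constantCoeff_apply, eps, MvPowerSeries.coeff_coeff_finSuccEquiv,
    cons_zero_eq_mon]

lemma degree_mon (e n : ℕ) : (mon e n).degree = e + n := by
  rw [mon, map_add, Finsupp.degree_single, Finsupp.degree_single]

theorem weier [IsAlgClosed k] (h2 : (2 : k) ≠ 0) (F : PS k) (hF : F ∈ mI k ^ 2)
    (hα : coeff (mon 2 0) F ≠ 0) :
    ∃ (B U : PS k), IsUnit U ∧ Ideal.span {X 1, B} = mI k ∧
      (B ^ 2 = U * F ∨ ∃ m : ℕ, B ^ 2 - X 1 ^ (m + 1) = U * F) := by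
  classical
  have hc : IsAdicComplete (maximalIdeal (A1 k)) (A1 k) := isAdicComplete_A1
  obtain ⟨G, hG⟩ : ∃ G, G = eps k F := ⟨_, rfl⟩
  -- the reduction of `G`
  have hres : ∀ j, PowerSeries.coeff j (G.map (residue (A1 k))) = 0 ↔ coeff (mon j 0) F = 0 := by
    intro j
    rw [PowerSeries.coeff_map, residue_eq_zero_iff, mem_maxA1_iff, hG, constantCoeff_coeff_eps]
  have hlow : ∀ j, j < 2 → coeff (mon j 0) F = 0 := by
    intro j hj
    rw [mem_mI_pow_iff] at hF
    exact hF _ (by rw [degree_mon]; omega)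
  have hord : (G.map (residue (A1 k))).order = 2 := by
    have : (G.map (residue (A1 k))).order = ((2 : ℕ) : ℕ∞) := by
      rw [PowerSeries.order_eq_nat]
      exact ⟨fun h => hα ((hres 2).mp h), fun i hi => (hres i).mpr (hlow i hi)⟩
    exact this
  have hne : G.map (residue (A1 k)) ≠ 0 := by
    intro h
    rw [h, PowerSeries.order_zero] at hord
    exact absurd hord (by simp)
  obtain ⟨f, h, H⟩ := G.exists_isWeierstrassFactorization hne
  have hdeg : f.natDegree = 2 := by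
    rw [H.natDegree_eq_toNat_order_map, hord]
    rfl
  have hmonic : f.Monic := H.isDistinguishedAt.monic
  obtain ⟨b, hb⟩ : ∃ b, b = f.coeff 1 := ⟨_, rfl⟩
  obtain ⟨c, hcc⟩ : ∃ c, c = f.coeff 0 := ⟨_, rfl⟩
  have hbm : b ∈ maximalIdeal (A1 k) := by
    rw [hb]; exact H.isDistinguishedAt.mem (by omega)
  have hcm : c ∈ maximalIdeal (A1 k) := by
    rw [hcc]; exact H.isDistinguishedAt.mem (by omega)
  have hf : f = Polynomial.X ^ 2 + Polynomial.C b * Polynomial.X + Polynomial.C c := by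
    refine Polynomial.ext fun n => ?_
    rw [Polynomial.coeff_add, Polynomial.coeff_add, Polynomial.coeff_X_pow,
      Polynomial.coeff_C_mul_X, Polynomial.coeff_C]
    by_cases h0 : n = 0
    · subst h0; simp [hcc]
    by_cases h1 : n = 1
    · subst h1; simp [hb]
    by_cases h22 : n = 2
    · subst h22
      have : f.coeff 2 = 1 := by
        have := hmonic.coeff_natDegree
        rwa [hdeg] at this
      simp [this]
    · rw [if_neg h22, if_neg h1, if_neg h0, add_zero, add_zero]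
      exact Polynomial.coeff_eq_zero_of_natDegree_lt (show f.natDegree < n by rw [hdeg]; omega)
  -- completing the square
  obtain ⟨d, hd⟩ : ∃ d : A1 k, d = C (2⁻¹ : k) * b := ⟨_, rfl⟩
  have hbd : b = 2 * d := by
    have h22 : (2 : A1 k) = C (2 : k) := (map_ofNat (C (σ := Fin 1) (R := k)) 2).symm
    rw [hd, h22, ← mul_assoc, ← map_mul, mul_inv_cancel₀ h2, map_one, one_mul]
  have hdm : d ∈ maximalIdeal (A1 k) := by
    rw [hd]; exact Ideal.mul_mem_left _ _ hbm
  obtain ⟨g, hg⟩ : ∃ g : A1 k, g = d ^ 2 - c := ⟨_, rfl⟩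
  have hgm : g ∈ maximalIdeal (A1 k) := by
    rw [hg]
    exact Ideal.sub_mem _ (Ideal.pow_mem_of_mem _ hdm 2 (by norm_num)) hcm
  have hfsq : (f : PowerSeries (A1 k)) =
      (PowerSeries.X + PowerSeries.C d) ^ 2 - PowerSeries.C g := by
    rw [hf, Polynomial.coe_add, Polynomial.coe_add, Polynomial.coe_mul, Polynomial.coe_pow,
      Polynomial.coe_X, Polynomial.coe_C, Polynomial.coe_C, hg, hbd, map_sub, map_pow, map_mul]
    have : (PowerSeries.C (2 : A1 k) : PowerSeries (A1 k)) = 2 := map_ofNat _ 2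
    rw [this]
    ring
  -- transport to `k[[x,y]]`
  obtain ⟨B, hB⟩ : ∃ B : PS k, B = X 0 + iota k d := ⟨_, rfl⟩
  obtain ⟨H', hH'⟩ : ∃ H' : PS k, H' = (eps k).symm h := ⟨_, rfl⟩
  have hH'u : IsUnit H' := by
    rw [hH']
    exact H.isUnit.map (eps k).symm
  have hFeq : F = (B ^ 2 - iota k g) * H' := by
    have : F = (eps k).symm G := by rw [hG, AlgEquiv.symm_apply_apply]
    rw [this, H.eq_mul, map_mul, hfsq, map_sub, map_pow, map_add, symm_X, ← iota_apply,
      ← iota_apply, hB, hH']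
  obtain ⟨U₀, hU₀⟩ := hH'u
  have hUF : B ^ 2 - iota k g = (↑U₀⁻¹ : PS k) * F := by
    rw [hFeq, ← hU₀, mul_comm, mul_assoc, Units.mul_inv, mul_one]
  -- `span {X 1, B} = m`
  have hspanB : Ideal.span {(X 1 : PS k), B} = mI k := by
    rw [maxA1_eq, Ideal.mem_span_singleton] at hdm
    obtain ⟨d', hd'⟩ := hdm
    have hιd : iota k d = X 1 * iota k d' := by rw [hd', map_mul, iota_X0]
    apply le_antisymm
    · rw [Ideal.span_le]
      rintro s (rfl | rfl)
      · exact X_mem_mI 1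
      · rw [hB, hιd]
        exact Ideal.add_mem _ (X_mem_mI 0) (Ideal.mul_mem_right _ _ (X_mem_mI 1))
    · rw [mI_eq', Ideal.span_le]
      rintro s (rfl | rfl)
      · rw [SetLike.mem_coe, Ideal.mem_span_pair]
        exact ⟨-iota k d', 1, by rw [hB, hιd]; ring⟩
      · exact Ideal.subset_span (Or.inl rfl)
  by_cases hg0 : g = 0
  · refine ⟨B, ↑U₀⁻¹, Units.isUnit _, hspanB, Or.inl ?_⟩
    rw [← hUF, hg0, map_zero, sub_zero]
  · obtain ⟨m, w, hw, hgw⟩ := exists_factor g hg0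
    have hm0 : m ≠ 0 := by
      rintro rfl
      rw [pow_zero, one_mul] at hgw
      rw [hgw] at hgm
      exact (IsLocalRing.notMem_maximalIdeal.mpr hw) hgm
    obtain ⟨m', rfl⟩ := Nat.exists_eq_succ_of_ne_zero hm0
    obtain ⟨v, hv, hvw⟩ := exists_sqrt h2 w hw
    obtain ⟨V, hV⟩ := hv.map (iota k)
    have hιg : iota k g = X 1 ^ (m' + 1) * (V : PS k) ^ 2 := by
      rw [hgw, ← hvw, map_mul, map_pow, map_pow, iota_X0, hV]
    refine ⟨B * ↑V⁻¹, ↑V⁻¹ ^ 2 * ↑U₀⁻¹, ?_, ?_, Or.inr ⟨m', ?_⟩⟩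
    · exact ((Units.isUnit _).pow 2).mul (Units.isUnit _)
    · rw [← hspanB]
      apply le_antisymm
      · rw [Ideal.span_le]
        rintro s (rfl | rfl)
        · exact Ideal.subset_span (Or.inl rfl)
        · exact Ideal.mul_mem_right _ _ (Ideal.subset_span (Or.inr rfl))
      · rw [Ideal.span_le]
        rintro s (rfl | rfl)
        · exact Ideal.subset_span (Or.inl rfl)
        · rw [SetLike.mem_coe, Ideal.mem_span_pair]
          exact ⟨0, ↑V, by rw [zero_mul, zero_add, mul_comm, mul_assoc, Units.inv_mul, mul_one]⟩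
    · have hVV : (↑V⁻¹ : PS k) ^ 2 * (V : PS k) ^ 2 = 1 := by
        rw [← mul_pow, Units.inv_mul, one_pow]
      calc (B * ↑V⁻¹) ^ 2 - X 1 ^ (m' + 1)
          = ↑V⁻¹ ^ 2 * (B ^ 2 - X 1 ^ (m' + 1) * (V : PS k) ^ 2) := by
            linear_combination (X 1 ^ (m' + 1) : PS k) * hVV
        _ = ↑V⁻¹ ^ 2 * ↑U₀⁻¹ * F := by rw [← hιg, hUF, mul_assoc]

end Groth.Agent.Lib.Helper63.ASingWeier
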