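import Mathlib
import Groth.Prelude.Def_W4c1arstab1appArSing
import Groth.Agent.Lib.Helper63.ASingGen
import Groth.Agent.Lib.Helper63.ASingNot
import Groth.Agent.Lib.Helper63.ASingSmooth
import Groth.Agent.Lib.Helper63.ASingWeier

/-!
# Classification of plane curve germs with non-vanishing 2-jet (`2 ≠ 0`, `k` algebraically closed)
-/

set_option autoImplicit false

namespace Groth.Agent.Lib.Helper63.ASingMain

open MvPowerSeries IsLocalRing Groth.Agent.Lib.Helper63.ASingGen Groth.Agent.Lib.Helper63.ASingA1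
  Groth.Agent.Lib.Helper63.WeierSing2 Groth.Agent.Lib.Helper63.ASingWeier
  Groth.Agent.Lib.Helper63.ASingSmooth Groth.Agent.Lib.Helper63.ASingNot
  Groth.Agent.Lib.Helper90

universe u

variable {k : Type u} [Field k]

lemma eq_mon (d : Fin 2 →₀ ℕ) : d = mon (d 0) (d 1) := by
  ext i
  fin_cases i
  · simp [mon]
  · simp [mon]

lemma coeff_mon_mul_pow (e n a b : ℕ) :
    coeff (mon e n) ((X 0 : PS k) ^ a * X 1 ^ b) = if e = a ∧ n = b then 1 else 0 := by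
  classical
  rw [X0_pow_eq, X1_pow_eq, monomial_mul_monomial, mon_add, one_mul, add_zero, zero_add,
    coeff_monomial]
  by_cases h : e = a ∧ n = b
  · rw [if_pos h, if_pos ((mon_inj _ _ _ _).mpr h)]
  · rw [if_neg h, if_neg (fun h' => h ((mon_inj _ _ _ _).mp h'))]

/-- the 2-jet polynomial -/
noncomputable def jet (α β γ : k) : MvPolynomial (Fin 2) k :=
  MvPolynomial.C α * MvPolynomial.X 0 ^ 2 + MvPolynomial.C β * (MvPolynomial.X 0 * MvPolynomial.X 1) +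
    MvPolynomial.C γ * MvPolynomial.X 1 ^ 2

lemma coe_jet (α β γ : k) : ((jet α β γ : MvPolynomial (Fin 2) k) : PS k) =
    C α * (X 0 ^ 2 * X 1 ^ 0) + C β * (X 0 ^ 1 * X 1 ^ 1) + C γ * (X 0 ^ 0 * X 1 ^ 2) := by
  rw [jet, ← MvPolynomial.coeToMvPowerSeries.ringHom_apply, map_add, map_add, map_mul, map_mul,
    map_mul, map_mul, map_pow, map_pow]
  simp only [MvPolynomial.coeToMvPowerSeries.ringHom_apply, MvPolynomial.coe_C, MvPolynomial.coe_X]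
  ring

lemma aeval_jet (α β γ : k) (A B : PS k) :
    MvPolynomial.aeval ![A, B] (jet α β γ) = C α * A ^ 2 + C β * (A * B) + C γ * B ^ 2 := by
  rw [jet, map_add, map_add, map_mul, map_mul, map_mul, map_mul, map_pow, map_pow,
    MvPolynomial.aeval_C, MvPolynomial.aeval_C, MvPolynomial.aeval_C, MvPolynomial.aeval_X,
    MvPolynomial.aeval_X]
  rfl

lemma sub_jet_mem (F : PS k) (hF : F ∈ mI k ^ 2) :
    F - ((jet (coeff (mon 2 0) F) (coeff (mon 1 1) F) (coeff (mon 0 2) F) :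
      MvPolynomial (Fin 2) k) : PS k) ∈ mI k ^ 3 := by
  rw [mem_mI_pow_iff] at hF ⊢
  intro d hd
  obtain ⟨e, n, rfl⟩ : ∃ e n, d = mon e n := ⟨_, _, eq_mon d⟩
  rw [degree_mon] at hd
  rw [map_sub, coe_jet, map_add, map_add, coeff_C_mul, coeff_C_mul, coeff_C_mul,
    coeff_mon_mul_pow, coeff_mon_mul_pow, coeff_mon_mul_pow]
  have hlow : e + n < 2 → coeff (mon e n) F = 0 := fun h => hF _ (by rw [degree_mon]; exact h)
  have h6 : (e = 0 ∧ n = 0) ∨ (e = 1 ∧ n = 0) ∨ (e = 0 ∧ n = 1) ∨ (e = 2 ∧ n = 0) ∨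
      (e = 1 ∧ n = 1) ∨ (e = 0 ∧ n = 2) := by omega
  rcases h6 with ⟨rfl, rfl⟩ | ⟨rfl, rfl⟩ | ⟨rfl, rfl⟩ | ⟨rfl, rfl⟩ | ⟨rfl, rfl⟩ | ⟨rfl, rfl⟩
  · rw [hlow (by norm_num)]; simp
  · rw [hlow (by norm_num)]; simp
  · rw [hlow (by norm_num)]; simp
  · simp
  · simp
  · simp

/-- the `x²`-coefficient after the shear `y ↦ y + t x` -/
lemma coeff_shear (ψ : PS k ≃ₐ[k] PS k) (t : k)
    (hψ : ∀ p : MvPolynomial (Fin 2) k,
      ψ (p : PS k) = MvPolynomial.aeval ![X 0, X 1 + C t * X 0] p)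
    (F : PS k) (hF : F ∈ mI k ^ 2) :
    coeff (mon 2 0) (ψ F) =
      coeff (mon 2 0) F + coeff (mon 1 1) F * t + coeff (mon 0 2) F * t ^ 2 := by
  obtain ⟨α, hα⟩ : ∃ α, α = coeff (mon 2 0) F := ⟨_, rfl⟩
  obtain ⟨β, hβ⟩ : ∃ β, β = coeff (mon 1 1) F := ⟨_, rfl⟩
  obtain ⟨γ, hγ⟩ : ∃ γ, γ = coeff (mon 0 2) F := ⟨_, rfl⟩
  have h3 := sub_jet_mem F hF
  rw [← hα, ← hβ, ← hγ] at h3 ⊢
  have h3' := map_mem_pow ψ.toRingEquiv 3 h3
  have hdec : ψ F = ψ ((jet α β γ : MvPolynomial (Fin 2) k) : PS k) +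
      ψ.toRingEquiv (F - ((jet α β γ : MvPolynomial (Fin 2) k) : PS k)) := by
    change _ = _ + ψ (F - _)
    rw [← map_add]
    congr 1
    ring
  rw [mem_mI_pow_iff] at h3'
  rw [hdec, map_add, h3' (mon 2 0) (by rw [degree_mon]; norm_num), add_zero, hψ, aeval_jet]
  have hexp : (C α * X 0 ^ 2 + C β * (X 0 * (X 1 + C t * X 0)) + C γ * (X 1 + C t * X 0) ^ 2 : PS k)
      = C (α + β * t + γ * t ^ 2) * (X 0 ^ 2 * X 1 ^ 0) + C (β + 2 * γ * t) * (X 0 ^ 1 * X 1 ^ 1) +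
        C γ * (X 0 ^ 0 * X 1 ^ 2) := by
    simp only [map_add, map_mul, map_pow, map_ofNat]
    ring
  rw [hexp, map_add, map_add, coeff_C_mul, coeff_C_mul, coeff_C_mul, coeff_mon_mul_pow,
    coeff_mon_mul_pow, coeff_mon_mul_pow]
  simp

lemma coe_X1_sq : (((MvPolynomial.X 1 : MvPolynomial (Fin 2) k) ^ 2 : MvPolynomial (Fin 2) k) :
    PS k) = X 1 ^ 2 := by
  rw [MvPolynomial.coe_pow, MvPolynomial.coe_X]

theorem quad_case [IsAlgClosed k] (h2 : (2 : k) ≠ 0) (F : PS k) (hF : F ∈ mI k ^ 2)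
    (hne : coeff (mon 2 0) F ≠ 0 ∨ coeff (mon 1 1) F ≠ 0 ∨ coeff (mon 0 2) F ≠ 0) :
    (∃ n : ℕ, Nonempty ((PS k ⧸ Ideal.span {F}) ≃ₐ[k] ArSing.ring k n)) ∨
      Nonempty ((PS k ⧸ Ideal.span {F}) ≃ₐ[k]
        (PS k ⧸ Ideal.span ({X 1 ^ 2} : Set (PS k)))) := by
  obtain ⟨α, hα⟩ : ∃ α, α = coeff (mon 2 0) F := ⟨_, rfl⟩
  obtain ⟨β, hβ⟩ : ∃ β, β = coeff (mon 1 1) F := ⟨_, rfl⟩
  obtain ⟨γ, hγ⟩ : ∃ γ, γ = coeff (mon 0 2) F := ⟨_, rfl⟩
  rw [← hα, ← hβ, ← hγ] at hne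
  obtain ⟨t, ht⟩ : ∃ t : k, α + β * t + γ * t ^ 2 ≠ 0 := by
    by_contra hcon
    push Not at hcon
    have h0 := hcon 0
    have h1 := hcon 1
    have h3 := hcon (-1)
    have hα0 : α = 0 := by simpa using h0
    have hγ0 : γ = 0 := by
      have : 2 * γ = 0 := by linear_combination h1 + h3 - 2 * hα0
      exact (mul_eq_zero.mp this).resolve_left h2
    have hβ0 : β = 0 := by linear_combination h1 - hα0 - hγ0
    rcases hne with h | h | h
    · exact h hα0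
    · exact h hβ0
    · exact h hγ0
  have hspan : Ideal.span {(X 0 : PS k), X 1 + C t * X 0} = mI k := by
    apply le_antisymm
    · rw [Ideal.span_le]
      rintro s (rfl | rfl)
      · exact X_mem_mI 0
      · exact Ideal.add_mem _ (X_mem_mI 1) (Ideal.mul_mem_left _ _ (X_mem_mI 0))
    · rw [mI_eq', Ideal.span_le]
      rintro s (rfl | rfl)
      · exact Ideal.subset_span (Or.inl rfl)
      · rw [SetLike.mem_coe, Ideal.mem_span_pair]
        exact ⟨-C t, 1, by ring⟩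
  obtain ⟨ψ, -, -, hψ⟩ := exists_aut _ _ hspan
  obtain ⟨F', hF'⟩ : ∃ F', F' = ψ F := ⟨_, rfl⟩
  have hF'2 : F' ∈ mI k ^ 2 := by
    rw [hF']
    exact map_mem_pow ψ.toRingEquiv 2 hF
  have hF'α : coeff (mon 2 0) F' ≠ 0 := by
    rw [hF', coeff_shear ψ t hψ F hF, ← hα, ← hβ, ← hγ]
    exact ht
  have hIJ : Ideal.span {F'} = (Ideal.span {F}).map (ψ : PS k →ₐ[k] PS k) := by
    rw [Ideal.map_span, Set.image_singleton, hF']
    rfl
  have e1 : (PS k ⧸ Ideal.span {F}) ≃ₐ[k] (PS k ⧸ Ideal.span {F'}) :=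
    Ideal.quotientEquivAlg _ _ ψ hIJ
  obtain ⟨B, U, hU, hBspan, hcase⟩ := weier h2 F' hF'2 hF'α
  rcases hcase with hsq | ⟨m, hm⟩
  · right
    have h := nonempty_quot_equiv F' ((MvPolynomial.X 1 : MvPolynomial (Fin 2) k) ^ 2) (X 1) B U
      hBspan hU (by
        rw [map_pow, MvPolynomial.aeval_X]
        exact hsq)
    rw [coe_X1_sq] at h
    obtain ⟨e2⟩ := h
    exact ⟨e1.trans e2⟩
  · left
    have h := nonempty_quot_equiv F' (pA k m) (X 1) B U hBspan hU (by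
      rw [aeval_pA]
      exact hm)
    rw [coe_pA] at h
    obtain ⟨e2⟩ := h
    exact ⟨m, ⟨e1.trans e2⟩⟩

end Groth.Agent.Lib.Helper63.ASingMain
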