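import Mathlib

/-!
# Taylor coefficients of a recentred polynomial

For a polynomial `f` and a point `a`, the power series of `f(X + a)` has constant coefficient
`f(a)`, linear coefficients `∂_i f(a)` and quadratic coefficients given by the second partial
derivatives at `a`.
-/

set_option autoImplicit false

namespace Groth.Agent.Lib.Helper63.ASingTaylor

open MvPolynomial

universe u

variable {σ : Type*} {R : Type u} [CommRing R]

/-- recentring at `a` -/
noncomputable def tr (a : σ → R) : MvPolynomial σ R →ₐ[R] MvPolynomial σ R :=
  aeval (fun i : σ => (X i + C (a i) : MvPolynomial σ R))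

lemma tr_X (a : σ → R) (i : σ) : tr a (X i) = X i + C (a i) := by
  rw [tr, aeval_X]

lemma tr_C (a : σ → R) (r : R) : tr a (C r) = C r := by
  rw [tr, aeval_C]
  rfl

theorem pderiv_tr (a : σ → R) (i : σ) (g : MvPolynomial σ R) :
    pderiv i (tr a g) = tr a (pderiv i g) := by
  classical
  induction g using MvPolynomial.induction_on with
  | C r => rw [tr_C, pderiv_C, map_zero]
  | add p q hp hq => rw [map_add, map_add, map_add, map_add, hp, hq]
  | mul_X p j hp =>
    rw [map_mul, Derivation.leibniz, Derivation.leibniz, smul_eq_mul, smul_eq_mul, smul_eq_mul,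
      smul_eq_mul, map_add, map_mul, map_mul, hp, tr_X, map_add, pderiv_C, add_zero, pderiv_X]
    by_cases hij : i = j
    · subst hij
      rw [Pi.single_eq_same, map_one]
    · rw [Pi.single_eq_of_ne' hij, map_zero]

theorem constantCoeff_tr (a : σ → R) (g : MvPolynomial σ R) :
    constantCoeff (tr a g) = eval a g := by
  induction g using MvPolynomial.induction_on with
  | C r => rw [tr_C, constantCoeff_C, eval_C]
  | add p q hp hq => rw [map_add, map_add, map_add, hp, hq]
  | mul_X p j hp =>
    rw [map_mul, map_mul, map_mul, hp, tr_X, map_add, constantCoeff_X, constantCoeff_C, zero_add,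
      eval_X]

/-- the power series of the recentred polynomial -/
noncomputable def F (a : σ → R) (f : MvPolynomial σ R) : MvPowerSeries σ R :=
  ((tr a f : MvPolynomial σ R) : MvPowerSeries σ R)

theorem constantCoeff_F (a : σ → R) (f : MvPolynomial σ R) :
    MvPowerSeries.constantCoeff (F a f) = eval a f := by
  rw [F, ← MvPowerSeries.coeff_zero_eq_constantCoeff_apply, MvPolynomial.coeff_coe,
    ← constantCoeff_eq, constantCoeff_tr]

theorem pderiv_F (a : σ → R) (f : MvPolynomial σ R) (i : σ) :
    MvPowerSeries.pderiv R i (F a f) = F a (pderiv i f) := by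
  rw [F, MvPowerSeries.pderiv_coe, pderiv_tr, F]

theorem coeff_single_F (a : σ → R) (f : MvPolynomial σ R) (i : σ) :
    MvPowerSeries.coeff (Finsupp.single i 1) (F a f) = eval a (pderiv i f) := by
  have h := MvPowerSeries.coeff_pderiv (R := R) (i := i) (F a f) 0
  rw [zero_add, Finsupp.zero_apply, Nat.cast_zero, zero_add, mul_one, pderiv_F,
    MvPowerSeries.coeff_zero_eq_constantCoeff_apply, constantCoeff_F] at h
  exact h.symm

theorem coeff_single_add_single_F (a : σ → R) (f : MvPolynomial σ R) (i j : σ) :
    MvPowerSeries.coeff (Finsupp.single i 1 + Finsupp.single j 1) (F a f) *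
      (((Finsupp.single i 1 : σ →₀ ℕ) j : R) + 1) = eval a (pderiv i (pderiv j f)) := by
  have h := MvPowerSeries.coeff_pderiv (R := R) (i := j) (F a f) (Finsupp.single i 1)
  rw [pderiv_F, coeff_single_F] at h
  exact h.symm

end Groth.Agent.Lib.Helper63.ASingTaylor
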