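import Mathlib

/-!
# Absolutely integrally closed extensions of commutative rings

For a commutative ring `R` we adjoin formally a root of every monic polynomial of positive degree
(`Step R`), show `R → Step R` is injective via an explicit `R`-linear retraction, iterate and pass
to the direct limit.
-/

namespace Groth.Agent.Lib.Helper63.AbsIntClosed

open Polynomial

universe u

section Step

variable (R : Type u) [CommRing R]

/-- Monic polynomials of positive degree. -/
structure Idx : Type u where
  /-- the polynomial -/
  poly : R[X]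
  /-- it is monic -/
  monic : poly.Monic
  /-- it has positive degree -/
  pos : 0 < poly.natDegree

/-- The relation `f(X_f)`. -/
noncomputable def gen (f : Idx R) : MvPolynomial (Idx R) R :=
  Polynomial.aeval (MvPolynomial.X f) f.poly

/-- The ideal of relations. -/
noncomputable def relIdeal : Ideal (MvPolynomial (Idx R) R) := Ideal.span (Set.range (gen R))

/-- One step: adjoin a root of every monic polynomial of positive degree. -/
abbrev Step : Type u := MvPolynomial (Idx R) R ⧸ relIdeal R

/-- The linear functional "constant coefficient of the remainder mod `f`". -/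
noncomputable def ell (f : Idx R) : R[X] →ₗ[R] R :=
  (Polynomial.lcoeff R 0).comp (Polynomial.modByMonicHom f.poly)

lemma ell_apply (f : Idx R) (p : R[X]) : ell R f p = (p %ₘ f.poly).coeff 0 := rfl

lemma ell_one (f : Idx R) : ell R f 1 = 1 := by
  rcases subsingleton_or_nontrivial R with h | h
  · exact Subsingleton.elim _ _
  rw [ell_apply, (Polynomial.modByMonic_eq_self_iff f.monic).2]
  · simp
  · rw [Polynomial.degree_one, Polynomial.degree_eq_natDegree f.monic.ne_zero]
    exact_mod_cast f.pos

lemma ell_mul_self (f : Idx R) (p : R[X]) : ell R f (p * f.poly) = 0 := by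
  rw [ell_apply, (Polynomial.modByMonic_eq_zero_iff_dvd f.monic).2 (dvd_mul_left _ _)]
  simp

/-- value of the retraction on monomials. -/
noncomputable def phi (m : Idx R →₀ ℕ) : R := m.prod fun f e => ell R f (X ^ e)

lemma phi_zero : phi R 0 = 1 := by simp [phi]

/-- The retraction. -/
noncomputable def retr : MvPolynomial (Idx R) R →ₗ[R] R :=
  (MvPolynomial.basisMonomials (Idx R) R).constr R (phi R)

lemma retr_monomial (m : Idx R →₀ ℕ) (a : R) :
    retr R (MvPolynomial.monomial m a) = a * phi R m := by
  have h : MvPolynomial.monomial m a = a • MvPolynomial.basisMonomials (Idx R) R m := by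
    simp [MvPolynomial.smul_monomial]
  rw [h, map_smul, retr, Module.Basis.constr_basis, smul_eq_mul]

lemma phi_add_single (m : Idx R →₀ ℕ) (f : Idx R) (j : ℕ) :
    phi R (m + Finsupp.single f j) = phi R (m.erase f) * ell R f (X ^ (m f + j)) := by
  classical
  have h1 : m + Finsupp.single f j = m.erase f + Finsupp.single f (m f + j) := by
    rw [Finsupp.single_add, ← add_assoc, Finsupp.erase_add_single]
  rw [h1, phi, Finsupp.prod_add_index_of_disjoint, Finsupp.prod_single_index]
  · rfl
  · simp [ell_one]
  · rw [Finsupp.support_erase]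
    refine Finset.disjoint_left.2 fun g hg hg' => ?_
    have := Finsupp.support_single_subset hg'
    rw [Finset.mem_singleton] at this
    subst this
    exact (Finset.notMem_erase _ _) hg

lemma retr_monomial_mul_gen (m : Idx R →₀ ℕ) (a : R) (f : Idx R) :
    retr R (MvPolynomial.monomial m a * gen R f) = 0 := by
  rw [gen, Polynomial.aeval_eq_sum_range, Finset.mul_sum, map_sum]
  have h : ∀ j : ℕ, retr R (MvPolynomial.monomial m a * (f.poly.coeff j • MvPolynomial.X f ^ j)) =
      (a * phi R (m.erase f)) * ell R f (f.poly.coeff j • X ^ (m f + j)) := by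
    intro j
    rw [MvPolynomial.X_pow_eq_monomial, MvPolynomial.smul_monomial, MvPolynomial.monomial_mul,
      retr_monomial, phi_add_single, map_smul, smul_eq_mul, smul_eq_mul]
    ring
  simp_rw [h]
  rw [← Finset.mul_sum, ← map_sum]
  have h2 : ∑ j ∈ Finset.range (f.poly.natDegree + 1), f.poly.coeff j • (X : R[X]) ^ (m f + j) =
      X ^ (m f) * f.poly := by
    conv_rhs => rw [f.poly.as_sum_range_C_mul_X_pow, Finset.mul_sum]
    refine Finset.sum_congr rfl fun j _ => ?_
    rw [pow_add, Polynomial.smul_eq_C_mul]
    ring
  rw [h2, ell_mul_self, mul_zero]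

lemma retr_mul_gen (q : MvPolynomial (Idx R) R) (f : Idx R) : retr R (q * gen R f) = 0 := by
  induction q using MvPolynomial.induction_on' with
  | monomial m a => exact retr_monomial_mul_gen R m a f
  | add p q hp hq => rw [add_mul, map_add, hp, hq, add_zero]

lemma retr_mul_eq_zero_of_mem {p : MvPolynomial (Idx R) R} (hp : p ∈ relIdeal R) :
    ∀ q : MvPolynomial (Idx R) R, retr R (q * p) = 0 := by
  refine Submodule.span_induction (p := fun p _ => ∀ q : MvPolynomial (Idx R) R, retr R (q * p) = 0)
    ?_ ?_ ?_ ?_ hp
  · rintro _ ⟨f, rfl⟩ q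
    exact retr_mul_gen R q f
  · intro q
    rw [mul_zero, map_zero]
  · intro x y _ _ hx hy q
    rw [mul_add, map_add, hx, hy, add_zero]
  · intro c x _ hx q
    rw [smul_eq_mul, ← mul_assoc]
    exact hx _

lemma algebraMap_step_injective : Function.Injective (algebraMap R (Step R)) := by
  rw [injective_iff_map_eq_zero]
  intro a ha
  have h1 : (MvPolynomial.C a : MvPolynomial (Idx R) R) ∈ relIdeal R := by
    rw [← Ideal.Quotient.eq_zero_iff_mem]
    exact ha
  have h2 := retr_mul_eq_zero_of_mem R h1 1
  rw [one_mul, ← MvPolynomial.monomial_zero', retr_monomial, phi_zero, mul_one] at h2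
  exact h2

lemma exists_root (f : R[X]) (hf : f.Monic) (hd : 0 < f.natDegree) :
    ∃ x : Step R, Polynomial.eval₂ (algebraMap R (Step R)) x f = 0 := by
  refine ⟨Ideal.Quotient.mk (relIdeal R) (MvPolynomial.X ⟨f, hf, hd⟩), ?_⟩
  have h1 : gen R ⟨f, hf, hd⟩ ∈ relIdeal R := Ideal.subset_span ⟨_, rfl⟩
  have h2 := Polynomial.aeval_algHom_apply (Ideal.Quotient.mkₐ R (relIdeal R))
    (MvPolynomial.X (⟨f, hf, hd⟩ : Idx R)) f
  rw [Polynomial.aeval_def] at h2
  refine h2.trans ?_
  exact Ideal.Quotient.eq_zero_iff_mem.2 h1

end Step

section Tower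

/-- A bundled commutative ring. -/
structure Bundled : Type (u + 1) where
  /-- the carrier -/
  carrier : Type u
  /-- the ring structure -/
  str : CommRing carrier

/-- One step on bundled rings. -/
noncomputable def Bundled.step (B : Bundled.{u}) : Bundled.{u} :=
  letI := B.str
  ⟨Step B.carrier, inferInstance⟩

variable (A : Type u) [CommRing A]

/-- The tower of bundled rings. -/
noncomputable def stageAux : ℕ → Bundled.{u}
  | 0 => ⟨A, inferInstance⟩
  | n + 1 => (stageAux n).step

/-- The `n`-th stage. -/
def Stage (n : ℕ) : Type u := (stageAux A n).carrier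

noncomputable instance (n : ℕ) : CommRing (Stage A n) := (stageAux A n).str

/-- The map to the next stage. -/
noncomputable def toSucc (n : ℕ) : Stage A n →+* Stage A (n + 1) :=
  algebraMap (Stage A n) (Step (Stage A n))

lemma toSucc_injective (n : ℕ) : Function.Injective (toSucc A n) :=
  algebraMap_step_injective (Stage A n)

lemma exists_root_succ (n : ℕ) (f : (Stage A n)[X]) (hf : f.Monic) (hd : 0 < f.natDegree) :
    ∃ x : Stage A (n + 1), Polynomial.eval₂ (toSucc A n) x f = 0 :=
  exists_root (Stage A n) f hf hd

/-- The transition maps. -/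
noncomputable def trans (i j : ℕ) (h : i ≤ j) : Stage A i →+* Stage A j :=
  Nat.leRecOn (C := fun k => Stage A i →+* Stage A k) h
    (fun {k} g => (toSucc A k).comp g) (RingHom.id _)

lemma trans_self (i : ℕ) : trans A i i le_rfl = RingHom.id _ :=
  Nat.leRecOn_self _

lemma trans_succ (i j : ℕ) (h : i ≤ j) :
    trans A i (j + 1) (Nat.le_succ_of_le h) = (toSucc A j).comp (trans A i j h) :=
  Nat.leRecOn_succ h _

lemma trans_injective (i j : ℕ) (h : i ≤ j) : Function.Injective (trans A i j h) := by
  induction j, h using Nat.le_induction with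
  | base => rw [trans_self]; exact Function.injective_id
  | succ j h ih =>
    rw [trans_succ A i j h, RingHom.coe_comp]
    exact (toSucc_injective A j).comp ih

lemma trans_trans (i j k : ℕ) (hij : i ≤ j) (hjk : j ≤ k) (x : Stage A i) :
    trans A j k hjk (trans A i j hij x) = trans A i k (hij.trans hjk) x := by
  induction k, hjk using Nat.le_induction with
  | base => rw [trans_self]; rfl
  | succ k h ih =>
    rw [trans_succ A j k h, trans_succ A i k (hij.trans h), RingHom.comp_apply, ih]
    rfl

instance : DirectedSystem (Stage A) fun i j h => trans A i j h where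
  map_self i x := by rw [trans_self]; rfl
  map_map k j i hij hjk x := trans_trans A i j k hij hjk x

/-- The limit ring. -/
abbrev Lim : Type u := Ring.DirectLimit (Stage A) fun i j h => trans A i j h

/-- The canonical maps. -/
noncomputable abbrev ofStage (i : ℕ) : Stage A i →+* Lim A :=
  Ring.DirectLimit.of (Stage A) (fun i j h => trans A i j h) i

lemma ofStage_injective (i : ℕ) : Function.Injective (ofStage A i) :=
  Ring.DirectLimit.of_injective (fun i j h => trans A i j h) (fun i j h => trans_injective A i j h) i

lemma ofStage_succ (i : ℕ) : (ofStage A (i + 1)).comp (toSucc A i) = ofStage A i := by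
  ext x
  have h := Ring.DirectLimit.of_f (G := Stage A) (f := fun i j h => trans A i j h)
    (Nat.le_succ i) x
  rw [trans_succ A i i le_rfl, trans_self] at h
  exact h

lemma exists_root_lim (f : (Lim A)[X]) (hf : f.Monic) (hd : 0 < f.natDegree) :
    ∃ x : Lim A, f.IsRoot x := by
  obtain ⟨i, p, hp⟩ := Ring.DirectLimit.Polynomial.exists_of f
  have hl : f ∈ Polynomial.lifts (ofStage A i) := (Polynomial.mem_lifts _).2 ⟨p, hp⟩
  obtain ⟨q, hq, hqd, hqm⟩ := Polynomial.lifts_and_natDegree_eq_and_monic hl hf
  obtain ⟨x, hx⟩ := exists_root_succ A i q hqm (hqd ▸ hd)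
  refine ⟨ofStage A (i + 1) x, ?_⟩
  rw [Polynomial.IsRoot.def, ← hq, Polynomial.eval_map, ← ofStage_succ A i,
    ← Polynomial.hom_eval₂, hx, map_zero]

lemma splits_lim (n : ℕ) : ∀ f : (Lim A)[X], f.Monic → f.natDegree = n →
    ∃ s : Multiset (Lim A), f = (s.map fun b => X - C b).prod := by
  rcases subsingleton_or_nontrivial (Lim A) with hs | hs
  · intro f _ _
    exact ⟨0, Subsingleton.elim _ _⟩
  induction n with
  | zero =>
    intro f hf hn
    refine ⟨0, ?_⟩
    rw [Multiset.map_zero, Multiset.prod_zero]
    exact Polynomial.eq_one_of_monic_natDegree_zero hf hn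
  | succ n ih =>
    intro f hf hn
    obtain ⟨b, hb⟩ := exists_root_lim A f hf (by omega)
    have h1 : (X - C b) * (f /ₘ (X - C b)) = f := Polynomial.mul_divByMonic_eq_iff_isRoot.2 hb
    have hg : (f /ₘ (X - C b)).Monic :=
      Polynomial.Monic.of_mul_monic_left (Polynomial.monic_X_sub_C b) (h1.symm ▸ hf)
    have hd : (f /ₘ (X - C b)).natDegree = n := by
      have h2 := congrArg Polynomial.natDegree h1
      rw [Polynomial.Monic.natDegree_mul (Polynomial.monic_X_sub_C b) hg,
        Polynomial.natDegree_X_sub_C, hn] at h2
      omega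
    obtain ⟨s, hs⟩ := ih _ hg hd
    refine ⟨b ::ₘ s, ?_⟩
    rw [Multiset.map_cons, Multiset.prod_cons, ← hs, h1]

end Tower

/-- Every commutative ring embeds into an absolutely integrally closed ring. -/
theorem exists_absIntClosed (A : Type u) [CommRing A] :
    ∃ (B : Type u) (_ : CommRing B) (_ : Algebra A B), Function.Injective (algebraMap A B) ∧
      ∀ f : B[X], f.Monic → ∃ s : Multiset B, f = (s.map fun b => X - C b).prod := by
  refine ⟨Lim A, inferInstance, (ofStage A 0).toAlgebra, ?_, ?_⟩
  · exact ofStage_injective A 0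
  · intro f hf
    exact splits_lim A f.natDegree f hf rfl

end Groth.Agent.Lib.Helper63.AbsIntClosed
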