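import Mathlib
import Groth.Agent.Lib.Helper90.PSIdeal

/-!
# The node algebra `K[[x,y]]/(xy)`: branches, residue map, coordinate change (helper63)
-/

set_option autoImplicit false

namespace Groth.Agent.Lib.Helper63.EqNodeFibre

open MvPowerSeries

universe u

section Prime

variable {σ : Type*} {D : Type*} [CommRing D] [IsDomain D]

omit [IsDomain D] in
theorem X_ne_zero' [Nontrivial D] (s : σ) : (X s : MvPowerSeries σ D) ≠ 0 := by
  classical
  intro h
  have := congrArg (coeff (Finsupp.single s 1)) h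
  rw [coeff_index_single_self_X, map_zero] at this
  exact one_ne_zero this

omit [IsDomain D] in
theorem X_dvd_iff_weightedOrder [DecidableEq σ] (s : σ) (f : MvPowerSeries σ D) :
    X s ∣ f ↔ (1 : ℕ∞) ≤ f.weightedOrder (Pi.single s 1) := by
  have hw : ∀ d : σ →₀ ℕ, Finsupp.weight (Pi.single s 1 : σ → ℕ) d = d s := by
    intro d
    rw [Finsupp.weight_apply, Finsupp.sum, Finset.sum_eq_single s]
    · simp
    · intro b _ hb
      simp [Pi.single_eq_of_ne hb]
    · intro hs
      simp [Finsupp.notMem_support_iff.mp hs]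
  rw [X_dvd_iff]
  constructor
  · intro h
    have := nat_le_weightedOrder (w := (Pi.single s 1 : σ → ℕ)) (f := f) (n := 1) (by
      intro d hd
      rw [hw] at hd
      exact h d (by omega))
    exact_mod_cast this
  · intro h m hm
    apply coeff_eq_zero_of_lt_weightedOrder (Pi.single s 1 : σ → ℕ)
    rw [hw, hm]
    exact lt_of_lt_of_le (by norm_num) h

theorem X_prime' (s : σ) : Prime (X s : MvPowerSeries σ D) := by
  classical
  refine ⟨X_ne_zero' s, ?_, ?_⟩
  · intro hu
    have := (MvPowerSeries.isUnit_iff_constantCoeff.mp hu)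
    rw [constantCoeff_X] at this
    exact not_isUnit_zero this
  · intro f g hfg
    rw [X_dvd_iff_weightedOrder, weightedOrder_mul] at hfg
    rw [X_dvd_iff_weightedOrder, X_dvd_iff_weightedOrder]
    by_contra hcon
    push Not at hcon
    have h1 : f.weightedOrder (Pi.single s 1) = 0 := by
      have := hcon.1
      exact Order.lt_one_iff.mp this
    have h2 : g.weightedOrder (Pi.single s 1) = 0 := by
      have := hcon.2
      exact Order.lt_one_iff.mp this
    rw [h1, h2, add_zero] at hfg
    exact absurd hfg (by norm_num)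

end Prime

section Node

variable (K : Type u) [Field K]

/-- the node algebra `K[[x,y]]/(xy)` -/
abbrev Node : Type u :=
  MvPowerSeries (Fin 2) K ⧸ Ideal.span {(X 0 * X 1 : MvPowerSeries (Fin 2) K)}

variable {K}

theorem not_X_dvd_X {i j : Fin 2} (h : i ≠ j) : ¬ (X i : MvPowerSeries (Fin 2) K) ∣ X j := by
  classical
  rw [X_dvd_iff]
  intro hc
  have := hc (Finsupp.single j 1) (by rw [Finsupp.single_apply, if_neg h.symm])
  rw [coeff_index_single_self_X] at this
  exact one_ne_zero this

theorem span_X_mem_minimalPrimes (i : Fin 2) :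
    Ideal.span {(X i : MvPowerSeries (Fin 2) K)} ∈
      (Ideal.span {(X 0 * X 1 : MvPowerSeries (Fin 2) K)}).minimalPrimes := by
  have hp : (Ideal.span {(X i : MvPowerSeries (Fin 2) K)}).IsPrime :=
    (Ideal.span_singleton_prime (X_ne_zero' i)).mpr (X_prime' i)
  refine ⟨⟨hp, ?_⟩, ?_⟩
  · rw [Ideal.span_singleton_le_span_singleton]
    fin_cases i
    · exact dvd_mul_right _ _
    · exact dvd_mul_left _ _
  · rintro Q ⟨hQ, hle⟩ hQi
    rw [Ideal.span_singleton_le_iff_mem] at hle ⊢
    rcases hQ.mem_or_mem hle with h0 | h1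
    · fin_cases i
      · exact h0
      · exfalso
        have := hQi h0
        rw [Ideal.mem_span_singleton] at this
        exact not_X_dvd_X (by decide) this
    · fin_cases i
      · exfalso
        have := hQi h1
        rw [Ideal.mem_span_singleton] at this
        exact not_X_dvd_X (by decide) this
      · exact h1

theorem span_mk_X_mem_minimalPrimes (i : Fin 2) :
    Ideal.span {(Ideal.Quotient.mk _ (X i) : Node K)} ∈ (⊥ : Ideal (Node K)).minimalPrimes := by
  have h := Ideal.minimalPrimes_map_of_surjective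
    (f := Ideal.Quotient.mk (Ideal.span {(X 0 * X 1 : MvPowerSeries (Fin 2) K)}))
    Ideal.Quotient.mk_surjective (Ideal.span {(X 0 * X 1 : MvPowerSeries (Fin 2) K)})
  rw [Ideal.map_quotient_self, Ideal.mk_ker, sup_idem] at h
  rw [h]
  refine ⟨_, span_X_mem_minimalPrimes i, ?_⟩
  rw [Ideal.map_span, Set.image_singleton]

/-- the residue map of the node algebra -/
noncomputable def eps : Node K →+* K :=
  Ideal.Quotient.lift _ (constantCoeff (σ := Fin 2) (R := K)) (by
    intro a ha
    obtain ⟨c, rfl⟩ := Ideal.mem_span_singleton'.mp ha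
    rw [map_mul, map_mul, constantCoeff_X, zero_mul, mul_zero])

theorem eps_mk (p : MvPowerSeries (Fin 2) K) :
    eps (Ideal.Quotient.mk _ p) = constantCoeff p := rfl

theorem isUnit_of_eps_ne_zero (x : Node K) (h : eps x ≠ 0) : IsUnit x := by
  obtain ⟨p, rfl⟩ := Ideal.Quotient.mk_surjective x
  rw [eps_mk] at h
  exact (MvPowerSeries.isUnit_iff_constantCoeff.mpr (isUnit_iff_ne_zero.mpr h)).map _

theorem mk_X_ne_zero (i : Fin 2) : (Ideal.Quotient.mk _ (X i) : Node K) ≠ 0 := by
  rw [Ne, Ideal.Quotient.eq_zero_iff_mem, Ideal.mem_span_singleton]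
  intro h
  fin_cases i
  · exact not_X_dvd_X (i := 1) (j := 0) (by decide) ((dvd_mul_left _ _).trans h)
  · exact not_X_dvd_X (i := 0) (j := 1) (by decide) ((dvd_mul_right _ _).trans h)

theorem decomp (f : MvPowerSeries (Fin 2) K) :
    ∃ f₁ f₂ : MvPowerSeries (Fin 2) K, f = C (constantCoeff f) + X 0 * f₁ + X 1 * f₂ := by
  have h : f - C (constantCoeff f) ∈
      Ideal.span (Set.range (X : Fin 2 → MvPowerSeries (Fin 2) K)) := by
    rw [Groth.Agent.Lib.Helper90.PSIdeal.mem_span_X_iff, map_sub, constantCoeff_C, sub_self]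
  obtain ⟨c, hc⟩ := (Ideal.mem_span_range_iff_exists_fun).mp h
  rw [Fin.sum_univ_two] at hc
  refine ⟨c 0, c 1, ?_⟩
  linear_combination -hc

/-- every element of the node algebra is a constant plus a combination of the two branches -/
theorem decomp_node (x : Node K) :
    ∃ g₁ g₂ : Node K, x = Ideal.Quotient.mk _ (C (eps x)) +
      Ideal.Quotient.mk _ (X 0) * g₁ + Ideal.Quotient.mk _ (X 1) * g₂ := by
  obtain ⟨f, rfl⟩ := Ideal.Quotient.mk_surjective x
  obtain ⟨f₁, f₂, hf⟩ := decomp f
  refine ⟨Ideal.Quotient.mk _ f₁, Ideal.Quotient.mk _ f₂, ?_⟩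
  rw [eps_mk, ← map_mul, ← map_mul, ← map_add, ← map_add, ← hf]

end Node

section Subst

variable {σ : Type*} [Finite σ] {A : Type*} [CommRing A]

/-- two mutually inverse substitutions give an algebra automorphism -/
theorem algEquiv_of_subst (a b : σ → MvPowerSeries σ A)
    (ha : ∀ i, constantCoeff (a i) = 0) (hb : ∀ i, constantCoeff (b i) = 0)
    (hab : ∀ i, subst a (b i) = X i) (hba : ∀ i, subst b (a i) = X i) :
    ∃ e : MvPowerSeries σ A ≃ₐ[A] MvPowerSeries σ A, ∀ i, e (X i) = a i := by
  have hsa : HasSubst a := hasSubst_of_constantCoeff_zero ha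
  have hsb : HasSubst b := hasSubst_of_constantCoeff_zero hb
  have key : ∀ (a b : σ → MvPowerSeries σ A) (hsa : HasSubst a) (hsb : HasSubst b),
      (∀ i, subst a (b i) = X i) →
      (substAlgHom hsa).comp (substAlgHom hsb) = AlgHom.id A _ := by
    intro a b hsa hsb hab
    ext1 P
    rw [AlgHom.comp_apply, substAlgHom_apply, substAlgHom_apply, subst_comp_subst_apply hsb hsa,
      AlgHom.id_apply]
    have : (fun s => subst a (b s)) = (X : σ → MvPowerSeries σ A) := funext hab
    rw [this, subst_self]; rfl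
  refine ⟨AlgEquiv.ofAlgHom (substAlgHom hsa) (substAlgHom hsb) (key a b hsa hsb hab)
    (key b a hsb hsa hba), fun i => ?_⟩
  change substAlgHom hsa (X i) = a i
  rw [substAlgHom_X]

end Subst

section Coord

variable {K : Type u} [Field K]

/-- the coordinate change between the two forms of the node -/
theorem exists_coordChange (h2 : (2 : K) ≠ 0) :
    Nonempty ((MvPowerSeries (Fin 2) K ⧸
      Ideal.span {(X 1 ^ 2 - X 0 ^ 2 : MvPowerSeries (Fin 2) K)}) ≃ₐ[K] Node K) := by
  let a : Fin 2 → MvPowerSeries (Fin 2) K :=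
    ![(2⁻¹ : K) • (X 1 - X 0), (2⁻¹ : K) • (X 0 + X 1)]
  let b : Fin 2 → MvPowerSeries (Fin 2) K := ![X 1 - X 0, X 1 + X 0]
  have ha : ∀ i, constantCoeff (a i) = 0 := by
    intro i
    fin_cases i <;> simp [a]
  have hb : ∀ i, constantCoeff (b i) = 0 := by
    intro i
    fin_cases i <;> simp [b]
  have hsa : HasSubst a := hasSubst_of_constantCoeff_zero ha
  have hsb : HasSubst b := hasSubst_of_constantCoeff_zero hb
  have h22 : (2⁻¹ : K) + 2⁻¹ = 1 := by field_simp; norm_num
  have hab : ∀ i, subst a (b i) = X i := by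
    intro i
    fin_cases i
    · change subst a (X 1 - X 0) = X 0
      rw [subst_sub hsa, subst_X hsa, subst_X hsa]
      change (2⁻¹ : K) • (X 0 + X 1) - (2⁻¹ : K) • (X 1 - X 0) = X 0
      rw [smul_add, smul_sub]
      have : (2⁻¹ : K) • (X 0 : MvPowerSeries (Fin 2) K) + (2⁻¹ : K) • X 0 = X 0 := by
        rw [← add_smul, h22, one_smul]
      linear_combination this
    · change subst a (X 1 + X 0) = X 1
      rw [subst_add hsa, subst_X hsa, subst_X hsa]
      change (2⁻¹ : K) • (X 0 + X 1) + (2⁻¹ : K) • (X 1 - X 0) = X 1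
      rw [smul_add, smul_sub]
      have : (2⁻¹ : K) • (X 1 : MvPowerSeries (Fin 2) K) + (2⁻¹ : K) • X 1 = X 1 := by
        rw [← add_smul, h22, one_smul]
      linear_combination this
  have hba : ∀ i, subst b (a i) = X i := by
    intro i
    fin_cases i
    · change subst b ((2⁻¹ : K) • (X 1 - X 0)) = X 0
      rw [subst_smul hsb, subst_sub hsb, subst_X hsb, subst_X hsb]
      change (2⁻¹ : K) • ((X 1 + X 0) - (X 1 - X 0)) = X 0
      have : (X 1 + X 0 : MvPowerSeries (Fin 2) K) - (X 1 - X 0) = X 0 + X 0 := by ring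
      rw [this, smul_add, ← add_smul, h22, one_smul]
    · change subst b ((2⁻¹ : K) • (X 0 + X 1)) = X 1
      rw [subst_smul hsb, subst_add hsb, subst_X hsb, subst_X hsb]
      change (2⁻¹ : K) • ((X 1 - X 0) + (X 1 + X 0)) = X 1
      have : (X 1 - X 0 : MvPowerSeries (Fin 2) K) + (X 1 + X 0) = X 1 + X 1 := by ring
      rw [this, smul_add, ← add_smul, h22, one_smul]
  obtain ⟨θ, hθ⟩ := algEquiv_of_subst a b ha hb hab hba
  refine ⟨Ideal.quotientEquivAlg _ _ θ ?_⟩
  rw [Ideal.map_span, Set.image_singleton]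
  congr 2
  change X 0 * X 1 = θ (X 1 ^ 2 - X 0 ^ 2)
  rw [map_sub, map_pow, map_pow, hθ, hθ]
  change X 0 * X 1 = ((2⁻¹ : K) • (X 0 + X 1)) ^ 2 - ((2⁻¹ : K) • (X 1 - X 0)) ^ 2
  rw [smul_pow, smul_pow, ← smul_sub]
  have : (X 0 + X 1 : MvPowerSeries (Fin 2) K) ^ 2 - (X 1 - X 0) ^ 2 =
      (4 : K) • (X 0 * X 1) := by
    rw [Algebra.smul_def]
    have : (algebraMap K (MvPowerSeries (Fin 2) K)) 4 = 4 := map_ofNat _ 4
    rw [this]
    ring
  rw [this, smul_smul]
  have : (2⁻¹ : K) ^ 2 * 4 = 1 := by field_simp; norm_num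
  rw [this, one_smul]

end Coord

end Groth.Agent.Lib.Helper63.EqNodeFibre
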