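import Mathlib
import Groth.Agent.Lib.Helper63.NodeFlat
import Groth.Agent.Lib.Helper63.NodeEval
import Groth.Agent.Lib.Helper63.EqNodeFibre

/-!
# The node over a complete local base: the isomorphism `R[[x,y]]/(xy - t) ≃ S` (helper63)
-/

set_option autoImplicit false
set_option linter.unusedSectionVars false

namespace Groth.Agent.Lib.Helper63.EqNodeIso

open IsLocalRing MvPowerSeries Groth.Agent.Lib.Helper63.NodeFlat
  Groth.Agent.Lib.Helper63.NodeEval Groth.Agent.Lib.Helper63.EqNodeFibre

universe u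

theorem mvMap_surjective {σ R S : Type*} [CommRing R] [CommRing S] (f : R →+* S)
    (hf : Function.Surjective f) : Function.Surjective (MvPowerSeries.map (σ := σ) f) := by
  intro g
  let g' : MvPowerSeries σ R := fun m => Function.surjInv hf (MvPowerSeries.coeff m g)
  refine ⟨g', ?_⟩
  ext m
  rw [MvPowerSeries.coeff_map]
  exact Function.surjInv_eq hf _

section PiR

variable {R : Type u} [CommRing R] [IsLocalRing R] [IsNoetherianRing R]
  {k : Type u} [Field k] (qK : R →+* k) (hqs : Function.Surjective qK)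
  (hq0 : ∀ r, qK r = 0 ↔ r ∈ maximalIdeal R) (t : R) (ht : t ∈ maximalIdeal R)

/-- the model ring `R[[x,y]]/(xy - t)` -/
abbrev Model (t : R) : Type u :=
  MvPowerSeries (Fin 2) R ⧸ Ideal.span {(X 0 * X 1 - C t : MvPowerSeries (Fin 2) R)}

include hq0 ht in
theorem map_rel : MvPowerSeries.map qK (X 0 * X 1 - C t : MvPowerSeries (Fin 2) R) = X 0 * X 1 := by
  rw [map_sub, map_mul, MvPowerSeries.map_X, MvPowerSeries.map_X, MvPowerSeries.map_C,
    (hq0 t).mpr ht, map_zero, sub_zero]

/-- `R[[x,y]]/(xy - t) → k[[x,y]]/(xy)` -/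
noncomputable def piR : Model t →+* Node k :=
  Ideal.Quotient.lift _ ((Ideal.Quotient.mk _).comp (MvPowerSeries.map qK)) (by
    intro a ha
    obtain ⟨c, rfl⟩ := Ideal.mem_span_singleton'.mp ha
    rw [RingHom.comp_apply, map_mul, map_mul, map_rel qK hq0 t ht]
    rw [Ideal.Quotient.eq_zero_iff_mem.mpr (Ideal.subset_span (Set.mem_singleton _)), mul_zero])

theorem piR_mk (p : MvPowerSeries (Fin 2) R) :
    piR qK hq0 t ht (Ideal.Quotient.mk _ p) = Ideal.Quotient.mk _ (MvPowerSeries.map qK p) := rfl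

include hqs in
theorem piR_surjective : Function.Surjective (piR qK hq0 t ht) :=
  Ideal.Quotient.lift_surjective_of_surjective _ _
    (Ideal.Quotient.mk_surjective.comp (mvMap_surjective qK hqs))

omit [IsLocalRing R] [IsNoetherianRing R] in
theorem map_algebraMap_eq (I : Ideal R) : I.map (algebraMap R (Model t)) =
    (I.map (C : _ →+* MvPowerSeries (Fin 2) R)).map (Ideal.Quotient.mk _) := by
  rw [Ideal.map_map]
  congr 1

include hqs in
theorem mem_of_piR_eq_zero (r : Model t) (hr : piR qK hq0 t ht r = 0) :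
    r ∈ (maximalIdeal R).map (algebraMap R (Model t)) := by
  obtain ⟨p, rfl⟩ := Ideal.Quotient.mk_surjective r
  rw [piR_mk, Ideal.Quotient.eq_zero_iff_mem, Ideal.mem_span_singleton'] at hr
  obtain ⟨g, hg⟩ := hr
  obtain ⟨g', rfl⟩ := mvMap_surjective qK hqs g
  set d := p - g' * (X 0 * X 1 - C t) with hd
  have hdmap : MvPowerSeries.map qK d = 0 := by
    rw [hd, map_sub, map_mul, map_rel qK hq0 t ht, hg, sub_self]
  have hdmem : d ∈ (maximalIdeal R).map (C : _ →+* MvPowerSeries (Fin 2) R) := by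
    refine mem_map_C_of_coeff_mem _ ?_ d fun m => ?_
    · exact (maximalIdeal R).fg_of_isNoetherianRing
    · rw [← hq0, ← MvPowerSeries.coeff_map, hdmap, map_zero]
  have hp : p = d + g' * (X 0 * X 1 - C t) := by rw [hd]; ring
  rw [map_algebraMap_eq, hp, map_add]
  refine Ideal.add_mem _ (Ideal.mem_map_of_mem _ hdmem) ?_
  rw [Ideal.Quotient.eq_zero_iff_mem.mpr
    (Ideal.mul_mem_left _ g' (Ideal.subset_span (Set.mem_singleton _)))]
  exact Ideal.zero_mem _

omit [IsNoetherianRing R] in
theorem map_le_jacobson : (maximalIdeal R).map (algebraMap R (Model t)) ≤ Ideal.jacobson ⊥ := by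
  rw [map_algebraMap_eq, Ideal.map_map, Ideal.map_le_iff_le_comap]
  intro a' ha'
  rw [Ideal.mem_comap, Ideal.mem_jacobson_bot]
  intro y
  obtain ⟨p, rfl⟩ := Ideal.Quotient.mk_surjective y
  rw [RingHom.comp_apply, ← map_mul, ← map_one (Ideal.Quotient.mk _), ← map_add]
  apply IsUnit.map
  rw [MvPowerSeries.isUnit_iff_constantCoeff, map_add, map_mul, MvPowerSeries.constantCoeff_C,
    map_one]
  have h2 : a' * MvPowerSeries.constantCoeff p ∈ maximalIdeal R := Ideal.mul_mem_right _ _ ha'
  have := IsLocalRing.isUnit_one_sub_self_of_mem_nonunits _ (by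
    have : -(a' * MvPowerSeries.constantCoeff p) ∈ maximalIdeal R :=
      Ideal.neg_mem_iff _ |>.mpr h2
    exact this)
  rw [sub_neg_eq_add, add_comm] at this
  exact this

end PiR

section Main

variable {k R S : Type u} [Field k]
  [CommRing R] [IsLocalRing R] [IsNoetherianRing R] [IsAdicComplete (maximalIdeal R) R]
  [CommRing S] [IsLocalRing S] [IsNoetherianRing S] [IsAdicComplete (maximalIdeal S) S]
  [Algebra R S] [IsLocalHom (algebraMap R S)] [Module.Flat R S]

theorem exists_iso (qK : R →+* k) (hqs : Function.Surjective qK)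
    (hq0 : ∀ r, qK r = 0 ↔ r ∈ maximalIdeal R)
    (Pi₀ : S →+* Node k) (hPs : Function.Surjective Pi₀)
    (hPk : ∀ b ∈ (maximalIdeal R).map (algebraMap R S), Pi₀ b = 0)
    (u v : S) (t : R) (ht : t ∈ maximalIdeal R)
    (huv : u * v = algebraMap R S t)
    (hgen : maximalIdeal S = Ideal.span {u, v} ⊔ (maximalIdeal R).map (algebraMap R S))
    (hres : ∀ s : S, ∃ c : R, s - algebraMap R S c ∈ maximalIdeal S) :
    ∃ f : S ≃ₐ[R] Model t, f u = Ideal.Quotient.mk _ (X 0) ∧ f v = Ideal.Quotient.mk _ (X 1) := by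
  classical
  have hRS : (maximalIdeal R).map (algebraMap R S) ≤ maximalIdeal S :=
    ((IsLocalRing.local_hom_TFAE (algebraMap R S)).out 0 2).mp
      (inferInstance : IsLocalHom (algebraMap R S))
  let a : Fin 2 → S := ![u, v]
  have hspan : Ideal.span (Set.range a) = Ideal.span {u, v} := by
    congr 1
    ext x
    simp only [a, Set.mem_range, Fin.exists_fin_two, Matrix.cons_val_zero, Matrix.cons_val_one,
      Set.mem_insert_iff, Set.mem_singleton_iff]
    constructor
    · rintro (h | h)
      · exact Or.inl h.symm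
      · exact Or.inr h.symm
    · rintro (h | h)
      · exact Or.inl h.symm
      · exact Or.inr h.symm
  have ha : ∀ i, a i ∈ maximalIdeal S := by
    intro i
    rw [hgen]
    refine Ideal.mem_sup_left ?_
    rw [← hspan]
    exact Ideal.subset_span ⟨i, rfl⟩
  let Ψ := ev hRS a ha
  obtain ⟨r, g, hg⟩ := Submodule.fg_iff_exists_fin_generating_family.mp
    ((maximalIdeal R).fg_of_isNoetherianRing)
  have hgm : ∀ i, g i ∈ maximalIdeal R := fun i => by
    rw [← hg]; exact Submodule.subset_span ⟨i, rfl⟩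
  have hgen' : maximalIdeal S = Ideal.span (Set.range a) ⊔
      Ideal.span (Set.range fun i => algebraMap R S (g i)) := by
    rw [hgen, hspan]
    congr 1
    have hg'' : maximalIdeal R = Ideal.span (Set.range g) := hg.symm
    have hg3 := congrArg (fun I => Ideal.map (algebraMap R S) I) hg''
    rw [hg3, Ideal.map_span, ← Set.range_comp]
    rfl
  have hsurj : Function.Surjective Ψ := ev_surjective hRS a ha g hgm hgen' hres
  have hkill : Ψ (X 0 * X 1 - C t) = 0 := by
    rw [map_sub, map_mul, ev_X, ev_X, ev_C]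
    change u * v - algebraMap R S t = 0
    rw [huv, sub_self]
  let ψ : Model t →ₐ[R] S := Ideal.Quotient.liftₐ (Ideal.span {(X 0 * X 1 - C t :
      MvPowerSeries (Fin 2) R)}) Ψ (by
    intro x hx
    obtain ⟨y, rfl⟩ := Ideal.mem_span_singleton'.mp hx
    rw [map_mul, hkill, mul_zero])
  have hψ : ∀ p, ψ (Ideal.Quotient.mk _ p) = Ψ p := fun p => rfl
  have hψs : Function.Surjective ψ := by
    intro s
    obtain ⟨p, hp⟩ := hsurj s
    exact ⟨Ideal.Quotient.mk _ p, (hψ p).trans hp⟩
  have hinj : Function.Injective ψ := by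
    refine injective_of_flat_of_fibre (maximalIdeal R) ψ hψs (map_le_jacobson t) ?_
    intro r' hr'
    apply mem_of_piR_eq_zero qK hqs hq0 t ht r'
    refine fibre_comparison ψ.toRingHom hψs (piR qK hq0 t ht) (piR_surjective qK hqs hq0 t ht)
      Pi₀ hPs ?_ r' (hPk _ hr')
    intro r'' hr''
    apply hPk
    have h1 := mem_of_piR_eq_zero qK hqs hq0 t ht r'' hr''
    have h2 := Ideal.mem_map_of_mem ψ.toRingHom h1
    rw [Ideal.map_map] at h2
    have h3 : ψ.toRingHom.comp (algebraMap R _) = algebraMap R S := ψ.comp_algebraMap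
    rw [h3] at h2
    exact h2
  let E : Model t ≃ₐ[R] S := AlgEquiv.ofBijective ψ ⟨hinj, hψs⟩
  refine ⟨E.symm, ?_, ?_⟩
  · rw [AlgEquiv.symm_apply_eq]
    change u = ψ (Ideal.Quotient.mk _ (X 0))
    rw [hψ, ev_X]; rfl
  · rw [AlgEquiv.symm_apply_eq]
    change v = ψ (Ideal.Quotient.mk _ (X 1))
    rw [hψ, ev_X]; rfl

end Main

end Groth.Agent.Lib.Helper63.EqNodeIso
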