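import Mathlib

/-!
# Limits in adically complete rings (helper63)
-/

set_option autoImplicit false

namespace Groth.Agent.Lib.Helper63.EqNodeLim

open IsLocalRing

theorem cauchy_of_succ {A : Type*} [CommRing A] (I : Ideal A) (f : ℕ → A)
    (hf : ∀ n, f (n + 1) - f n ∈ I ^ n) {m n : ℕ} (hmn : m ≤ n) : f n - f m ∈ I ^ m := by
  induction n, hmn using Nat.le_induction with
  | base => simp
  | succ n hmn ih =>
    have : f (n + 1) - f m = (f (n + 1) - f n) + (f n - f m) := by ring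
    rw [this]
    exact Ideal.add_mem _ (Ideal.pow_le_pow_right hmn (hf n)) ih

theorem exists_lim {A : Type*} [CommRing A] (I : Ideal A) [IsAdicComplete I A] (f : ℕ → A)
    (hf : ∀ n, f (n + 1) - f n ∈ I ^ n) : ∃ L, ∀ n, L - f n ∈ I ^ n := by
  obtain ⟨L, hL⟩ := IsPrecomplete.prec' (I := I) f (by
    intro m n hmn
    rw [SModEq.sub_mem]
    simp only [smul_eq_mul, Ideal.mul_top]
    rw [← neg_sub]
    exact Ideal.neg_mem_iff _ |>.mpr (cauchy_of_succ I f hf hmn))
  refine ⟨L, fun n => ?_⟩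
  have := hL n
  rw [SModEq.sub_mem] at this
  simp only [smul_eq_mul, Ideal.mul_top] at this
  rw [← neg_sub]
  exact Ideal.neg_mem_iff _ |>.mpr this

theorem eq_zero_of_forall_mem_pow {A : Type*} [CommRing A] (I : Ideal A) [IsHausdorff I A]
    (x : A) (h : ∀ n, x ∈ I ^ n) : x = 0 := by
  refine IsHausdorff.haus' (I := I) x fun n => ?_
  rw [SModEq.zero]
  simp only [smul_eq_mul, Ideal.mul_top]
  exact h n

theorem mem_of_forall_mem_sup_pow {S : Type*} [CommRing S] [IsLocalRing S] [IsNoetherianRing S]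
    (J : Ideal S) (x : S) (h : ∀ n, x ∈ J ⊔ (maximalIdeal S) ^ n) : x ∈ J := by
  have hbot := Ideal.iInf_pow_smul_eq_bot_of_isLocalRing (maximalIdeal S) (M := S ⧸ J)
    (IsLocalRing.maximalIdeal.isMaximal S).ne_top
  have hx : (Ideal.Quotient.mk J x) ∈ (⨅ i : ℕ, (maximalIdeal S) ^ i • ⊤ : Submodule S (S ⧸ J)) := by
    rw [Submodule.mem_iInf]
    intro n
    obtain ⟨j, hj, m, hm, rfl⟩ := Submodule.mem_sup.mp (h n)
    rw [map_add, Ideal.Quotient.eq_zero_iff_mem.mpr hj, zero_add]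
    have : Ideal.Quotient.mk J m = m • (1 : S ⧸ J) := by
      rw [Algebra.smul_def, mul_one]; rfl
    rw [this]
    exact Submodule.smul_mem_smul hm Submodule.mem_top
  rw [hbot, Submodule.mem_bot] at hx
  exact Ideal.Quotient.eq_zero_iff_mem.mp hx

end Groth.Agent.Lib.Helper63.EqNodeLim
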