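import Mathlib

/-!
# Equivariant successive approximation for the node (helper63)

`R → S` an algebra, `I` an ideal of `R`, `σ` an `R`-algebra involution of `S`, `u v : S` eigenvectors
of `σ` with eigenvalues `ξu`, `ξv` (square roots of one in `R`), `u v ∈ I S`, and every element of
`S` is congruent modulo `I S` to `c + p u + q v` with `c ∈ R`.  Then there are sequences of
eigenvectors `uₙ`, `vₙ` and elements `tₙ` of `R` with `uₙ vₙ ≡ tₙ` modulo `I^(n+1) S`.
-/

set_option autoImplicit false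

namespace Groth.Agent.Lib.Helper63.EqNodeSeq

universe u

section

variable {R S : Type u} [CommRing R] [CommRing S] [Algebra R S] (I : Ideal R)

/-- `J n = I^n S` -/
abbrev J (n : ℕ) : Ideal S := (I ^ n).map (algebraMap R S)

theorem J_mul_le (n m : ℕ) : J (S := S) I n * J I m ≤ J I (n + m) := by
  unfold J
  rw [← Ideal.map_mul, ← pow_add]

theorem J_anti {n m : ℕ} (h : n ≤ m) : J (S := S) I m ≤ J I n :=
  Ideal.map_mono (Ideal.pow_le_pow_right h)

theorem map_mem_J (σ : S →ₐ[R] S) (n : ℕ) {x : S} (hx : x ∈ J I n) : σ x ∈ J I n := by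
  have h1 : σ x ∈ (J (S := S) I n).map σ.toRingHom := Ideal.mem_map_of_mem σ.toRingHom hx
  unfold J at h1
  rw [Ideal.map_map] at h1
  have h2 : σ.toRingHom.comp (algebraMap R S) = algebraMap R S := σ.comp_algebraMap
  rw [h2] at h1
  exact h1

theorem keyK (u v : S)
    (hdec : ∀ s : S, ∃ (c : R) (p q : S), s - algebraMap R S c - p * u - q * v ∈ J I 1)
    (n : ℕ) (u' v' : S) (hu' : u' - u ∈ J I 1) (hv' : v' - v ∈ J I 1)
    (δ : S) (hδ : δ ∈ J I (n + 1)) :
    ∃ e ∈ I ^ (n + 1), ∃ x ∈ J (S := S) I (n + 1), ∃ y ∈ J (S := S) I (n + 1),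
      δ - algebraMap R S e - u' * x - v' * y ∈ J I (n + 2) := by
  have hδ' : δ ∈ (I ^ (n + 1)) • (⊤ : Submodule R S) := by
    rw [Ideal.smul_top_eq_map]; exact hδ
  refine Submodule.smul_induction_on (p := fun δ => ∃ e ∈ I ^ (n + 1),
      ∃ x ∈ J (S := S) I (n + 1), ∃ y ∈ J (S := S) I (n + 1),
      δ - algebraMap R S e - u' * x - v' * y ∈ J I (n + 2)) hδ' ?_ ?_
  · intro a ha b _
    obtain ⟨c, p, q, ht⟩ := hdec b
    set t := b - algebraMap R S c - p * u - q * v with htdef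
    have haJ : algebraMap R S a ∈ J I (n + 1) := Ideal.mem_map_of_mem _ ha
    refine ⟨c * a, Ideal.mul_mem_left _ _ ha, algebraMap R S a * p, Ideal.mul_mem_right _ _ haJ,
      algebraMap R S a * q, Ideal.mul_mem_right _ _ haJ, ?_⟩
    have e1 : a • b - algebraMap R S (c * a) - u' * (algebraMap R S a * p) -
        v' * (algebraMap R S a * q)
        = algebraMap R S a * (p * (-(u' - u))) + algebraMap R S a * (q * (-(v' - v)))
          + algebraMap R S a * t := by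
      rw [Algebra.smul_def, map_mul, htdef]
      ring
    rw [e1]
    have hJ2 : J (S := S) I (n + 1) * J I 1 ≤ J I (n + 2) := J_mul_le I (n + 1) 1
    refine Ideal.add_mem _ (Ideal.add_mem _ ?_ ?_) ?_
    · exact hJ2 (Ideal.mul_mem_mul haJ (Ideal.mul_mem_left _ _ (neg_mem hu')))
    · exact hJ2 (Ideal.mul_mem_mul haJ (Ideal.mul_mem_left _ _ (neg_mem hv')))
    · exact hJ2 (Ideal.mul_mem_mul haJ ht)
  · intro δ₁ δ₂ h1 h2
    obtain ⟨e1, he1, x1, hx1, y1, hy1, hr1⟩ := h1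
    obtain ⟨e2, he2, x2, hx2, y2, hy2, hr2⟩ := h2
    refine ⟨e1 + e2, Ideal.add_mem _ he1 he2, x1 + x2, Ideal.add_mem _ hx1 hx2, y1 + y2,
      Ideal.add_mem _ hy1 hy2, ?_⟩
    have : δ₁ + δ₂ - algebraMap R S (e1 + e2) - u' * (x1 + x2) - v' * (y1 + y2) =
        (δ₁ - algebraMap R S e1 - u' * x1 - v' * y1) +
          (δ₂ - algebraMap R S e2 - u' * x2 - v' * y2) := by
      rw [map_add]; ring
    rw [this]
    exact Ideal.add_mem _ hr1 hr2

/-- the equivariant improvement step -/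
theorem step (σ : S →ₐ[R] S) (hσ : ∀ s, σ (σ s) = s) (ξu ξv h : R)
    (hξu : ξu * ξu = 1) (hξv : ξv * ξv = 1) (hh : 2 * h = 1) (u v : S)
    (hdec : ∀ s : S, ∃ (c : R) (p q : S), s - algebraMap R S c - p * u - q * v ∈ J I 1)
    (n : ℕ) (u' v' : S) (t' : R)
    (hu' : u' - u ∈ J I 1) (hv' : v' - v ∈ J I 1)
    (hσu : σ u' = algebraMap R S ξu * u') (hσv : σ v' = algebraMap R S ξv * v')
    (ht' : ξu * ξv * t' = t')
    (hw : u' * v' - algebraMap R S t' ∈ J I (n + 1)) :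
    ∃ (u'' v'' : S) (t'' : R), u'' - u' ∈ J I (n + 1) ∧ v'' - v' ∈ J I (n + 1) ∧
      t'' - t' ∈ I ^ (n + 1) ∧
      σ u'' = algebraMap R S ξu * u'' ∧ σ v'' = algebraMap R S ξv * v'' ∧
      ξu * ξv * t'' = t'' ∧
      u'' * v'' - algebraMap R S t'' ∈ J I (n + 2) := by
  obtain ⟨e, he, x, hx, y, hy, hr⟩ := keyK I u v hdec n u' v' hu' hv' _ hw
  obtain ⟨a, ha⟩ : ∃ a, a = algebraMap R S ξu := ⟨_, rfl⟩
  obtain ⟨b, hb⟩ : ∃ b, b = algebraMap R S ξv := ⟨_, rfl⟩
  obtain ⟨g, hg⟩ : ∃ g, g = algebraMap R S h := ⟨_, rfl⟩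
  obtain ⟨T, hT⟩ : ∃ T, T = algebraMap R S t' := ⟨_, rfl⟩
  obtain ⟨E, hE⟩ : ∃ E, E = algebraMap R S e := ⟨_, rfl⟩
  rw [← ha] at hσu
  rw [← hb] at hσv
  rw [← hT, ← hE] at hr
  have haa : a * a = 1 := by rw [ha, ← map_mul, hξu, map_one]
  have hbb : b * b = 1 := by rw [hb, ← map_mul, hξv, map_one]
  have hgg : 2 * g = 1 := by
    rw [hg, ← map_ofNat (algebraMap R S) 2, ← map_mul, hh, map_one]
  have hσx := map_mem_J I σ (n + 1) hx
  have hσy := map_mem_J I σ (n + 1) hy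
  have hσr := map_mem_J I σ (n + 2) hr
  have hσT : σ T = T := by rw [hT]; exact σ.commutes t'
  have hσE : σ E = E := by rw [hE]; exact σ.commutes e
  have hσg : σ g = g := by rw [hg]; exact σ.commutes h
  have hσa : σ a = a := by rw [ha]; exact σ.commutes ξu
  have hσb : σ b = b := by rw [hb]; exact σ.commutes ξv
  have htS : a * b * T = T := by
    rw [ha, hb, hT, ← map_mul, ← map_mul, ht']
  have hx'J : g * (x + b * σ x) ∈ J I (n + 1) :=
    Ideal.mul_mem_left _ _ (Ideal.add_mem _ hx (Ideal.mul_mem_left _ _ hσx))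
  have hy'J : g * (y + a * σ y) ∈ J I (n + 1) :=
    Ideal.mul_mem_left _ _ (Ideal.add_mem _ hy (Ideal.mul_mem_left _ _ hσy))
  have hσr' : σ (u' * v' - T - E - u' * x - v' * y) = a * b * (u' * v') - T - E -
      a * u' * σ x - b * v' * σ y := by
    rw [map_sub, map_sub, map_sub, map_sub, map_mul, map_mul, map_mul, hσu, hσv, hσT, hσE]
    ring
  refine ⟨u' - g * (y + a * σ y), v' - g * (x + b * σ x), t' + h * (1 + ξu * ξv) * e,
    ?_, ?_, ?_, ?_, ?_, ?_, ?_⟩
  · have : u' - g * (y + a * σ y) - u' = -(g * (y + a * σ y)) := by ring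
    rw [this]; exact neg_mem hy'J
  · have : v' - g * (x + b * σ x) - v' = -(g * (x + b * σ x)) := by ring
    rw [this]; exact neg_mem hx'J
  · have : t' + h * (1 + ξu * ξv) * e - t' = h * (1 + ξu * ξv) * e := by ring
    rw [this]; exact Ideal.mul_mem_left _ _ he
  · rw [← ha, map_sub, hσu, map_mul, map_add, map_mul, hσ, hσg, hσa]
    linear_combination (g * σ y) * haa
  · rw [← hb, map_sub, hσv, map_mul, map_add, map_mul, hσ, hσg, hσb]
    linear_combination (g * σ x) * hbb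
  · linear_combination ht' + (h * e * ξu * ξu) * hξv + (h * e) * hξu
  · have key : (u' - g * (y + a * σ y)) * (v' - g * (x + b * σ x)) -
          algebraMap R S (t' + h * (1 + ξu * ξv) * e) =
        g * ((u' * v' - T - E - u' * x - v' * y) +
          a * b * σ (u' * v' - T - E - u' * x - v' * y)) +
          (g * (y + a * σ y)) * (g * (x + b * σ x)) := by
      rw [hσr', map_add, map_mul, map_mul, map_add, map_one, map_mul, ← ha, ← hb, ← hg, ← hT, ← hE]
      linear_combination (T - u' * v') * hgg + (v' * g * a * σ y - u' * v' * g * a * a) * hbb +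
        (u' * g * b * σ x - u' * v' * g) * haa + g * htS
    rw [key]
    refine Ideal.add_mem _ (Ideal.mul_mem_left _ _
      (Ideal.add_mem _ hr (Ideal.mul_mem_left _ _ hσr))) ?_
    have : J (S := S) I (n + 1) * J I (n + 1) ≤ J I (n + 2) :=
      (J_mul_le I (n + 1) (n + 1)).trans (J_anti I (by omega))
    exact this (Ideal.mul_mem_mul hy'J hx'J)

/-- the equivariant approximating sequences -/
theorem exists_seq (σ : S →ₐ[R] S) (hσ : ∀ s, σ (σ s) = s) (ξu ξv h : R)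
    (hξu : ξu * ξu = 1) (hξv : ξv * ξv = 1) (hh : 2 * h = 1) (u v : S)
    (hdec : ∀ s : S, ∃ (c : R) (p q : S), s - algebraMap R S c - p * u - q * v ∈ J I 1)
    (hσu : σ u = algebraMap R S ξu * u) (hσv : σ v = algebraMap R S ξv * v)
    (huv : u * v ∈ J I 1) :
    ∃ (us vs : ℕ → S) (ts : ℕ → R), us 0 = u ∧ vs 0 = v ∧ ts 0 = 0 ∧ ∀ n,
      us n - u ∈ J I 1 ∧ vs n - v ∈ J I 1 ∧ ts n ∈ I ∧
      σ (us n) = algebraMap R S ξu * us n ∧ σ (vs n) = algebraMap R S ξv * vs n ∧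
      ξu * ξv * ts n = ts n ∧
      us (n + 1) - us n ∈ J I (n + 1) ∧ vs (n + 1) - vs n ∈ J I (n + 1) ∧
      ts (n + 1) - ts n ∈ I ^ (n + 1) ∧
      us n * vs n - algebraMap R S (ts n) ∈ J I (n + 1) := by
  classical
  let Inv : ℕ → S × S × R → Prop := fun n t =>
    t.1 - u ∈ J I 1 ∧ t.2.1 - v ∈ J I 1 ∧ t.2.2 ∈ I ∧
      σ t.1 = algebraMap R S ξu * t.1 ∧ σ t.2.1 = algebraMap R S ξv * t.2.1 ∧
      ξu * ξv * t.2.2 = t.2.2 ∧
      t.1 * t.2.1 - algebraMap R S t.2.2 ∈ J I (n + 1)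
  have stp : ∀ n (t : S × S × R), Inv n t → ∃ t' : S × S × R, Inv (n + 1) t' ∧
      t'.1 - t.1 ∈ J I (n + 1) ∧ t'.2.1 - t.2.1 ∈ J I (n + 1) ∧
      t'.2.2 - t.2.2 ∈ I ^ (n + 1) := by
    rintro n ⟨u', v', t'⟩ ⟨hu'1, hv'1, ht'I, hσu', hσv', ht', hw⟩
    obtain ⟨u'', v'', t'', h1, h2, h3, h4, h5, h6, h7⟩ :=
      step I σ hσ ξu ξv h hξu hξv hh u v hdec n u' v' t' hu'1 hv'1 hσu' hσv' ht' hw
    refine ⟨(u'', v'', t''), ⟨?_, ?_, ?_, h4, h5, h6, h7⟩, h1, h2, h3⟩
    · have : u'' - u = (u'' - u') + (u' - u) := by ring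
      simp only [this]
      exact Ideal.add_mem _ (J_anti I (by omega) h1) hu'1
    · have : v'' - v = (v'' - v') + (v' - v) := by ring
      simp only [this]
      exact Ideal.add_mem _ (J_anti I (by omega) h2) hv'1
    · have : t'' = (t'' - t') + t' := by ring
      simp only
      rw [this]
      exact Ideal.add_mem _ (Ideal.pow_le_self (by omega) h3) ht'I
  have base : Inv 0 (u, v, 0) := by
    refine ⟨by simp, by simp, zero_mem _, hσu, hσv, by simp, ?_⟩
    simp only [map_zero, sub_zero, zero_add]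
    exact huv
  let seq : (n : ℕ) → {t : S × S × R // Inv n t} := fun n =>
    Nat.rec ⟨(u, v, 0), base⟩ (fun n t => ⟨Classical.choose (stp n t.1 t.2),
      (Classical.choose_spec (stp n t.1 t.2)).1⟩) n
  have hseq : ∀ n, (seq (n + 1)).1 = Classical.choose (stp n (seq n).1 (seq n).2) := fun n => rfl
  refine ⟨fun n => (seq n).1.1, fun n => (seq n).1.2.1, fun n => (seq n).1.2.2, rfl, rfl, rfl, ?_⟩
  intro n
  have hI := (seq n).2
  have hS := (Classical.choose_spec (stp n (seq n).1 (seq n).2)).2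
  rw [← hseq] at hS
  exact ⟨hI.1, hI.2.1, hI.2.2.1, hI.2.2.2.1, hI.2.2.2.2.1, hI.2.2.2.2.2.1, hS.1, hS.2.1, hS.2.2,
    hI.2.2.2.2.2.2⟩

end

end Groth.Agent.Lib.Helper63.EqNodeSeq
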