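import Mathlib
import Groth.Agent.Lib.Helper63.EqNodeSeq
import Groth.Agent.Lib.Helper63.EqNodeIso
import Groth.Agent.Lib.Helper63.EqNodeLim

/-!
# Equivariant deformations of the node (helper63)
-/

set_option autoImplicit false
set_option linter.unusedSectionVars false

namespace Groth.Agent.Lib.Helper63.EqNodeMain

open IsLocalRing MvPowerSeries Groth.Agent.Lib.Helper63.EqNodeFibre
  Groth.Agent.Lib.Helper63.EqNodeIso Groth.Agent.Lib.Helper63.EqNodeLim

universe u

section Setup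

variable {k R S : Type u} [Field k]
  [CommRing R] [IsLocalRing R] [CommRing S] [IsLocalRing S]
  [Algebra k R] [Algebra R S] [Algebra k S] [IsScalarTower k R S]
  (Pi₀ : S →ₐ[k] Node k) (hPs : Function.Surjective Pi₀)

/-- the residue character of `S` -/
noncomputable def chi : S →+* k := (eps (K := k)).comp Pi₀.toRingHom

theorem chi_apply (s : S) : chi Pi₀ s = eps (Pi₀ s) := rfl

theorem algebraMap_node (c : k) : algebraMap k (Node k) c = Ideal.Quotient.mk _ (C c) := by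
  rw [← Ideal.Quotient.mk_algebraMap, MvPowerSeries.algebraMap_apply,
    Algebra.algebraMap_self_apply]

theorem eps_algebraMap (c : k) : eps (algebraMap k (Node k) c) = c := by
  rw [algebraMap_node, eps_mk, constantCoeff_C]

theorem chi_algebraMap (c : k) : chi Pi₀ (algebraMap k S c) = c := by
  rw [chi_apply, AlgHom.commutes, eps_algebraMap]

theorem chi_surjective : Function.Surjective (chi Pi₀) := fun c => ⟨_, chi_algebraMap Pi₀ c⟩

theorem chi_eq_zero_iff (s : S) : chi Pi₀ s = 0 ↔ s ∈ maximalIdeal S := by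
  have hmax : (RingHom.ker (chi Pi₀)).IsMaximal :=
    RingHom.ker_isMaximal_of_surjective _ (chi_surjective Pi₀)
  rw [← IsLocalRing.eq_maximalIdeal hmax, RingHom.mem_ker]

theorem sub_chi_mem (s : S) : s - algebraMap k S (chi Pi₀ s) ∈ maximalIdeal S := by
  rw [← chi_eq_zero_iff Pi₀, map_sub, chi_algebraMap, sub_self]

theorem chi_map (σ : S ≃ₐ[R] S) (s : S) : chi Pi₀ (σ s) = chi Pi₀ s := by
  have h1 := sub_chi_mem Pi₀ s
  have h2 : σ (s - algebraMap k S (chi Pi₀ s)) ∈ maximalIdeal S := by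
    rw [mem_maximalIdeal, mem_nonunits_iff] at h1 ⊢
    intro hu
    apply h1
    have := hu.map σ.symm
    rwa [AlgEquiv.symm_apply_apply] at this
  have h3 : σ (algebraMap k S (chi Pi₀ s)) = algebraMap k S (chi Pi₀ s) := by
    rw [IsScalarTower.algebraMap_apply k R S, AlgEquiv.commutes]
  rw [map_sub, h3, ← chi_eq_zero_iff Pi₀, map_sub, chi_algebraMap, sub_eq_zero] at h2
  exact h2

end Setup

section Eigen

variable {k R S : Type u} [Field k]
  [CommRing R] [IsLocalRing R] [CommRing S] [IsLocalRing S]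
  [Algebra k R] [Algebra R S] [Algebra k S] [IsScalarTower k R S]
  (Pi₀ : S →ₐ[k] Node k) (hPs : Function.Surjective Pi₀)
  (hPker : RingHom.ker Pi₀.toRingHom = (maximalIdeal R).map (algebraMap R S))
  (σ : S ≃ₐ[R] S) (hσ : ∀ s, σ (σ s) = s)
  (hbr : ∀ P ∈ ((maximalIdeal R).map (algebraMap R S)).minimalPrimes,
    Ideal.map (σ : S →+* S) P = P)
  (h2 : (2 : k) ≠ 0)

theorem map_algebraMap_k (c : k) : σ (algebraMap k S c) = algebraMap k S c := by
  rw [IsScalarTower.algebraMap_apply k R S, AlgEquiv.commutes]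

include hPker in
theorem Pi_eq_zero_iff (s : S) : Pi₀ s = 0 ↔ s ∈ (maximalIdeal R).map (algebraMap R S) := by
  rw [← hPker, RingHom.mem_ker]; rfl

include hPker in
theorem Pi_map_eq_zero {s : S} (hs : Pi₀ s = 0) : Pi₀ (σ s) = 0 := by
  rw [Pi_eq_zero_iff Pi₀ hPker] at hs ⊢
  have h1 := Ideal.mem_map_of_mem (σ : S →+* S) hs
  rw [Ideal.map_map] at h1
  have h2 : (σ : S →+* S).comp (algebraMap R S) = algebraMap R S := by
    ext r
    simp
  rw [h2] at h1
  exact h1

include hPs hPker hσ hbr h2 in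
theorem exists_eigen (i : Fin 2) : ∃ (ξ : k) (w : S) (c : Node k), ξ * ξ = 1 ∧
    σ w = algebraMap k S ξ * w ∧ Pi₀ w = Ideal.Quotient.mk _ (X i) * c ∧ eps c = 1 := by
  obtain ⟨w₀, hw₀⟩ := hPs (Ideal.Quotient.mk _ (X i))
  have hP : Ideal.comap Pi₀.toRingHom (Ideal.span {(Ideal.Quotient.mk _ (X i) : Node k)}) ∈
      ((maximalIdeal R).map (algebraMap R S)).minimalPrimes := by
    have := Ideal.minimalPrimes_comap_of_surjective (f := Pi₀.toRingHom) hPs
      (span_mk_X_mem_minimalPrimes (K := k) i)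
    rwa [← RingHom.ker_eq_comap_bot, hPker] at this
  have hmap := hbr _ hP
  have hw₀mem : w₀ ∈ Ideal.comap Pi₀.toRingHom
      (Ideal.span {(Ideal.Quotient.mk _ (X i) : Node k)}) := by
    rw [Ideal.mem_comap]
    change Pi₀ w₀ ∈ _
    rw [hw₀]
    exact Ideal.subset_span rfl
  have hσw₀ : σ w₀ ∈ Ideal.comap Pi₀.toRingHom
      (Ideal.span {(Ideal.Quotient.mk _ (X i) : Node k)}) := by
    rw [← hmap]
    exact Ideal.mem_map_of_mem (σ : S →+* S) hw₀mem
  rw [Ideal.mem_comap, Ideal.mem_span_singleton'] at hσw₀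
  obtain ⟨a', ha'⟩ := hσw₀
  obtain ⟨a, rfl⟩ := hPs a'
  change Pi₀ a * _ = Pi₀ (σ w₀) at ha'
  have h3 : Pi₀ (σ (σ w₀)) = Pi₀ (σ a) * (Pi₀ a * Ideal.Quotient.mk _ (X i)) := by
    have hk : Pi₀ (σ w₀ - a * w₀) = 0 := by rw [map_sub, map_mul, hw₀, ← ha', sub_self]
    have := Pi_map_eq_zero Pi₀ hPker σ hk
    rw [map_sub, map_mul, map_sub, map_mul, sub_eq_zero] at this
    rw [this, ← ha']
  rw [hσ, hw₀] at h3
  have h4 : (1 - Pi₀ (σ a) * Pi₀ a) * Ideal.Quotient.mk _ (X i) = 0 := by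
    linear_combination h3
  have h5 : eps (1 - Pi₀ (σ a) * Pi₀ a) = 0 := by
    by_contra hne
    have hu := isUnit_of_eps_ne_zero _ hne
    exact mk_X_ne_zero i (hu.mul_right_eq_zero.mp h4)
  rw [map_sub, map_one, map_mul, ← chi_apply, ← chi_apply, chi_map, sub_eq_zero] at h5
  have hσk := map_algebraMap_k (k := k) σ
  have hξS : algebraMap k S (chi Pi₀ a) * algebraMap k S (chi Pi₀ a) = 1 := by
    rw [← map_mul, ← h5, map_one]
  refine ⟨chi Pi₀ a, algebraMap k S 2⁻¹ * (w₀ + algebraMap k S (chi Pi₀ a) * σ w₀),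
    algebraMap k (Node k) 2⁻¹ * (1 + algebraMap k (Node k) (chi Pi₀ a) * Pi₀ a), h5.symm, ?_, ?_, ?_⟩
  · rw [map_mul, map_add, map_mul, hσ, hσk, hσk]
    linear_combination (-(algebraMap k S 2⁻¹) * σ w₀) * hξS
  · rw [map_mul, map_add, map_mul, AlgHom.commutes, AlgHom.commutes, hw₀, ← ha']
    ring
  · rw [map_mul, map_add, map_one, map_mul, eps_algebraMap, eps_algebraMap, ← chi_apply, ← h5]
    field_simp
    norm_num

end Eigen

section Core

variable (k R S : Type u) [Field k]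
    [CommRing R] [IsLocalRing R] [IsNoetherianRing R] [IsAdicComplete (maximalIdeal R) R]
    [CommRing S] [IsLocalRing S] [IsNoetherianRing S] [IsAdicComplete (maximalIdeal S) S]
    [Algebra k R] [Algebra R S] [Algebra k S] [IsScalarTower k R S]
    [IsLocalHom (algebraMap R S)] [Module.Flat R S]

theorem core (h2 : (2 : k) ≠ 0) (Pi₀ : S →ₐ[k] Node k) (hPs : Function.Surjective Pi₀)
    (hPker : RingHom.ker Pi₀.toRingHom = (maximalIdeal R).map (algebraMap R S))
    (σ : S ≃ₐ[R] S) (hσ : ∀ s, σ (σ s) = s)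
    (hbr : ∀ P ∈ ((maximalIdeal R).map (algebraMap R S)).minimalPrimes,
      Ideal.map (σ : S →+* S) P = P) :
    ∃ (t : R) (ξ₁ ξ₂ : k), ξ₁ ^ 2 = 1 ∧ ξ₂ ^ 2 = 1 ∧ (ξ₁ = -ξ₂ → t = 0) ∧
      ∃ f : S ≃ₐ[R] Model t,
        f (σ (f.symm (Ideal.Quotient.mk _ (X 0)))) =
          algebraMap k R ξ₂ • Ideal.Quotient.mk _ (X 0) ∧
        f (σ (f.symm (Ideal.Quotient.mk _ (X 1)))) =
          algebraMap k R ξ₁ • Ideal.Quotient.mk _ (X 1) := by
  classical
  obtain ⟨J, hJ⟩ : ∃ J : Ideal S, J = (maximalIdeal R).map (algebraMap R S) := ⟨_, rfl⟩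
  have hJle : J ≤ maximalIdeal S := by
    rw [hJ]
    exact ((IsLocalRing.local_hom_TFAE (algebraMap R S)).out 0 2).mp
      (inferInstance : IsLocalHom (algebraMap R S))
  have hPJ : ∀ s : S, Pi₀ s = 0 ↔ s ∈ J := fun s => by rw [hJ]; exact Pi_eq_zero_iff Pi₀ hPker s
  obtain ⟨ξu, u₁, cu, hξu, hσu₁, hPu₁, hcu⟩ := exists_eigen Pi₀ hPs hPker σ hσ hbr h2 0
  obtain ⟨ξv, v₁, cv, hξv, hσv₁, hPv₁, hcv⟩ := exists_eigen Pi₀ hPs hPker σ hσ hbr h2 1
  have hcuU : IsUnit cu := isUnit_of_eps_ne_zero cu (by rw [hcu]; exact one_ne_zero)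
  have hcvU : IsUnit cv := isUnit_of_eps_ne_zero cv (by rw [hcv]; exact one_ne_zero)
  -- the residue map of `R`
  let qK : R →+* k := (chi Pi₀).comp (algebraMap R S)
  have hqK : ∀ c : k, qK (algebraMap k R c) = c := fun c => by
    change chi Pi₀ (algebraMap R S (algebraMap k R c)) = c
    rw [← IsScalarTower.algebraMap_apply, chi_algebraMap]
  have hqs : Function.Surjective qK := fun c => ⟨_, hqK c⟩
  have hq0 : ∀ r, qK r = 0 ↔ r ∈ maximalIdeal R := by
    intro r
    have hmax : (RingHom.ker qK).IsMaximal := RingHom.ker_isMaximal_of_surjective _ hqs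
    rw [← IsLocalRing.eq_maximalIdeal hmax, RingHom.mem_ker]
  have hX01 : (Ideal.Quotient.mk _ (X 0) : Node k) * Ideal.Quotient.mk _ (X 1) = 0 := by
    rw [← map_mul]
    exact Ideal.Quotient.eq_zero_iff_mem.mpr (Ideal.subset_span rfl)
  have huv₁ : u₁ * v₁ ∈ J := by
    rw [← hPJ, map_mul, hPu₁, hPv₁]
    linear_combination (cu * cv) * hX01
  have hdec' : ∀ s : S, ∃ p q : S, s - algebraMap k S (chi Pi₀ s) - p * u₁ - q * v₁ ∈ J := by
    intro s
    obtain ⟨g₁, g₂, hg⟩ := decomp_node (Pi₀ s)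
    obtain ⟨cu', hcu'⟩ := hcuU.exists_right_inv
    obtain ⟨cv', hcv'⟩ := hcvU.exists_right_inv
    obtain ⟨p, hp⟩ := hPs (cu' * g₁)
    obtain ⟨q, hq⟩ := hPs (cv' * g₂)
    refine ⟨p, q, ?_⟩
    rw [← hPJ, map_sub, map_sub, map_sub, map_mul, map_mul, AlgHom.commutes, hp, hq, hPu₁, hPv₁,
      algebraMap_node, chi_apply]
    linear_combination hg - (g₁ * Ideal.Quotient.mk _ (X 0)) * hcu' -
      (g₂ * Ideal.Quotient.mk _ (X 1)) * hcv'
  -- scalars in `R`
  obtain ⟨ξu', hξu'def⟩ : ∃ x : R, x = algebraMap k R ξu := ⟨_, rfl⟩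
  obtain ⟨ξv', hξv'def⟩ : ∃ x : R, x = algebraMap k R ξv := ⟨_, rfl⟩
  obtain ⟨hh, hhdef⟩ : ∃ x : R, x = algebraMap k R 2⁻¹ := ⟨_, rfl⟩
  have hξu' : ξu' * ξu' = 1 := by rw [hξu'def, ← map_mul, hξu, map_one]
  have hξv' : ξv' * ξv' = 1 := by rw [hξv'def, ← map_mul, hξv, map_one]
  have hhh : 2 * hh = 1 := by
    rw [hhdef, ← map_ofNat (algebraMap k R) 2, ← map_mul, mul_inv_cancel₀ h2, map_one]
  have hJ1 : EqNodeSeq.J (S := S) (maximalIdeal R) 1 = J := by
    unfold EqNodeSeq.J; rw [pow_one, hJ]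
  have hdec : ∀ s : S, ∃ (c : R) (p q : S),
      s - algebraMap R S c - p * u₁ - q * v₁ ∈ EqNodeSeq.J (maximalIdeal R) 1 := by
    intro s
    obtain ⟨p, q, h⟩ := hdec' s
    refine ⟨algebraMap k R (chi Pi₀ s), p, q, ?_⟩
    rw [← IsScalarTower.algebraMap_apply, hJ1]
    exact h
  obtain ⟨us, vs, ts, hus0, hvs0, hts0, hseq⟩ := EqNodeSeq.exists_seq (maximalIdeal R)
    (σ : S →ₐ[R] S) hσ ξu' ξv' hh hξu' hξv' hhh u₁ v₁ hdec
    (by rw [hξu'def, ← IsScalarTower.algebraMap_apply]; exact hσu₁)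
    (by rw [hξv'def, ← IsScalarTower.algebraMap_apply]; exact hσv₁)
    (by rw [hJ1]; exact huv₁)
  have hJn : ∀ n, EqNodeSeq.J (S := S) (maximalIdeal R) n ≤ maximalIdeal S ^ n := by
    intro n
    unfold EqNodeSeq.J
    rw [Ideal.map_pow, ← hJ]
    exact Ideal.pow_right_mono hJle n
  have hJn' : ∀ n, EqNodeSeq.J (S := S) (maximalIdeal R) (n + 1) ≤ maximalIdeal S ^ n :=
    fun n => (hJn (n + 1)).trans (Ideal.pow_le_pow_right (Nat.le_succ n))
  obtain ⟨u, hu⟩ := exists_lim (maximalIdeal S) us (fun n => hJn' n (hseq n).2.2.2.2.2.2.1)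
  obtain ⟨v, hv⟩ := exists_lim (maximalIdeal S) vs (fun n => hJn' n (hseq n).2.2.2.2.2.2.2.1)
  obtain ⟨t, htl⟩ := exists_lim (maximalIdeal R) ts
    (fun n => Ideal.pow_le_pow_right (Nat.le_succ n) (hseq n).2.2.2.2.2.2.2.2.1)
  -- `σ` preserves the powers of the maximal ideal
  have hσm : ∀ n x, x ∈ maximalIdeal S ^ n → σ x ∈ maximalIdeal S ^ n := by
    intro n x hx
    have h1 := Ideal.mem_map_of_mem (σ : S →+* S) hx
    rw [Ideal.map_pow] at h1
    refine Ideal.pow_right_mono ?_ n h1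
    rw [Ideal.map_le_iff_le_comap]
    intro y hy
    rw [Ideal.mem_comap]
    rw [mem_maximalIdeal, mem_nonunits_iff] at hy ⊢
    intro hunit
    apply hy
    have := hunit.map σ.symm
    change IsUnit (σ.symm (σ y)) at this
    rwa [AlgEquiv.symm_apply_apply] at this
  -- the limit relation
  have huv : u * v = algebraMap R S t := by
    rw [← sub_eq_zero]
    refine eq_zero_of_forall_mem_pow (maximalIdeal S) _ fun n => ?_
    obtain ⟨-, -, -, -, -, -, -, -, -, h10⟩ := hseq n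
    have e1 : u * v - algebraMap R S t = (u - us n) * v + us n * (v - vs n) +
        (us n * vs n - algebraMap R S (ts n)) - algebraMap R S (t - ts n) := by
      rw [map_sub]; ring
    rw [e1]
    refine Ideal.sub_mem _ (Ideal.add_mem _ (Ideal.add_mem _ (Ideal.mul_mem_right _ _ (hu n))
      (Ideal.mul_mem_left _ _ (hv n))) (hJn' n h10)) ?_
    exact hJn n (Ideal.mem_map_of_mem _ (htl n))
  have hσu : σ u = algebraMap R S ξu' * u := by
    rw [← sub_eq_zero]
    refine eq_zero_of_forall_mem_pow (maximalIdeal S) _ fun n => ?_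
    obtain ⟨-, -, -, h4, -, -, -, -, -, -⟩ := hseq n
    have h4' : σ (us n) = algebraMap R S ξu' * us n := h4
    have e1 : σ u - algebraMap R S ξu' * u = σ (u - us n) - algebraMap R S ξu' * (u - us n) := by
      rw [map_sub, h4']; ring
    rw [e1]
    exact Ideal.sub_mem _ (hσm n _ (hu n)) (Ideal.mul_mem_left _ _ (hu n))
  have hσv : σ v = algebraMap R S ξv' * v := by
    rw [← sub_eq_zero]
    refine eq_zero_of_forall_mem_pow (maximalIdeal S) _ fun n => ?_
    obtain ⟨-, -, -, -, h5, -, -, -, -, -⟩ := hseq n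
    have h5' : σ (vs n) = algebraMap R S ξv' * vs n := h5
    have e1 : σ v - algebraMap R S ξv' * v = σ (v - vs n) - algebraMap R S ξv' * (v - vs n) := by
      rw [map_sub, h5']; ring
    rw [e1]
    exact Ideal.sub_mem _ (hσm n _ (hv n)) (Ideal.mul_mem_left _ _ (hv n))
  have huJ : u - u₁ ∈ J := by
    refine mem_of_forall_mem_sup_pow J _ fun n => ?_
    obtain ⟨h1, -, -, -, -, -, -, -, -, -⟩ := hseq n
    rw [hJ1] at h1
    have e1 : u - u₁ = (us n - u₁) + (u - us n) := by ring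
    rw [e1]
    exact Submodule.add_mem_sup h1 (hu n)
  have hvJ : v - v₁ ∈ J := by
    refine mem_of_forall_mem_sup_pow J _ fun n => ?_
    obtain ⟨-, h2', -, -, -, -, -, -, -, -⟩ := hseq n
    rw [hJ1] at h2'
    have e1 : v - v₁ = (vs n - v₁) + (v - vs n) := by ring
    rw [e1]
    exact Submodule.add_mem_sup h2' (hv n)
  have ht : t ∈ maximalIdeal R := by
    obtain ⟨-, -, h3, -, -, -, -, -, -, -⟩ := hseq 1
    have e1 : t = (t - ts 1) + ts 1 := by ring
    rw [e1]
    have := htl 1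
    rw [pow_one] at this
    exact Ideal.add_mem _ this h3
  have hchiX : ∀ (i : Fin 2) (c : Node k), eps (Ideal.Quotient.mk _ (X i) * c) = 0 := by
    intro i c
    rw [map_mul, eps_mk, constantCoeff_X, zero_mul]
  have hu₁m : u₁ ∈ maximalIdeal S := by
    rw [← chi_eq_zero_iff Pi₀, chi_apply, hPu₁, hchiX]
  have hv₁m : v₁ ∈ maximalIdeal S := by
    rw [← chi_eq_zero_iff Pi₀, chi_apply, hPv₁, hchiX]
  have hum : u ∈ maximalIdeal S := by
    have e1 : u = (u - u₁) + u₁ := by ring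
    rw [e1]
    exact Ideal.add_mem _ (hJle huJ) hu₁m
  have hvm : v ∈ maximalIdeal S := by
    have e1 : v = (v - v₁) + v₁ := by ring
    rw [e1]
    exact Ideal.add_mem _ (hJle hvJ) hv₁m
  have hgen : maximalIdeal S = Ideal.span {u, v} ⊔ (maximalIdeal R).map (algebraMap R S) := by
    rw [← hJ]
    apply le_antisymm
    · intro s hs
      obtain ⟨p, q, hpq⟩ := hdec' s
      rw [(chi_eq_zero_iff Pi₀ s).mpr hs, map_zero, sub_zero] at hpq
      have e1 : s = (p * u + q * v) + ((s - p * u₁ - q * v₁) + (p * (-(u - u₁)) + q * (-(v - v₁)))) := by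
        ring
      rw [e1]
      refine Submodule.add_mem_sup ?_ ?_
      · exact Ideal.add_mem _ (Ideal.mul_mem_left _ _ (Ideal.subset_span (by simp)))
          (Ideal.mul_mem_left _ _ (Ideal.subset_span (by simp)))
      · exact Ideal.add_mem _ hpq (Ideal.add_mem _ (Ideal.mul_mem_left _ _ (neg_mem huJ))
          (Ideal.mul_mem_left _ _ (neg_mem hvJ)))
    · refine sup_le ?_ hJle
      rw [Ideal.span_le]
      rintro x (rfl | rfl)
      · exact hum
      · exact hvm
  have hres : ∀ s : S, ∃ c : R, s - algebraMap R S c ∈ maximalIdeal S := by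
    intro s
    refine ⟨algebraMap k R (chi Pi₀ s), ?_⟩
    rw [← IsScalarTower.algebraMap_apply]
    exact sub_chi_mem Pi₀ s
  obtain ⟨f, hfu, hfv⟩ := exists_iso qK hqs hq0 Pi₀.toRingHom hPs
    (fun b hb => (hPJ b).mpr (by rw [hJ]; exact hb)) u v t ht huv hgen hres
  refine ⟨t, ξv, ξu, by rw [pow_two]; exact hξv, by rw [pow_two]; exact hξu, ?_, f, ?_, ?_⟩
  · intro hneg
    have hinj : Function.Injective (algebraMap R S) := by
      have := Module.FaithfullyFlat.of_flat_of_isLocalHom (A := R) (B := S)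
      exact FaithfulSMul.algebraMap_injective R S
    have h1 : σ (u * v) = algebraMap R S (ξu' * ξv') * (u * v) := by
      rw [map_mul, hσu, hσv, map_mul]; ring
    rw [huv, AlgEquiv.commutes, ← map_mul] at h1
    have h3 := hinj h1
    have h4 : ξu' * ξv' = -1 := by
      rw [hξu'def, hξv'def, ← map_mul, hneg, mul_neg, hξu, map_neg, map_one]
    rw [h4] at h3
    have h5 : 2 * t = 0 := by linear_combination h3
    have : t = hh * (2 * t) := by linear_combination (-t) * hhh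
    rw [this, h5, mul_zero]
  · have : f.symm (Ideal.Quotient.mk _ (X 0)) = u := by
      rw [AlgEquiv.symm_apply_eq]; exact hfu.symm
    rw [this, hσu, ← Algebra.smul_def, map_smul, hfu, hξu'def]
  · have : f.symm (Ideal.Quotient.mk _ (X 1)) = v := by
      rw [AlgEquiv.symm_apply_eq]; exact hfv.symm
    rw [this, hσv, ← Algebra.smul_def, map_smul, hfv, hξv'def]

end Core

end Groth.Agent.Lib.Helper63.EqNodeMain
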