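import Mathlib
import Groth.Agent.Lib.Helper63.EqNodeMain
import Groth.Agent.Lib.Helper58.MvPSComplete
import Groth.Agent.Lib.Helper44.AdicQuot

/-!
# Involutions of the node algebra `k[[x,y]]/(xy)` (helper63)
-/

set_option autoImplicit false
set_option linter.unusedSectionVars false

namespace Groth.Agent.Lib.Helper63.EqNodeInv

open IsLocalRing MvPowerSeries Groth.Agent.Lib.Helper63.EqNodeFibre
  Groth.Agent.Lib.Helper63.EqNodeIso Groth.Agent.Lib.Helper63.EqNodeLim
  Groth.Agent.Lib.Helper63.EqNodeMain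

universe u

variable {k : Type u} [Field k]

/-- the first branch coordinate -/
noncomputable abbrev nu (k : Type u) [Field k] : Node k := Ideal.Quotient.mk _ (X 0)

/-- the second branch coordinate -/
noncomputable abbrev nv (k : Type u) [Field k] : Node k := Ideal.Quotient.mk _ (X 1)

instance : Nontrivial (Node k) := Ideal.Quotient.nontrivial_iff.2 (by
  intro h
  rw [Ideal.span_singleton_eq_top] at h
  have := MvPowerSeries.isUnit_iff_constantCoeff.mp h
  simp at this)

instance : IsLocalRing (Node k) :=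
  IsLocalRing.of_surjective' (Ideal.Quotient.mk _) Ideal.Quotient.mk_surjective

theorem isAdicComplete_field : IsAdicComplete (maximalIdeal k) k := by
  rw [IsLocalRing.maximalIdeal_eq_bot]; infer_instance

theorem isAdicComplete_node : IsAdicComplete (maximalIdeal (Node k)) (Node k) := by
  have : IsAdicComplete (maximalIdeal k) k := isAdicComplete_field
  have : IsAdicComplete (maximalIdeal (MvPowerSeries (Fin 2) k)) (MvPowerSeries (Fin 2) k) :=
    Groth.Agent.Lib.Helper58.MvPSComplete.isAdicComplete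
  have := Groth.Agent.Lib.Helper44.isAdicComplete_quotient_ring
    (maximalIdeal (MvPowerSeries (Fin 2) k))
    (Ideal.span {(X 0 * X 1 : MvPowerSeries (Fin 2) k)})
  rwa [Ideal.Quotient.algebraMap_eq,
    IsLocalRing.map_maximalIdeal_of_surjective _ Ideal.Quotient.mk_surjective] at this

theorem nu_mul_nv : nu k * nv k = 0 := by
  rw [← map_mul]
  exact Ideal.Quotient.eq_zero_iff_mem.mpr (Ideal.subset_span rfl)

theorem eps_eq_zero_iff (s : Node k) : eps s = 0 ↔ s ∈ maximalIdeal (Node k) :=
  chi_eq_zero_iff (AlgHom.id k (Node k)) s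

theorem eps_map (σ : Node k ≃ₐ[k] Node k) (s : Node k) : eps (σ s) = eps s :=
  chi_map (R := k) (AlgHom.id k (Node k)) σ s

theorem sub_eps_mem (s : Node k) : s - algebraMap k (Node k) (eps s) ∈ maximalIdeal (Node k) :=
  sub_chi_mem (AlgHom.id k (Node k)) s

theorem nu_mem : nu k ∈ maximalIdeal (Node k) := by
  rw [← eps_eq_zero_iff, eps_mk, constantCoeff_X]

theorem nv_mem : nv k ∈ maximalIdeal (Node k) := by
  rw [← eps_eq_zero_iff, eps_mk, constantCoeff_X]

theorem maximalIdeal_node : maximalIdeal (Node k) = Ideal.span {nu k, nv k} := by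
  apply le_antisymm
  · intro s hs
    obtain ⟨g₁, g₂, hg⟩ := decomp_node s
    rw [(eps_eq_zero_iff s).mpr hs, map_zero, map_zero, zero_add] at hg
    rw [hg]
    exact Ideal.add_mem _ (Ideal.mul_mem_right _ _ (Ideal.subset_span (by simp)))
      (Ideal.mul_mem_right _ _ (Ideal.subset_span (by simp)))
  · rw [Ideal.span_le]
    rintro x (rfl | rfl)
    · exact nu_mem
    · exact nv_mem

theorem nv_notMem_span_nu : nv k ∉ Ideal.span {nu k} := by
  intro h
  obtain ⟨c, hc⟩ := Ideal.mem_span_singleton'.mp h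
  obtain ⟨c', rfl⟩ := Ideal.Quotient.mk_surjective c
  rw [← map_mul, Ideal.Quotient.eq, Ideal.mem_span_singleton] at hc
  obtain ⟨d, hd⟩ := hc
  apply not_X_dvd_X (K := k) (i := 0) (j := 1) (by decide)
  refine ⟨c' - X 1 * d, ?_⟩
  linear_combination -hd

theorem nu_notMem_span_nv : nu k ∉ Ideal.span {nv k} := by
  intro h
  obtain ⟨c, hc⟩ := Ideal.mem_span_singleton'.mp h
  obtain ⟨c', rfl⟩ := Ideal.Quotient.mk_surjective c
  rw [← map_mul, Ideal.Quotient.eq, Ideal.mem_span_singleton] at hc
  obtain ⟨d, hd⟩ := hc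
  apply not_X_dvd_X (K := k) (i := 1) (j := 0) (by decide)
  refine ⟨c' - X 0 * d, ?_⟩
  linear_combination -hd

theorem minimalPrimes_node (P : Ideal (Node k)) (hP : P ∈ (⊥ : Ideal (Node k)).minimalPrimes) :
    P = Ideal.span {nu k} ∨ P = Ideal.span {nv k} := by
  have hprime := hP.1.1
  have h0 : nu k * nv k ∈ P := by rw [nu_mul_nv]; exact zero_mem _
  rcases hprime.mem_or_mem h0 with h | h
  · left
    have hle : Ideal.span {nu k} ≤ P := (Ideal.span_singleton_le_iff_mem _).mpr h
    have hmin := span_mk_X_mem_minimalPrimes (K := k) 0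
    exact le_antisymm (hP.2 ⟨hmin.1.1, bot_le⟩ hle) hle
  · right
    have hle : Ideal.span {nv k} ≤ P := (Ideal.span_singleton_le_iff_mem _).mpr h
    have hmin := span_mk_X_mem_minimalPrimes (K := k) 1
    exact le_antisymm (hP.2 ⟨hmin.1.1, bot_le⟩ hle) hle

theorem map_pow_mem (τ : Node k ≃ₐ[k] Node k) (n : ℕ) (x : Node k)
    (hx : x ∈ maximalIdeal (Node k) ^ n) : τ x ∈ maximalIdeal (Node k) ^ n := by
  have h1 := Ideal.mem_map_of_mem (τ : Node k →+* Node k) hx
  rw [Ideal.map_pow] at h1
  refine Ideal.pow_right_mono ?_ n h1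
  rw [Ideal.map_le_iff_le_comap]
  intro y hy
  rw [Ideal.mem_comap]
  rw [mem_maximalIdeal, mem_nonunits_iff] at hy ⊢
  intro hunit
  apply hy
  have := hunit.map τ.symm
  change IsUnit (τ.symm (τ y)) at this
  rwa [AlgEquiv.symm_apply_apply] at this

/-- an automorphism of the node algebra fixing both branch coordinates is the identity -/
theorem eq_self_of_fix (τ : Node k ≃ₐ[k] Node k) (hu : τ (nu k) = nu k) (hv : τ (nv k) = nv k)
    (p : Node k) : τ p = p := by
  have := isAdicComplete_node (k := k)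
  obtain ⟨f, rfl⟩ := Ideal.Quotient.mk_surjective p
  rw [← sub_eq_zero]
  refine eq_zero_of_forall_mem_pow (maximalIdeal (Node k)) _ fun n => ?_
  obtain ⟨q, hq⟩ := Groth.Agent.Lib.Helper90.PSUniv.exists_trunc n f
  let A : MvPolynomial (Fin 2) k →ₐ[k] Node k :=
    (Ideal.Quotient.mkₐ k _).comp (MvPolynomial.coeToMvPowerSeries.algHom k)
  have hA : (τ : Node k →ₐ[k] Node k).comp A = A := by
    apply MvPolynomial.algHom_ext
    intro i
    fin_cases i
    · change τ (Ideal.Quotient.mk _
        ((MvPolynomial.X 0 : MvPolynomial (Fin 2) k) : MvPowerSeries (Fin 2) k)) = _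
      rw [MvPolynomial.coe_X]
      change τ (nu k) = Ideal.Quotient.mk _
        ((MvPolynomial.X 0 : MvPolynomial (Fin 2) k) : MvPowerSeries (Fin 2) k)
      rw [MvPolynomial.coe_X]; exact hu
    · change τ (Ideal.Quotient.mk _
        ((MvPolynomial.X 1 : MvPolynomial (Fin 2) k) : MvPowerSeries (Fin 2) k)) = _
      rw [MvPolynomial.coe_X]
      change τ (nv k) = Ideal.Quotient.mk _
        ((MvPolynomial.X 1 : MvPolynomial (Fin 2) k) : MvPowerSeries (Fin 2) k)
      rw [MvPolynomial.coe_X]; exact hv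
  have hq' : τ (Ideal.Quotient.mk _ (q : MvPowerSeries (Fin 2) k)) =
      Ideal.Quotient.mk _ (q : MvPowerSeries (Fin 2) k) := DFunLike.congr_fun hA q
  have hr : f - q ∈ maximalIdeal (MvPowerSeries (Fin 2) k) ^ n := by
    rw [Groth.Agent.Lib.Helper90.PSIdeal.maximalIdeal_eq_span_X,
      Groth.Agent.Lib.Helper90.PSIdeal.mem_pow_iff]
    exact hq
  have hr' : Ideal.Quotient.mk (Ideal.span {(X 0 * X 1 : MvPowerSeries (Fin 2) k)}) (f - q) ∈
      maximalIdeal (Node k) ^ n := by
    have := Ideal.mem_map_of_mem (Ideal.Quotient.mk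
      (Ideal.span {(X 0 * X 1 : MvPowerSeries (Fin 2) k)})) hr
    rwa [Ideal.map_pow,
      IsLocalRing.map_maximalIdeal_of_surjective _ Ideal.Quotient.mk_surjective] at this
  have e1 : τ (Ideal.Quotient.mk _ f) - Ideal.Quotient.mk _ f =
      τ (Ideal.Quotient.mk _ (f - q)) - Ideal.Quotient.mk _ (f - q) := by
    rw [map_sub, map_sub, hq']; ring
  rw [e1]
  exact Ideal.sub_mem _ (map_pow_mem τ n _ hr') hr'

/-- the swap of the two branches -/
theorem exists_swap : ∃ s : Node k ≃ₐ[k] Node k, s (nu k) = nv k ∧ s (nv k) = nu k := by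
  let a : Fin 2 → MvPowerSeries (Fin 2) k := ![X 1, X 0]
  have ha : ∀ i, constantCoeff (a i) = 0 := by
    intro i
    fin_cases i <;> simp [a]
  have hsa : HasSubst a := hasSubst_of_constantCoeff_zero ha
  have haa : ∀ i, subst a (a i) = X i := by
    intro i
    fin_cases i
    · change subst a (X 1) = X 0
      rw [subst_X hsa]; rfl
    · change subst a (X 0) = X 1
      rw [subst_X hsa]; rfl
  obtain ⟨θ, hθ⟩ := algEquiv_of_subst a a ha ha haa haa
  have hI : Ideal.span {(X 0 * X 1 : MvPowerSeries (Fin 2) k)} =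
      (Ideal.span {(X 0 * X 1 : MvPowerSeries (Fin 2) k)}).map
        (θ : MvPowerSeries (Fin 2) k →+* MvPowerSeries (Fin 2) k) := by
    rw [Ideal.map_span, Set.image_singleton]
    congr 2
    change X 0 * X 1 = θ (X 0 * X 1)
    rw [map_mul, hθ, hθ]
    change X 0 * X 1 = X 1 * X 0
    ring
  refine ⟨Ideal.quotientEquivAlg _ _ θ hI, ?_, ?_⟩
  · change Ideal.quotientEquivAlg _ _ θ hI (Ideal.Quotient.mk _ (X 0)) = _
    rw [Ideal.quotientEquivAlg_mk, hθ]; rfl
  · change Ideal.quotientEquivAlg _ _ θ hI (Ideal.Quotient.mk _ (X 1)) = _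
    rw [Ideal.quotientEquivAlg_mk, hθ]; rfl

/-- the model with `t = 0` is the node algebra -/
theorem exists_iota : ∃ ι : Model (0 : k) ≃ₐ[k] Node k,
    ∀ p : MvPowerSeries (Fin 2) k, ι (Ideal.Quotient.mk _ p) = Ideal.Quotient.mk _ p := by
  have hI : Ideal.span {(X 0 * X 1 - C (0 : k) : MvPowerSeries (Fin 2) k)} =
      Ideal.span {(X 0 * X 1 : MvPowerSeries (Fin 2) k)} := by
    rw [map_zero, sub_zero]
  exact ⟨Ideal.quotientEquivAlgOfEq k hI, fun p => Ideal.quotientEquivAlgOfEq_mk k hI p⟩

theorem mem_of_map_mem (σ : Node k ≃ₐ[k] Node k) (P : Ideal (Node k)) (x : Node k)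
    (h : σ x ∈ Ideal.map (σ : Node k →+* Node k) P) : x ∈ P := by
  obtain ⟨y, hy, hyx⟩ := (Ideal.mem_map_iff_of_surjective (σ : Node k →+* Node k)
    σ.surjective).mp h
  have : y = x := σ.injective hyx
  rwa [← this]

theorem map_mem_minimalPrimes (σ : Node k ≃ₐ[k] Node k) (P : Ideal (Node k))
    (hP : P ∈ (⊥ : Ideal (Node k)).minimalPrimes) :
    Ideal.map (σ : Node k →+* Node k) P ∈ (⊥ : Ideal (Node k)).minimalPrimes := by
  have h1 := Ideal.minimalPrimes_comap_of_surjective (f := (σ.symm : Node k →+* Node k))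
    σ.symm.surjective hP
  have h2 : Ideal.comap (σ.symm : Node k →+* Node k) ⊥ = ⊥ := by
    rw [← RingHom.ker_eq_comap_bot]
    exact (RingHom.injective_iff_ker_eq_bot _).mp σ.symm.injective
  rw [h2] at h1
  have h3 : Ideal.comap (σ.symm : Node k →+* Node k) P =
      Ideal.map (σ : Node k →+* Node k) P := by
    ext x
    rw [Ideal.mem_comap]
    constructor
    · intro hx
      have := Ideal.mem_map_of_mem (σ : Node k →+* Node k) hx
      change σ (σ.symm x) ∈ _ at this
      rwa [AlgEquiv.apply_symm_apply] at this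
    · intro hx
      apply mem_of_map_mem σ
      change σ (σ.symm x) ∈ _
      rwa [AlgEquiv.apply_symm_apply]
  rwa [h3] at h1

/-- classification of the non-trivial involutions of the node algebra, in branch coordinates -/
theorem classify (h2 : (2 : k) ≠ 0) (σ : Node k ≃ₐ[k] Node k) (hσ : ∀ a, σ (σ a) = a)
    (hne : σ ≠ AlgEquiv.refl) :
    ∃ g : Node k ≃ₐ[k] Node k,
      (g (σ (g.symm (nu k))) = -nu k ∧ g (σ (g.symm (nv k))) = -nv k) ∨
      (g (σ (g.symm (nu k))) = -nu k ∧ g (σ (g.symm (nv k))) = nv k) ∨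
      (g (σ (g.symm (nu k))) = -nv k ∧ g (σ (g.symm (nv k))) = -nu k) := by
  classical
  have := isAdicComplete_node (k := k)
  have := isAdicComplete_field (k := k)
  obtain ⟨ι, hι⟩ := exists_iota (k := k)
  have hPu := span_mk_X_mem_minimalPrimes (K := k) 0
  have hPv := span_mk_X_mem_minimalPrimes (K := k) 1
  have hbot : (maximalIdeal k).map (algebraMap k (Node k)) = ⊥ := by
    rw [IsLocalRing.maximalIdeal_eq_bot, Ideal.map_bot]
  have hιu : ι.symm (nu k) = Ideal.Quotient.mk _ (X 0) := by rw [AlgEquiv.symm_apply_eq, hι]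
  have hιv : ι.symm (nv k) = Ideal.Quotient.mk _ (X 1) := by rw [AlgEquiv.symm_apply_eq, hι]
  rcases minimalPrimes_node _ (map_mem_minimalPrimes σ _ hPu) with hA | hB
  · -- the branches are preserved
    have hv2 : Ideal.map (σ : Node k →+* Node k) (Ideal.span {nv k}) = Ideal.span {nv k} := by
      rcases minimalPrimes_node _ (map_mem_minimalPrimes σ _ hPv) with hv1 | hv2
      · exfalso
        apply nv_notMem_span_nu (k := k)
        apply mem_of_map_mem σ
        rw [hA, ← hv1]
        exact Ideal.mem_map_of_mem _ (Ideal.subset_span rfl)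
      · exact hv2
    obtain ⟨t, ξ₁, ξ₂, h1, h2', -, f, hf0, hf1⟩ := core k k (Node k) h2 (AlgHom.id k (Node k))
      (fun x => ⟨x, rfl⟩) (by
        rw [hbot]
        ext x
        simp [RingHom.mem_ker]) σ hσ (by
        rw [hbot]
        intro P hP
        rcases minimalPrimes_node P hP with rfl | rfl
        · exact hA
        · exact hv2)
    have ht : t = 0 := by
      by_contra htne
      have hunit : IsUnit (X 0 * X 1 - C t : MvPowerSeries (Fin 2) k) := by
        rw [MvPowerSeries.isUnit_iff_constantCoeff]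
        simp [htne]
      have htop : Ideal.span {(X 0 * X 1 - C t : MvPowerSeries (Fin 2) k)} = ⊤ :=
        Ideal.span_singleton_eq_top.mpr hunit
      have hsub : Subsingleton (Model t) := Ideal.Quotient.subsingleton_iff.mpr htop
      have : (1 : Node k) = 0 := f.injective (Subsingleton.elim _ _)
      exact one_ne_zero this
    subst ht
    let g : Node k ≃ₐ[k] Node k := f.trans ι
    have hg0 : g (σ (g.symm (nu k))) = ξ₂ • nu k := by
      change ι (f (σ (f.symm (ι.symm (nu k))))) = _
      rw [hιu, hf0, Algebra.algebraMap_self_apply, map_smul, hι]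
    have hg1 : g (σ (g.symm (nv k))) = ξ₁ • nv k := by
      change ι (f (σ (f.symm (ι.symm (nv k))))) = _
      rw [hιv, hf1, Algebra.algebraMap_self_apply, map_smul, hι]
    rw [pow_two] at h1 h2'
    rcases mul_self_eq_one_iff.mp h2' with rfl | rfl
    · rcases mul_self_eq_one_iff.mp h1 with rfl | rfl
      · -- trivial action: impossible
        exfalso
        apply hne
        have hfix := eq_self_of_fix ((g.symm.trans σ).trans g)
          (by change g (σ (g.symm (nu k))) = _; rw [hg0, one_smul])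
          (by change g (σ (g.symm (nv k))) = _; rw [hg1, one_smul])
        ext q
        have := hfix (g q)
        change g (σ (g.symm (g q))) = g q at this
        rw [AlgEquiv.symm_apply_apply] at this
        exact g.injective this
      · -- (1, -1): conjugate by the swap
        obtain ⟨s, hs0, hs1⟩ := exists_swap (k := k)
        have hs0' : s.symm (nv k) = nu k := by rw [AlgEquiv.symm_apply_eq, hs0]
        have hs1' : s.symm (nu k) = nv k := by rw [AlgEquiv.symm_apply_eq, hs1]
        refine ⟨g.trans s, Or.inr (Or.inl ⟨?_, ?_⟩)⟩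
        · change s (g (σ (g.symm (s.symm (nu k))))) = _
          rw [hs1', hg1, map_smul, hs1, neg_one_smul]
        · change s (g (σ (g.symm (s.symm (nv k))))) = _
          rw [hs0', hg0, map_smul, hs0, one_smul]
    · rcases mul_self_eq_one_iff.mp h1 with rfl | rfl
      · refine ⟨g, Or.inr (Or.inl ⟨?_, ?_⟩)⟩
        · rw [hg0, neg_one_smul]
        · rw [hg1, one_smul]
      · refine ⟨g, Or.inl ⟨?_, ?_⟩⟩
        · rw [hg0, neg_one_smul]
        · rw [hg1, neg_one_smul]
  · -- the branches are exchanged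
    have hv1 : Ideal.map (σ : Node k →+* Node k) (Ideal.span {nv k}) = Ideal.span {nu k} := by
      rcases minimalPrimes_node _ (map_mem_minimalPrimes σ _ hPv) with hv1 | hv2
      · exact hv1
      · exfalso
        apply nu_notMem_span_nv (k := k)
        apply mem_of_map_mem σ
        rw [hv2, ← hB]
        exact Ideal.mem_map_of_mem _ (Ideal.subset_span rfl)
    have hσu : σ (nu k) ∈ Ideal.span {nv k} := by
      rw [← hB]; exact Ideal.mem_map_of_mem _ (Ideal.subset_span rfl)
    have hσv : σ (nv k) ∈ Ideal.span {nu k} := by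
      rw [← hv1]; exact Ideal.mem_map_of_mem _ (Ideal.subset_span rfl)
    obtain ⟨w, hw⟩ := Ideal.mem_span_singleton'.mp hσu
    obtain ⟨w₂, hw₂⟩ := Ideal.mem_span_singleton'.mp hσv
    have h4 : (1 - σ w * w₂) * nu k = 0 := by
      have : σ (σ (nu k)) = σ w * (w₂ * nu k) := by rw [← hw, map_mul, hw₂]
      rw [hσ] at this
      linear_combination this
    have h5 : eps (1 - σ w * w₂) = 0 := by
      by_contra hne'
      have hu := isUnit_of_eps_ne_zero _ hne'
      exact mk_X_ne_zero (K := k) 0 (hu.mul_right_eq_zero.mp h4)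
    rw [map_sub, map_one, map_mul, eps_map, sub_eq_zero] at h5
    have hwU : IsUnit w := isUnit_of_eps_ne_zero w (by
      intro h0
      rw [h0, zero_mul] at h5
      exact one_ne_zero h5)
    obtain ⟨w', hw'⟩ := hwU.exists_left_inv
    obtain ⟨f, hfu, hfv⟩ := exists_iso (k := k) (R := k) (S := Node k) (RingHom.id k)
      (fun x => ⟨x, rfl⟩) (by
        intro r
        rw [IsLocalRing.maximalIdeal_eq_bot, Ideal.mem_bot]; rfl)
      (RingHom.id (Node k)) (fun x => ⟨x, rfl⟩) (by
        rw [hbot]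
        intro b hb
        rw [Ideal.mem_bot] at hb
        rw [hb, map_zero]) (nu k) (-σ (nu k)) 0 (zero_mem _) (by
        rw [map_zero, ← hw]
        linear_combination (-w) * nu_mul_nv (k := k)) (by
        rw [hbot, sup_bot_eq, maximalIdeal_node]
        apply le_antisymm
        · rw [Ideal.span_le]
          rintro x (rfl | rfl)
          · exact Ideal.subset_span (by simp)
          · have : nv k = (-w') * (-σ (nu k)) := by
              rw [← hw]
              linear_combination (-(nv k)) * hw'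
            rw [this]
            exact Ideal.mul_mem_left _ _ (Ideal.subset_span (by simp))
        · rw [Ideal.span_le]
          rintro x (rfl | rfl)
          · exact Ideal.subset_span (by simp)
          · rw [← hw]
            have : -(w * nv k) = (-w) * nv k := by ring
            rw [this]
            exact Ideal.mul_mem_left _ _ (Ideal.subset_span (by simp)))
      (fun s => ⟨eps s, sub_eps_mem s⟩)
    let g : Node k ≃ₐ[k] Node k := f.trans ι
    have hgu : g (nu k) = nu k := by
      change ι (f (nu k)) = _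
      rw [hfu, hι]
    have hgv : g (-σ (nu k)) = nv k := by
      change ι (f (-σ (nu k))) = _
      rw [hfv, hι]
    have hgu' : g.symm (nu k) = nu k := by rw [AlgEquiv.symm_apply_eq, hgu]
    have hgv' : g.symm (nv k) = -σ (nu k) := by rw [AlgEquiv.symm_apply_eq, hgv]
    refine ⟨g, Or.inr (Or.inr ⟨?_, ?_⟩)⟩
    · rw [hgu', ← hgv, map_neg, neg_neg]
    · rw [hgv', map_neg, hσ, map_neg, hgu]

/-- the coordinate change between the two forms of the node, with its values on the variables -/
theorem exists_coordChange_spec (h2 : (2 : k) ≠ 0) :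
    ∃ E : (MvPowerSeries (Fin 2) k ⧸
      Ideal.span {(X 1 ^ 2 - X 0 ^ 2 : MvPowerSeries (Fin 2) k)}) ≃ₐ[k] Node k,
      E (Ideal.Quotient.mk _ (X 0)) = (2⁻¹ : k) • (nv k - nu k) ∧
      E (Ideal.Quotient.mk _ (X 1)) = (2⁻¹ : k) • (nu k + nv k) := by
  let a : Fin 2 → MvPowerSeries (Fin 2) k :=
    ![(2⁻¹ : k) • (X 1 - X 0), (2⁻¹ : k) • (X 0 + X 1)]
  let b : Fin 2 → MvPowerSeries (Fin 2) k := ![X 1 - X 0, X 1 + X 0]
  have ha : ∀ i, constantCoeff (a i) = 0 := by
    intro i
    fin_cases i <;> simp [a]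
  have hb : ∀ i, constantCoeff (b i) = 0 := by
    intro i
    fin_cases i <;> simp [b]
  have hsa : HasSubst a := hasSubst_of_constantCoeff_zero ha
  have hsb : HasSubst b := hasSubst_of_constantCoeff_zero hb
  have h22 : (2⁻¹ : k) + 2⁻¹ = 1 := by field_simp; norm_num
  have hab : ∀ i, subst a (b i) = X i := by
    intro i
    fin_cases i
    · change subst a (X 1 - X 0) = X 0
      rw [subst_sub hsa, subst_X hsa, subst_X hsa]
      change (2⁻¹ : k) • (X 0 + X 1) - (2⁻¹ : k) • (X 1 - X 0) = X 0
      rw [smul_add, smul_sub]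
      have : (2⁻¹ : k) • (X 0 : MvPowerSeries (Fin 2) k) + (2⁻¹ : k) • X 0 = X 0 := by
        rw [← add_smul, h22, one_smul]
      linear_combination this
    · change subst a (X 1 + X 0) = X 1
      rw [subst_add hsa, subst_X hsa, subst_X hsa]
      change (2⁻¹ : k) • (X 0 + X 1) + (2⁻¹ : k) • (X 1 - X 0) = X 1
      rw [smul_add, smul_sub]
      have : (2⁻¹ : k) • (X 1 : MvPowerSeries (Fin 2) k) + (2⁻¹ : k) • X 1 = X 1 := by
        rw [← add_smul, h22, one_smul]
      linear_combination this
  have hba : ∀ i, subst b (a i) = X i := by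
    intro i
    fin_cases i
    · change subst b ((2⁻¹ : k) • (X 1 - X 0)) = X 0
      rw [subst_smul hsb, subst_sub hsb, subst_X hsb, subst_X hsb]
      change (2⁻¹ : k) • ((X 1 + X 0) - (X 1 - X 0)) = X 0
      have : (X 1 + X 0 : MvPowerSeries (Fin 2) k) - (X 1 - X 0) = X 0 + X 0 := by ring
      rw [this, smul_add, ← add_smul, h22, one_smul]
    · change subst b ((2⁻¹ : k) • (X 0 + X 1)) = X 1
      rw [subst_smul hsb, subst_add hsb, subst_X hsb, subst_X hsb]
      change (2⁻¹ : k) • ((X 1 - X 0) + (X 1 + X 0)) = X 1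
      have : (X 1 - X 0 : MvPowerSeries (Fin 2) k) + (X 1 + X 0) = X 1 + X 1 := by ring
      rw [this, smul_add, ← add_smul, h22, one_smul]
  obtain ⟨θ, hθ⟩ := algEquiv_of_subst a b ha hb hab hba
  have hI : Ideal.span {(X 0 * X 1 : MvPowerSeries (Fin 2) k)} =
      (Ideal.span {(X 1 ^ 2 - X 0 ^ 2 : MvPowerSeries (Fin 2) k)}).map
        (θ : MvPowerSeries (Fin 2) k →+* MvPowerSeries (Fin 2) k) := by
    rw [Ideal.map_span, Set.image_singleton]
    congr 2
    change X 0 * X 1 = θ (X 1 ^ 2 - X 0 ^ 2)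
    rw [map_sub, map_pow, map_pow, hθ, hθ]
    change X 0 * X 1 = ((2⁻¹ : k) • (X 0 + X 1)) ^ 2 - ((2⁻¹ : k) • (X 1 - X 0)) ^ 2
    rw [smul_pow, smul_pow, ← smul_sub]
    have : (X 0 + X 1 : MvPowerSeries (Fin 2) k) ^ 2 - (X 1 - X 0) ^ 2 =
        (4 : k) • (X 0 * X 1) := by
      rw [Algebra.smul_def]
      have : (algebraMap k (MvPowerSeries (Fin 2) k)) 4 = 4 := map_ofNat _ 4
      rw [this]
      ring
    rw [this, smul_smul]
    have : (2⁻¹ : k) ^ 2 * 4 = 1 := by field_simp; norm_num
    rw [this, one_smul]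
  refine ⟨Ideal.quotientEquivAlg _ _ θ hI, ?_, ?_⟩
  · rw [Ideal.quotientEquivAlg_mk, hθ]
    change Ideal.Quotient.mkₐ k _ ((2⁻¹ : k) • (X 1 - X 0)) = _
    rw [map_smul, map_sub]
    rfl
  · rw [Ideal.quotientEquivAlg_mk, hθ]
    change Ideal.Quotient.mkₐ k _ ((2⁻¹ : k) • (X 0 + X 1)) = _
    rw [map_smul, map_add]
    rfl

end Groth.Agent.Lib.Helper63.EqNodeInv
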