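import Mathlib
import Groth.Agent.Lib.Helper63.EqNodeInv

/-!
# The branch-sign involution of the node algebra `k[[x,y]]/(xy)` (helper63)

`σ : u ↦ -u, v ↦ v` and `φ : u ↦ u², v ↦ v`: the invariants of `σ` are the image of `φ`,
`φ` is injective but not flat.
-/

set_option autoImplicit false
set_option linter.unusedSectionVars false

namespace Groth.Agent.Lib.Helper63.NodeSwap

open IsLocalRing MvPowerSeries Groth.Agent.Lib.Helper63.EqNodeFibre
  Groth.Agent.Lib.Helper63.EqNodeLim Groth.Agent.Lib.Helper63.EqNodeInv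

universe u

variable {k : Type u} [Field k]

/-- Two algebra maps out of a `k`-algebra `A = k + (x₁,…,x_r)` agree modulo a closed ideal `K`
as soon as they do so on the `xᵢ`. -/
theorem algHom_sub_mem {A B : Type*} [CommRing A] [Algebra k A] [CommRing B] [Algebra k B]
    {r : ℕ} (x : Fin r → A)
    (hA : ∀ a : A, ∃ (c : k) (g : Fin r → A), a = algebraMap k A c + ∑ i, x i * g i)
    (J K : Ideal B) (hJ : ∀ b : B, (∀ n, b ∈ K ⊔ J ^ n) → b ∈ K)
    (ψ₁ ψ₂ : A →ₐ[k] B) (h1 : ∀ i, ψ₁ (x i) ∈ J) (h12 : ∀ i, ψ₁ (x i) - ψ₂ (x i) ∈ K) (a : A) :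
    ψ₁ a - ψ₂ a ∈ K := by
  have key : ∀ n (a : A), ψ₁ a - ψ₂ a ∈ K ⊔ J ^ n := by
    intro n
    induction n with
    | zero => intro a; simp
    | succ n ih =>
      intro a
      obtain ⟨c, g, rfl⟩ := hA a
      have e : ψ₁ (algebraMap k A c + ∑ i, x i * g i) - ψ₂ (algebraMap k A c + ∑ i, x i * g i) =
          ∑ i, (ψ₁ (x i) * (ψ₁ (g i) - ψ₂ (g i)) + (ψ₁ (x i) - ψ₂ (x i)) * ψ₂ (g i)) := by
        simp only [map_add, map_sum, map_mul, AlgHom.commutes]
        rw [add_sub_add_left_eq_sub, ← Finset.sum_sub_distrib]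
        refine Finset.sum_congr rfl fun i _ => ?_
        ring
      rw [e]
      refine Ideal.sum_mem _ fun i _ => Ideal.add_mem _ ?_ ?_
      · obtain ⟨y, hy, z, hz, hyz⟩ := Submodule.mem_sup.1 (ih (g i))
        rw [← hyz, mul_add]
        refine Ideal.add_mem _ (Ideal.mem_sup_left (Ideal.mul_mem_left _ _ hy))
          (Ideal.mem_sup_right ?_)
        rw [pow_succ']
        exact Ideal.mul_mem_mul (h1 i) hz
      · exact Ideal.mem_sup_left (Ideal.mul_mem_right _ _ (h12 i))
  exact hJ _ fun n => key n a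

/-- equality version -/
theorem algHom_ext_gens {A B : Type*} [CommRing A] [Algebra k A] [CommRing B] [Algebra k B]
    {r : ℕ} (x : Fin r → A)
    (hA : ∀ a : A, ∃ (c : k) (g : Fin r → A), a = algebraMap k A c + ∑ i, x i * g i)
    (J : Ideal B) (hJ : ∀ b : B, (∀ n, b ∈ J ^ n) → b = 0)
    (ψ₁ ψ₂ : A →ₐ[k] B) (h1 : ∀ i, ψ₁ (x i) ∈ J) (h12 : ∀ i, ψ₁ (x i) = ψ₂ (x i)) :
    ψ₁ = ψ₂ := by
  ext a
  have := algHom_sub_mem x hA J ⊥ (fun b hb => by
    rw [Ideal.mem_bot]
    exact hJ b fun n => by simpa using hb n) ψ₁ ψ₂ h1 (fun i => by rw [h12 i, sub_self]; exact zero_mem _) a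
  rwa [Ideal.mem_bot, sub_eq_zero] at this

/-- generators of the node algebra -/
theorem node_gens (a : Node k) : ∃ (c : k) (g : Fin 2 → Node k),
    a = algebraMap k (Node k) c + ∑ i, ![nu k, nv k] i * g i := by
  obtain ⟨g₁, g₂, h⟩ := decomp_node a
  refine ⟨eps a, ![g₁, g₂], ?_⟩
  rw [Fin.sum_univ_two]
  rw [add_assoc] at h
  exact h

/-- generators of the power series ring -/
theorem ps_gens (a : PowerSeries k) : ∃ (c : k) (g : Fin 1 → PowerSeries k),
    a = algebraMap k (PowerSeries k) c + ∑ i, ![PowerSeries.X] i * g i := by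
  refine ⟨PowerSeries.constantCoeff a, ![PowerSeries.mk fun p => PowerSeries.coeff (p + 1) a], ?_⟩
  rw [Fin.sum_univ_one]
  conv_lhs => rw [PowerSeries.eq_X_mul_shift_add_const a]
  rw [add_comm]
  rfl

theorem ps_hausdorff (b : PowerSeries k)
    (h : ∀ n, b ∈ Ideal.span {(PowerSeries.X : PowerSeries k)} ^ n) : b = 0 := by
  ext n
  have := h (n + 1)
  rw [Ideal.span_singleton_pow, Ideal.mem_span_singleton, PowerSeries.X_pow_dvd_iff] at this
  rw [this n (Nat.lt_succ_self n), map_zero]

theorem node_hausdorff (b : Node k) (h : ∀ n, b ∈ maximalIdeal (Node k) ^ n) : b = 0 := by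
  have := isAdicComplete_node (k := k)
  exact eq_zero_of_forall_mem_pow (maximalIdeal (Node k)) b h

theorem hasSubstU : MvPowerSeries.HasSubst
    (![PowerSeries.X, 0] : Fin 2 → MvPowerSeries Unit k) := by
  apply hasSubst_of_constantCoeff_zero
  intro i
  fin_cases i
  · exact PowerSeries.constantCoeff_X
  · exact map_zero _

/-- projection to the `u`-branch -/
noncomputable def piU : Node k →ₐ[k] PowerSeries k :=
  Ideal.Quotient.liftₐ _ (MvPowerSeries.substAlgHom (hasSubstU (k := k))) (by
    intro a ha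
    obtain ⟨c, rfl⟩ := Ideal.mem_span_singleton'.mp ha
    rw [map_mul, map_mul, substAlgHom_X, substAlgHom_X]
    simp)

theorem piU_nu : piU (nu k) = PowerSeries.X := by
  change MvPowerSeries.substAlgHom (hasSubstU (k := k)) (X 0) = _
  rw [substAlgHom_X]
  rfl

theorem piU_nv : piU (nv k) = 0 := by
  change MvPowerSeries.substAlgHom (hasSubstU (k := k)) (X 1) = _
  rw [substAlgHom_X]
  rfl

theorem hasSubstX0 : PowerSeries.HasSubst (MvPowerSeries.X (0 : Fin 2) : MvPowerSeries (Fin 2) k) :=
  PowerSeries.HasSubst.of_constantCoeff_zero (MvPowerSeries.constantCoeff_X (0 : Fin 2))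

/-- section of the `u`-branch -/
noncomputable def sU : PowerSeries k →ₐ[k] Node k :=
  (Ideal.Quotient.mkₐ k _).comp (PowerSeries.substAlgHom (hasSubstX0 (k := k)))

theorem sU_X : sU (PowerSeries.X : PowerSeries k) = nu k := by
  change Ideal.Quotient.mk _ (PowerSeries.substAlgHom (hasSubstX0 (k := k)) PowerSeries.X) = _
  rw [PowerSeries.substAlgHom_X]

theorem piU_sU (p : PowerSeries k) : piU (sU p) = p := by
  have h : (piU (k := k)).comp sU = AlgHom.id k _ := by
    refine algHom_ext_gens (r := 1) (x := ![(PowerSeries.X : PowerSeries k)]) ps_gens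
      (Ideal.span {(PowerSeries.X : PowerSeries k)}) ps_hausdorff
      ((piU (k := k)).comp sU) (AlgHom.id k _) ?_ ?_
    · intro i
      fin_cases i
      change piU (sU PowerSeries.X) ∈ _
      rw [sU_X, piU_nu]
      exact Ideal.subset_span rfl
    · intro i
      fin_cases i
      change piU (sU PowerSeries.X) = PowerSeries.X
      rw [sU_X, piU_nu]
  exact DFunLike.congr_fun h p

theorem sub_sU_piU_mem (n : ℕ) : ∀ a : Node k,
    a - sU (piU a) ∈ Ideal.span {nv k} ⊔ maximalIdeal (Node k) ^ n := by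
  induction n with
  | zero => intro a; simp
  | succ n ih =>
    intro a
    obtain ⟨g₁, g₂, h⟩ := decomp_node a
    have hc : sU (piU (Ideal.Quotient.mk _ (C (eps a)) : Node k)) =
        Ideal.Quotient.mk _ (C (eps a)) := by
      rw [← Groth.Agent.Lib.Helper63.EqNodeMain.algebraMap_node, AlgHom.commutes, AlgHom.commutes]
    have e : a - sU (piU a) = nu k * (g₁ - sU (piU g₁)) + nv k * g₂ := by
      conv_lhs => rw [h]
      simp only [map_add, map_mul]
      rw [piU_nu, piU_nv, map_zero, zero_mul, add_zero, sU_X, hc]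
      ring
    rw [e]
    refine Ideal.add_mem _ ?_
      (Ideal.mem_sup_left (Ideal.mul_mem_right _ _ (Ideal.subset_span rfl)))
    obtain ⟨y, hy, z, hz, hyz⟩ := Submodule.mem_sup.1 (ih g₁)
    rw [← hyz, mul_add]
    refine Ideal.add_mem _ (Ideal.mem_sup_left (Ideal.mul_mem_left _ _ hy))
      (Ideal.mem_sup_right ?_)
    rw [pow_succ']
    exact Ideal.mul_mem_mul nu_mem hz

theorem node_closed (K : Ideal (Node k)) (b : Node k)
    (h : ∀ n, b ∈ K ⊔ maximalIdeal (Node k) ^ n) : b ∈ K :=
  mem_of_forall_mem_sup_pow K b h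

theorem ker_piU (a : Node k) (h : piU a = 0) : nv k ∣ a := by
  have := node_closed (Ideal.span {nv k}) (a - sU (piU a)) (fun n => sub_sU_piU_mem n a)
  rw [h, map_zero, sub_zero, Ideal.mem_span_singleton] at this
  exact this

/-! ### power series -/

/-- `T ↦ -T` -/
noncomputable def negHom : PowerSeries k →ₐ[k] PowerSeries k :=
  { PowerSeries.rescale (-1 : k) with
    commutes' := fun c => by
      change PowerSeries.rescale (-1 : k) (PowerSeries.C c) = PowerSeries.C c
      ext n
      rw [PowerSeries.coeff_rescale, PowerSeries.coeff_C]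
      split_ifs with h <;> simp [h] }

theorem negHom_X : negHom (PowerSeries.X : PowerSeries k) = -PowerSeries.X :=
  PowerSeries.rescale_neg_one_X

theorem coeff_negHom (n : ℕ) (p : PowerSeries k) :
    PowerSeries.coeff n (negHom p) = (-1) ^ n * PowerSeries.coeff n p :=
  PowerSeries.coeff_rescale p (-1) n

theorem exists_expand_of_negHom_eq (h2 : (2 : k) ≠ 0) (p : PowerSeries k) (h : negHom p = p) :
    ∃ p' : PowerSeries k, PowerSeries.expand 2 two_ne_zero p' = p := by
  refine ⟨PowerSeries.mk fun n => PowerSeries.coeff (2 * n) p, ?_⟩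
  ext n
  rw [PowerSeries.coeff_expand]
  split_ifs with hn
  · obtain ⟨m, rfl⟩ := hn
    rw [Nat.mul_div_cancel_left _ two_pos, PowerSeries.coeff_mk]
  · have h3 := congrArg (PowerSeries.coeff n) h
    rw [coeff_negHom, Odd.neg_one_pow (Nat.not_even_iff_odd.1 (by rwa [even_iff_two_dvd])),
      neg_one_mul] at h3
    have h4 : (2 : k) * PowerSeries.coeff n p = 0 := by linear_combination -h3
    exact ((mul_eq_zero.1 h4).resolve_left h2).symm

theorem expand_injective :
    Function.Injective (PowerSeries.expand 2 two_ne_zero : PowerSeries k → PowerSeries k) := by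
  intro p q h
  ext n
  have := congrArg (PowerSeries.coeff (2 * n)) h
  rwa [PowerSeries.coeff_expand_mul, PowerSeries.coeff_expand_mul] at this

/-! ### ring-theoretic facts on the node -/

theorem ann_nv (a : Node k) (h : nv k * a = 0) : nu k ∣ a := by
  have hp : (Ideal.span {nu k}).IsPrime := (span_mk_X_mem_minimalPrimes (K := k) 0).1.1
  have h0 : nv k * a ∈ Ideal.span {nu k} := by rw [h]; exact zero_mem _
  rcases hp.mem_or_mem h0 with h1 | h1
  · exact absurd h1 nv_notMem_span_nu
  · exact Ideal.mem_span_singleton.1 h1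

theorem eq_zero_of_dvd (a : Node k) (h1 : nu k ∣ a) (h2 : nv k ∣ a) : a = 0 := by
  have hp : (Ideal.span {nv k}).IsPrime := (span_mk_X_mem_minimalPrimes (K := k) 1).1.1
  obtain ⟨c, rfl⟩ := h1
  have h0 : nu k * c ∈ Ideal.span {nv k} := Ideal.mem_span_singleton.2 h2
  rcases hp.mem_or_mem h0 with h3 | h3
  · exact absurd h3 nu_notMem_span_nv
  · obtain ⟨d, rfl⟩ := Ideal.mem_span_singleton.1 h3
    rw [← mul_assoc, nu_mul_nv, zero_mul]

theorem not_sq_dvd : ¬ nu k ^ 2 ∣ nu k := by
  rintro ⟨c, hc⟩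
  have h1 : nu k * (1 - nu k * c) = 0 := by linear_combination hc
  have hu : IsUnit (1 - nu k * c) := by
    apply isUnit_of_eps_ne_zero
    rw [map_sub, map_one, map_mul]
    have : eps (nu k) = 0 := (eps_eq_zero_iff _).2 nu_mem
    rw [this, zero_mul, sub_zero]
    exact one_ne_zero
  exact mk_X_ne_zero (K := k) 0 (hu.mul_left_eq_zero.1 h1)

/-! ### flatness -/

theorem flat_key {A B : Type*} [CommRing A] [CommRing B] [Algebra A B] [Module.Flat A B]
    (u v : A) (w : B) (h0 : algebraMap A B u * w = 0) (hann : ∀ a, u * a = 0 → v ∣ a) :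
    algebraMap A B v ∣ w := by
  obtain ⟨κ, a, y, h1, h2⟩ := Module.Flat.isTrivialRelation_of_sum_smul_eq_zero (R := A) (M := B)
    (ι := Fin 1) (f := fun _ => u) (x := fun _ => w) (by
      rw [Fin.sum_univ_one, Algebra.smul_def]
      exact h0)
  have h3 := h1 0
  change w = _ at h3
  rw [h3]
  refine Finset.dvd_sum fun j _ => ?_
  have h4 := h2 j
  rw [Fin.sum_univ_one] at h4
  obtain ⟨b, hb⟩ := hann _ h4
  rw [Algebra.smul_def, hb, map_mul, mul_assoc]
  exact Dvd.intro _ rfl

theorem not_flat_of {A : Type*} [CommRing A] (φ : A →+* A) (u v : A) (hφv : φ v = v ^ 2)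
    (hφu : φ u = u) (huv : u * v = 0) (hann : ∀ a, u * a = 0 → v ∣ a) (hv : ¬ v ^ 2 ∣ v) :
    ¬ φ.Flat := by
  intro hflat
  have := @flat_key A A _ _ φ.toAlgebra hflat u v v (by
    change φ u * v = 0
    rw [hφu, huv]) hann
  change φ v ∣ v at this
  rw [hφv] at this
  exact hv this

/-! ### the main statement on the node -/

section Main

variable (σ' : Node k ≃ₐ[k] Node k) (φ' : Node k →ₐ[k] Node k)
  (hσu : σ' (nu k) = -nu k) (hσv : σ' (nv k) = nv k)
  (hφu : φ' (nu k) = nu k ^ 2) (hφv : φ' (nv k) = nv k)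

include hσu hσv in
theorem sigma_sub_dvd (a : Node k) : nu k ∣ σ' a - a := by
  have := algHom_sub_mem (r := 2) (x := ![nu k, nv k]) node_gens (maximalIdeal (Node k))
    (Ideal.span {nu k}) (node_closed _) (σ' : Node k →ₐ[k] Node k) (AlgHom.id k _) ?_ ?_ a
  · exact Ideal.mem_span_singleton.1 this
  · intro i
    fin_cases i
    · change σ' (nu k) ∈ _
      rw [hσu]
      exact neg_mem nu_mem
    · change σ' (nv k) ∈ _
      rw [hσv]
      exact nv_mem
  · intro i
    fin_cases i
    · change σ' (nu k) - nu k ∈ _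
      rw [hσu, Ideal.mem_span_singleton]
      exact ⟨-2, by ring⟩
    · change σ' (nv k) - nv k ∈ _
      rw [hσv, sub_self]
      exact zero_mem _

include hφu hφv in
theorem phi_sub_dvd (a : Node k) : nu k ∣ φ' a - a := by
  have := algHom_sub_mem (r := 2) (x := ![nu k, nv k]) node_gens (maximalIdeal (Node k))
    (Ideal.span {nu k}) (node_closed _) φ' (AlgHom.id k _) ?_ ?_ a
  · exact Ideal.mem_span_singleton.1 this
  · intro i
    fin_cases i
    · change φ' (nu k) ∈ _
      rw [hφu]
      exact Ideal.pow_mem_of_mem (maximalIdeal (Node k)) nu_mem 2 two_pos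
    · change φ' (nv k) ∈ _
      rw [hφv]
      exact nv_mem
  · intro i
    fin_cases i
    · change φ' (nu k) - nu k ∈ _
      rw [hφu, Ideal.mem_span_singleton]
      exact ⟨nu k - 1, by ring⟩
    · change φ' (nv k) - nv k ∈ _
      rw [hφv, sub_self]
      exact zero_mem _

include hσu hσv in
theorem piU_sigma (a : Node k) : piU (σ' a) = negHom (piU a) := by
  have h : (piU (k := k)).comp (σ' : Node k →ₐ[k] Node k) = (negHom (k := k)).comp piU := by
    refine algHom_ext_gens (r := 2) (x := ![nu k, nv k]) node_gens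
      (Ideal.span {(PowerSeries.X : PowerSeries k)}) ps_hausdorff
      ((piU (k := k)).comp (σ' : Node k →ₐ[k] Node k)) ((negHom (k := k)).comp piU) ?_ ?_
    · intro i
      fin_cases i
      · change piU (σ' (nu k)) ∈ _
        rw [hσu, map_neg, piU_nu]
        exact neg_mem (Ideal.subset_span rfl)
      · change piU (σ' (nv k)) ∈ _
        rw [hσv, piU_nv]
        exact zero_mem _
    · intro i
      fin_cases i
      · change piU (σ' (nu k)) = negHom (piU (nu k))
        rw [hσu, map_neg, piU_nu, negHom_X]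
      · change piU (σ' (nv k)) = negHom (piU (nv k))
        rw [hσv, piU_nv, map_zero]
  exact DFunLike.congr_fun h a

include hφu hφv in
theorem piU_phi (a : Node k) : piU (φ' a) = PowerSeries.expand 2 two_ne_zero (piU a) := by
  have h : (piU (k := k)).comp φ' =
      (PowerSeries.expand (R := k) 2 two_ne_zero).comp (piU (k := k)) := by
    refine algHom_ext_gens (r := 2) (x := ![nu k, nv k]) node_gens
      (Ideal.span {(PowerSeries.X : PowerSeries k)}) ps_hausdorff
      ((piU (k := k)).comp φ') ((PowerSeries.expand (R := k) 2 two_ne_zero).comp (piU (k := k)))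
      ?_ ?_
    · intro i
      fin_cases i
      · change piU (φ' (nu k)) ∈ _
        rw [hφu, map_pow, piU_nu]
        exact Ideal.pow_mem_of_mem (Ideal.span {(PowerSeries.X : PowerSeries k)})
          (Ideal.subset_span (Set.mem_singleton _)) 2 two_pos
      · change piU (φ' (nv k)) ∈ _
        rw [hφv, piU_nv]
        exact zero_mem _
    · intro i
      fin_cases i
      · change piU (φ' (nu k)) = PowerSeries.expand 2 two_ne_zero (piU (nu k))
        rw [hφu, map_pow, piU_nu, PowerSeries.expand_X]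
      · change piU (φ' (nv k)) = PowerSeries.expand 2 two_ne_zero (piU (nv k))
        rw [hφv, piU_nv, map_zero]
  exact DFunLike.congr_fun h a

include hσu hσv hφu hφv in
theorem sigma_phi (a : Node k) : σ' (φ' a) = φ' a := by
  have h : (σ' : Node k →ₐ[k] Node k).comp φ' = φ' := by
    refine algHom_ext_gens (r := 2) (x := ![nu k, nv k]) node_gens
      (maximalIdeal (Node k)) node_hausdorff ((σ' : Node k →ₐ[k] Node k).comp φ') φ' ?_ ?_
    · intro i
      fin_cases i
      · change σ' (φ' (nu k)) ∈ _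
        rw [hφu, map_pow, hσu]
        exact Ideal.pow_mem_of_mem (maximalIdeal (Node k)) (neg_mem nu_mem) 2 two_pos
      · change σ' (φ' (nv k)) ∈ _
        rw [hφv, hσv]
        exact nv_mem
    · intro i
      fin_cases i
      · change σ' (φ' (nu k)) = φ' (nu k)
        rw [hφu, map_pow, hσu]
        ring
      · change σ' (φ' (nv k)) = φ' (nv k)
        rw [hφv, hσv]
  exact DFunLike.congr_fun h a

include hφu hφv in
theorem phi_injective : Function.Injective φ' := by
  rw [injective_iff_map_eq_zero]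
  intro a ha
  have h1 : piU a = 0 := by
    have := piU_phi φ' hφu hφv a
    rw [ha, map_zero] at this
    exact expand_injective (by rw [← this, map_zero])
  have h2 : nu k ∣ a := by
    have := phi_sub_dvd φ' hφu hφv a
    rw [ha, zero_sub] at this
    exact (dvd_neg.1 this)
  exact eq_zero_of_dvd a h2 (ker_piU a h1)

include hσu hσv hφu hφv in
theorem fixed_iff (h2 : (2 : k) ≠ 0) (a : Node k) : σ' a = a ↔ a ∈ φ'.range := by
  constructor
  · intro ha
    have h1 : negHom (piU a) = piU a := by rw [← piU_sigma σ' hσu hσv, ha]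
    obtain ⟨p', hp'⟩ := exists_expand_of_negHom_eq h2 _ h1
    have h3 : piU (a - φ' (sU p')) = 0 := by
      rw [map_sub, piU_phi φ' hφu hφv, piU_sU, hp', sub_self]
    obtain ⟨c, hc⟩ := ker_piU _ h3
    obtain ⟨d, hd⟩ := phi_sub_dvd φ' hφu hφv c
    have h4 : nv k * φ' c = nv k * c := by
      have : nv k * (φ' c - c) = 0 := by
        rw [hd, ← mul_assoc, mul_comm (nv k), nu_mul_nv, zero_mul]
      linear_combination this
    refine ⟨sU p' + nv k * c, ?_⟩
    change φ' (sU p' + nv k * c) = a
    rw [map_add, map_mul, hφv, h4, ← hc]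
    ring
  · rintro ⟨b, rfl⟩
    exact sigma_phi σ' φ' hσu hσv hφu hφv b

end Main

end Groth.Agent.Lib.Helper63.NodeSwap
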