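import Mathlib
import Groth.Prelude.Def_W4c1arstab1appArSing
import Groth.Agent.Lib.Helper63.NodeSwap

/-!
# Structure of the `A_r`-algebra `k[[x,y]]/(y² - x^(r+1))` (helper63)

`A_r` is local, generated over `k[[x]]` by `1, y`, freely when `2 ≠ 0`.
-/

set_option autoImplicit false
set_option linter.unusedSectionVars false

namespace Groth.Agent.Lib.Helper63.ArStruct

open IsLocalRing MvPowerSeries Groth.Agent.Lib.Helper63.EqNodeFibre
  Groth.Agent.Lib.Helper63.EqNodeLim Groth.Agent.Lib.Helper63.NodeSwap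

universe u

variable {k : Type u} [Field k] (r : ℕ)

theorem constantCoeff_eqn : constantCoeff (ArSing.eqn k r) = 0 := by
  unfold ArSing.eqn
  rw [map_sub, map_pow, map_pow, constantCoeff_X, constantCoeff_X, zero_pow two_ne_zero,
    zero_pow (Nat.succ_ne_zero r), sub_zero]

instance : Nontrivial (ArSing.ring k r) := Ideal.Quotient.nontrivial_iff.2 (by
  intro h
  rw [Ideal.span_singleton_eq_top] at h
  have := MvPowerSeries.isUnit_iff_constantCoeff.mp h
  rw [constantCoeff_eqn] at this
  exact not_isUnit_zero this)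

instance : IsLocalRing (ArSing.ring k r) :=
  IsLocalRing.of_surjective' (Ideal.Quotient.mk _) Ideal.Quotient.mk_surjective

/-- the residue map -/
noncomputable def epsA : ArSing.ring k r →+* k :=
  Ideal.Quotient.lift _ (constantCoeff (σ := Fin 2) (R := k)) (by
    intro a ha
    obtain ⟨c, rfl⟩ := Ideal.mem_span_singleton'.mp ha
    rw [map_mul, constantCoeff_eqn, mul_zero])

theorem epsA_mk (p : MvPowerSeries (Fin 2) k) :
    epsA r (Ideal.Quotient.mk _ p) = constantCoeff p := rfl

theorem algebraMap_ar (c : k) :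
    algebraMap k (ArSing.ring k r) c = Ideal.Quotient.mk _ (C c) := by
  rw [← Ideal.Quotient.mk_algebraMap, MvPowerSeries.algebraMap_apply,
    Algebra.algebraMap_self_apply]

theorem epsA_algebraMap (c : k) : epsA r (algebraMap k (ArSing.ring k r) c) = c := by
  rw [algebraMap_ar, epsA_mk, constantCoeff_C]

theorem isUnit_of_epsA_ne_zero (a : ArSing.ring k r) (h : epsA r a ≠ 0) : IsUnit a := by
  obtain ⟨p, rfl⟩ := Ideal.Quotient.mk_surjective a
  rw [epsA_mk] at h
  exact (MvPowerSeries.isUnit_iff_constantCoeff.mpr (isUnit_iff_ne_zero.mpr h)).map _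

theorem epsA_eq_zero_iff (a : ArSing.ring k r) :
    epsA r a = 0 ↔ a ∈ maximalIdeal (ArSing.ring k r) := by
  constructor
  · intro h
    rw [mem_maximalIdeal, mem_nonunits_iff]
    intro hu
    have := hu.map (epsA r)
    rw [h] at this
    exact not_isUnit_zero this
  · intro h
    by_contra h0
    exact h (isUnit_of_epsA_ne_zero r a h0)

theorem x_mem : ArSing.x k r ∈ maximalIdeal (ArSing.ring k r) := by
  rw [← epsA_eq_zero_iff, epsA_mk, constantCoeff_X]

theorem y_mem : ArSing.y k r ∈ maximalIdeal (ArSing.ring k r) := by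
  rw [← epsA_eq_zero_iff, epsA_mk, constantCoeff_X]

theorem y_sq : ArSing.y k r ^ 2 = ArSing.x k r ^ (r + 1) := by
  rw [← sub_eq_zero, ← map_pow, ← map_pow, ← map_sub]
  exact Ideal.Quotient.eq_zero_iff_mem.2 (Ideal.subset_span rfl)

theorem ar_decomp (a : ArSing.ring k r) : ∃ g₁ g₂ : ArSing.ring k r,
    a = algebraMap k (ArSing.ring k r) (epsA r a) + ArSing.x k r * g₁ + ArSing.y k r * g₂ := by
  obtain ⟨f, rfl⟩ := Ideal.Quotient.mk_surjective a
  obtain ⟨f₁, f₂, hf⟩ := decomp f
  refine ⟨Ideal.Quotient.mk _ f₁, Ideal.Quotient.mk _ f₂, ?_⟩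
  rw [epsA_mk, algebraMap_ar, ← map_mul, ← map_mul, ← map_add, ← map_add, ← hf]

theorem ar_gens (a : ArSing.ring k r) : ∃ (c : k) (g : Fin 2 → ArSing.ring k r),
    a = algebraMap k (ArSing.ring k r) c + ∑ i, ![ArSing.x k r, ArSing.y k r] i * g i := by
  obtain ⟨g₁, g₂, h⟩ := ar_decomp r a
  refine ⟨epsA r a, ![g₁, g₂], ?_⟩
  rw [Fin.sum_univ_two]
  rw [add_assoc] at h
  exact h

theorem maximalIdeal_ar :
    maximalIdeal (ArSing.ring k r) = Ideal.span {ArSing.x k r, ArSing.y k r} := by
  apply le_antisymm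
  · intro s hs
    obtain ⟨g₁, g₂, hg⟩ := ar_decomp r s
    rw [(epsA_eq_zero_iff r s).mpr hs, map_zero, zero_add] at hg
    rw [hg]
    exact Ideal.add_mem _ (Ideal.mul_mem_right _ _ (Ideal.subset_span (by simp)))
      (Ideal.mul_mem_right _ _ (Ideal.subset_span (by simp)))
  · rw [Ideal.span_le]
    rintro z (rfl | rfl)
    · exact x_mem r
    · exact y_mem r

theorem ar_hausdorff (b : ArSing.ring k r)
    (h : ∀ n, b ∈ maximalIdeal (ArSing.ring k r) ^ n) : b = 0 := by
  have h0 := Ideal.iInf_pow_eq_bot_of_isLocalRing (maximalIdeal (ArSing.ring k r))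
    (IsLocalRing.maximalIdeal.isMaximal _).ne_top
  have : b ∈ (⨅ i : ℕ, maximalIdeal (ArSing.ring k r) ^ i) := by
    rw [Ideal.mem_iInf]
    exact h
  rw [h0] at this
  exact this

theorem xMap_X : ArSing.xMap k r PowerSeries.X = ArSing.x k r := by
  unfold ArSing.xMap
  rw [AlgHom.comp_apply, PowerSeries.substAlgHom_X]
  rfl

theorem xMap_C (c : k) : ArSing.xMap k r (PowerSeries.C c) = algebraMap k (ArSing.ring k r) c :=
  (ArSing.xMap k r).commutes c

/-! ### generation by `1, y` over `k[[x]]` -/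

theorem ar_step (a : ArSing.ring k r) : ∃ t : k × k × ArSing.ring k r,
    a = algebraMap k (ArSing.ring k r) t.1 + algebraMap k (ArSing.ring k r) t.2.1 * ArSing.y k r + ArSing.x k r * t.2.2 := by
  obtain ⟨g₁, g₂, h⟩ := ar_decomp r a
  obtain ⟨h₁, h₂, h'⟩ := ar_decomp r g₂
  refine ⟨(epsA r a, epsA r g₂, g₁ + ArSing.y k r * h₁ + ArSing.x k r ^ r * h₂), ?_⟩
  have hy := y_sq (k := k) r
  rw [pow_succ'] at hy
  linear_combination h + ArSing.y k r * h' + h₂ * hy

/-- a choice of the next term -/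
noncomputable def nxt (a : ArSing.ring k r) : k × k × ArSing.ring k r :=
  Classical.choose (ar_step r a)

theorem nxt_spec (a : ArSing.ring k r) :
    a = algebraMap k (ArSing.ring k r) (nxt r a).1 + algebraMap k (ArSing.ring k r) (nxt r a).2.1 * ArSing.y k r +
      ArSing.x k r * (nxt r a).2.2 :=
  Classical.choose_spec (ar_step r a)

/-- the sequence of remainders -/
noncomputable def seqA (a : ArSing.ring k r) : ℕ → ArSing.ring k r
  | 0 => a
  | n + 1 => (nxt r (seqA a n)).2.2

/-- the `1`-coefficient -/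
noncomputable def cP (a : ArSing.ring k r) : PowerSeries k :=
  PowerSeries.mk fun n => (nxt r (seqA r a n)).1

/-- the `y`-coefficient -/
noncomputable def cQ (a : ArSing.ring k r) : PowerSeries k :=
  PowerSeries.mk fun n => (nxt r (seqA r a n)).2.1

theorem ar_partial (a : ArSing.ring k r) (n : ℕ) :
    a = ArSing.xMap k r ((PowerSeries.trunc n (cP r a) : Polynomial k) : PowerSeries k) +
      ArSing.xMap k r ((PowerSeries.trunc n (cQ r a) : Polynomial k) : PowerSeries k) *
        ArSing.y k r + ArSing.x k r ^ n * seqA r a n := by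
  induction n with
  | zero =>
    rw [PowerSeries.trunc_zero', PowerSeries.trunc_zero', Polynomial.coe_zero, map_zero, zero_mul,
      zero_add, zero_add, pow_zero, one_mul]
    rfl
  | succ n ih =>
    have h1 := nxt_spec r (seqA r a n)
    have h2 : seqA r a (n + 1) = (nxt r (seqA r a n)).2.2 := rfl
    rw [PowerSeries.trunc_succ, PowerSeries.trunc_succ, Polynomial.coe_add, Polynomial.coe_add,
      Polynomial.coe_monomial, Polynomial.coe_monomial, PowerSeries.monomial_eq_C_mul_X_pow,
      PowerSeries.monomial_eq_C_mul_X_pow, map_add, map_add, map_mul, map_mul, map_pow, xMap_X,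
      xMap_C, xMap_C, h2]
    have e1 : PowerSeries.coeff n (cP r a) = (nxt r (seqA r a n)).1 := PowerSeries.coeff_mk _ _
    have e2 : PowerSeries.coeff n (cQ r a) = (nxt r (seqA r a n)).2.1 := PowerSeries.coeff_mk _ _
    rw [e1, e2]
    have h3 : ArSing.x k r ^ n * seqA r a n = ArSing.x k r ^ n *
        (algebraMap k (ArSing.ring k r) (nxt r (seqA r a n)).1 +
          algebraMap k (ArSing.ring k r) (nxt r (seqA r a n)).2.1 * ArSing.y k r +
          ArSing.x k r * (nxt r (seqA r a n)).2.2) := by rw [← h1]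
    rw [pow_succ]
    linear_combination ih + h3

theorem span_x_pow_le (n : ℕ) :
    Ideal.span {ArSing.x k r ^ n} ≤ maximalIdeal (ArSing.ring k r) ^ n := by
  rw [Ideal.span_singleton_le_iff_mem]
  exact Ideal.pow_mem_pow (x_mem r) n

/-- **Generation**: every element of `A_r` is `p(x) + q(x) y`. -/
theorem ar_gen (a : ArSing.ring k r) : ∃ p q : PowerSeries k,
    a = ArSing.xMap k r p + ArSing.xMap k r q * ArSing.y k r := by
  refine ⟨cP r a, cQ r a, ?_⟩
  rw [← sub_eq_zero]
  refine ar_hausdorff r _ fun n => ?_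
  apply span_x_pow_le r n
  rw [Ideal.mem_span_singleton]
  have h1 := ar_partial r a n
  have hP := PowerSeries.eq_X_pow_mul_shift_add_trunc n (cP r a)
  have hQ := PowerSeries.eq_X_pow_mul_shift_add_trunc n (cQ r a)
  obtain ⟨sP, hsP⟩ : ∃ sP, sP = PowerSeries.mk fun i => PowerSeries.coeff (i + n) (cP r a) :=
    ⟨_, rfl⟩
  obtain ⟨sQ, hsQ⟩ : ∃ sQ, sQ = PowerSeries.mk fun i => PowerSeries.coeff (i + n) (cQ r a) :=
    ⟨_, rfl⟩
  rw [← hsP] at hP
  rw [← hsQ] at hQ
  have hP' := congrArg (ArSing.xMap k r) hP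
  have hQ' := congrArg (ArSing.xMap k r) hQ
  rw [map_add, map_mul, map_pow, xMap_X] at hP' hQ'
  refine ⟨seqA r a n - ArSing.xMap k r sP - ArSing.xMap k r sQ * ArSing.y k r, ?_⟩
  linear_combination h1 - hP' - ArSing.y k r * hQ'

/-! ### the two parametrisations `x ↦ s², y ↦ ± s^(r+1)` and uniqueness -/

theorem hasSubstTheta (e : k) : MvPowerSeries.HasSubst
    (![PowerSeries.X ^ 2, PowerSeries.C e * PowerSeries.X ^ (r + 1)] :
      Fin 2 → MvPowerSeries Unit k) := by
  apply hasSubst_of_constantCoeff_zero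
  intro i
  fin_cases i
  · change PowerSeries.constantCoeff ((PowerSeries.X : PowerSeries k) ^ 2) = 0
    rw [map_pow, PowerSeries.constantCoeff_X, zero_pow two_ne_zero]
  · change PowerSeries.constantCoeff (PowerSeries.C e * (PowerSeries.X : PowerSeries k) ^ (r + 1))
      = 0
    rw [map_mul, map_pow, PowerSeries.constantCoeff_X, zero_pow (Nat.succ_ne_zero r), mul_zero]

/-- the parametrisation `x ↦ s², y ↦ e s^(r+1)`, `e = ± 1` -/
noncomputable def theta (e : k) (he : e ^ 2 = 1) : ArSing.ring k r →ₐ[k] PowerSeries k :=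
  Ideal.Quotient.liftₐ _ (MvPowerSeries.substAlgHom (hasSubstTheta r e)) (by
    intro a ha
    obtain ⟨c, rfl⟩ := Ideal.mem_span_singleton'.mp ha
    have h0 : MvPowerSeries.substAlgHom (hasSubstTheta r e) (ArSing.eqn k r) = 0 := by
      unfold ArSing.eqn
      rw [map_sub, map_pow, map_pow, substAlgHom_X, substAlgHom_X]
      change (PowerSeries.C e * (PowerSeries.X : PowerSeries k) ^ (r + 1)) ^ 2 -
        ((PowerSeries.X : PowerSeries k) ^ 2) ^ (r + 1) = 0
      rw [mul_pow, ← map_pow, he, map_one, one_mul, ← pow_mul, ← pow_mul, mul_comm 2, sub_self]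
    rw [map_mul, h0, mul_zero])

theorem theta_x (e : k) (he : e ^ 2 = 1) :
    theta r e he (ArSing.x k r) = PowerSeries.X ^ 2 := by
  change MvPowerSeries.substAlgHom (hasSubstTheta r e) (X 0) = _
  rw [substAlgHom_X]
  rfl

theorem theta_y (e : k) (he : e ^ 2 = 1) :
    theta r e he (ArSing.y k r) = PowerSeries.C e * PowerSeries.X ^ (r + 1) := by
  change MvPowerSeries.substAlgHom (hasSubstTheta r e) (X 1) = _
  rw [substAlgHom_X]
  rfl

theorem theta_xMap (e : k) (he : e ^ 2 = 1) (p : PowerSeries k) :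
    theta r e he (ArSing.xMap k r p) = PowerSeries.expand 2 two_ne_zero p := by
  have h : (theta r e he).comp (ArSing.xMap k r) = PowerSeries.expand (R := k) 2 two_ne_zero := by
    refine algHom_ext_gens (r := 1) (x := ![(PowerSeries.X : PowerSeries k)]) ps_gens
      (Ideal.span {(PowerSeries.X : PowerSeries k)}) ps_hausdorff
      ((theta r e he).comp (ArSing.xMap k r)) (PowerSeries.expand (R := k) 2 two_ne_zero) ?_ ?_
    · intro i
      fin_cases i
      change theta r e he (ArSing.xMap k r PowerSeries.X) ∈ _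
      rw [xMap_X, theta_x]
      exact Ideal.pow_mem_of_mem (Ideal.span {(PowerSeries.X : PowerSeries k)})
        (Ideal.subset_span (Set.mem_singleton _)) 2 two_pos
    · intro i
      fin_cases i
      change theta r e he (ArSing.xMap k r PowerSeries.X) =
        PowerSeries.expand 2 two_ne_zero PowerSeries.X
      rw [xMap_X, theta_x, PowerSeries.expand_X]
  exact DFunLike.congr_fun h p

/-- **Uniqueness**: `1, y` are linearly independent over `k[[x]]` (when `2 ≠ 0`). -/
theorem ar_unique (h2 : (2 : k) ≠ 0) (p q : PowerSeries k)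
    (h : ArSing.xMap k r p + ArSing.xMap k r q * ArSing.y k r = 0) : p = 0 ∧ q = 0 := by
  have h1 := congrArg (theta r (1 : k) (one_pow 2)) h
  have h1' := congrArg (theta r (-1 : k) (by ring)) h
  rw [map_add, map_mul, theta_xMap, theta_xMap, theta_y, map_zero] at h1 h1'
  rw [map_one, one_mul] at h1
  rw [map_neg, map_one, neg_one_mul] at h1'
  have h2' : (2 : PowerSeries k) ≠ 0 := by
    rw [← map_ofNat (PowerSeries.C (R := k)) 2]
    intro h0
    apply h2
    have := congrArg PowerSeries.constantCoeff h0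
    rwa [PowerSeries.constantCoeff_C, map_zero] at this
  have hp : PowerSeries.expand 2 two_ne_zero p = 0 := by
    have : (2 : PowerSeries k) * PowerSeries.expand 2 two_ne_zero p = 0 := by
      linear_combination h1 + h1'
    exact (mul_eq_zero.1 this).resolve_left h2'
  have hq : PowerSeries.expand 2 two_ne_zero q = 0 := by
    rw [hp, zero_add] at h1
    exact (mul_eq_zero.1 h1).resolve_right (pow_ne_zero _ PowerSeries.X_ne_zero)
  exact ⟨expand_injective (hp.trans (map_zero _).symm), expand_injective (hq.trans (map_zero _).symm)⟩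

theorem ar_unique' (h2 : (2 : k) ≠ 0) (p q p' q' : PowerSeries k)
    (h : ArSing.xMap k r p + ArSing.xMap k r q * ArSing.y k r =
      ArSing.xMap k r p' + ArSing.xMap k r q' * ArSing.y k r) : p = p' ∧ q = q' := by
  have := ar_unique r h2 (p - p') (q - q') (by
    rw [map_sub, map_sub]
    linear_combination h)
  exact ⟨sub_eq_zero.1 this.1, sub_eq_zero.1 this.2⟩

theorem xMap_injective (h2 : (2 : k) ≠ 0) : Function.Injective (ArSing.xMap k r) := by
  rw [injective_iff_map_eq_zero]
  intro p hp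
  exact (ar_unique r h2 p 0 (by rw [hp, map_zero, zero_mul, add_zero])).1

theorem x_mul (p q : PowerSeries k) :
    ArSing.x k r * (ArSing.xMap k r p + ArSing.xMap k r q * ArSing.y k r) =
      ArSing.xMap k r (PowerSeries.X * p) + ArSing.xMap k r (PowerSeries.X * q) * ArSing.y k r := by
  rw [map_mul, map_mul, xMap_X]
  ring

theorem y_mul (p q : PowerSeries k) :
    ArSing.y k r * (ArSing.xMap k r p + ArSing.xMap k r q * ArSing.y k r) =
      ArSing.xMap k r (PowerSeries.X ^ (r + 1) * q) + ArSing.xMap k r p * ArSing.y k r := by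
  rw [map_mul, map_pow, xMap_X]
  linear_combination ArSing.xMap k r q * y_sq (k := k) r

theorem x_ne_zero (h2 : (2 : k) ≠ 0) : ArSing.x k r ≠ 0 := by
  intro h
  have := xMap_injective r h2 (a₁ := PowerSeries.X) (a₂ := 0) (by rw [xMap_X, h, map_zero])
  exact PowerSeries.X_ne_zero this

theorem x_mul_eq_zero (h2 : (2 : k) ≠ 0) (a : ArSing.ring k r) (h : ArSing.x k r * a = 0) :
    a = 0 := by
  obtain ⟨p, q, rfl⟩ := ar_gen r a
  rw [x_mul] at h
  obtain ⟨hp, hq⟩ := ar_unique r h2 _ _ h
  rw [(mul_eq_zero.1 hp).resolve_left PowerSeries.X_ne_zero,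
    (mul_eq_zero.1 hq).resolve_left PowerSeries.X_ne_zero, map_zero, zero_mul, add_zero]

theorem y_mul_eq_zero (h2 : (2 : k) ≠ 0) (a : ArSing.ring k r) (h : ArSing.y k r * a = 0) :
    a = 0 := by
  obtain ⟨p, q, rfl⟩ := ar_gen r a
  rw [y_mul] at h
  obtain ⟨hq, hp⟩ := ar_unique r h2 _ _ h
  rw [hp, (mul_eq_zero.1 hq).resolve_left (pow_ne_zero _ PowerSeries.X_ne_zero), map_zero,
    zero_mul, add_zero]

theorem y_not_dvd (h2 : (2 : k) ≠ 0) : ¬ ArSing.x k r ∣ ArSing.y k r := by
  rintro ⟨a, ha⟩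
  obtain ⟨p, q, rfl⟩ := ar_gen r a
  rw [x_mul] at ha
  have h1 : ArSing.y k r = ArSing.xMap k r 0 + ArSing.xMap k r 1 * ArSing.y k r := by
    rw [map_zero, map_one, one_mul, zero_add]
  obtain ⟨-, hq⟩ := ar_unique' r h2 _ _ _ _ (h1.symm.trans ha)
  have := congrArg PowerSeries.constantCoeff hq
  rw [map_one, map_mul, PowerSeries.constantCoeff_X, zero_mul] at this
  exact one_ne_zero this

theorem x_not_dvd (h2 : (2 : k) ≠ 0) (hr : 1 ≤ r) : ¬ ArSing.y k r ∣ ArSing.x k r := by
  rintro ⟨a, ha⟩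
  obtain ⟨p, q, rfl⟩ := ar_gen r a
  rw [y_mul] at ha
  have h1 : ArSing.x k r = ArSing.xMap k r PowerSeries.X + ArSing.xMap k r 0 * ArSing.y k r := by
    rw [map_zero, zero_mul, add_zero, xMap_X]
  obtain ⟨hq, -⟩ := ar_unique' r h2 _ _ _ _ (h1.symm.trans ha)
  have h3 : (PowerSeries.X : PowerSeries k) ^ (r + 1) ∣ PowerSeries.X := ⟨q, hq⟩
  rw [PowerSeries.X_pow_dvd_iff] at h3
  have := h3 1 (by omega)
  rw [PowerSeries.coeff_one_X] at this
  exact one_ne_zero this

end Groth.Agent.Lib.Helper63.ArStruct
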