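import Mathlib
import Groth.Prelude.Def_W4c1arstab1appArSing
import Groth.Agent.Lib.Helper63.ArStruct

/-!
# Fixed rings of the standard involutions of `A_r` (helper63)
-/

set_option autoImplicit false
set_option linter.unusedSectionVars false

namespace Groth.Agent.Lib.Helper63.ArFixed

open IsLocalRing MvPowerSeries Groth.Agent.Lib.Helper63.NodeSwap
  Groth.Agent.Lib.Helper63.ArStruct

universe u

variable {k : Type u} [Field k]

/-- algebra maps between `A_r`'s are compatible with `xMap` -/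
theorem comp_xMap {r r' : ℕ} (ψ : ArSing.ring k r →ₐ[k] ArSing.ring k r')
    (ν : PowerSeries k →ₐ[k] PowerSeries k)
    (hm : ψ (ArSing.x k r) ∈ maximalIdeal (ArSing.ring k r'))
    (h : ψ (ArSing.x k r) = ArSing.xMap k r' (ν PowerSeries.X)) (p : PowerSeries k) :
    ψ (ArSing.xMap k r p) = ArSing.xMap k r' (ν p) := by
  have h0 : ψ.comp (ArSing.xMap k r) = (ArSing.xMap k r').comp ν := by
    refine algHom_ext_gens (r := 1) (x := ![(PowerSeries.X : PowerSeries k)]) ps_gens
      (maximalIdeal (ArSing.ring k r')) (ar_hausdorff r')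
      (ψ.comp (ArSing.xMap k r)) ((ArSing.xMap k r').comp ν) ?_ ?_
    · intro i
      fin_cases i
      change ψ (ArSing.xMap k r PowerSeries.X) ∈ _
      rw [xMap_X]
      exact hm
    · intro i
      fin_cases i
      change ψ (ArSing.xMap k r PowerSeries.X) = ArSing.xMap k r' (ν PowerSeries.X)
      rw [xMap_X]
      exact h
  exact DFunLike.congr_fun h0 p

/-- two algebra maps out of `A_r` into a Hausdorff target agreeing on `x, y` are equal -/
theorem ar_algHom_ext {r : ℕ} {B : Type*} [CommRing B] [Algebra k B] (J : Ideal B)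
    (hJ : ∀ b : B, (∀ n, b ∈ J ^ n) → b = 0) (ψ₁ ψ₂ : ArSing.ring k r →ₐ[k] B)
    (hx : ψ₁ (ArSing.x k r) ∈ J) (hy : ψ₁ (ArSing.y k r) ∈ J)
    (hx' : ψ₁ (ArSing.x k r) = ψ₂ (ArSing.x k r)) (hy' : ψ₁ (ArSing.y k r) = ψ₂ (ArSing.y k r)) :
    ψ₁ = ψ₂ := by
  refine algHom_ext_gens (r := 2) (x := ![ArSing.x k r, ArSing.y k r]) (ar_gens r) J hJ ψ₁ ψ₂ ?_ ?_
  · intro i
    fin_cases i
    · exact hx
    · exact hy
  · intro i
    fin_cases i
    · exact hx'
    · exact hy'

theorem exists_X_mul_expand_of_negHom_eq_neg (h2 : (2 : k) ≠ 0) (q : PowerSeries k)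
    (h : negHom q = -q) :
    ∃ q' : PowerSeries k, q = PowerSeries.X * PowerSeries.expand 2 two_ne_zero q' := by
  refine ⟨PowerSeries.mk fun n => PowerSeries.coeff (2 * n + 1) q, ?_⟩
  have key : ∀ n, Even n → PowerSeries.coeff n q = 0 := by
    intro n hn
    have h3 := congrArg (PowerSeries.coeff n) h
    rw [coeff_negHom, hn.neg_one_pow, one_mul, map_neg] at h3
    have h4 : (2 : k) * PowerSeries.coeff n q = 0 := by linear_combination h3
    exact (mul_eq_zero.1 h4).resolve_left h2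
  ext n
  rcases n with _ | m
  · rw [PowerSeries.coeff_zero_X_mul]
    exact key 0 Even.zero
  · rw [PowerSeries.coeff_succ_X_mul, PowerSeries.coeff_expand]
    split_ifs with hm
    · obtain ⟨j, rfl⟩ := hm
      rw [Nat.mul_div_cancel_left _ two_pos, PowerSeries.coeff_mk]
    · apply key
      rw [Nat.even_add_one, even_iff_two_dvd]
      exact hm

/-- equational criterion for a relation with two terms -/
theorem flat_key2 {A B : Type*} [CommRing A] [CommRing B] [Algebra A B] [Module.Flat A B]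
    (f₁ f₂ : A) (w₁ w₂ : B) (h0 : algebraMap A B f₁ * w₁ + algebraMap A B f₂ * w₂ = 0) :
    ∃ (n : ℕ) (a₁ a₂ : Fin n → A) (z : Fin n → B),
      w₁ = ∑ j, algebraMap A B (a₁ j) * z j ∧ w₂ = ∑ j, algebraMap A B (a₂ j) * z j ∧
      ∀ j, f₁ * a₁ j + f₂ * a₂ j = 0 := by
  obtain ⟨n, a, z, h1, h2⟩ := Module.Flat.isTrivialRelation_of_sum_smul_eq_zero (R := A) (M := B)
    (ι := Fin 2) (f := ![f₁, f₂]) (x := ![w₁, w₂]) (by
      rw [Fin.sum_univ_two, Algebra.smul_def, Algebra.smul_def]
      exact h0)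
  refine ⟨n, a 0, a 1, z, ?_, ?_, ?_⟩
  · have := h1 0
    simp only [Algebra.smul_def] at this
    exact this
  · have := h1 1
    simp only [Algebra.smul_def] at this
    exact this
  · intro j
    have := h2 j
    rw [Fin.sum_univ_two] at this
    exact this

/-! ### the fixed locus ideal -/

/-- elements `σ a - a` lie in the maximal ideal -/
theorem sigma_sub_mem {r : ℕ} (σ : ArSing.ring k r ≃ₐ[k] ArSing.ring k r)
    (hx : σ (ArSing.x k r) ∈ maximalIdeal (ArSing.ring k r))
    (hy : σ (ArSing.y k r) ∈ maximalIdeal (ArSing.ring k r)) (a : ArSing.ring k r) :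
    σ a - a ∈ maximalIdeal (ArSing.ring k r) := by
  obtain ⟨g₁, g₂, h⟩ := ar_decomp r a
  have h' := congrArg σ h
  rw [map_add, map_add, map_mul, map_mul, AlgEquiv.commutes] at h'
  have e : σ a - a = σ (ArSing.x k r) * σ g₁ + σ (ArSing.y k r) * σ g₂ -
      (ArSing.x k r * g₁ + ArSing.y k r * g₂) := by
    linear_combination h' - h
  rw [e]
  exact Ideal.sub_mem _ (Ideal.add_mem _ (Ideal.mul_mem_right _ _ hx) (Ideal.mul_mem_right _ _ hy))
    (Ideal.add_mem _ (Ideal.mul_mem_right _ _ (x_mem r)) (Ideal.mul_mem_right _ _ (y_mem r)))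

section NegNeg

variable (m r : ℕ) (hm : 1 ≤ m) (hr : r = 2 * m - 1) (h2 : (2 : k) ≠ 0)
  (σ : ArSing.ring k r ≃ₐ[k] ArSing.ring k r) (hx : σ (ArSing.x k r) = -ArSing.x k r)
  (hy : σ (ArSing.y k r) = -ArSing.y k r)
  (φ : ArSing.ring k m →ₐ[k] ArSing.ring k r) (hφx : φ (ArSing.x k m) = ArSing.x k r ^ 2)
  (hφy : φ (ArSing.y k m) = ArSing.x k r * ArSing.y k r)

include hx in
theorem nn_sigma_xMap (p : PowerSeries k) :
    σ (ArSing.xMap k r p) = ArSing.xMap k r (negHom p) := by
  refine comp_xMap (σ : ArSing.ring k r →ₐ[k] ArSing.ring k r) negHom ?_ ?_ p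
  · change σ (ArSing.x k r) ∈ _
    rw [hx]
    exact neg_mem (x_mem r)
  · change σ (ArSing.x k r) = _
    rw [hx, negHom_X, map_neg, xMap_X]

include hφx in
theorem nn_phi_xMap (p : PowerSeries k) :
    φ (ArSing.xMap k m p) = ArSing.xMap k r (PowerSeries.expand 2 two_ne_zero p) := by
  refine comp_xMap φ (PowerSeries.expand 2 two_ne_zero) ?_ ?_ p
  · rw [hφx]
    exact Ideal.pow_mem_of_mem _ (x_mem r) 2 two_pos
  · rw [hφx, PowerSeries.expand_X, map_pow, xMap_X]

include hφx hφy in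
theorem nn_phi_formula (p q : PowerSeries k) :
    φ (ArSing.xMap k m p + ArSing.xMap k m q * ArSing.y k m) =
      ArSing.xMap k r (PowerSeries.expand 2 two_ne_zero p) +
        ArSing.xMap k r (PowerSeries.X * PowerSeries.expand 2 two_ne_zero q) * ArSing.y k r := by
  rw [map_add, map_mul, nn_phi_xMap m r φ hφx, nn_phi_xMap m r φ hφx, hφy, map_mul, xMap_X]
  ring

include hx hy hφx hφy in
theorem nn_sigma_phi (b : ArSing.ring k m) : σ (φ b) = φ b := by
  have h : (σ : ArSing.ring k r →ₐ[k] ArSing.ring k r).comp φ = φ := by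
    refine ar_algHom_ext (maximalIdeal (ArSing.ring k r)) (ar_hausdorff r)
      ((σ : ArSing.ring k r →ₐ[k] ArSing.ring k r).comp φ) φ ?_ ?_ ?_ ?_
    · change σ (φ (ArSing.x k m)) ∈ _
      rw [hφx, map_pow, hx]
      exact Ideal.pow_mem_of_mem (maximalIdeal (ArSing.ring k r)) (neg_mem (x_mem (k := k) r)) 2
        two_pos
    · change σ (φ (ArSing.y k m)) ∈ _
      rw [hφy, map_mul, hx, hy]
      exact Ideal.mul_mem_right _ _ (neg_mem (x_mem r))
    · change σ (φ (ArSing.x k m)) = _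
      rw [hφx, map_pow, hx]
      ring
    · change σ (φ (ArSing.y k m)) = _
      rw [hφy, map_mul, hx, hy]
      ring
  exact DFunLike.congr_fun h b

include h2 hx hy hφx hφy in
theorem nn_fixed_iff (a : ArSing.ring k r) : σ a = a ↔ a ∈ φ.range := by
  constructor
  · intro ha
    obtain ⟨p, q, rfl⟩ := ar_gen r a
    rw [map_add, map_mul, nn_sigma_xMap r σ hx, nn_sigma_xMap r σ hx, hy] at ha
    have ha' : ArSing.xMap k r (negHom p) + ArSing.xMap k r (-negHom q) * ArSing.y k r =
        ArSing.xMap k r p + ArSing.xMap k r q * ArSing.y k r := by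
      rw [map_neg]
      linear_combination ha
    obtain ⟨hp, hq⟩ := ar_unique' r h2 _ _ _ _ ha'
    obtain ⟨p', hp'⟩ := exists_expand_of_negHom_eq h2 p hp
    obtain ⟨q', hq'⟩ := exists_X_mul_expand_of_negHom_eq_neg h2 q (neg_eq_iff_eq_neg.1 hq)
    refine ⟨ArSing.xMap k m p' + ArSing.xMap k m q' * ArSing.y k m, ?_⟩
    change φ _ = _
    rw [nn_phi_formula m r φ hφx hφy, hp', ← hq']
  · rintro ⟨b, rfl⟩
    exact nn_sigma_phi m r σ hx hy φ hφx hφy b

include h2 hφx hφy in
theorem nn_phi_injective : Function.Injective φ := by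
  rw [injective_iff_map_eq_zero]
  intro b hb
  obtain ⟨p, q, rfl⟩ := ar_gen m b
  rw [nn_phi_formula m r φ hφx hφy] at hb
  obtain ⟨hp, hq⟩ := ar_unique r h2 _ _ hb
  have hp' : p = 0 := expand_injective (hp.trans (map_zero _).symm)
  have hq' : q = 0 := expand_injective
    (((mul_eq_zero.1 hq).resolve_left PowerSeries.X_ne_zero).trans (map_zero _).symm)
  rw [hp', hq', map_zero, zero_mul, add_zero]

include h2 hφx hφy in
theorem nn_not_flat : ¬ φ.toRingHom.Flat := by
  intro hflat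
  letI alg : Algebra (ArSing.ring k m) (ArSing.ring k r) := φ.toRingHom.toAlgebra
  have hfl : Module.Flat (ArSing.ring k m) (ArSing.ring k r) := hflat
  obtain ⟨n, a₁, a₂, z, hw₁, -, hrel⟩ := flat_key2 (A := ArSing.ring k m) (B := ArSing.ring k r)
    (ArSing.y k m) (-ArSing.x k m) (ArSing.x k r) (ArSing.y k r) (by
      change φ (ArSing.y k m) * ArSing.x k r + φ (-ArSing.x k m) * ArSing.y k r = 0
      rw [map_neg, hφx, hφy]
      ring)
  -- every `a₁ j` lies in the maximal ideal
  have hmem : ∀ j, a₁ j ∈ maximalIdeal (ArSing.ring k m) := by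
    intro j
    rw [mem_maximalIdeal, mem_nonunits_iff]
    intro hu
    apply y_not_dvd m h2
    obtain ⟨u, hu'⟩ := hu
    refine ⟨a₂ j * ↑u⁻¹, ?_⟩
    have h3 := hrel j
    rw [← hu'] at h3
    have h4 : ArSing.y k m = ArSing.y k m * (↑u * ↑u⁻¹) := by rw [Units.mul_inv, mul_one]
    rw [h4]
    linear_combination (↑u⁻¹ : ArSing.ring k m) * h3
  -- hence `φ (a₁ j) ∈ x 𝔪`
  have hφmem : ∀ j, ∃ c ∈ maximalIdeal (ArSing.ring k r), φ (a₁ j) = ArSing.x k r * c := by
    intro j
    have := hmem j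
    rw [maximalIdeal_ar, Ideal.mem_span_pair] at this
    obtain ⟨g, h, hgh⟩ := this
    refine ⟨ArSing.x k r * φ g + ArSing.y k r * φ h, ?_, ?_⟩
    · exact Ideal.add_mem _ (Ideal.mul_mem_right _ _ (x_mem r)) (Ideal.mul_mem_right _ _ (y_mem r))
    · rw [← hgh, map_add, map_mul, map_mul, hφx, hφy]
      ring
  choose c hc hc' using hφmem
  have hx0 : ArSing.x k r * (1 - ∑ j, c j * z j) = 0 := by
    have e : ∑ j, (algebraMap (ArSing.ring k m) (ArSing.ring k r)) (a₁ j) * z j =
        ArSing.x k r * ∑ j, c j * z j := by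
      rw [Finset.mul_sum]
      refine Finset.sum_congr rfl fun j _ => ?_
      change φ (a₁ j) * z j = _
      rw [hc' j]
      ring
    rw [e] at hw₁
    linear_combination hw₁
  have hunit : IsUnit (1 - ∑ j, c j * z j) := by
    have hmem' : ∑ j, c j * z j ∈ maximalIdeal (ArSing.ring k r) :=
      Ideal.sum_mem _ fun j _ => Ideal.mul_mem_right _ _ (hc j)
    by_contra hnu
    have h1 : (1 : ArSing.ring k r) ∈ maximalIdeal (ArSing.ring k r) := by
      have := Ideal.add_mem _ ((mem_maximalIdeal _).2 hnu) hmem'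
      rwa [sub_add_cancel] at this
    exact (Ideal.ne_top_iff_one _).1 (IsLocalRing.maximalIdeal.isMaximal _).ne_top h1
  exact x_ne_zero r h2 (hunit.mul_left_eq_zero.1 hx0)

include h2 hx hy in
theorem nn_span_eq : Ideal.span (Set.range fun a : ArSing.ring k r => σ a - a) =
    maximalIdeal (ArSing.ring k r) := by
  have h2' : (-(2⁻¹ : k)) * (-2) = 1 := by rw [neg_mul_neg, inv_mul_cancel₀ h2]
  apply le_antisymm
  · rw [Ideal.span_le]
    rintro _ ⟨a, rfl⟩
    exact sigma_sub_mem σ (by rw [hx]; exact neg_mem (x_mem r))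
      (by rw [hy]; exact neg_mem (y_mem r)) a
  · rw [maximalIdeal_ar, Ideal.span_le]
    have key : ∀ w : ArSing.ring k r, σ w = -w →
        w ∈ Ideal.span (Set.range fun a : ArSing.ring k r => σ a - a) := by
      intro w hw
      have e : w = algebraMap k (ArSing.ring k r) (-(2⁻¹ : k)) * (σ w - w) := by
        rw [hw]
        have : -w - w = algebraMap k (ArSing.ring k r) (-2) * w := by
          rw [map_neg, map_ofNat]; ring
        rw [this, ← mul_assoc, ← map_mul, h2', map_one, one_mul]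
      rw [e]
      exact Ideal.mul_mem_left _ _ (Ideal.subset_span ⟨w, rfl⟩)
    rintro w (rfl | rfl)
    · exact key _ hx
    · exact key _ hy

include h2 hx hy in
theorem nn_length : Module.length (ArSing.ring k r)
    (ArSing.ring k r ⧸ Ideal.span (Set.range fun a : ArSing.ring k r => σ a - a)) = 1 := by
  rw [nn_span_eq r h2 σ hx hy]
  rw [Module.length_eq_one_iff, isSimpleModule_iff_isCoatom]
  exact (IsLocalRing.maximalIdeal.isMaximal _).out

include h2 hx hy hm hr in
theorem nn_not_principal : ¬ (∃ g : ArSing.ring k r, g ∈ nonZeroDivisors (ArSing.ring k r) ∧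
    Ideal.span (Set.range fun a : ArSing.ring k r => σ a - a) = Ideal.span {g}) := by
  rintro ⟨g, hg, hspan⟩
  rw [nn_span_eq r h2 σ hx hy] at hspan
  have hr1 : 1 ≤ r := by omega
  have hxg : ArSing.x k r ∈ Ideal.span {g} := hspan ▸ x_mem r
  have hyg : ArSing.y k r ∈ Ideal.span {g} := hspan ▸ y_mem r
  have hgm : g ∈ maximalIdeal (ArSing.ring k r) := hspan ▸ Ideal.subset_span rfl
  obtain ⟨a', ha'⟩ := Ideal.mem_span_singleton.1 hxg
  obtain ⟨b', hb'⟩ := Ideal.mem_span_singleton.1 hyg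
  rw [maximalIdeal_ar, Ideal.mem_span_pair] at hgm
  obtain ⟨c, d, hcd⟩ := hgm
  have h0 : (a' * c + b' * d - 1) * g = 0 := by
    rw [ha', hb'] at hcd
    linear_combination hcd
  have h1 : a' * c + b' * d = 1 :=
    sub_eq_zero.1 ((mul_right_mem_nonZeroDivisors_eq_zero_iff hg).1 h0)
  have hu : IsUnit a' ∨ IsUnit b' := by
    by_contra hcon
    push Not at hcon
    have h3 : a' * c + b' * d ∈ maximalIdeal (ArSing.ring k r) :=
      Ideal.add_mem _ (Ideal.mul_mem_right _ _ ((mem_maximalIdeal _).2 hcon.1))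
        (Ideal.mul_mem_right _ _ ((mem_maximalIdeal _).2 hcon.2))
    rw [h1] at h3
    exact (Ideal.ne_top_iff_one _).1 (IsLocalRing.maximalIdeal.isMaximal _).ne_top h3
  rcases hu with hu | hu
  · apply y_not_dvd r h2
    obtain ⟨u, rfl⟩ := hu
    refine ⟨↑u⁻¹ * b', ?_⟩
    rw [hb', ha']
    have : (↑u : ArSing.ring k r) * ↑u⁻¹ = 1 := Units.mul_inv u
    linear_combination (-(g * b')) * this
  · apply x_not_dvd r h2 hr1
    obtain ⟨u, rfl⟩ := hu
    refine ⟨↑u⁻¹ * a', ?_⟩
    rw [hb', ha']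
    have : (↑u : ArSing.ring k r) * ↑u⁻¹ = 1 := Units.mul_inv u
    linear_combination (-(g * a')) * this

end NegNeg

end Groth.Agent.Lib.Helper63.ArFixed
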