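import Mathlib
import Groth.Prelude.Def_W4c1arstab1appArSing
import Groth.Agent.Lib.Helper63.ArFixed

/-!
# The involution `y ↦ -y` of `A_r` (helper63)
-/

set_option autoImplicit false
set_option linter.unusedSectionVars false

namespace Groth.Agent.Lib.Helper63.ArNegY

open IsLocalRing MvPowerSeries Groth.Agent.Lib.Helper63.NodeSwap
  Groth.Agent.Lib.Helper63.ArStruct Groth.Agent.Lib.Helper63.ArFixed

universe u

/-- length of a quotient of a ring which is a quotient of a DVR -/
theorem length_quotient_of_dvr {R A : Type*} [CommRing R] [IsDomain R]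
    [IsDiscreteValuationRing R] [CommRing A] (j : R →+* A) (I : Ideal A) (n : ℕ)
    (hsurj : ∀ a : A, ∃ p : R, a - j p ∈ I)
    (hker : ∀ p : R, j p ∈ I ↔ p ∈ maximalIdeal R ^ n) :
    Module.length A (A ⧸ I) = n := by
  let g : R →+* A ⧸ I := (Ideal.Quotient.mk I).comp j
  have hg : Function.Surjective g := by
    intro b
    obtain ⟨a, rfl⟩ := Ideal.Quotient.mk_surjective b
    obtain ⟨p, hp⟩ := hsurj a
    refine ⟨p, ?_⟩
    change Ideal.Quotient.mk I (j p) = Ideal.Quotient.mk I a
    rw [eq_comm, Ideal.Quotient.eq]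
    exact hp
  let alg : Algebra R (A ⧸ I) := g.toAlgebra
  have h1 : Module.length A (A ⧸ I) = Module.length (A ⧸ I) (A ⧸ I) :=
    Module.length_eq_of_surjective (S := A) (R := A ⧸ I) (M := A ⧸ I)
      Ideal.Quotient.mk_surjective
  have h2 : Module.length R (A ⧸ I) = Module.length (A ⧸ I) (A ⧸ I) :=
    Module.length_eq_of_surjective (S := R) (R := A ⧸ I) (M := A ⧸ I) hg
  have hk : LinearMap.ker (Algebra.linearMap R (A ⧸ I)) = maximalIdeal R ^ n := by
    ext p
    rw [LinearMap.mem_ker, ← hker p]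
    change Ideal.Quotient.mk I (j p) = 0 ↔ _
    rw [Ideal.Quotient.eq_zero_iff_mem]
  have e : (R ⧸ maximalIdeal R ^ n) ≃ₗ[R] (A ⧸ I) :=
    (Submodule.quotEquivOfEq _ _ hk.symm).trans
      (LinearMap.quotKerEquivOfSurjective (Algebra.linearMap R (A ⧸ I)) hg)
  rw [h1, ← h2, ← e.length_eq, IsDiscreteValuationRing.length_quotient_pow_maximalIdeal]

variable {k : Type u} [Field k]

theorem two_ne_zero_ps (h2 : (2 : k) ≠ 0) : (2 : PowerSeries k) ≠ 0 := by
  rw [← map_ofNat (PowerSeries.C (R := k)) 2]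
  intro h0
  apply h2
  have := congrArg PowerSeries.constantCoeff h0
  rwa [PowerSeries.constantCoeff_C, map_zero] at this

theorem xMap_mem_of_mem (r : ℕ) (p : PowerSeries k) (hp : p ∈ maximalIdeal (PowerSeries k)) :
    ArSing.xMap k r p ∈ maximalIdeal (ArSing.ring k r) := by
  rw [PowerSeries.maximalIdeal_eq_span_X, Ideal.mem_span_singleton] at hp
  obtain ⟨c, rfl⟩ := hp
  rw [map_mul, xMap_X]
  exact Ideal.mul_mem_right _ _ (x_mem r)

theorem map_xMap_ne_top (r : ℕ) :
    Ideal.map (ArSing.xMap k r) (maximalIdeal (PowerSeries k)) ≠ ⊤ := by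
  intro h
  have hle : Ideal.map (ArSing.xMap k r) (maximalIdeal (PowerSeries k)) ≤
      maximalIdeal (ArSing.ring k r) := by
    rw [Ideal.map_le_iff_le_comap]
    intro p hp
    exact xMap_mem_of_mem r p hp
  rw [h, top_le_iff] at hle
  exact (IsLocalRing.maximalIdeal.isMaximal _).ne_top hle

/-- `A_r` is flat (indeed free) over `k[[x]]` -/
theorem xMap_flat (r : ℕ) (h2 : (2 : k) ≠ 0) : (ArSing.xMap k r).toRingHom.Flat := by
  let alg : Algebra (PowerSeries k) (ArSing.ring k r) := (ArSing.xMap k r).toRingHom.toAlgebra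
  change Module.Flat (PowerSeries k) (ArSing.ring k r)
  let f : (PowerSeries k × PowerSeries k) →ₗ[PowerSeries k] ArSing.ring k r :=
    LinearMap.coprod (LinearMap.toSpanSingleton (PowerSeries k) (ArSing.ring k r) 1)
      (LinearMap.toSpanSingleton (PowerSeries k) (ArSing.ring k r) (ArSing.y k r))
  have hf : ∀ pq : PowerSeries k × PowerSeries k,
      f pq = ArSing.xMap k r pq.1 + ArSing.xMap k r pq.2 * ArSing.y k r := by
    intro pq
    change pq.1 • (1 : ArSing.ring k r) + pq.2 • ArSing.y k r = _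
    rw [Algebra.smul_def, Algebra.smul_def, mul_one]
    rfl
  have hbij : Function.Bijective f := by
    constructor
    · rw [injective_iff_map_eq_zero]
      intro pq h
      rw [hf] at h
      obtain ⟨h1, h3⟩ := ar_unique r h2 _ _ h
      exact Prod.ext h1 h3
    · intro a
      obtain ⟨p, q, rfl⟩ := ar_gen r a
      exact ⟨(p, q), hf _⟩
  exact Module.Flat.of_linearEquiv (LinearEquiv.ofBijective f hbij).symm

section NegY

variable (r : ℕ) (h2 : (2 : k) ≠ 0)
  (σ : ArSing.ring k r ≃ₐ[k] ArSing.ring k r) (hx : σ (ArSing.x k r) = ArSing.x k r)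
  (hy : σ (ArSing.y k r) = -ArSing.y k r)

include hx in
theorem ny_sigma_xMap (p : PowerSeries k) : σ (ArSing.xMap k r p) = ArSing.xMap k r p := by
  refine comp_xMap (σ : ArSing.ring k r →ₐ[k] ArSing.ring k r) (AlgHom.id k _) ?_ ?_ p
  · change σ (ArSing.x k r) ∈ _
    rw [hx]
    exact x_mem r
  · change σ (ArSing.x k r) = _
    rw [hx, AlgHom.id_apply, xMap_X]

include hx hy in
theorem ny_sigma_formula (p q : PowerSeries k) :
    σ (ArSing.xMap k r p + ArSing.xMap k r q * ArSing.y k r) =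
      ArSing.xMap k r p + ArSing.xMap k r (-q) * ArSing.y k r := by
  rw [map_add, map_mul, ny_sigma_xMap r σ hx, ny_sigma_xMap r σ hx, hy, map_neg]
  ring

include h2 hx hy in
theorem ny_fixed_iff (a : ArSing.ring k r) : σ a = a ↔ a ∈ (ArSing.xMap k r).range := by
  constructor
  · intro ha
    obtain ⟨p, q, rfl⟩ := ar_gen r a
    rw [ny_sigma_formula r σ hx hy] at ha
    obtain ⟨-, hq⟩ := ar_unique' r h2 _ _ _ _ ha
    have hq0 : q = 0 := by
      have : (2 : PowerSeries k) * q = 0 := by linear_combination -hq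
      exact (mul_eq_zero.1 this).resolve_left (two_ne_zero_ps h2)
    refine ⟨p, ?_⟩
    change ArSing.xMap k r p = _
    rw [hq0, map_zero, zero_mul, add_zero]
  · rintro ⟨p, rfl⟩
    exact ny_sigma_xMap r σ hx p

include h2 in
theorem y_mem_nonZeroDivisors : ArSing.y k r ∈ nonZeroDivisors (ArSing.ring k r) := by
  rw [mem_nonZeroDivisors_iff_right]
  intro a ha
  rw [mul_comm] at ha
  exact y_mul_eq_zero r h2 a ha

include h2 hx hy in
theorem ny_span_eq : Ideal.span (Set.range fun a : ArSing.ring k r => σ a - a) =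
    Ideal.span {ArSing.y k r} := by
  apply le_antisymm
  · rw [Ideal.span_le]
    rintro _ ⟨a, rfl⟩
    obtain ⟨p, q, rfl⟩ := ar_gen r a
    rw [SetLike.mem_coe, Ideal.mem_span_singleton]
    change ArSing.y k r ∣ σ _ - _
    rw [ny_sigma_formula r σ hx hy]
    refine ⟨ArSing.xMap k r (-q) - ArSing.xMap k r q, ?_⟩
    ring
  · rw [Ideal.span_singleton_le_iff_mem]
    have h2' : (-(2⁻¹ : k)) * (-2) = 1 := by rw [neg_mul_neg, inv_mul_cancel₀ h2]
    have e : ArSing.y k r = algebraMap k (ArSing.ring k r) (-(2⁻¹ : k)) *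
        (σ (ArSing.y k r) - ArSing.y k r) := by
      rw [hy]
      have : -ArSing.y k r - ArSing.y k r =
          algebraMap k (ArSing.ring k r) (-2) * ArSing.y k r := by
        rw [map_neg, map_ofNat]; ring
      rw [this, ← mul_assoc, ← map_mul, h2', map_one, one_mul]
    rw [e]
    exact Ideal.mul_mem_left _ _ (Ideal.subset_span ⟨_, rfl⟩)

include h2 in
theorem length_quot_y : Module.length (ArSing.ring k r)
    (ArSing.ring k r ⧸ Ideal.span {ArSing.y k r}) = ((r + 1 : ℕ) : ℕ∞) := by
  refine length_quotient_of_dvr (ArSing.xMap k r).toRingHom _ (r + 1) ?_ ?_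
  · intro a
    obtain ⟨p, q, rfl⟩ := ar_gen r a
    refine ⟨p, ?_⟩
    change _ - ArSing.xMap k r p ∈ _
    rw [add_sub_cancel_left, Ideal.mem_span_singleton]
    exact Dvd.intro_left _ rfl
  · intro p
    change ArSing.xMap k r p ∈ _ ↔ _
    rw [PowerSeries.maximalIdeal_eq_span_X, Ideal.span_singleton_pow, Ideal.mem_span_singleton,
      Ideal.mem_span_singleton]
    constructor
    · rintro ⟨a, ha⟩
      obtain ⟨p', q', rfl⟩ := ar_gen r a
      rw [y_mul] at ha
      have h1 : ArSing.xMap k r p = ArSing.xMap k r p + ArSing.xMap k r 0 * ArSing.y k r := by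
        rw [map_zero, zero_mul, add_zero]
      obtain ⟨hp, -⟩ := ar_unique' r h2 _ _ _ _ (h1.symm.trans ha)
      exact ⟨q', hp⟩
    · rintro ⟨q', rfl⟩
      refine ⟨ArSing.xMap k r q' * ArSing.y k r, ?_⟩
      rw [map_mul, map_pow, xMap_X]
      linear_combination (-(ArSing.xMap k r q')) * y_sq (k := k) r

include h2 hx hy in
theorem ny_length : Module.length (ArSing.ring k r)
    (ArSing.ring k r ⧸ Ideal.span (Set.range fun a : ArSing.ring k r => σ a - a)) = r + 1 := by
  rw [ny_span_eq r h2 σ hx hy, length_quot_y r h2]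
  rfl

end NegY

end Groth.Agent.Lib.Helper63.ArNegY
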