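import Mathlib
import Groth.Prelude.Def_W4c1arstab1appArSing
import Groth.Agent.Lib.Helper63.ArNegY

/-!
# The involution `x ↦ -x` of `A_r`, `r` odd (helper63)
-/

set_option autoImplicit false
set_option linter.unusedSectionVars false

namespace Groth.Agent.Lib.Helper63.ArNegX

open IsLocalRing MvPowerSeries Groth.Agent.Lib.Helper63.NodeSwap
  Groth.Agent.Lib.Helper63.ArStruct Groth.Agent.Lib.Helper63.ArFixed
  Groth.Agent.Lib.Helper63.ArNegY

universe u

variable {k : Type u} [Field k]

/-! ### even and odd parts of power series -/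

theorem exists_even_odd (p : PowerSeries k) : ∃ p₁ p₂ : PowerSeries k,
    p = PowerSeries.expand 2 two_ne_zero p₁ + PowerSeries.X * PowerSeries.expand 2 two_ne_zero p₂ := by
  refine ⟨PowerSeries.mk fun n => PowerSeries.coeff (2 * n) p,
    PowerSeries.mk fun n => PowerSeries.coeff (2 * n + 1) p, ?_⟩
  ext n
  rw [map_add]
  rcases n with _ | m
  · rw [PowerSeries.coeff_zero_X_mul, add_zero, PowerSeries.coeff_expand, if_pos (dvd_zero 2),
      PowerSeries.coeff_mk]
  · rw [PowerSeries.coeff_succ_X_mul, PowerSeries.coeff_expand, PowerSeries.coeff_expand]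
    by_cases hm : 2 ∣ m
    · have hm' : ¬ 2 ∣ m + 1 := by omega
      rw [if_neg hm', if_pos hm, zero_add, PowerSeries.coeff_mk]
      obtain ⟨j, rfl⟩ := hm
      rw [Nat.mul_div_cancel_left _ two_pos]
    · have hm' : 2 ∣ m + 1 := by omega
      rw [if_pos hm', if_neg hm, add_zero, PowerSeries.coeff_mk]
      obtain ⟨j, hj⟩ := hm'
      rw [hj, Nat.mul_div_cancel_left _ two_pos]

theorem negHom_expand (p : PowerSeries k) :
    negHom (PowerSeries.expand 2 two_ne_zero p) = PowerSeries.expand 2 two_ne_zero p := by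
  ext n
  rw [coeff_negHom, PowerSeries.coeff_expand]
  split_ifs with h
  · rw [(even_iff_two_dvd.2 h).neg_one_pow, one_mul]
  · rw [mul_zero]

theorem even_odd_unique (h2 : (2 : k) ≠ 0) (p₁ p₂ : PowerSeries k)
    (h : PowerSeries.expand 2 two_ne_zero p₁ +
      PowerSeries.X * PowerSeries.expand 2 two_ne_zero p₂ = 0) : p₁ = 0 ∧ p₂ = 0 := by
  have h' := congrArg negHom h
  rw [map_add, map_mul, negHom_expand, negHom_expand, negHom_X, map_zero] at h'
  have h2' := two_ne_zero_ps h2
  have e1 : (2 : PowerSeries k) * PowerSeries.expand 2 two_ne_zero p₁ = 0 := by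
    linear_combination h + h'
  have e2 : (2 : PowerSeries k) * (PowerSeries.X * PowerSeries.expand 2 two_ne_zero p₂) = 0 := by
    linear_combination h - h'
  have e1' := (mul_eq_zero.1 e1).resolve_left h2'
  have e2' := (mul_eq_zero.1 ((mul_eq_zero.1 e2).resolve_left h2')).resolve_left
    PowerSeries.X_ne_zero
  exact ⟨expand_injective (e1'.trans (map_zero _).symm),
    expand_injective (e2'.trans (map_zero _).symm)⟩

/-! ### the map `s ↦ y` -/

theorem hasSubstX1 :
    PowerSeries.HasSubst (MvPowerSeries.X (1 : Fin 2) : MvPowerSeries (Fin 2) k) :=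
  PowerSeries.HasSubst.of_constantCoeff_zero (MvPowerSeries.constantCoeff_X (1 : Fin 2))

/-- the map `k[[s]] → A_r`, `s ↦ y` -/
noncomputable def yMap (r : ℕ) : PowerSeries k →ₐ[k] ArSing.ring k r :=
  (Ideal.Quotient.mkₐ k (Ideal.span {ArSing.eqn k r})).comp
    (PowerSeries.substAlgHom (hasSubstX1 (k := k)))

theorem yMap_X (r : ℕ) : yMap r (PowerSeries.X : PowerSeries k) = ArSing.y k r := by
  unfold yMap
  rw [AlgHom.comp_apply, PowerSeries.substAlgHom_X]
  rfl

theorem yMap_C (r : ℕ) (c : k) : yMap r (PowerSeries.C c) = algebraMap k (ArSing.ring k r) c :=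
  (yMap r).commutes c

theorem length_quot_x (r : ℕ) (h2 : (2 : k) ≠ 0) : Module.length (ArSing.ring k r)
    (ArSing.ring k r ⧸ Ideal.span {ArSing.x k r}) = 2 := by
  refine length_quotient_of_dvr (yMap (k := k) r).toRingHom _ 2 ?_ ?_
  · intro a
    obtain ⟨t, ht⟩ := ar_step r a
    refine ⟨PowerSeries.C t.1 + PowerSeries.C t.2.1 * PowerSeries.X, ?_⟩
    change a - yMap r _ ∈ _
    rw [map_add, map_mul, yMap_C, yMap_C, yMap_X, Ideal.mem_span_singleton]
    exact ⟨t.2.2, by linear_combination ht⟩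
  · intro f
    change yMap r f ∈ _ ↔ _
    rw [PowerSeries.maximalIdeal_eq_span_X, Ideal.span_singleton_pow, Ideal.mem_span_singleton,
      Ideal.mem_span_singleton]
    constructor
    · intro hf
      -- expand `f = c + d s + s² f'`
      have e1 := PowerSeries.eq_X_mul_shift_add_const f
      obtain ⟨f₁, hf₁⟩ : ∃ f₁, f₁ = PowerSeries.mk fun p => PowerSeries.coeff (p + 1) f :=
        ⟨_, rfl⟩
      rw [← hf₁] at e1
      have e2 := PowerSeries.eq_X_mul_shift_add_const f₁
      obtain ⟨f₂, hf₂⟩ : ∃ f₂, f₂ = PowerSeries.mk fun p => PowerSeries.coeff (p + 1) f₁ :=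
        ⟨_, rfl⟩
      rw [← hf₂] at e2
      obtain ⟨c, hc⟩ : ∃ c, c = PowerSeries.constantCoeff f := ⟨_, rfl⟩
      obtain ⟨d, hd⟩ : ∃ d, d = PowerSeries.constantCoeff f₁ := ⟨_, rfl⟩
      rw [← hc] at e1
      rw [← hd] at e2
      have e3 : f = PowerSeries.X ^ 2 * f₂ + PowerSeries.C d * PowerSeries.X + PowerSeries.C c := by
        rw [e1, e2]; ring
      have e4 : yMap r f = ArSing.x k r * (ArSing.x k r ^ r * yMap r f₂) +
          (ArSing.xMap k r (PowerSeries.C c) +
            ArSing.xMap k r (PowerSeries.C d) * ArSing.y k r) := by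
        rw [e3, map_add, map_add, map_mul, map_mul, map_pow, yMap_X, yMap_C, yMap_C, xMap_C,
          xMap_C, y_sq, pow_succ']
        ring
      have h5 : ArSing.x k r ∣ ArSing.xMap k r (PowerSeries.C c) +
          ArSing.xMap k r (PowerSeries.C d) * ArSing.y k r := by
        rw [e4] at hf
        exact (dvd_add_right (Dvd.intro _ rfl)).1 hf
      obtain ⟨a, ha⟩ := h5
      obtain ⟨p, q, rfl⟩ := ar_gen r a
      rw [x_mul] at ha
      obtain ⟨hp, hq⟩ := ar_unique' r h2 _ _ _ _ ha
      have hc0 : c = 0 := by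
        have := congrArg PowerSeries.constantCoeff hp
        rwa [PowerSeries.constantCoeff_C, map_mul, PowerSeries.constantCoeff_X, zero_mul] at this
      have hd0 : d = 0 := by
        have := congrArg PowerSeries.constantCoeff hq
        rwa [PowerSeries.constantCoeff_C, map_mul, PowerSeries.constantCoeff_X, zero_mul] at this
      refine ⟨f₂, ?_⟩
      rw [e3, hc0, hd0, map_zero, zero_mul, add_zero, add_zero]
    · rintro ⟨f', rfl⟩
      refine ⟨ArSing.x k r ^ r * yMap r f', ?_⟩
      rw [map_mul, map_pow, yMap_X, y_sq, pow_succ']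
      ring

section NegX

variable (m r : ℕ) (hm : 2 ≤ m) (hr : r = 2 * m - 1) (h2 : (2 : k) ≠ 0)
  (σ : ArSing.ring k r ≃ₐ[k] ArSing.ring k r) (hx : σ (ArSing.x k r) = -ArSing.x k r)
  (hy : σ (ArSing.y k r) = ArSing.y k r)
  (φ : ArSing.ring k (m - 1) →ₐ[k] ArSing.ring k r)
  (hφx : φ (ArSing.x k (m - 1)) = ArSing.x k r ^ 2)
  (hφy : φ (ArSing.y k (m - 1)) = ArSing.y k r)

include hx hy in
theorem nx_sigma_formula (p q : PowerSeries k) :
    σ (ArSing.xMap k r p + ArSing.xMap k r q * ArSing.y k r) =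
      ArSing.xMap k r (negHom p) + ArSing.xMap k r (negHom q) * ArSing.y k r := by
  rw [map_add, map_mul, nn_sigma_xMap r σ hx, nn_sigma_xMap r σ hx, hy]

include hφx hφy in
theorem nx_phi_formula (p q : PowerSeries k) :
    φ (ArSing.xMap k (m - 1) p + ArSing.xMap k (m - 1) q * ArSing.y k (m - 1)) =
      ArSing.xMap k r (PowerSeries.expand 2 two_ne_zero p) +
        ArSing.xMap k r (PowerSeries.expand 2 two_ne_zero q) * ArSing.y k r := by
  rw [map_add, map_mul, nn_phi_xMap (m - 1) r φ hφx, nn_phi_xMap (m - 1) r φ hφx, hφy]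

include hx hy hφx hφy in
theorem nx_sigma_phi (b : ArSing.ring k (m - 1)) : σ (φ b) = φ b := by
  have h : (σ : ArSing.ring k r →ₐ[k] ArSing.ring k r).comp φ = φ := by
    refine ar_algHom_ext (maximalIdeal (ArSing.ring k r)) (ar_hausdorff r)
      ((σ : ArSing.ring k r →ₐ[k] ArSing.ring k r).comp φ) φ ?_ ?_ ?_ ?_
    · change σ (φ (ArSing.x k (m - 1))) ∈ _
      rw [hφx, map_pow, hx]
      exact Ideal.pow_mem_of_mem (maximalIdeal (ArSing.ring k r)) (neg_mem (x_mem (k := k) r)) 2
        two_pos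
    · change σ (φ (ArSing.y k (m - 1))) ∈ _
      rw [hφy, hy]
      exact y_mem r
    · change σ (φ (ArSing.x k (m - 1))) = _
      rw [hφx, map_pow, hx]
      ring
    · change σ (φ (ArSing.y k (m - 1))) = _
      rw [hφy, hy]
  exact DFunLike.congr_fun h b

include h2 hx hy hφx hφy in
theorem nx_fixed_iff (a : ArSing.ring k r) : σ a = a ↔ a ∈ φ.range := by
  constructor
  · intro ha
    obtain ⟨p, q, rfl⟩ := ar_gen r a
    rw [nx_sigma_formula r σ hx hy] at ha
    obtain ⟨hp, hq⟩ := ar_unique' r h2 _ _ _ _ ha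
    obtain ⟨p', hp'⟩ := exists_expand_of_negHom_eq h2 p hp
    obtain ⟨q', hq'⟩ := exists_expand_of_negHom_eq h2 q hq
    refine ⟨ArSing.xMap k (m - 1) p' + ArSing.xMap k (m - 1) q' * ArSing.y k (m - 1), ?_⟩
    change φ _ = _
    rw [nx_phi_formula m r φ hφx hφy, hp', hq']
  · rintro ⟨b, rfl⟩
    exact nx_sigma_phi m r σ hx hy φ hφx hφy b

include h2 hφx hφy in
theorem nx_flat : φ.toRingHom.Flat := by
  let alg : Algebra (ArSing.ring k (m - 1)) (ArSing.ring k r) := φ.toRingHom.toAlgebra
  change Module.Flat (ArSing.ring k (m - 1)) (ArSing.ring k r)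
  let f : (ArSing.ring k (m - 1) × ArSing.ring k (m - 1)) →ₗ[ArSing.ring k (m - 1)]
      ArSing.ring k r :=
    LinearMap.coprod (LinearMap.toSpanSingleton (ArSing.ring k (m - 1)) (ArSing.ring k r) 1)
      (LinearMap.toSpanSingleton (ArSing.ring k (m - 1)) (ArSing.ring k r) (ArSing.x k r))
  have hf : ∀ b : ArSing.ring k (m - 1) × ArSing.ring k (m - 1),
      f b = φ b.1 + φ b.2 * ArSing.x k r := by
    intro b
    change b.1 • (1 : ArSing.ring k r) + b.2 • ArSing.x k r = _
    rw [Algebra.smul_def, Algebra.smul_def, mul_one]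
    rfl
  have hbij : Function.Bijective f := by
    constructor
    · rw [injective_iff_map_eq_zero]
      rintro ⟨b₁, b₂⟩ h
      rw [hf] at h
      obtain ⟨p₁, q₁, rfl⟩ := ar_gen (m - 1) b₁
      obtain ⟨p₂, q₂, rfl⟩ := ar_gen (m - 1) b₂
      change φ (_ + _) + φ (_ + _) * ArSing.x k r = 0 at h
      rw [nx_phi_formula m r φ hφx hφy, nx_phi_formula m r φ hφx hφy] at h
      have h' : ArSing.xMap k r (PowerSeries.expand 2 two_ne_zero p₁ +
            PowerSeries.X * PowerSeries.expand 2 two_ne_zero p₂) +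
          ArSing.xMap k r (PowerSeries.expand 2 two_ne_zero q₁ +
            PowerSeries.X * PowerSeries.expand 2 two_ne_zero q₂) * ArSing.y k r = 0 := by
        rw [map_add, map_add, map_mul, map_mul, xMap_X]
        linear_combination h
      obtain ⟨hp, hq⟩ := ar_unique r h2 _ _ h'
      obtain ⟨hp₁, hp₂⟩ := even_odd_unique h2 _ _ hp
      obtain ⟨hq₁, hq₂⟩ := even_odd_unique h2 _ _ hq
      rw [hp₁, hp₂, hq₁, hq₂]
      simp
    · intro a
      obtain ⟨p, q, rfl⟩ := ar_gen r a
      obtain ⟨p₁, p₂, hp⟩ := exists_even_odd p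
      obtain ⟨q₁, q₂, hq⟩ := exists_even_odd q
      refine ⟨(ArSing.xMap k (m - 1) p₁ + ArSing.xMap k (m - 1) q₁ * ArSing.y k (m - 1),
        ArSing.xMap k (m - 1) p₂ + ArSing.xMap k (m - 1) q₂ * ArSing.y k (m - 1)), ?_⟩
      rw [hf]
      change φ (_ + _) + φ (_ + _) * ArSing.x k r = _
      rw [nx_phi_formula m r φ hφx hφy, nx_phi_formula m r φ hφx hφy, hp, hq, map_add, map_add,
        map_mul, map_mul, xMap_X]
      ring
  exact Module.Flat.of_linearEquiv (LinearEquiv.ofBijective f hbij).symm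

include hφx hφy in
theorem nx_map_ne_top (I : Ideal (ArSing.ring k (m - 1))) (hI : I.IsMaximal) :
    Ideal.map φ I ≠ ⊤ := by
  intro h
  have hI' : I = maximalIdeal (ArSing.ring k (m - 1)) := IsLocalRing.eq_maximalIdeal hI
  have hle : Ideal.map φ I ≤ maximalIdeal (ArSing.ring k r) := by
    rw [Ideal.map_le_iff_le_comap, hI', maximalIdeal_ar, Ideal.span_le]
    rintro w (rfl | rfl)
    · rw [SetLike.mem_coe, Ideal.mem_comap, hφx]
      exact Ideal.pow_mem_of_mem (maximalIdeal (ArSing.ring k r)) (x_mem (k := k) r) 2 two_pos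
    · rw [SetLike.mem_coe, Ideal.mem_comap, hφy]
      exact y_mem r
  rw [h, top_le_iff] at hle
  exact (IsLocalRing.maximalIdeal.isMaximal _).ne_top hle

include h2 in
theorem x_mem_nonZeroDivisors : ArSing.x k r ∈ nonZeroDivisors (ArSing.ring k r) := by
  rw [mem_nonZeroDivisors_iff_right]
  intro a ha
  rw [mul_comm] at ha
  exact x_mul_eq_zero r h2 a ha

theorem X_dvd_negHom_sub (p : PowerSeries k) : PowerSeries.X ∣ negHom p - p := by
  rw [PowerSeries.X_dvd_iff, map_sub, ← PowerSeries.coeff_zero_eq_constantCoeff_apply,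
    ← PowerSeries.coeff_zero_eq_constantCoeff_apply, coeff_negHom, pow_zero, one_mul, sub_self]

include h2 hx hy in
theorem nx_span_eq : Ideal.span (Set.range fun a : ArSing.ring k r => σ a - a) =
    Ideal.span {ArSing.x k r} := by
  apply le_antisymm
  · rw [Ideal.span_le]
    rintro _ ⟨a, rfl⟩
    obtain ⟨p, q, rfl⟩ := ar_gen r a
    rw [SetLike.mem_coe, Ideal.mem_span_singleton]
    change ArSing.x k r ∣ σ _ - _
    rw [nx_sigma_formula r σ hx hy]
    obtain ⟨sp, hsp⟩ := X_dvd_negHom_sub p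
    obtain ⟨sq, hsq⟩ := X_dvd_negHom_sub q
    have e : ArSing.xMap k r (negHom p) + ArSing.xMap k r (negHom q) * ArSing.y k r -
        (ArSing.xMap k r p + ArSing.xMap k r q * ArSing.y k r) =
        ArSing.xMap k r (negHom p - p) + ArSing.xMap k r (negHom q - q) * ArSing.y k r := by
      rw [map_sub, map_sub]; ring
    rw [e, hsp, hsq, map_mul, map_mul, xMap_X]
    exact ⟨ArSing.xMap k r sp + ArSing.xMap k r sq * ArSing.y k r, by ring⟩
  · rw [Ideal.span_singleton_le_iff_mem]
    have h2' : (-(2⁻¹ : k)) * (-2) = 1 := by rw [neg_mul_neg, inv_mul_cancel₀ h2]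
    have e : ArSing.x k r = algebraMap k (ArSing.ring k r) (-(2⁻¹ : k)) *
        (σ (ArSing.x k r) - ArSing.x k r) := by
      rw [hx]
      have : -ArSing.x k r - ArSing.x k r =
          algebraMap k (ArSing.ring k r) (-2) * ArSing.x k r := by
        rw [map_neg, map_ofNat]; ring
      rw [this, ← mul_assoc, ← map_mul, h2', map_one, one_mul]
    rw [e]
    exact Ideal.mul_mem_left _ _ (Ideal.subset_span ⟨_, rfl⟩)

include h2 hx hy in
theorem nx_length : Module.length (ArSing.ring k r)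
    (ArSing.ring k r ⧸ Ideal.span (Set.range fun a : ArSing.ring k r => σ a - a)) = 2 := by
  rw [nx_span_eq r h2 σ hx hy, length_quot_x r h2]

end NegX

end Groth.Agent.Lib.Helper63.ArNegX
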