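import Mathlib
import Groth.Prelude.Def_W4c1arstab1appArSing
import Groth.Agent.Lib.Helper63.ArNegX

/-!
# The normalisation `A_r → k[[t]]`, `x ↦ t²`, `y ↦ t^(r+1)` for `r` even (helper63)
-/

set_option autoImplicit false
set_option linter.unusedSectionVars false

namespace Groth.Agent.Lib.Helper63.ArEven1

open IsLocalRing MvPowerSeries Groth.Agent.Lib.Helper63.NodeSwap
  Groth.Agent.Lib.Helper63.ArStruct Groth.Agent.Lib.Helper63.ArFixed
  Groth.Agent.Lib.Helper63.ArNegY Groth.Agent.Lib.Helper63.ArNegX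

universe u

variable {k : Type u} [Field k] (r : ℕ)

/-- the normalisation map -/
noncomputable def th : ArSing.ring k r →ₐ[k] PowerSeries k := theta r (1 : k) (one_pow 2)

theorem th_x : th r (ArSing.x k r) = (PowerSeries.X : PowerSeries k) ^ 2 := theta_x r 1 _

theorem th_y : th r (ArSing.y k r) = (PowerSeries.X : PowerSeries k) ^ (r + 1) := by
  unfold th
  rw [theta_y, map_one, one_mul]

theorem th_xMap (p : PowerSeries k) :
    th r (ArSing.xMap k r p) = PowerSeries.expand 2 two_ne_zero p := theta_xMap r 1 _ p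

theorem th_formula (p q : PowerSeries k) :
    th r (ArSing.xMap k r p + ArSing.xMap k r q * ArSing.y k r) =
      PowerSeries.expand 2 two_ne_zero p +
        PowerSeries.expand 2 two_ne_zero q * PowerSeries.X ^ (r + 1) := by
  rw [map_add, map_mul, th_xMap, th_xMap, th_y]

theorem expand_X_pow_mul (s : ℕ) (q : PowerSeries k) :
    PowerSeries.expand 2 two_ne_zero (PowerSeries.X ^ s * q) =
      PowerSeries.X ^ (s + s) * PowerSeries.expand 2 two_ne_zero q := by
  rw [map_mul, map_pow, PowerSeries.expand_X, ← pow_mul, two_mul]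

variable {r} {s : ℕ} (hrs : r = s + s)

include hrs in
theorem odd_form (q : PowerSeries k) :
    PowerSeries.expand 2 two_ne_zero q * PowerSeries.X ^ (r + 1) =
      PowerSeries.X * PowerSeries.expand 2 two_ne_zero (PowerSeries.X ^ s * q) := by
  rw [expand_X_pow_mul, hrs, pow_succ]
  ring

include hrs in
theorem th_injective (h2 : (2 : k) ≠ 0) : Function.Injective (th (k := k) r) := by
  rw [injective_iff_map_eq_zero]
  intro a ha
  obtain ⟨p, q, rfl⟩ := ar_gen r a
  rw [th_formula, odd_form hrs] at ha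
  obtain ⟨hp, hq⟩ := even_odd_unique h2 _ _ ha
  rw [hp, (mul_eq_zero.1 hq).resolve_left (pow_ne_zero _ PowerSeries.X_ne_zero), map_zero,
    zero_mul, add_zero]

include hrs in
theorem exists_th_of_dvd (h : PowerSeries k) (hd : (PowerSeries.X : PowerSeries k) ^ (r + 1) ∣ h) :
    ∃ a, th r a = h := by
  obtain ⟨h', rfl⟩ := hd
  obtain ⟨h₁, h₂, rfl⟩ := exists_even_odd h'
  refine ⟨ArSing.xMap k r (PowerSeries.X ^ (s + 1) * h₂) + ArSing.xMap k r h₁ * ArSing.y k r, ?_⟩
  rw [th_formula, expand_X_pow_mul, hrs]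
  ring

/-- the constant coefficient of `th a` is the residue of `a` -/
theorem constantCoeff_th (a : ArSing.ring k r) :
    PowerSeries.constantCoeff (th r a) = epsA r a := by
  obtain ⟨g₁, g₂, h⟩ := ar_decomp r a
  have h1 : th r a = algebraMap k (PowerSeries k) (epsA r a) +
      PowerSeries.X ^ 2 * th r g₁ + PowerSeries.X ^ (r + 1) * th r g₂ := by
    conv_lhs => rw [h]
    rw [map_add, map_add, map_mul, map_mul, th_x, th_y, AlgHom.commutes]
  rw [h1, map_add, map_add, map_mul, map_mul, map_pow, map_pow, PowerSeries.constantCoeff_X,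
    zero_pow two_ne_zero, zero_pow (Nat.succ_ne_zero r), zero_mul, zero_mul, add_zero, add_zero]
  rfl

theorem mem_of_constantCoeff_th (a : ArSing.ring k r)
    (h : PowerSeries.constantCoeff (th r a) = 0) : a ∈ maximalIdeal (ArSing.ring k r) := by
  rw [← epsA_eq_zero_iff, ← constantCoeff_th, h]

theorem constantCoeff_th_of_mem (a : ArSing.ring k r) (h : a ∈ maximalIdeal (ArSing.ring k r)) :
    PowerSeries.constantCoeff (th r a) = 0 := by
  rw [constantCoeff_th, (epsA_eq_zero_iff r a).2 h]

end Groth.Agent.Lib.Helper63.ArEven1
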