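import Mathlib
import Groth.Prelude.Def_W4c1arstab1appArSing
import Groth.Agent.Lib.Helper63.ArEven1
import Groth.Agent.S14080

/-!
# Lifting automorphisms of `A_r` (`r` even) to the normalisation `k[[t]]` (helper63)
-/

set_option autoImplicit false
set_option linter.unusedSectionVars false

namespace Groth.Agent.Lib.Helper63.ArEven2

open IsLocalRing MvPowerSeries Groth.Agent.Lib.Helper63.NodeSwap
  Groth.Agent.Lib.Helper63.ArStruct Groth.Agent.Lib.Helper63.ArFixed
  Groth.Agent.Lib.Helper63.ArNegY Groth.Agent.Lib.Helper63.ArNegX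
  Groth.Agent.Lib.Helper63.ArEven1

universe u

variable {k : Type u} [Field k] {r : ℕ}

theorem exists_tau {s : ℕ} (hrs : r = s + s) (f g : PowerSeries k) (hf : f ≠ 0)
    (hf0 : PowerSeries.constantCoeff f = 0) (hfg : g ^ 2 = f ^ (r + 1)) :
    ∃ τ : PowerSeries k, PowerSeries.constantCoeff τ = 0 ∧ τ ^ 2 = f ∧ τ ^ (r + 1) = g := by
  subst hrs
  have h1 : (f ^ s) ^ 2 ∣ g ^ 2 := by
    rw [hfg]
    exact ⟨f, by ring⟩
  rw [IsIntegrallyClosed.pow_dvd_pow_iff two_ne_zero] at h1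
  obtain ⟨τ, hτ⟩ := h1
  have h2 : τ ^ 2 = f := by
    have : f ^ (s + s) * τ ^ 2 = f ^ (s + s) * f := by
      rw [← pow_succ, ← hfg, hτ]
      ring
    exact mul_left_cancel₀ (pow_ne_zero _ hf) this
  refine ⟨τ, ?_, h2, ?_⟩
  · have := congrArg PowerSeries.constantCoeff h2
    rw [map_pow, hf0] at this
    exact (pow_eq_zero_iff two_ne_zero).1 this
  · rw [hτ, ← h2]
    ring

theorem map_mem_maximalIdeal (σ : ArSing.ring k r ≃ₐ[k] ArSing.ring k r) (a : ArSing.ring k r)
    (ha : a ∈ maximalIdeal (ArSing.ring k r)) : σ a ∈ maximalIdeal (ArSing.ring k r) := by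
  rw [mem_maximalIdeal, mem_nonunits_iff] at ha ⊢
  intro hu
  apply ha
  have := hu.map σ.symm
  rwa [AlgEquiv.symm_apply_apply] at this

theorem X_dvd_of_constantCoeff {τ : PowerSeries k} (h : PowerSeries.constantCoeff τ = 0) :
    (PowerSeries.X : PowerSeries k) ∣ τ := PowerSeries.X_dvd_iff.2 h

theorem exists_lift_sigma (h2 : (2 : k) ≠ 0) {s : ℕ} (hrs : r = s + s)
    (σ : ArSing.ring k r ≃ₐ[k] ArSing.ring k r) (hσ : ∀ a, σ (σ a) = a) :
    ∃ σ' : PowerSeries k ≃ₐ[k] PowerSeries k,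
      (∀ a, σ' (th r a) = th r (σ a)) ∧ (∀ h, σ' (σ' h) = h) := by
  have hinj := th_injective (k := k) hrs h2
  have hf : th r (σ (ArSing.x k r)) ≠ 0 := by
    intro h
    have := hinj (h.trans (map_zero _).symm)
    exact x_ne_zero r h2 (σ.injective (this.trans (map_zero _).symm))
  have hf0 : PowerSeries.constantCoeff (th r (σ (ArSing.x k r))) = 0 :=
    constantCoeff_th_of_mem _ (map_mem_maximalIdeal σ _ (x_mem r))
  have hfg : th r (σ (ArSing.y k r)) ^ 2 = th r (σ (ArSing.x k r)) ^ (r + 1) := by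
    calc th r (σ (ArSing.y k r)) ^ 2 = th r (σ (ArSing.y k r ^ 2)) := by rw [map_pow, map_pow]
      _ = th r (σ (ArSing.x k r ^ (r + 1))) := by rw [y_sq]
      _ = th r (σ (ArSing.x k r)) ^ (r + 1) := by rw [map_pow, map_pow]
  obtain ⟨τ, hτ0, hτ2, hτr⟩ := exists_tau hrs _ _ hf hf0 hfg
  have hsub : PowerSeries.HasSubst τ := PowerSeries.HasSubst.of_constantCoeff_zero' hτ0
  obtain ⟨S, hS⟩ : ∃ S : PowerSeries k →ₐ[k] PowerSeries k, S = PowerSeries.substAlgHom hsub :=
    ⟨_, rfl⟩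
  have hSX : S PowerSeries.X = τ := by rw [hS, PowerSeries.substAlgHom_X]
  have hXτ : (PowerSeries.X : PowerSeries k) ∣ τ := X_dvd_of_constantCoeff hτ0
  have hcomm : S.comp (th r) = (th r).comp (σ : ArSing.ring k r →ₐ[k] ArSing.ring k r) := by
    refine ar_algHom_ext (Ideal.span {(PowerSeries.X : PowerSeries k)}) ps_hausdorff _ _ ?_ ?_ ?_ ?_
    · change S (th r (ArSing.x k r)) ∈ _
      rw [th_x, map_pow, hSX, Ideal.mem_span_singleton]
      exact dvd_pow hXτ two_ne_zero
    · change S (th r (ArSing.y k r)) ∈ _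
      rw [th_y, map_pow, hSX, Ideal.mem_span_singleton]
      exact dvd_pow hXτ (Nat.succ_ne_zero r)
    · change S (th r (ArSing.x k r)) = th r (σ (ArSing.x k r))
      rw [th_x, map_pow, hSX, hτ2]
    · change S (th r (ArSing.y k r)) = th r (σ (ArSing.y k r))
      rw [th_y, map_pow, hSX, hτr]
  have hc : ∀ a, S (th r a) = th r (σ a) := fun a => DFunLike.congr_fun hcomm a
  have hρ2 : S τ ^ 2 = PowerSeries.X ^ 2 := by
    rw [← map_pow, hτ2, hc, hσ, th_x]
  have hρr : S τ ^ (r + 1) = PowerSeries.X ^ (r + 1) := by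
    rw [← map_pow, hτr, hc, hσ, th_y]
  have hρ : S τ = PowerSeries.X := by
    have h3 : (S τ - PowerSeries.X) * (S τ + PowerSeries.X) = 0 := by
      linear_combination hρ2
    rcases mul_eq_zero.1 h3 with h | h
    · exact sub_eq_zero.1 h
    · exfalso
      have h4 : S τ = -PowerSeries.X := eq_neg_of_add_eq_zero_left h
      rw [h4, Odd.neg_pow ⟨s, by omega⟩] at hρr
      have h5 : (2 : PowerSeries k) * PowerSeries.X ^ (r + 1) = 0 := by
        linear_combination -hρr
      rcases mul_eq_zero.1 h5 with h6 | h6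
      · exact two_ne_zero_ps h2 h6
      · exact pow_ne_zero _ PowerSeries.X_ne_zero h6
  have hSS : S.comp S = AlgHom.id k (PowerSeries k) := by
    apply Groth.Agent.S14080.Aux.algHom_ext_of_X
    · change S (S PowerSeries.X) = PowerSeries.X
      rw [hSX, hρ]
    · change PowerSeries.X ∣ S (S PowerSeries.X)
      rw [hSX, hρ]
  refine ⟨AlgEquiv.ofAlgHom S S hSS hSS, hc, fun h => DFunLike.congr_fun hSS h⟩

end Groth.Agent.Lib.Helper63.ArEven2
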