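import Mathlib
import Groth.Prelude.Def_W4c1arstab1appArSing
import Groth.Agent.Lib.Helper63.ArEven1

/-!
# Elements of the image of the normalisation of `A_r` (`r` even); generators of the maximal
ideal (helper63)
-/

set_option autoImplicit false
set_option linter.unusedSectionVars false

namespace Groth.Agent.Lib.Helper63.ArEven3

open IsLocalRing MvPowerSeries Groth.Agent.Lib.Helper63.NodeSwap
  Groth.Agent.Lib.Helper63.ArStruct Groth.Agent.Lib.Helper63.ArFixed
  Groth.Agent.Lib.Helper63.ArNegY Groth.Agent.Lib.Helper63.ArNegX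
  Groth.Agent.Lib.Helper63.ArEven1

universe u

variable {k : Type u} [Field k] {r : ℕ}

theorem epsA_xMap (p : PowerSeries k) :
    epsA r (ArSing.xMap k r p) = PowerSeries.constantCoeff p := by
  rw [← constantCoeff_th, th_xMap, PowerSeries.constantCoeff_expand]

theorem even_odd_unique' (h2 : (2 : k) ≠ 0) (a b c d : PowerSeries k)
    (h : PowerSeries.expand 2 two_ne_zero a + PowerSeries.X * PowerSeries.expand 2 two_ne_zero b =
      PowerSeries.expand 2 two_ne_zero c + PowerSeries.X * PowerSeries.expand 2 two_ne_zero d) :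
    a = c ∧ b = d := by
  have := even_odd_unique h2 (a - c) (b - d) (by
    rw [map_sub, map_sub]
    linear_combination h)
  exact ⟨sub_eq_zero.1 this.1, sub_eq_zero.1 this.2⟩

theorem sq_even_odd (p₁ p₂ : PowerSeries k) :
    (PowerSeries.expand 2 two_ne_zero p₁ + PowerSeries.X * PowerSeries.expand 2 two_ne_zero p₂) ^ 2 =
      PowerSeries.expand 2 two_ne_zero (p₁ ^ 2 + PowerSeries.X * p₂ ^ 2) +
        PowerSeries.X * PowerSeries.expand 2 two_ne_zero (2 * p₁ * p₂) := by
  rw [map_add, map_mul, map_pow, map_pow, PowerSeries.expand_X, map_mul, map_mul, map_ofNat]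
  ring

theorem coeff_one_even_odd (p₁ p₂ : PowerSeries k) :
    PowerSeries.coeff 1 (PowerSeries.expand 2 two_ne_zero p₁ +
      PowerSeries.X * PowerSeries.expand 2 two_ne_zero p₂) = PowerSeries.constantCoeff p₂ := by
  have h1 : PowerSeries.coeff 1 (PowerSeries.X * PowerSeries.expand 2 two_ne_zero p₂) =
      PowerSeries.coeff 0 (PowerSeries.expand 2 two_ne_zero p₂) :=
    PowerSeries.coeff_succ_X_mul 0 _
  rw [map_add, PowerSeries.coeff_expand_of_not_dvd 2 two_ne_zero p₁ (by norm_num : ¬ 2 ∣ 1),
    zero_add, h1, PowerSeries.coeff_zero_eq_constantCoeff_apply, PowerSeries.constantCoeff_expand]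

theorem constantCoeff_even_odd (p₁ p₂ : PowerSeries k) :
    PowerSeries.constantCoeff (PowerSeries.expand 2 two_ne_zero p₁ +
      PowerSeries.X * PowerSeries.expand 2 two_ne_zero p₂) = PowerSeries.constantCoeff p₁ := by
  rw [map_add, map_mul, PowerSeries.constantCoeff_X, zero_mul, add_zero,
    PowerSeries.constantCoeff_expand]

variable {s : ℕ} (hrs : r = s + s)

include hrs in
theorem exists_th_X_mul (h2 : (2 : k) ≠ 0) (c : ArSing.ring k r) (τ : PowerSeries k)
    (hτ2 : τ ^ 2 = th r c) (hτ1 : PowerSeries.coeff 1 τ ≠ 0) :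
    ∃ b, th r b = PowerSeries.X * τ := by
  obtain ⟨p₁, p₂, rfl⟩ := exists_even_odd τ
  obtain ⟨q₁, q₂, rfl⟩ := ar_gen r c
  rw [sq_even_odd, th_formula, odd_form hrs] at hτ2
  obtain ⟨-, hodd⟩ := even_odd_unique' h2 _ _ _ _ hτ2
  rw [coeff_one_even_odd] at hτ1
  have hu : IsUnit (2 * p₂) := by
    rw [PowerSeries.isUnit_iff_constantCoeff, map_mul, map_ofNat]
    exact isUnit_iff_ne_zero.2 (mul_ne_zero h2 hτ1)
  obtain ⟨v, hv⟩ := hu.exists_left_inv
  have hp₁ : p₁ = PowerSeries.X ^ s * (q₂ * v) := by
    calc p₁ = (2 * p₁ * p₂) * v := by linear_combination (-p₁) * hv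
      _ = PowerSeries.X ^ s * (q₂ * v) := by rw [hodd]; ring
  refine ⟨ArSing.xMap k r (PowerSeries.X * p₂) + ArSing.xMap k r (q₂ * v) * ArSing.y k r, ?_⟩
  rw [th_formula, odd_form hrs, ← hp₁, map_mul, PowerSeries.expand_X]
  ring

include hrs in
/-- two elements with normalisations of orders `2` and `r + 1` generate the maximal ideal -/
theorem span_eq_maximalIdeal (h2 : (2 : k) ≠ 0) (a b : ArSing.ring k r) (u v : PowerSeries k)
    (hu : PowerSeries.constantCoeff u ≠ 0) (hv : PowerSeries.constantCoeff v ≠ 0)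
    (ha : th r a = PowerSeries.X ^ 2 * u) (hb : th r b = PowerSeries.X ^ (r + 1) * v) :
    Ideal.span {a, b} = maximalIdeal (ArSing.ring k r) := by
  apply le_antisymm
  · rw [Ideal.span_le]
    rintro z (rfl | rfl)
    · apply mem_of_constantCoeff_th
      rw [ha, map_mul, map_pow, PowerSeries.constantCoeff_X, zero_pow two_ne_zero, zero_mul]
    · apply mem_of_constantCoeff_th
      rw [hb, map_mul, map_pow, PowerSeries.constantCoeff_X, zero_pow (Nat.succ_ne_zero r),
        zero_mul]
  · obtain ⟨P, Q, rfl⟩ := ar_gen r a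
    obtain ⟨P', Q', rfl⟩ := ar_gen r b
    obtain ⟨u₁, u₂, rfl⟩ := exists_even_odd u
    obtain ⟨v₁, v₂, rfl⟩ := exists_even_odd v
    rw [constantCoeff_even_odd] at hu hv
    rw [th_formula, odd_form hrs] at ha hb
    have ha' : PowerSeries.expand 2 two_ne_zero P +
        PowerSeries.X * PowerSeries.expand 2 two_ne_zero (PowerSeries.X ^ s * Q) =
        PowerSeries.expand 2 two_ne_zero (PowerSeries.X * u₁) +
        PowerSeries.X * PowerSeries.expand 2 two_ne_zero (PowerSeries.X * u₂) := by
      rw [ha, map_mul, map_mul, PowerSeries.expand_X]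
      ring
    have hb' : PowerSeries.expand 2 two_ne_zero P' +
        PowerSeries.X * PowerSeries.expand 2 two_ne_zero (PowerSeries.X ^ s * Q') =
        PowerSeries.expand 2 two_ne_zero (PowerSeries.X ^ (s + 1) * v₂) +
        PowerSeries.X * PowerSeries.expand 2 two_ne_zero (PowerSeries.X ^ s * v₁) := by
      rw [hb, expand_X_pow_mul, expand_X_pow_mul, hrs]
      ring
    obtain ⟨hP, -⟩ := even_odd_unique' h2 _ _ _ _ ha'
    obtain ⟨hP', hQ'⟩ := even_odd_unique' h2 _ _ _ _ hb'
    have hQ'' : Q' = v₁ := mul_left_cancel₀ (pow_ne_zero s PowerSeries.X_ne_zero) hQ'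
    subst hP hP' hQ''
    have hxy : ∀ z ∈ ({ArSing.x k r, ArSing.y k r} : Set (ArSing.ring k r)),
        z ∈ Ideal.span {ArSing.xMap k r (PowerSeries.X * u₁) + ArSing.xMap k r Q * ArSing.y k r,
          ArSing.xMap k r (PowerSeries.X ^ (s + 1) * v₂) +
            ArSing.xMap k r Q' * ArSing.y k r} := by
      obtain ⟨A, hA⟩ : ∃ A, A = ArSing.xMap k r (PowerSeries.X * u₁) +
        ArSing.xMap k r Q * ArSing.y k r := ⟨_, rfl⟩
      obtain ⟨B, hB⟩ : ∃ B, B = ArSing.xMap k r (PowerSeries.X ^ (s + 1) * v₂) +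
            ArSing.xMap k r Q' * ArSing.y k r := ⟨_, rfl⟩
      rw [← hA, ← hB]
      have hAm : A ∈ Ideal.span {A, B} := Ideal.subset_span (Set.mem_insert _ _)
      have hBm : B ∈ Ideal.span {A, B} := Ideal.subset_span (Set.mem_insert_of_mem _ rfl)
      rw [map_mul, xMap_X] at hA
      rw [map_mul, map_pow, xMap_X] at hB
      rcases Nat.eq_zero_or_pos s with hs | hs
      · -- `r = 0`
        have hr0 : r = 0 := by omega
        have hyx : ArSing.y k r * ArSing.y k r = ArSing.x k r := by
          have := y_sq (k := k) r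
          rw [hr0] at this ⊢
          rw [← pow_two, this, zero_add, pow_one]
        have hD : IsUnit (ArSing.y k r * ArSing.xMap k r v₂ + ArSing.xMap k r Q') := by
          apply isUnit_of_epsA_ne_zero
          rw [map_add, map_mul, epsA_xMap, epsA_xMap, (epsA_eq_zero_iff r _).2 (y_mem r), zero_mul,
            zero_add]
          exact hv
        obtain ⟨D', hD'⟩ := hD.exists_left_inv
        have hy : ArSing.y k r = D' * B := by
          rw [hB, hs, zero_add, pow_one, ← hyx]
          linear_combination (-ArSing.y k r) * hD'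
        have hym : ArSing.y k r ∈ Ideal.span {A, B} := by
          rw [hy]
          exact Ideal.mul_mem_left _ _ hBm
        rintro z (rfl | rfl)
        · rw [← hyx]
          exact Ideal.mul_mem_left _ _ hym
        · exact hym
      · have hD : IsUnit (ArSing.xMap k r u₁ * ArSing.xMap k r Q' -
            ArSing.xMap k r Q * (ArSing.x k r ^ s * ArSing.xMap k r v₂)) := by
          apply isUnit_of_epsA_ne_zero
          rw [map_sub, map_mul, map_mul, map_mul, map_pow, epsA_xMap, epsA_xMap,
            (epsA_eq_zero_iff r _).2 (x_mem r), zero_pow (by omega), zero_mul, mul_zero, sub_zero]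
          exact mul_ne_zero hu hv
        obtain ⟨D', hD'⟩ := hD.exists_left_inv
        have hx : ArSing.x k r = D' * (ArSing.xMap k r Q' * A - ArSing.xMap k r Q * B) := by
          rw [hA, hB, pow_succ]
          linear_combination (-ArSing.x k r) * hD'
        have hy : ArSing.y k r = D' * (ArSing.xMap k r u₁ * B -
            ArSing.x k r ^ s * ArSing.xMap k r v₂ * A) := by
          rw [hA, hB, pow_succ]
          linear_combination (-ArSing.y k r) * hD'
        rintro z (rfl | rfl)
        · rw [hx]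
          exact Ideal.mul_mem_left _ _ (Ideal.sub_mem _ (Ideal.mul_mem_left _ _ hAm)
            (Ideal.mul_mem_left _ _ hBm))
        · rw [hy]
          exact Ideal.mul_mem_left _ _ (Ideal.sub_mem _ (Ideal.mul_mem_left _ _ hBm)
            (Ideal.mul_mem_left _ _ hAm))
    rw [maximalIdeal_ar, Ideal.span_le]
    exact hxy

end Groth.Agent.Lib.Helper63.ArEven3
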