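import Mathlib
import Groth.Prelude.Def_W4c1arstab1appArSing
import Groth.Agent.Lib.Helper63.ArEven2
import Groth.Agent.Lib.Helper63.ArEven3
import Groth.Agent.Lib.Helper63.NodeFlat
import Groth.Agent.Lib.Helper58.MvPSComplete
import Groth.Agent.Lib.Helper44.AdicQuot
import Groth.Agent.Lib.Helper90.PSSurj

/-!
# Involutions of `A_r`, `r` even, are conjugate to `y ↦ -y` (helper63)
-/

set_option autoImplicit false
set_option linter.unusedSectionVars false

namespace Groth.Agent.Lib.Helper63.ArEven4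

open IsLocalRing MvPowerSeries Groth.Agent.Lib.Helper63.NodeSwap
  Groth.Agent.Lib.Helper63.ArStruct Groth.Agent.Lib.Helper63.ArFixed
  Groth.Agent.Lib.Helper63.ArNegY Groth.Agent.Lib.Helper63.ArNegX
  Groth.Agent.Lib.Helper63.ArEven1 Groth.Agent.Lib.Helper63.ArEven2
  Groth.Agent.Lib.Helper63.ArEven3

universe u

variable {k : Type u} [Field k] {r : ℕ}

theorem isAdicComplete_ar :
    IsAdicComplete (maximalIdeal (ArSing.ring k r)) (ArSing.ring k r) := by
  have : IsAdicComplete (maximalIdeal k) k := by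
    rw [IsLocalRing.maximalIdeal_eq_bot]; infer_instance
  have : IsAdicComplete (maximalIdeal (MvPowerSeries (Fin 2) k)) (MvPowerSeries (Fin 2) k) :=
    Groth.Agent.Lib.Helper58.MvPSComplete.isAdicComplete
  have := Groth.Agent.Lib.Helper44.isAdicComplete_quotient_ring
    (maximalIdeal (MvPowerSeries (Fin 2) k))
    (Ideal.span {ArSing.eqn k r})
  rwa [Ideal.Quotient.algebraMap_eq,
    IsLocalRing.map_maximalIdeal_of_surjective _ Ideal.Quotient.mk_surjective] at this

/-- generators of the maximal ideal satisfying the equation define an automorphism -/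
theorem exists_algEquiv_of_gens (a b : ArSing.ring k r)
    (hspan : Ideal.span {a, b} = maximalIdeal (ArSing.ring k r)) (hab : b ^ 2 = a ^ (r + 1)) :
    ∃ φ : ArSing.ring k r ≃ₐ[k] ArSing.ring k r,
      φ (ArSing.x k r) = a ∧ φ (ArSing.y k r) = b := by
  have hc : IsAdicComplete (maximalIdeal (ArSing.ring k r)) (ArSing.ring k r) := isAdicComplete_ar
  have hrange : Set.range ![a, b] = {a, b} := by
    rw [Matrix.range_cons, Matrix.range_cons, Matrix.range_empty, Set.union_empty,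
      Set.singleton_union]
  have hsurjk : Function.Surjective ((Ideal.Quotient.mk (maximalIdeal (ArSing.ring k r))).comp
      (algebraMap k (ArSing.ring k r))) := by
    intro z
    obtain ⟨a', rfl⟩ := Ideal.Quotient.mk_surjective z
    refine ⟨epsA r a', ?_⟩
    rw [RingHom.comp_apply, Ideal.Quotient.eq, ← epsA_eq_zero_iff, map_sub, epsA_algebraMap,
      sub_self]
  obtain ⟨Φ, hΦs, hΦX, -, -⟩ := Groth.Agent.Lib.Helper90.PSSurj.exists_surjective_eval
    (B := k) (maximalIdeal (ArSing.ring k r)) ![a, b] (by rw [hrange, hspan]) hsurjk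
  have hΦ0 : Φ (X 0) = a := hΦX 0
  have hΦ1 : Φ (X 1) = b := hΦX 1
  have hker : ∀ p ∈ Ideal.span {ArSing.eqn k r}, Φ p = 0 := by
    intro p hp
    obtain ⟨c, rfl⟩ := Ideal.mem_span_singleton'.mp hp
    have h0 : Φ (ArSing.eqn k r) = 0 := by
      change Φ (X 1 ^ 2 - X 0 ^ (r + 1)) = 0
      rw [map_sub, map_pow, map_pow, hΦ0, hΦ1, hab, sub_self]
    rw [map_mul, h0, mul_zero]
  obtain ⟨φ, hφ⟩ : ∃ φ : ArSing.ring k r →ₐ[k] ArSing.ring k r,
      φ = Ideal.Quotient.liftₐ (Ideal.span {ArSing.eqn k r}) Φ hker := ⟨_, rfl⟩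
  have hφmk : ∀ p, φ (Ideal.Quotient.mk _ p) = Φ p := by
    intro p
    rw [hφ]
    rfl
  have hsurj : Function.Surjective φ := by
    intro z
    obtain ⟨p, rfl⟩ := hΦs z
    exact ⟨Ideal.Quotient.mk _ p, hφmk p⟩
  have hinj : Function.Injective φ :=
    Groth.Agent.Lib.Helper63.NodeFlat.injective_of_surjective_ringEndo φ.toRingHom hsurj
  refine ⟨AlgEquiv.ofBijective φ ⟨hinj, hsurj⟩, ?_, ?_⟩
  · change φ (Ideal.Quotient.mk _ (X 0)) = a
    rw [hφmk, hΦ0]
  · change φ (Ideal.Quotient.mk _ (X 1)) = b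
    rw [hφmk, hΦ1]

theorem main (h2 : (2 : k) ≠ 0) (hev : Even r)
    (σ : ArSing.ring k r ≃ₐ[k] ArSing.ring k r) (hσ : ∀ a, σ (σ a) = a) (hne : σ ≠ AlgEquiv.refl) :
    ∃ φ : ArSing.ring k r ≃ₐ[k] ArSing.ring k r,
      φ.symm (σ (φ (ArSing.x k r))) = ArSing.x k r ∧
      φ.symm (σ (φ (ArSing.y k r))) = -ArSing.y k r := by
  obtain ⟨s, hrs⟩ := hev
  have hinj := th_injective (k := k) hrs h2
  obtain ⟨σ', hc, hinv⟩ := exists_lift_sigma h2 hrs σ hσ
  obtain ⟨hξ, ψ, hψX, hψ⟩ := Groth.Agent.S14080.result k h2 σ' hinv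
  obtain ⟨τ, hτ⟩ : ∃ τ, τ = σ' PowerSeries.X := ⟨_, rfl⟩
  rw [← hτ] at hξ hψX hψ
  have hτ0 : PowerSeries.constantCoeff τ = 0 := by
    rw [hτ]
    exact Groth.Agent.S14080.Aux.constantCoeff_algEquiv_X σ'
  have hξ' : PowerSeries.coeff 1 τ = 1 ∨ PowerSeries.coeff 1 τ = -1 := by
    have : (PowerSeries.coeff 1 τ - 1) * (PowerSeries.coeff 1 τ + 1) = 0 := by
      linear_combination hξ
    rcases mul_eq_zero.1 this with h | h
    · exact Or.inl (sub_eq_zero.1 h)
    · exact Or.inr (eq_neg_of_add_eq_zero_left h)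
  rcases hξ' with h1 | h1
  · exfalso
    apply hne
    ext a
    apply hinj
    change th r (σ a) = th r a
    rw [← hc]
    obtain ⟨f, hf⟩ := ψ.surjective (th r a)
    have := hψ f
    rw [h1, PowerSeries.rescale_one, RingHom.id_apply, AlgEquiv.symm_apply_eq] at this
    rw [← hf, this]
  · rw [h1] at hψX hψ
    obtain ⟨sv, hsv⟩ : ∃ sv, sv = ψ PowerSeries.X := ⟨_, rfl⟩
    have hsvneg : σ' sv = -sv := by
      have := hψ PowerSeries.X
      rw [AlgEquiv.symm_apply_eq, PowerSeries.rescale_X, map_mul, PowerSeries.C_eq_algebraMap,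
        AlgEquiv.commutes, ← PowerSeries.C_eq_algebraMap, map_neg, map_one, neg_one_mul] at this
      rw [hsv, this]
    have hτ2 : τ ^ 2 = th r (σ (ArSing.x k r)) := by
      rw [← hc, th_x, map_pow, hτ]
    have hτ1 : PowerSeries.coeff 1 τ ≠ 0 := by
      rw [h1]
      exact neg_ne_zero.2 one_ne_zero
    obtain ⟨b₀, hb₀⟩ := exists_th_X_mul hrs h2 (σ (ArSing.x k r)) τ hτ2 hτ1
    have hsv' : sv = PowerSeries.C (2⁻¹ : k) * (PowerSeries.X - τ) := by
      rw [hsv, hψX, map_neg, map_one, neg_one_mul, sub_eq_add_neg]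
    -- `sv = X * w` with `w` a unit
    have hsv0 : PowerSeries.constantCoeff sv = 0 := by
      rw [hsv', map_mul, map_sub, PowerSeries.constantCoeff_X, hτ0, sub_zero, mul_zero]
    obtain ⟨w, hw⟩ := X_dvd_of_constantCoeff hsv0
    have hw0 : PowerSeries.constantCoeff w = 1 := by
      have h3 : PowerSeries.coeff 1 sv = PowerSeries.coeff 0 w := by
        rw [hw]
        exact PowerSeries.coeff_succ_X_mul 0 w
      rw [← PowerSeries.coeff_zero_eq_constantCoeff_apply, ← h3, hsv', PowerSeries.coeff_C_mul,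
        map_sub, PowerSeries.coeff_one_X, h1, sub_neg_eq_add, one_add_one_eq_two,
        inv_mul_cancel₀ h2]
    -- the new coordinates
    obtain ⟨ax, hax⟩ : ∃ ax, ax = algebraMap k (ArSing.ring k r) ((2⁻¹ : k) ^ 2) *
        (ArSing.x k r - 2 * b₀ + σ (ArSing.x k r)) := ⟨_, rfl⟩
    have hthax : th r ax = sv ^ 2 := by
      rw [hax, map_mul, AlgHom.commutes, map_add, map_sub, map_mul, map_ofNat, hb₀, th_x, ← hτ2,
        ← PowerSeries.C_eq_algebraMap, hsv', map_pow]
      ring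
    obtain ⟨ay, hay⟩ := exists_th_of_dvd hrs (sv ^ (r + 1)) (by
      rw [hw, mul_pow]
      exact Dvd.intro _ rfl)
    have hspan : Ideal.span {ax, ay} = maximalIdeal (ArSing.ring k r) := by
      refine span_eq_maximalIdeal hrs h2 ax ay (w ^ 2) (w ^ (r + 1)) ?_ ?_ ?_ ?_
      · rw [map_pow, hw0, one_pow]
        exact one_ne_zero
      · rw [map_pow, hw0, one_pow]
        exact one_ne_zero
      · rw [hthax, hw, mul_pow]
      · rw [hay, hw, mul_pow]
    have hab : ay ^ 2 = ax ^ (r + 1) := by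
      apply hinj
      rw [map_pow, map_pow, hay, hthax]
      ring
    obtain ⟨φ, hφx, hφy⟩ := exists_algEquiv_of_gens ax ay hspan hab
    have hσax : σ ax = ax := by
      apply hinj
      rw [← hc, hthax, map_pow, hsvneg, neg_sq]
    have hσay : σ ay = -ay := by
      apply hinj
      rw [← hc, map_neg, hay, map_pow, hsvneg, Odd.neg_pow ⟨s, by omega⟩]
    refine ⟨φ, ?_, ?_⟩
    · rw [hφx, hσax, ← hφx, AlgEquiv.symm_apply_apply]
    · rw [hφy, hσay, map_neg, ← hφy, AlgEquiv.symm_apply_apply]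

end Groth.Agent.Lib.Helper63.ArEven4
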