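import Mathlib
import Groth.Prelude.Def_W4c1arstab1appArSing
import Groth.Agent.Lib.Helper63.ArEven4

/-!
# The two branches of `A_r = k[[x,y]]/(y² - x^(r+1))`, `r = 2m + 1` odd (helper63)
-/

set_option autoImplicit false
set_option linter.unusedSectionVars false

namespace Groth.Agent.Lib.Helper63.ArOdd1

open IsLocalRing MvPowerSeries Groth.Agent.Lib.Helper63.NodeSwap
  Groth.Agent.Lib.Helper63.ArStruct Groth.Agent.Lib.Helper63.ArFixed
  Groth.Agent.Lib.Helper63.ArNegY Groth.Agent.Lib.Helper63.ArNegX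

universe u

variable {k : Type u} [Field k] {r m : ℕ}

theorem hasSubstBr (m : ℕ) (e : k) : MvPowerSeries.HasSubst
    (![PowerSeries.X, PowerSeries.C e * PowerSeries.X ^ (m + 1)] :
      Fin 2 → MvPowerSeries Unit k) := by
  apply hasSubst_of_constantCoeff_zero
  intro i
  fin_cases i
  · change PowerSeries.constantCoeff (PowerSeries.X : PowerSeries k) = 0
    rw [PowerSeries.constantCoeff_X]
  · change PowerSeries.constantCoeff (PowerSeries.C e * (PowerSeries.X : PowerSeries k) ^ (m + 1))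
      = 0
    rw [map_mul, map_pow, PowerSeries.constantCoeff_X, zero_pow (Nat.succ_ne_zero m), mul_zero]

/-- the branch `x ↦ t, y ↦ e t^(m+1)`, `e = ± 1` -/
noncomputable def br (hrm : r = m + m + 1) (e : k) (he : e ^ 2 = 1) :
    ArSing.ring k r →ₐ[k] PowerSeries k :=
  Ideal.Quotient.liftₐ _ (MvPowerSeries.substAlgHom (hasSubstBr m e)) (by
    intro a ha
    obtain ⟨c, rfl⟩ := Ideal.mem_span_singleton'.mp ha
    have h0 : MvPowerSeries.substAlgHom (hasSubstBr m e) (ArSing.eqn k r) = 0 := by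
      change MvPowerSeries.substAlgHom (hasSubstBr m e) (X 1 ^ 2 - X 0 ^ (r + 1)) = 0
      rw [map_sub, map_pow, map_pow, substAlgHom_X, substAlgHom_X]
      change (PowerSeries.C e * (PowerSeries.X : PowerSeries k) ^ (m + 1)) ^ 2 -
        (PowerSeries.X : PowerSeries k) ^ (r + 1) = 0
      rw [mul_pow, ← map_pow, he, map_one, one_mul, ← pow_mul, hrm, sub_eq_zero]
      congr 1
      omega
    rw [map_mul, h0, mul_zero])

variable (hrm : r = m + m + 1) (e : k) (he : e ^ 2 = 1)

theorem br_x : br hrm e he (ArSing.x k r) = PowerSeries.X := by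
  change MvPowerSeries.substAlgHom (hasSubstBr m e) (X 0) = _
  rw [substAlgHom_X]
  rfl

theorem br_y : br hrm e he (ArSing.y k r) = PowerSeries.C e * PowerSeries.X ^ (m + 1) := by
  change MvPowerSeries.substAlgHom (hasSubstBr m e) (X 1) = _
  rw [substAlgHom_X]
  rfl

theorem br_xMap (p : PowerSeries k) : br hrm e he (ArSing.xMap k r p) = p := by
  have h : (br hrm e he).comp (ArSing.xMap k r) = AlgHom.id k (PowerSeries k) := by
    apply Groth.Agent.S14080.Aux.algHom_ext_of_X
    · change br hrm e he (ArSing.xMap k r PowerSeries.X) = PowerSeries.X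
      rw [xMap_X, br_x]
    · change PowerSeries.X ∣ br hrm e he (ArSing.xMap k r PowerSeries.X)
      rw [xMap_X, br_x]
  exact DFunLike.congr_fun h p

theorem br_formula (p q : PowerSeries k) :
    br hrm e he (ArSing.xMap k r p + ArSing.xMap k r q * ArSing.y k r) =
      p + q * (PowerSeries.C e * PowerSeries.X ^ (m + 1)) := by
  rw [map_add, map_mul, br_xMap, br_xMap, br_y]

/-- the `+` branch -/
noncomputable def bp : ArSing.ring k r →ₐ[k] PowerSeries k := br hrm 1 (one_pow 2)

/-- the `-` branch -/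
noncomputable def bm : ArSing.ring k r →ₐ[k] PowerSeries k := br hrm (-1) neg_one_sq

theorem bp_x : bp hrm (ArSing.x k r) = (PowerSeries.X : PowerSeries k) := br_x hrm _ _

theorem bm_x : bm hrm (ArSing.x k r) = (PowerSeries.X : PowerSeries k) := br_x hrm _ _

theorem bp_y : bp hrm (ArSing.y k r) = (PowerSeries.X : PowerSeries k) ^ (m + 1) := by
  unfold bp
  rw [br_y, map_one, one_mul]

theorem bm_y : bm hrm (ArSing.y k r) = -(PowerSeries.X : PowerSeries k) ^ (m + 1) := by
  unfold bm
  rw [br_y, map_neg, map_one, neg_one_mul]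

theorem bp_xMap (p : PowerSeries k) : bp hrm (ArSing.xMap k r p) = p := br_xMap hrm _ _ p

theorem bm_xMap (p : PowerSeries k) : bm hrm (ArSing.xMap k r p) = p := br_xMap hrm _ _ p

theorem bp_formula (p q : PowerSeries k) :
    bp hrm (ArSing.xMap k r p + ArSing.xMap k r q * ArSing.y k r) =
      p + q * PowerSeries.X ^ (m + 1) := by
  rw [map_add, map_mul, bp_xMap, bp_xMap, bp_y]

theorem bm_formula (p q : PowerSeries k) :
    bm hrm (ArSing.xMap k r p + ArSing.xMap k r q * ArSing.y k r) =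
      p - q * PowerSeries.X ^ (m + 1) := by
  rw [map_add, map_mul, bm_xMap, bm_xMap, bm_y]
  ring

theorem bp_surjective : Function.Surjective (bp (k := k) hrm) := fun p => ⟨_, bp_xMap hrm p⟩

theorem bm_surjective : Function.Surjective (bm (k := k) hrm) := fun p => ⟨_, bm_xMap hrm p⟩

/-- joint injectivity of the two branches -/
theorem eq_zero_of_branches (h2 : (2 : k) ≠ 0) (a : ArSing.ring k r) (hp : bp hrm a = 0)
    (hm : bm hrm a = 0) : a = 0 := by
  obtain ⟨p, q, rfl⟩ := ar_gen r a
  rw [bp_formula] at hp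
  rw [bm_formula] at hm
  have h2' := two_ne_zero_ps h2
  have h1 : (2 : PowerSeries k) * p = 0 := by linear_combination hp + hm
  have hp0 : p = 0 := (mul_eq_zero.1 h1).resolve_left h2'
  rw [hp0, zero_add] at hp
  have hq0 : q = 0 := (mul_eq_zero.1 hp).resolve_right (pow_ne_zero _ PowerSeries.X_ne_zero)
  rw [hp0, hq0, map_zero, zero_mul, add_zero]

theorem eq_of_branches (h2 : (2 : k) ≠ 0) (a b : ArSing.ring k r) (hp : bp hrm a = bp hrm b)
    (hm : bm hrm a = bm hrm b) : a = b := by
  rw [← sub_eq_zero]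
  apply eq_zero_of_branches hrm h2
  · rw [map_sub, hp, sub_self]
  · rw [map_sub, hm, sub_self]

/-- the image of the two branches -/
theorem exists_of_branches (h2 : (2 : k) ≠ 0) (f g : PowerSeries k)
    (h : (PowerSeries.X : PowerSeries k) ^ (m + 1) ∣ f - g) :
    ∃ a : ArSing.ring k r, bp hrm a = f ∧ bm hrm a = g := by
  obtain ⟨d, hd⟩ := h
  have hc : PowerSeries.C (2⁻¹ : k) * 2 = 1 := by
    rw [← map_ofNat (PowerSeries.C (R := k)) 2, ← map_mul, inv_mul_cancel₀ h2, map_one]
  refine ⟨ArSing.xMap k r (PowerSeries.C (2⁻¹ : k) * (f + g)) +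
    ArSing.xMap k r (PowerSeries.C (2⁻¹ : k) * d) * ArSing.y k r, ?_, ?_⟩
  · rw [bp_formula]
    linear_combination (-PowerSeries.C (2⁻¹ : k)) * hd + f * hc
  · rw [bm_formula]
    linear_combination (PowerSeries.C (2⁻¹ : k)) * hd + g * hc

theorem dvd_bp_sub_bm (a : ArSing.ring k r) :
    (PowerSeries.X : PowerSeries k) ^ (m + 1) ∣ bp hrm a - bm hrm a := by
  obtain ⟨p, q, rfl⟩ := ar_gen r a
  rw [bp_formula, bm_formula]
  exact ⟨2 * q, by ring⟩

end Groth.Agent.Lib.Helper63.ArOdd1
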