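import Mathlib
import Groth.Prelude.Def_W4c1arstab1appArSing
import Groth.Agent.Lib.Helper63.ArOdd1

/-!
# Automorphisms of `A_r` (`r` odd) and the two branches (helper63)
-/

set_option autoImplicit false
set_option linter.unusedSectionVars false

namespace Groth.Agent.Lib.Helper63.ArOdd2

open IsLocalRing MvPowerSeries Groth.Agent.Lib.Helper63.NodeSwap
  Groth.Agent.Lib.Helper63.ArStruct Groth.Agent.Lib.Helper63.ArFixed
  Groth.Agent.Lib.Helper63.ArNegY Groth.Agent.Lib.Helper63.ArNegX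
  Groth.Agent.Lib.Helper63.ArOdd1

universe u

variable {k : Type u} [Field k] {r m : ℕ}

/-! ### coefficient lemmas -/

theorem map_C (F : PowerSeries k →ₐ[k] PowerSeries k) (c : k) :
    F (PowerSeries.C c) = PowerSeries.C c := by
  rw [PowerSeries.C_eq_algebraMap, AlgHom.commutes]

theorem coeff_one_map (F : PowerSeries k →ₐ[k] PowerSeries k)
    (hF : (PowerSeries.X : PowerSeries k) ∣ F PowerSeries.X) (h : PowerSeries k)
    (h0 : PowerSeries.constantCoeff h = 0) :
    PowerSeries.coeff 1 (F h) = PowerSeries.coeff 1 h * PowerSeries.coeff 1 (F PowerSeries.X) := by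
  obtain ⟨g, hg⟩ := hF
  have e1 := PowerSeries.eq_X_mul_shift_add_const h
  rw [h0, map_zero, add_zero] at e1
  obtain ⟨h₁, hh₁⟩ : ∃ h₁, h₁ = PowerSeries.mk fun p => PowerSeries.coeff (p + 1) h := ⟨_, rfl⟩
  rw [← hh₁] at e1
  have e2 := PowerSeries.eq_X_mul_shift_add_const h₁
  obtain ⟨h₂, hh₂⟩ : ∃ h₂, h₂ = PowerSeries.mk fun p => PowerSeries.coeff (p + 1) h₁ := ⟨_, rfl⟩
  rw [← hh₂] at e2
  have hc : PowerSeries.constantCoeff h₁ = PowerSeries.coeff 1 h := by
    rw [hh₁, ← PowerSeries.coeff_zero_eq_constantCoeff_apply, PowerSeries.coeff_mk]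
  rw [hc] at e2
  have e3 : F h = PowerSeries.X ^ 2 * (g ^ 2 * F h₂) +
      PowerSeries.C (PowerSeries.coeff 1 h) * F PowerSeries.X := by
    conv_lhs => rw [e1, e2]
    rw [map_mul, map_add, map_mul, map_C, hg]
    ring
  rw [e3, map_add, PowerSeries.coeff_X_pow_mul', if_neg (by norm_num), zero_add,
    PowerSeries.coeff_C_mul]

theorem coeff_pow_self (p : PowerSeries k) (hp : PowerSeries.constantCoeff p = 0) (n : ℕ) :
    PowerSeries.coeff n (p ^ n) = PowerSeries.coeff 1 p ^ n := by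
  obtain ⟨w, rfl⟩ := PowerSeries.X_dvd_iff.2 hp
  have h1 : PowerSeries.coeff 1 (PowerSeries.X * w) = PowerSeries.coeff 0 w :=
    PowerSeries.coeff_succ_X_mul 0 w
  have h2 := PowerSeries.coeff_X_pow_mul (w ^ n) n 0
  rw [zero_add] at h2
  rw [mul_pow, h2, h1, PowerSeries.coeff_zero_eq_constantCoeff_apply, map_pow,
    PowerSeries.coeff_zero_eq_constantCoeff_apply]

theorem coeff_one_pow (p : PowerSeries k) (hp : PowerSeries.constantCoeff p = 0) (n : ℕ)
    (hn : 2 ≤ n) : PowerSeries.coeff 1 (p ^ n) = 0 := by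
  obtain ⟨w, rfl⟩ := PowerSeries.X_dvd_iff.2 hp
  have : (PowerSeries.X : PowerSeries k) ^ 2 ∣ (PowerSeries.X * w) ^ n := by
    rw [mul_pow]
    exact Dvd.dvd.mul_right (pow_dvd_pow _ hn) _
  exact PowerSeries.X_pow_dvd_iff.1 this 1 (by norm_num)

/-! ### the equations of the branches -/

/-- the equation `y - e x^(m+1)` of a branch -/
noncomputable def ee (r m : ℕ) (e : k) : ArSing.ring k r :=
  ArSing.y k r - algebraMap k (ArSing.ring k r) e * ArSing.x k r ^ (m + 1)

variable (hrm : r = m + m + 1)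

theorem br_ee (e e' : k) (he : e ^ 2 = 1) :
    br hrm e he (ee r m e') = PowerSeries.C (e - e') * PowerSeries.X ^ (m + 1) := by
  unfold ee
  rw [map_sub, map_mul, map_pow, br_y, br_x, AlgHom.commutes, ← PowerSeries.C_eq_algebraMap,
    map_sub]
  ring

include hrm in
theorem ee_mul : ee r m (1 : k) * ee r m (-1 : k) = 0 := by
  unfold ee
  have := y_sq (k := k) r
  rw [map_neg, map_one]
  have h : r + 1 = (m + 1) + (m + 1) := by omega
  rw [h, pow_add] at this
  linear_combination this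

theorem constantCoeff_br (e : k) (he : e ^ 2 = 1) (a : ArSing.ring k r) :
    PowerSeries.constantCoeff (br hrm e he a) = epsA r a := by
  obtain ⟨g₁, g₂, h⟩ := ar_decomp r a
  have h1 : br hrm e he a = algebraMap k (PowerSeries k) (epsA r a) +
      PowerSeries.X * br hrm e he g₁ +
      PowerSeries.C e * PowerSeries.X ^ (m + 1) * br hrm e he g₂ := by
    conv_lhs => rw [h]
    rw [map_add, map_add, map_mul, map_mul, br_x, br_y, AlgHom.commutes]
  rw [h1, map_add, map_add, map_mul, map_mul, map_mul, map_pow, PowerSeries.constantCoeff_X,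
    zero_pow (Nat.succ_ne_zero m), zero_mul, mul_zero, zero_mul, add_zero, add_zero]
  rfl

theorem X_dvd_br_of_mem (e : k) (he : e ^ 2 = 1) (a : ArSing.ring k r)
    (ha : a ∈ maximalIdeal (ArSing.ring k r)) :
    (PowerSeries.X : PowerSeries k) ∣ br hrm e he a := by
  rw [PowerSeries.X_dvd_iff, constantCoeff_br, (epsA_eq_zero_iff r a).2 ha]

/-- the dichotomy: an automorphism preserves or swaps the branches -/
theorem dichotomy (h2 : (2 : k) ≠ 0) (σ : ArSing.ring k r ≃ₐ[k] ArSing.ring k r) :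
    (bp hrm (σ (ee r m 1)) = 0 ∧ bm hrm (σ (ee r m (-1))) = 0) ∨
      (bp hrm (σ (ee r m (-1))) = 0 ∧ bm hrm (σ (ee r m 1)) = 0) := by
  have h0 : σ (ee r m (1 : k)) * σ (ee r m (-1 : k)) = 0 := by
    rw [← map_mul, ee_mul hrm, map_zero]
  have hp : bp hrm (σ (ee r m 1)) * bp hrm (σ (ee r m (-1))) = 0 := by
    rw [← map_mul, h0, map_zero]
  have hm : bm hrm (σ (ee r m 1)) * bm hrm (σ (ee r m (-1))) = 0 := by
    rw [← map_mul, h0, map_zero]
  have h2' := two_ne_zero_ps h2
  have hX : (PowerSeries.X : PowerSeries k) ^ (m + 1) ≠ 0 := pow_ne_zero _ PowerSeries.X_ne_zero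
  have hne1 : ¬ (bp hrm (σ (ee r m 1)) = 0 ∧ bm hrm (σ (ee r m 1)) = 0) := by
    rintro ⟨h1, h1'⟩
    have h3 := eq_zero_of_branches hrm h2 _ h1 h1'
    have h4 : ee r m (1 : k) = 0 := σ.injective (h3.trans (map_zero _).symm)
    have h5 : bm hrm (ee r m (1 : k)) = 0 := by rw [h4, map_zero]
    unfold bm at h5
    rw [br_ee, map_sub, map_neg, map_one] at h5
    have h6 : (2 : PowerSeries k) * PowerSeries.X ^ (m + 1) = 0 := by linear_combination -h5
    rcases mul_eq_zero.1 h6 with h | h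
    · exact h2' h
    · exact hX h
  have hne2 : ¬ (bp hrm (σ (ee r m (-1))) = 0 ∧ bm hrm (σ (ee r m (-1))) = 0) := by
    rintro ⟨h1, h1'⟩
    have h3 := eq_zero_of_branches hrm h2 _ h1 h1'
    have h4 : ee r m (-1 : k) = 0 := σ.injective (h3.trans (map_zero _).symm)
    have h5 : bp hrm (ee r m (-1 : k)) = 0 := by rw [h4, map_zero]
    unfold bp at h5
    rw [br_ee, sub_neg_eq_add, map_add, map_one] at h5
    have h6 : (2 : PowerSeries k) * PowerSeries.X ^ (m + 1) = 0 := by linear_combination h5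
    rcases mul_eq_zero.1 h6 with h | h
    · exact h2' h
    · exact hX h
  rcases mul_eq_zero.1 hp with hp1 | hp1 <;> rcases mul_eq_zero.1 hm with hm1 | hm1
  · exact absurd ⟨hp1, hm1⟩ hne1
  · exact Or.inl ⟨hp1, hm1⟩
  · exact Or.inr ⟨hp1, hm1⟩
  · exact absurd ⟨hp1, hm1⟩ hne2

/-- factorisation of `br e ∘ σ` through the branch it kills -/
theorem exists_factor (e e' : k) (he : e ^ 2 = 1) (he' : e' ^ 2 = 1)
    (σ : ArSing.ring k r ≃ₐ[k] ArSing.ring k r)
    (hkill : br hrm e he (σ (ee r m e')) = 0) :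
    ∃ α : PowerSeries k →ₐ[k] PowerSeries k,
      (∀ a, br hrm e he (σ a) = α (br hrm e' he' a)) ∧
      α PowerSeries.X = br hrm e he (σ (ArSing.x k r)) := by
  obtain ⟨α, hα⟩ : ∃ α : PowerSeries k →ₐ[k] PowerSeries k,
      α = (br hrm e he).comp ((σ : ArSing.ring k r →ₐ[k] ArSing.ring k r).comp
        (ArSing.xMap k r)) := ⟨_, rfl⟩
  have hαX : α PowerSeries.X = br hrm e he (σ (ArSing.x k r)) := by
    rw [hα]
    change br hrm e he (σ (ArSing.xMap k r PowerSeries.X)) = _
    rw [xMap_X]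
  refine ⟨α, ?_, hαX⟩
  have hσx : σ (ArSing.x k r) ∈ maximalIdeal (ArSing.ring k r) :=
    Groth.Agent.Lib.Helper63.ArEven2.map_mem_maximalIdeal σ _ (x_mem r)
  have hσy : σ (ArSing.y k r) ∈ maximalIdeal (ArSing.ring k r) :=
    Groth.Agent.Lib.Helper63.ArEven2.map_mem_maximalIdeal σ _ (y_mem r)
  have hcomm : (br hrm e he).comp (σ : ArSing.ring k r →ₐ[k] ArSing.ring k r) =
      α.comp (br hrm e' he') := by
    refine ar_algHom_ext (Ideal.span {(PowerSeries.X : PowerSeries k)}) ps_hausdorff _ _ ?_ ?_ ?_ ?_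
    · change br hrm e he (σ (ArSing.x k r)) ∈ _
      rw [Ideal.mem_span_singleton]
      exact X_dvd_br_of_mem hrm e he _ hσx
    · change br hrm e he (σ (ArSing.y k r)) ∈ _
      rw [Ideal.mem_span_singleton]
      exact X_dvd_br_of_mem hrm e he _ hσy
    · change br hrm e he (σ (ArSing.x k r)) = α (br hrm e' he' (ArSing.x k r))
      rw [br_x, hαX]
    · change br hrm e he (σ (ArSing.y k r)) = α (br hrm e' he' (ArSing.y k r))
      rw [br_y, map_mul, map_pow, map_C, hαX]
      unfold ee at hkill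
      rw [map_sub, map_sub, map_mul, map_mul, map_pow, map_pow, AlgEquiv.commutes,
        AlgHom.commutes, ← PowerSeries.C_eq_algebraMap] at hkill
      exact sub_eq_zero.1 hkill
  exact fun a => DFunLike.congr_fun hcomm a

end Groth.Agent.Lib.Helper63.ArOdd2
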