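import Mathlib
import Groth.Prelude.Def_W4c1arstab1appArSing
import Groth.Agent.Lib.Helper63.ArOdd2

/-!
# Generators of the maximal ideal of `A_r` (`r ≥ 3` odd) via the branches (helper63)
-/

set_option autoImplicit false
set_option linter.unusedSectionVars false

namespace Groth.Agent.Lib.Helper63.ArOdd3

open IsLocalRing MvPowerSeries Groth.Agent.Lib.Helper63.NodeSwap
  Groth.Agent.Lib.Helper63.ArStruct Groth.Agent.Lib.Helper63.ArFixed
  Groth.Agent.Lib.Helper63.ArNegY Groth.Agent.Lib.Helper63.ArNegX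
  Groth.Agent.Lib.Helper63.ArOdd1 Groth.Agent.Lib.Helper63.ArOdd2
  Groth.Agent.Lib.Helper63.ArEven3

universe u

variable {k : Type u} [Field k] {r m : ℕ} (hrm : r = m + m + 1)

theorem mem_of_constantCoeff_bp (a : ArSing.ring k r)
    (h : PowerSeries.constantCoeff (bp hrm a) = 0) : a ∈ maximalIdeal (ArSing.ring k r) := by
  unfold bp at h
  rw [constantCoeff_br] at h
  exact (epsA_eq_zero_iff r a).1 h

theorem span_eq_maximalIdeal_odd (hm : 1 ≤ m) (a b : ArSing.ring k r)
    (ha0 : PowerSeries.constantCoeff (bp hrm a) = 0)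
    (hb0 : PowerSeries.constantCoeff (bp hrm b) = 0)
    (ha1 : PowerSeries.coeff 1 (bp hrm a) ≠ 0) (hb1 : PowerSeries.coeff 1 (bp hrm b) = 0)
    (hb2 : PowerSeries.coeff (m + 1) (bp hrm b) ≠ PowerSeries.coeff (m + 1) (bm hrm b)) :
    Ideal.span {a, b} = maximalIdeal (ArSing.ring k r) := by
  apply le_antisymm
  · rw [Ideal.span_le]
    rintro z (rfl | rfl)
    · exact mem_of_constantCoeff_bp hrm _ ha0
    · exact mem_of_constantCoeff_bp hrm _ hb0
  · obtain ⟨P, Q, rfl⟩ := ar_gen r a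
    obtain ⟨P', Q', rfl⟩ := ar_gen r b
    rw [bp_formula] at ha0 ha1 hb0 hb1 hb2
    rw [bm_formula] at hb2
    have hnle : ¬ (m + 1 ≤ 1) := by omega
    rw [map_add, map_mul, map_pow, PowerSeries.constantCoeff_X, zero_pow (Nat.succ_ne_zero m),
      mul_zero, add_zero] at ha0 hb0
    rw [map_add, PowerSeries.coeff_mul_X_pow', if_neg hnle, add_zero] at ha1 hb1
    have hc := PowerSeries.coeff_mul_X_pow Q' (m + 1) 0
    rw [zero_add] at hc
    rw [map_add, map_sub, hc] at hb2
    have hQ' : PowerSeries.constantCoeff Q' ≠ 0 := by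
      intro h0
      apply hb2
      rw [PowerSeries.coeff_zero_eq_constantCoeff_apply, h0, add_zero, sub_zero]
    obtain ⟨P₁, rfl⟩ := PowerSeries.X_dvd_iff.2 ha0
    have hP₁ : PowerSeries.constantCoeff P₁ ≠ 0 := by
      have h1 : PowerSeries.coeff 1 (PowerSeries.X * P₁) = PowerSeries.coeff 0 P₁ :=
        PowerSeries.coeff_succ_X_mul 0 P₁
      rwa [h1, PowerSeries.coeff_zero_eq_constantCoeff_apply] at ha1
    have hP'2 : (PowerSeries.X : PowerSeries k) ^ 2 ∣ P' := by
      rw [PowerSeries.X_pow_dvd_iff]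
      intro j hj
      interval_cases j
      · rw [PowerSeries.coeff_zero_eq_constantCoeff_apply, hb0]
      · exact hb1
    obtain ⟨P₂, rfl⟩ := hP'2
    obtain ⟨A, hA⟩ : ∃ A, A = ArSing.xMap k r (PowerSeries.X * P₁) +
      ArSing.xMap k r Q * ArSing.y k r := ⟨_, rfl⟩
    obtain ⟨B, hB⟩ : ∃ B, B = ArSing.xMap k r (PowerSeries.X ^ 2 * P₂) +
      ArSing.xMap k r Q' * ArSing.y k r := ⟨_, rfl⟩
    rw [← hA, ← hB]
    have hAm : A ∈ Ideal.span {A, B} := Ideal.subset_span (Set.mem_insert _ _)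
    have hBm : B ∈ Ideal.span {A, B} := Ideal.subset_span (Set.mem_insert_of_mem _ rfl)
    rw [map_mul, xMap_X] at hA
    rw [map_mul, map_pow, xMap_X] at hB
    have hD : IsUnit (ArSing.xMap k r P₁ * ArSing.xMap k r Q' -
        ArSing.xMap k r Q * (ArSing.x k r * ArSing.xMap k r P₂)) := by
      apply isUnit_of_epsA_ne_zero
      rw [map_sub, map_mul, map_mul, map_mul, epsA_xMap, epsA_xMap,
        (epsA_eq_zero_iff r _).2 (x_mem r), zero_mul, mul_zero, sub_zero]
      exact mul_ne_zero hP₁ hQ'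
    obtain ⟨D', hD'⟩ := hD.exists_left_inv
    have hx : ArSing.x k r = D' * (ArSing.xMap k r Q' * A - ArSing.xMap k r Q * B) := by
      rw [hA, hB]
      linear_combination (-ArSing.x k r) * hD'
    have hy : ArSing.y k r = D' * (ArSing.xMap k r P₁ * B -
        ArSing.x k r * ArSing.xMap k r P₂ * A) := by
      rw [hA, hB]
      linear_combination (-ArSing.y k r) * hD'
    rw [maximalIdeal_ar, Ideal.span_le]
    rintro z (rfl | rfl)
    · rw [hx]
      exact Ideal.mul_mem_left _ _ (Ideal.sub_mem _ (Ideal.mul_mem_left _ _ hAm)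
        (Ideal.mul_mem_left _ _ hBm))
    · rw [hy]
      exact Ideal.mul_mem_left _ _ (Ideal.sub_mem _ (Ideal.mul_mem_left _ _ hBm)
        (Ideal.mul_mem_left _ _ hAm))

end Groth.Agent.Lib.Helper63.ArOdd3
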