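import Mathlib
import Groth.Prelude.Def_W4c1arstab1appArSing
import Groth.Agent.Lib.Helper63.ArOdd3

/-!
# Involutions of `A_r` (`r ≥ 3` odd) preserving the two branches (helper63)
-/

set_option autoImplicit false
set_option linter.unusedSectionVars false

namespace Groth.Agent.Lib.Helper63.ArOdd4

open IsLocalRing MvPowerSeries Groth.Agent.Lib.Helper63.NodeSwap
  Groth.Agent.Lib.Helper63.ArStruct Groth.Agent.Lib.Helper63.ArFixed
  Groth.Agent.Lib.Helper63.ArNegY Groth.Agent.Lib.Helper63.ArNegX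
  Groth.Agent.Lib.Helper63.ArOdd1 Groth.Agent.Lib.Helper63.ArOdd2
  Groth.Agent.Lib.Helper63.ArOdd3 Groth.Agent.Lib.Helper63.ArEven3
  Groth.Agent.Lib.Helper63.ArEven4

universe u

variable {k : Type u} [Field k] {r m : ℕ} (hrm : r = m + m + 1)

/-- the conclusion shared by both cases -/
def Concl (σ : ArSing.ring k r ≃ₐ[k] ArSing.ring k r) : Prop :=
  ∃ (φ : ArSing.ring k r ≃ₐ[k] ArSing.ring k r) (cx cy : k),
    (cx = 1 ∨ cx = -1) ∧ (cy = 1 ∨ cy = -1) ∧ ¬ (cx = 1 ∧ cy = 1) ∧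
    φ.symm (σ (φ (ArSing.x k r))) = algebraMap k (ArSing.ring k r) cx * ArSing.x k r ∧
    φ.symm (σ (φ (ArSing.y k r))) = algebraMap k (ArSing.ring k r) cy * ArSing.y k r

theorem exists_conj (a b : ArSing.ring k r)
    (hspan : Ideal.span {a, b} = maximalIdeal (ArSing.ring k r)) (hab : b ^ 2 = a ^ (r + 1))
    (σ : ArSing.ring k r ≃ₐ[k] ArSing.ring k r) (cx cy : k)
    (hσa : σ a = algebraMap k (ArSing.ring k r) cx * a)
    (hσb : σ b = algebraMap k (ArSing.ring k r) cy * b) :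
    ∃ φ : ArSing.ring k r ≃ₐ[k] ArSing.ring k r,
      φ.symm (σ (φ (ArSing.x k r))) = algebraMap k (ArSing.ring k r) cx * ArSing.x k r ∧
      φ.symm (σ (φ (ArSing.y k r))) = algebraMap k (ArSing.ring k r) cy * ArSing.y k r := by
  obtain ⟨φ, hφx, hφy⟩ := exists_algEquiv_of_gens a b hspan hab
  refine ⟨φ, ?_, ?_⟩
  · rw [hφx, hσa, map_mul, AlgEquiv.commutes, ← hφx, AlgEquiv.symm_apply_apply]
  · rw [hφy, hσb, map_mul, AlgEquiv.commutes, ← hφy, AlgEquiv.symm_apply_apply]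

theorem coeff_one_bp_eq_bm (hm : 1 ≤ m) (a : ArSing.ring k r) :
    PowerSeries.coeff 1 (bp hrm a) = PowerSeries.coeff 1 (bm hrm a) := by
  have h := dvd_bp_sub_bm hrm a
  rw [PowerSeries.X_pow_dvd_iff] at h
  have := h 1 (by omega)
  rwa [map_sub, sub_eq_zero] at this

theorem C_bp (c : k) (a : ArSing.ring k r) :
    bp hrm (algebraMap k (ArSing.ring k r) c * a) = PowerSeries.C c * bp hrm a := by
  rw [map_mul, AlgHom.commutes, ← PowerSeries.C_eq_algebraMap]

theorem C_bm (c : k) (a : ArSing.ring k r) :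
    bm hrm (algebraMap k (ArSing.ring k r) c * a) = PowerSeries.C c * bm hrm a := by
  rw [map_mul, AlgHom.commutes, ← PowerSeries.C_eq_algebraMap]

theorem neg_one_ne_one (h2 : (2 : k) ≠ 0) : (-1 : k) ≠ 1 := by
  intro h
  apply h2
  linear_combination -h

/-- an involution of `k[[t]]` with linear coefficient `-1` negates `ψ X` -/
theorem neg_of_result (α : PowerSeries k ≃ₐ[k] PowerSeries k)
    (ψ : PowerSeries k ≃ₐ[k] PowerSeries k)
    (hψ : ∀ f, ψ.symm (α (ψ f)) = PowerSeries.rescale (-1 : k) f) :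
    α (ψ PowerSeries.X) = -ψ PowerSeries.X := by
  have := hψ PowerSeries.X
  rw [AlgEquiv.symm_apply_eq, PowerSeries.rescale_X, map_mul, PowerSeries.C_eq_algebraMap,
    AlgEquiv.commutes, ← PowerSeries.C_eq_algebraMap, map_neg, map_one, neg_one_mul] at this
  exact this

theorem eq_id_of_result (α : PowerSeries k ≃ₐ[k] PowerSeries k)
    (ψ : PowerSeries k ≃ₐ[k] PowerSeries k)
    (hψ : ∀ f, ψ.symm (α (ψ f)) = PowerSeries.rescale (1 : k) f) (h : PowerSeries k) :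
    α h = h := by
  obtain ⟨f, rfl⟩ := ψ.surjective h
  have := hψ f
  rwa [PowerSeries.rescale_one, RingHom.id_apply, AlgEquiv.symm_apply_eq] at this

include hrm in
theorem case_preserve (hm : 1 ≤ m) (h2 : (2 : k) ≠ 0)
    (σ : ArSing.ring k r ≃ₐ[k] ArSing.ring k r) (hσ : ∀ a, σ (σ a) = a) (hne : σ ≠ AlgEquiv.refl)
    (hI : bp hrm (σ (ee r m 1)) = 0 ∧ bm hrm (σ (ee r m (-1))) = 0) : Concl σ := by
  obtain ⟨αP, hαP', hαPX'⟩ := exists_factor hrm 1 1 (one_pow 2) (one_pow 2) σ hI.1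
  obtain ⟨αN, hαN', hαNX'⟩ := exists_factor hrm (-1) (-1) neg_one_sq neg_one_sq σ hI.2
  have hαP : ∀ a, bp hrm (σ a) = αP (bp hrm a) := hαP'
  have hαN : ∀ a, bm hrm (σ a) = αN (bm hrm a) := hαN'
  have hαPX : αP PowerSeries.X = bp hrm (σ (ArSing.x k r)) := hαPX'
  have hαNX : αN PowerSeries.X = bm hrm (σ (ArSing.x k r)) := hαNX'
  clear hαP' hαN' hαPX' hαNX'
  have hinvP : ∀ h, αP (αP h) = h := by
    intro h
    obtain ⟨a, rfl⟩ := bp_surjective hrm h
    rw [← hαP, ← hαP, hσ]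
  have hinvN : ∀ h, αN (αN h) = h := by
    intro h
    obtain ⟨a, rfl⟩ := bm_surjective hrm h
    rw [← hαN, ← hαN, hσ]
  obtain ⟨σP, hσP⟩ : ∃ σP : PowerSeries k ≃ₐ[k] PowerSeries k, ∀ h, σP h = αP h :=
    ⟨AlgEquiv.ofAlgHom αP αP (AlgHom.ext hinvP) (AlgHom.ext hinvP), fun _ => rfl⟩
  obtain ⟨σN, hσN⟩ : ∃ σN : PowerSeries k ≃ₐ[k] PowerSeries k, ∀ h, σN h = αN h :=
    ⟨AlgEquiv.ofAlgHom αN αN (AlgHom.ext hinvN) (AlgHom.ext hinvN), fun _ => rfl⟩
  obtain ⟨hξP, ψP, hψPX, hψP⟩ := Groth.Agent.S14080.result k h2 σP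
    (fun f => by rw [hσP, hσP, hinvP])
  obtain ⟨hξN, ψN, hψNX, hψN⟩ := Groth.Agent.S14080.result k h2 σN
    (fun f => by rw [hσN, hσN, hinvN])
  have hξeq : PowerSeries.coeff 1 (σN PowerSeries.X) = PowerSeries.coeff 1 (σP PowerSeries.X) := by
    rw [hσP, hσN, hαPX, hαNX, coeff_one_bp_eq_bm hrm hm]
  rw [hξeq] at hξN hψNX hψN
  obtain ⟨ξ, hξ⟩ : ∃ ξ, ξ = PowerSeries.coeff 1 (σP PowerSeries.X) := ⟨_, rfl⟩
  rw [← hξ] at hξP hψPX hψP hψNX hψN
  have hξ' : ξ = 1 ∨ ξ = -1 := by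
    have : (ξ - 1) * (ξ + 1) = 0 := by linear_combination hξP
    rcases mul_eq_zero.1 this with h | h
    · exact Or.inl (sub_eq_zero.1 h)
    · exact Or.inr (eq_neg_of_add_eq_zero_left h)
  rcases hξ' with h1 | h1
  · exfalso
    apply hne
    ext a
    rw [h1] at hψP hψN
    apply eq_of_branches hrm h2
    · change bp hrm (σ a) = bp hrm a
      rw [hαP, ← hσP, eq_id_of_result σP ψP hψP]
    · change bm hrm (σ a) = bm hrm a
      rw [hαN, ← hσN, eq_id_of_result σN ψN hψN]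
  · rw [h1] at hψP hψN hψPX hψNX
    obtain ⟨pP, hpP⟩ : ∃ pP, pP = ψP PowerSeries.X := ⟨_, rfl⟩
    obtain ⟨pN, hpN⟩ : ∃ pN, pN = ψN PowerSeries.X := ⟨_, rfl⟩
    have hnegP : αP pP = -pP := by
      rw [hpP, ← hσP]
      exact neg_of_result σP ψP hψP
    have hnegN : αN pN = -pN := by
      rw [hpN, ← hσN]
      exact neg_of_result σN ψN hψN
    have hpP' : pP = PowerSeries.C (2⁻¹ : k) * (PowerSeries.X - αP PowerSeries.X) := by
      rw [hpP, hψPX, hσP, map_neg, map_one, neg_one_mul, sub_eq_add_neg]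
    have hpN' : pN = PowerSeries.C (2⁻¹ : k) * (PowerSeries.X - αN PowerSeries.X) := by
      rw [hpN, hψNX, hσN, map_neg, map_one, neg_one_mul, sub_eq_add_neg]
    have hσxm : σ (ArSing.x k r) ∈ maximalIdeal (ArSing.ring k r) :=
      Groth.Agent.Lib.Helper63.ArEven2.map_mem_maximalIdeal σ _ (x_mem r)
    have hcP : PowerSeries.constantCoeff (αP PowerSeries.X) = 0 := by
      rw [hαPX]
      exact PowerSeries.X_dvd_iff.1 (X_dvd_br_of_mem hrm 1 (one_pow 2) _ hσxm)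
    have hcN : PowerSeries.constantCoeff (αN PowerSeries.X) = 0 := by
      rw [hαNX]
      exact PowerSeries.X_dvd_iff.1 (X_dvd_br_of_mem hrm (-1) neg_one_sq _ hσxm)
    have hpP0 : PowerSeries.constantCoeff pP = 0 := by
      rw [hpP', map_mul, map_sub, PowerSeries.constantCoeff_X, hcP, sub_zero, mul_zero]
    have hpN0 : PowerSeries.constantCoeff pN = 0 := by
      rw [hpN', map_mul, map_sub, PowerSeries.constantCoeff_X, hcN, sub_zero, mul_zero]
    have hξP1 : PowerSeries.coeff 1 (αP PowerSeries.X) = -1 := by rw [← hσP, ← hξ, h1]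
    have hξN1 : PowerSeries.coeff 1 (αN PowerSeries.X) = -1 := by
      rw [hαNX, ← coeff_one_bp_eq_bm hrm hm, ← hαPX, hξP1]
    have hpP1 : PowerSeries.coeff 1 pP = 1 := by
      rw [hpP', PowerSeries.coeff_C_mul, map_sub, PowerSeries.coeff_one_X, hξP1, sub_neg_eq_add,
        one_add_one_eq_two, inv_mul_cancel₀ h2]
    have hpN1 : PowerSeries.coeff 1 pN = 1 := by
      rw [hpN', PowerSeries.coeff_C_mul, map_sub, PowerSeries.coeff_one_X, hξN1, sub_neg_eq_add,
        one_add_one_eq_two, inv_mul_cancel₀ h2]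
    -- the new coordinates
    obtain ⟨x', hx'⟩ : ∃ x', x' = algebraMap k (ArSing.ring k r) (2⁻¹ : k) *
        (ArSing.x k r - σ (ArSing.x k r)) := ⟨_, rfl⟩
    have hbpx' : bp hrm x' = pP := by
      rw [hx', C_bp, map_sub, bp_x, ← hαPX, hpP']
    have hbmx' : bm hrm x' = pN := by
      rw [hx', C_bm, map_sub, bm_x, ← hαNX, hpN']
    have hXpP : (PowerSeries.X : PowerSeries k) ∣ pP := PowerSeries.X_dvd_iff.2 hpP0
    have hXpN : (PowerSeries.X : PowerSeries k) ∣ pN := PowerSeries.X_dvd_iff.2 hpN0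
    obtain ⟨y', hbpy', hbmy'⟩ := exists_of_branches hrm h2 (pP ^ (m + 1)) (-pN ^ (m + 1)) (by
      rw [sub_neg_eq_add]
      exact dvd_add (pow_dvd_pow_of_dvd hXpP _) (pow_dvd_pow_of_dvd hXpN _))
    have hr1 : r + 1 = 2 * (m + 1) := by omega
    have hab : y' ^ 2 = x' ^ (r + 1) := by
      apply eq_of_branches hrm h2
      · rw [map_pow, map_pow, hbpy', hbpx', hr1, pow_mul, pow_right_comm]
      · rw [map_pow, map_pow, hbmy', hbmx', hr1, neg_sq, pow_mul, pow_right_comm]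
    have hσx' : σ x' = algebraMap k (ArSing.ring k r) (-1 : k) * x' := by
      rw [hx', map_mul, AlgEquiv.commutes, map_sub, hσ, map_neg, map_one]
      ring
    have hσy' : σ y' = algebraMap k (ArSing.ring k r) ((-1 : k) ^ (m + 1)) * y' := by
      apply eq_of_branches hrm h2
      · rw [hαP, hbpy', map_pow, hnegP, C_bp, hbpy', neg_pow, map_pow, map_neg, map_one]
      · rw [hαN, hbmy', map_neg, map_pow, hnegN, C_bm, hbmy', neg_pow, map_pow, map_neg, map_one]
        ring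
    have hspan : Ideal.span {x', y'} = maximalIdeal (ArSing.ring k r) := by
      refine span_eq_maximalIdeal_odd hrm hm x' y' ?_ ?_ ?_ ?_ ?_
      · rw [hbpx', hpP0]
      · rw [hbpy', map_pow, hpP0, zero_pow (Nat.succ_ne_zero m)]
      · rw [hbpx', hpP1]
        exact one_ne_zero
      · rw [hbpy']
        exact coeff_one_pow pP hpP0 (m + 1) (by omega)
      · rw [hbpy', hbmy', map_neg, coeff_pow_self pP hpP0, coeff_pow_self pN hpN0, hpP1, hpN1,
          one_pow]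
        exact fun h => neg_one_ne_one h2 h.symm
    obtain ⟨φ, hφx, hφy⟩ := exists_conj x' y' hspan hab σ _ _ hσx' hσy'
    refine ⟨φ, -1, (-1) ^ (m + 1), Or.inr rfl, neg_one_pow_eq_or k (m + 1), ?_, hφx, hφy⟩
    rintro ⟨h, -⟩
    exact neg_one_ne_one h2 h

end Groth.Agent.Lib.Helper63.ArOdd4
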