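import Mathlib
import Groth.Prelude.Def_W4c1arstab1appArSing
import Groth.Agent.Lib.Helper63.ArOdd4

/-!
# Involutions of `A_r` (`r ≥ 3` odd) swapping the two branches; the classification (helper63)
-/

set_option autoImplicit false
set_option linter.unusedSectionVars false

namespace Groth.Agent.Lib.Helper63.ArOdd5

open IsLocalRing MvPowerSeries Groth.Agent.Lib.Helper63.NodeSwap
  Groth.Agent.Lib.Helper63.ArStruct Groth.Agent.Lib.Helper63.ArFixed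
  Groth.Agent.Lib.Helper63.ArNegY Groth.Agent.Lib.Helper63.ArNegX
  Groth.Agent.Lib.Helper63.ArOdd1 Groth.Agent.Lib.Helper63.ArOdd2
  Groth.Agent.Lib.Helper63.ArOdd3 Groth.Agent.Lib.Helper63.ArOdd4
  Groth.Agent.Lib.Helper63.ArEven3 Groth.Agent.Lib.Helper63.ArEven4

universe u

variable {k : Type u} [Field k] {r m : ℕ} (hrm : r = m + m + 1)

include hrm in
theorem case_swap (hm : 1 ≤ m) (h2 : (2 : k) ≠ 0)
    (σ : ArSing.ring k r ≃ₐ[k] ArSing.ring k r) (hσ : ∀ a, σ (σ a) = a)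
    (hII : bp hrm (σ (ee r m (-1))) = 0 ∧ bm hrm (σ (ee r m 1)) = 0) : Concl σ := by
  obtain ⟨α₁, hα₁', hα₁X'⟩ := exists_factor hrm 1 (-1) (one_pow 2) neg_one_sq σ hII.1
  obtain ⟨α₂, hα₂', hα₂X'⟩ := exists_factor hrm (-1) 1 neg_one_sq (one_pow 2) σ hII.2
  have hα₁ : ∀ a, bp hrm (σ a) = α₁ (bm hrm a) := hα₁'
  have hα₂ : ∀ a, bm hrm (σ a) = α₂ (bp hrm a) := hα₂'
  have hα₁X : α₁ PowerSeries.X = bp hrm (σ (ArSing.x k r)) := hα₁X'
  have hα₂X : α₂ PowerSeries.X = bm hrm (σ (ArSing.x k r)) := hα₂X'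
  clear hα₁' hα₂' hα₁X' hα₂X'
  have h12 : ∀ h, α₁ (α₂ h) = h := by
    intro h
    obtain ⟨a, rfl⟩ := bp_surjective hrm h
    rw [← hα₂, ← hα₁, hσ]
  have h21 : ∀ h, α₂ (α₁ h) = h := by
    intro h
    obtain ⟨a, rfl⟩ := bm_surjective hrm h
    rw [← hα₁, ← hα₂, hσ]
  have hσxm : σ (ArSing.x k r) ∈ maximalIdeal (ArSing.ring k r) :=
    Groth.Agent.Lib.Helper63.ArEven2.map_mem_maximalIdeal σ _ (x_mem r)
  have hX₁ : (PowerSeries.X : PowerSeries k) ∣ α₁ PowerSeries.X := by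
    rw [hα₁X]
    exact X_dvd_br_of_mem hrm 1 (one_pow 2) _ hσxm
  have hX₂ : (PowerSeries.X : PowerSeries k) ∣ α₂ PowerSeries.X := by
    rw [hα₂X]
    exact X_dvd_br_of_mem hrm (-1) neg_one_sq _ hσxm
  have hc₂ : PowerSeries.constantCoeff (α₂ PowerSeries.X) = 0 := PowerSeries.X_dvd_iff.1 hX₂
  obtain ⟨ξ, hξ⟩ : ∃ ξ, ξ = PowerSeries.coeff 1 (α₂ PowerSeries.X) := ⟨_, rfl⟩
  have hξ₁ : PowerSeries.coeff 1 (α₁ PowerSeries.X) = ξ := by
    rw [hξ, hα₁X, hα₂X, coeff_one_bp_eq_bm hrm hm]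
  have hξ2 : ξ * ξ = 1 := by
    have := coeff_one_map α₁ hX₁ (α₂ PowerSeries.X) hc₂
    rwa [h12, PowerSeries.coeff_one_X, ← hξ, hξ₁, eq_comm] at this
  have hξ' : ξ = 1 ∨ ξ = -1 := by
    have : (ξ - 1) * (ξ + 1) = 0 := by linear_combination hξ2
    rcases mul_eq_zero.1 this with h | h
    · exact Or.inl (sub_eq_zero.1 h)
    · exact Or.inr (eq_neg_of_add_eq_zero_left h)
  have hCξ : PowerSeries.C ξ * PowerSeries.C ξ = (1 : PowerSeries k) := by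
    rw [← map_mul, hξ2, map_one]
  have hC2 : PowerSeries.C (2⁻¹ : k) * 2 = 1 := by
    rw [← map_ofNat (PowerSeries.C (R := k)) 2, ← map_mul, inv_mul_cancel₀ h2, map_one]
  -- `α₂ (α₂ X) ≡ X`
  have hdvd : (PowerSeries.X : PowerSeries k) ^ (m + 1) ∣ α₂ (α₂ PowerSeries.X) - PowerSeries.X := by
    obtain ⟨d, hd⟩ := dvd_bp_sub_bm hrm (σ (ArSing.x k r))
    rw [← hα₁X, ← hα₂X] at hd
    have h3 : α₂ (α₂ PowerSeries.X) - PowerSeries.X =
        -(α₂ PowerSeries.X) ^ (m + 1) * α₂ d := by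
      have := congrArg α₂ hd
      rw [map_sub, h21, map_mul, map_pow] at this
      linear_combination -this
    rw [h3]
    exact Dvd.dvd.mul_right ((dvd_neg).2 (pow_dvd_pow_of_dvd hX₂ _)) _
  obtain ⟨p, hp⟩ : ∃ p, p = PowerSeries.C (2⁻¹ : k) *
      (PowerSeries.X + PowerSeries.C ξ * α₂ PowerSeries.X) := ⟨_, rfl⟩
  have hα₂p : α₂ p = PowerSeries.C (2⁻¹ : k) *
      (α₂ PowerSeries.X + PowerSeries.C ξ * α₂ (α₂ PowerSeries.X)) := by
    rw [hp, map_mul, map_add, map_mul, Groth.Agent.Lib.Helper63.ArOdd2.map_C, Groth.Agent.Lib.Helper63.ArOdd2.map_C]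
  have hp0 : PowerSeries.constantCoeff p = 0 := by
    rw [hp, map_mul, map_add, map_mul, PowerSeries.constantCoeff_X, hc₂, mul_zero, add_zero,
      mul_zero]
  have hp1 : PowerSeries.coeff 1 p = 1 := by
    rw [hp, PowerSeries.coeff_C_mul, map_add, PowerSeries.coeff_C_mul, PowerSeries.coeff_one_X,
      ← hξ, hξ2, one_add_one_eq_two, inv_mul_cancel₀ h2]
  have hα₂p0 : PowerSeries.constantCoeff (α₂ p) = 0 := by
    obtain ⟨w, hw⟩ := PowerSeries.X_dvd_iff.2 hp0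
    obtain ⟨g, hg⟩ := hX₂
    rw [hw, map_mul, hg, mul_assoc, map_mul, PowerSeries.constantCoeff_X, zero_mul]
  have hα₂p1 : PowerSeries.coeff 1 (α₂ p) = ξ := by
    rw [coeff_one_map α₂ hX₂ p hp0, hp1, one_mul, hξ]
  have hXp : (PowerSeries.X : PowerSeries k) ∣ p := PowerSeries.X_dvd_iff.2 hp0
  have hXα₂p : (PowerSeries.X : PowerSeries k) ∣ α₂ p := PowerSeries.X_dvd_iff.2 hα₂p0
  obtain ⟨x', hbpx', hbmx'⟩ := exists_of_branches hrm h2 p (PowerSeries.C ξ * α₂ p) (by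
    obtain ⟨d, hd⟩ := hdvd
    refine ⟨-PowerSeries.C (2⁻¹ : k) * d, ?_⟩
    rw [hα₂p, hp]
    linear_combination (-PowerSeries.C (2⁻¹ : k)) * hd +
      (-PowerSeries.C (2⁻¹ : k) * α₂ (α₂ PowerSeries.X)) * hCξ)
  obtain ⟨y', hbpy', hbmy'⟩ := exists_of_branches hrm h2 (p ^ (m + 1))
    (-(PowerSeries.C ξ * α₂ p) ^ (m + 1)) (by
      rw [sub_neg_eq_add]
      exact dvd_add (pow_dvd_pow_of_dvd hXp _)
        (pow_dvd_pow_of_dvd (Dvd.dvd.mul_left hXα₂p _) _))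
  have hr1 : r + 1 = 2 * (m + 1) := by omega
  have hab : y' ^ 2 = x' ^ (r + 1) := by
    apply eq_of_branches hrm h2
    · rw [map_pow, map_pow, hbpy', hbpx', hr1, pow_mul, pow_right_comm]
    · rw [map_pow, map_pow, hbmy', hbmx', hr1, neg_sq, pow_mul, pow_right_comm]
  have hσx' : σ x' = algebraMap k (ArSing.ring k r) ξ * x' := by
    apply eq_of_branches hrm h2
    · rw [hα₁, hbmx', map_mul, Groth.Agent.Lib.Helper63.ArOdd2.map_C, h12, C_bp, hbpx']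
    · rw [hα₂, hbpx', C_bm, hbmx', ← mul_assoc, hCξ, one_mul]
  have hCξm : PowerSeries.C (ξ ^ (m + 1)) * PowerSeries.C (ξ ^ (m + 1)) = (1 : PowerSeries k) := by
    rw [← map_mul, ← mul_pow, hξ2, one_pow, map_one]
  have hσy' : σ y' = algebraMap k (ArSing.ring k r) (-ξ ^ (m + 1)) * y' := by
    apply eq_of_branches hrm h2
    · rw [hα₁, hbmy', map_neg, map_pow, map_mul, Groth.Agent.Lib.Helper63.ArOdd2.map_C, h12, C_bp, hbpy', mul_pow, ← map_pow,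
        map_neg]
      ring
    · have e1 : (PowerSeries.C ξ * α₂ p) ^ (m + 1) =
          PowerSeries.C (ξ ^ (m + 1)) * (α₂ p) ^ (m + 1) := by rw [mul_pow, ← map_pow]
      have e2 : α₂ (p ^ (m + 1)) = (α₂ p) ^ (m + 1) := map_pow _ _ _
      rw [hα₂, hbpy', C_bm, hbmy', e1, map_neg, e2]
      linear_combination (-(α₂ p) ^ (m + 1)) * hCξm
  have hspan : Ideal.span {x', y'} = maximalIdeal (ArSing.ring k r) := by
    refine span_eq_maximalIdeal_odd hrm hm x' y' ?_ ?_ ?_ ?_ ?_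
    · rw [hbpx', hp0]
    · rw [hbpy', map_pow, hp0, zero_pow (Nat.succ_ne_zero m)]
    · rw [hbpx', hp1]
      exact one_ne_zero
    · rw [hbpy']
      exact coeff_one_pow p hp0 (m + 1) (by omega)
    · have h0 : PowerSeries.constantCoeff (PowerSeries.C ξ * α₂ p) = 0 := by
        rw [map_mul, hα₂p0, mul_zero]
      rw [hbpy', hbmy', map_neg, coeff_pow_self p hp0, coeff_pow_self _ h0, hp1,
        PowerSeries.coeff_C_mul, hα₂p1, hξ2, one_pow]
      exact fun h => neg_one_ne_one h2 h.symm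
  obtain ⟨φ, hφx, hφy⟩ := exists_conj x' y' hspan hab σ _ _ hσx' hσy'
  refine ⟨φ, ξ, -ξ ^ (m + 1), hξ', ?_, ?_, hφx, hφy⟩
  · rcases hξ' with h | h
    · right
      rw [h, one_pow]
    · rw [h]
      rcases neg_one_pow_eq_or k (m + 1) with h' | h'
      · right
        rw [h']
      · left
        rw [h', neg_neg]
  · rintro ⟨h, h'⟩
    rw [h, one_pow] at h'
    exact neg_one_ne_one h2 h'

include hrm in
theorem concl (hm : 1 ≤ m) (h2 : (2 : k) ≠ 0)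
    (σ : ArSing.ring k r ≃ₐ[k] ArSing.ring k r) (hσ : ∀ a, σ (σ a) = a) (hne : σ ≠ AlgEquiv.refl) :
    Concl σ := by
  rcases dichotomy hrm h2 σ with h | h
  · exact case_preserve hrm hm h2 σ hσ hne h
  · exact case_swap hrm hm h2 σ hσ h

theorem main (h2 : (2 : k) ≠ 0) (hodd : Odd r) (h3 : 3 ≤ r)
    (σ : ArSing.ring k r ≃ₐ[k] ArSing.ring k r) (hσ : ∀ a, σ (σ a) = a) (hne : σ ≠ AlgEquiv.refl) :
    ∃ φ : ArSing.ring k r ≃ₐ[k] ArSing.ring k r,
      (φ.symm (σ (φ (ArSing.x k r))) = ArSing.x k r ∧ φ.symm (σ (φ (ArSing.y k r))) = -ArSing.y k r) ∨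
      (φ.symm (σ (φ (ArSing.x k r))) = -ArSing.x k r ∧ φ.symm (σ (φ (ArSing.y k r))) = ArSing.y k r) ∨
      (φ.symm (σ (φ (ArSing.x k r))) = -ArSing.x k r ∧
        φ.symm (σ (φ (ArSing.y k r))) = -ArSing.y k r) := by
  obtain ⟨m, hm'⟩ := hodd
  have hrm : r = m + m + 1 := by omega
  have hm : 1 ≤ m := by omega
  obtain ⟨φ, cx, cy, hcx, hcy, hne', hx, hy⟩ := concl hrm hm h2 σ hσ hne
  refine ⟨φ, ?_⟩
  rcases hcx with rfl | rfl <;> rcases hcy with rfl | rfl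
  · exact absurd ⟨rfl, rfl⟩ hne'
  · left
    rw [hx, hy]
    exact ⟨by rw [map_one, one_mul], by rw [map_neg, map_one]; ring⟩
  · right; left
    rw [hx, hy]
    exact ⟨by rw [map_neg, map_one]; ring, by rw [map_one, one_mul]⟩
  · right; right
    rw [hx, hy]
    exact ⟨by rw [map_neg, map_one]; ring, by rw [map_neg, map_one]; ring⟩

end Groth.Agent.Lib.Helper63.ArOdd5
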