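import Mathlib

/-!
# Schematic density of `⋃ D₊(g_i)` in `Proj A`, algebraic form (helper63)
-/

set_option autoImplicit false
universe u

open HomogeneousLocalization

namespace Groth.Agent.Lib.Helper63.AwayDense

variable {A : Type u} [CommRing A] (𝒜 : ℕ → AddSubgroup A) [GradedRing 𝒜]

/-- An element of `A_(f)` dying in all `A_(f g_i)` is zero, if no nonzero element of `A` is killed by
powers of all the `g_i`. -/
theorem away_eq_zero_of_forall_awayMap {f : A} {m : ℕ} (hf : f ∈ 𝒜 m) {ι : Type*} [Finite ι]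
    (g : ι → A) (d : ι → ℕ) (hg : ∀ i, g i ∈ 𝒜 (d i))
    (hstar : ∀ b : A, (∀ i, ∃ k : ℕ, g i ^ k * b = 0) → b = 0)
    (ξ : Away 𝒜 f) (h0 : ∀ i, awayMap 𝒜 (hg i) (rfl : f * g i = f * g i) ξ = 0) : ξ = 0 := by
  classical
  cases nonempty_fintype ι
  obtain ⟨n, a, ha, rfl⟩ := Away.mk_surjective 𝒜 hf ξ
  have key : ∀ i, ∃ N : ℕ, (f * g i) ^ N * (a * g i ^ n) = 0 := by
    intro i
    have h1 := congrArg HomogeneousLocalization.val (h0 i)
    rw [awayMap_mk, Away.val_mk, val_zero, Localization.mk_eq_mk', IsLocalization.mk'_eq_zero_iff] at h1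
    obtain ⟨⟨_, N, rfl⟩, hN⟩ := h1
    exact ⟨N, hN⟩
  choose N hN using key
  have hb : f ^ (Finset.univ.sup N) * a = 0 := by
    apply hstar
    intro i
    refine ⟨N i + n, ?_⟩
    have hle : N i ≤ Finset.univ.sup N := Finset.le_sup (Finset.mem_univ i)
    have := hN i
    rw [mul_pow] at this
    calc g i ^ (N i + n) * (f ^ Finset.univ.sup N * a)
        = f ^ (Finset.univ.sup N - N i) * (f ^ N i * g i ^ N i * (a * g i ^ n)) := by
          rw [pow_add]
          conv_lhs => rw [← Nat.sub_add_cancel hle, pow_add]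
          ring
      _ = 0 := by rw [this, mul_zero]
  apply HomogeneousLocalization.val_injective
  rw [Away.val_mk, val_zero, Localization.mk_eq_mk', IsLocalization.mk'_eq_zero_iff]
  exact ⟨⟨_, Finset.univ.sup N, rfl⟩, hb⟩

end Groth.Agent.Lib.Helper63.AwayDense
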