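import Mathlib

/-!
# Surjectivity / injectivity criteria for `Away.map` (helper63)
-/

set_option autoImplicit false
universe u

open HomogeneousLocalization

namespace Groth.Agent.Lib.Helper63.AwayMapCrit

variable {A B R : Type u} [CommRing A] [CommRing B] [CommRing R]
  {σ τ : Type*} [SetLike σ A] [AddSubgroupClass σ A] [SetLike τ B] [AddSubgroupClass τ B]
  {𝒜 : ℕ → σ} {ℬ : ℕ → τ} [GradedRing 𝒜] [GradedRing ℬ]
  (ψ : 𝒜 →+*ᵍ ℬ) {n : ℕ} (s : A) (hs : s ∈ 𝒜 n) (str : R →+* B)

include hs in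
/-- `Away.map ψ s` is surjective when every degree-zero fraction is of the form `str t`, and each
`str t` is a fraction `ψ(s')/ψ(s)^m`. -/
theorem surjective_of
    (hγ : ∀ x : Away ℬ (ψ s), ∃ t : R, x.val = algebraMap B (Localization (Submonoid.powers (ψ s))) (str t))
    (H : ∀ t : R, ∃ (m : ℕ) (_ : 0 < m) (s' : A) (_ : s' ∈ 𝒜 (m * n)), str t * (ψ s) ^ m = ψ s') :
    Function.Surjective (Away.map ψ s) := by
  intro x
  obtain ⟨t, ht⟩ := hγ x
  obtain ⟨m, -, s', hs', e⟩ := H t
  have hs'' : s' ∈ 𝒜 (m • n) := by rwa [smul_eq_mul]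
  refine ⟨Away.mk 𝒜 hs m s' hs'', ?_⟩
  apply HomogeneousLocalization.val_injective
  rw [Away.map_mk, Away.val_mk, ht, ← Localization.mk_one_eq_algebraMap, Localization.mk_eq_mk_iff,
    Localization.r_iff_exists]
  refine ⟨1, ?_⟩
  simp only [OneMemClass.coe_one, one_mul]
  rw [← e, mul_comm]

include hs in
/-- Conversely, surjectivity of `Away.map ψ s` expresses each `str t` as a fraction. -/
theorem of_surjective (hstr : ∀ t, str t ∈ ℬ 0) (hsurj : Function.Surjective (Away.map ψ s)) (t : R) :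
    ∃ (m : ℕ) (_ : 0 < m) (s' : A) (_ : s' ∈ 𝒜 (m * n)), str t * (ψ s) ^ m = ψ s' := by
  obtain ⟨y, hy⟩ := hsurj (fromZeroRingHom ℬ (Submonoid.powers (ψ s)) ⟨str t, hstr t⟩)
  obtain ⟨m, s', hs', rfl⟩ := Away.mk_surjective 𝒜 hs y
  have h1 := congrArg HomogeneousLocalization.val hy
  rw [Away.map_mk, Away.val_mk] at h1
  change _ = Localization.mk (str t) 1 at h1
  rw [Localization.mk_eq_mk_iff, Localization.r_iff_exists] at h1
  obtain ⟨⟨_, N, rfl⟩, hN⟩ := h1
  simp only [OneMemClass.coe_one, one_mul] at hN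
  refine ⟨N + 1 + m, by omega, s ^ (N + 1) * s', ?_, ?_⟩
  · have h2 : s ^ (N + 1) ∈ 𝒜 ((N + 1) • n) := SetLike.pow_mem_graded _ hs
    have h3 := SetLike.mul_mem_graded h2 hs'
    have e : (N + 1) • n + m • n = (N + 1 + m) * n := by simp only [smul_eq_mul]; ring
    rwa [e] at h3
  · rw [map_mul, map_pow, pow_succ, mul_assoc, mul_comm (ψ s) (ψ s'), ← mul_assoc, hN]
    ring

include hs in
/-- `Away.map ψ s` is injective iff sections killed by `ψ` are killed by a power of `s`. -/
theorem injective_iff :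
    Function.Injective (Away.map ψ s) ↔
      ∀ (m : ℕ), 0 < m → ∀ s' ∈ 𝒜 (m * n), ψ s' = 0 → ∃ (k : ℕ), 0 < k ∧ s ^ k * s' = 0 := by
  constructor
  · intro hinj m _ s' hs' h0
    have hs'' : s' ∈ 𝒜 (m • n) := by rwa [smul_eq_mul]
    have h1 : Away.map ψ s (Away.mk 𝒜 hs m s' hs'') = 0 := by
      apply HomogeneousLocalization.val_injective
      rw [Away.map_mk, Away.val_mk, h0, HomogeneousLocalization.val_zero, Localization.mk_zero]
    have h2 : Away.mk 𝒜 hs m s' hs'' = 0 := hinj (h1.trans (map_zero _).symm)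
    have h3 := congrArg HomogeneousLocalization.val h2
    rw [Away.val_mk, HomogeneousLocalization.val_zero, ← Localization.mk_zero (1 : Submonoid.powers s),
      Localization.mk_eq_mk_iff, Localization.r_iff_exists] at h3
    obtain ⟨⟨_, k, rfl⟩, hk⟩ := h3
    simp only [OneMemClass.coe_one, one_mul, mul_zero] at hk
    refine ⟨k + 1, by omega, ?_⟩
    rw [pow_succ, mul_assoc, mul_comm s s', ← mul_assoc, hk, zero_mul]
  · intro H
    rw [injective_iff_map_eq_zero]
    intro y hy
    obtain ⟨m, s', hs', rfl⟩ := Away.mk_surjective 𝒜 hs y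
    have h1 := congrArg HomogeneousLocalization.val hy
    rw [Away.map_mk, Away.val_mk, HomogeneousLocalization.val_zero,
      ← Localization.mk_zero (1 : Submonoid.powers (ψ s)), Localization.mk_eq_mk_iff,
      Localization.r_iff_exists] at h1
    obtain ⟨⟨_, N, rfl⟩, hN⟩ := h1
    simp only [OneMemClass.coe_one, one_mul, mul_zero] at hN
    have h2 : s ^ (N + 1) * s' ∈ 𝒜 ((N + 1 + m) * n) := by
      have h2 : s ^ (N + 1) ∈ 𝒜 ((N + 1) • n) := SetLike.pow_mem_graded _ hs
      have h3 := SetLike.mul_mem_graded h2 hs'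
      have e : (N + 1) • n + m • n = (N + 1 + m) * n := by simp only [smul_eq_mul]; ring
      rwa [e] at h3
    have h3 : ψ (s ^ (N + 1) * s') = 0 := by
      rw [map_mul, map_pow, pow_succ, mul_assoc, mul_comm (ψ s) (ψ s'), ← mul_assoc, hN, zero_mul]
    obtain ⟨k, -, hk⟩ := H (N + 1 + m) (by omega) _ h2 h3
    apply HomogeneousLocalization.val_injective
    rw [Away.val_mk, HomogeneousLocalization.val_zero, ← Localization.mk_zero (1 : Submonoid.powers s),
      Localization.mk_eq_mk_iff, Localization.r_iff_exists]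
    refine ⟨⟨s ^ (k + (N + 1)), _, rfl⟩, ?_⟩
    simp only [OneMemClass.coe_one, one_mul, mul_zero]
    rw [pow_add, mul_assoc, hk]

end Groth.Agent.Lib.Helper63.AwayMapCrit
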