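import Mathlib
import Groth.Agent.Lib.Helper42.RelTwistFrac
import Groth.Agent.Lib.Helper42.GrQCohA

/-!
# Functions on standard opens of a relative Proj attached to degree-zero fractions (helper63)

For `b ∈ 𝒮(U)_d`, `d > 0`, and `x ∈ 𝒮(U)_(b)`: the function `Fsec x` on `emb(D₊(b)) ⊆ P`; it corresponds to `x` on
the standard affine chart `Spec 𝒮(U)_(b) ⟶ P` and reads `x` valuewise.
-/

set_option autoImplicit false
universe u
open CategoryTheory CategoryTheory.Limits AlgebraicGeometry Opposite TopologicalSpace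
open HomogeneousLocalization
open scoped HomogeneousIdeal
noncomputable section

namespace Groth.Agent.Lib.Helper63.AwaySection

open Groth.Agent.Lib.Helper45 Groth.Agent.Lib.Helper49 Groth.Agent.Lib.Helper42
  Groth.Agent.Lib.Helper42.RelTilde Groth.Agent.Lib.Helper42.RelTwistBasis

section general
variable {A σ : Type u} [CommRing A] [SetLike σ A] [AddSubgroupClass σ A] (𝒜 : ℕ → σ) [GradedRing 𝒜]
  {f : A} {d : ℕ} (hf : f ∈ 𝒜 d) (hd : 0 < d)

theorem awayι_preimage_basicOpen_self :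
    Proj.awayι 𝒜 f hf hd ⁻¹ᵁ Proj.basicOpen 𝒜 f = ⊤ := by
  rw [← Proj.opensRange_awayι 𝒜 f hf hd]
  exact Scheme.Hom.preimage_opensRange _

/-- on `D₊(f)`, the open immersion `awayι` is inverse to `awayToSection`. -/
theorem awayToSection_comp_awayι_appLE :
    Proj.awayToSection 𝒜 f ≫ (Proj.awayι 𝒜 f hf hd).appLE (Proj.basicOpen 𝒜 f) ⊤
      (awayι_preimage_basicOpen_self 𝒜 hf hd).ge = (Scheme.ΓSpecIso _).inv := by
  have hιU : (Proj.basicOpenIsoSpec 𝒜 f hf hd).hom ≫ Proj.awayι 𝒜 f hf hd =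
      (Proj.basicOpen 𝒜 f).ι := by
    rw [← Proj.basicOpenIsoSpec_inv_ι, Iso.hom_inv_id_assoc]
  have e₀ : (⊤ : (Proj.basicOpen 𝒜 f).toScheme.Opens) ≤
      (Proj.basicOpen 𝒜 f).ι ⁻¹ᵁ Proj.basicOpen 𝒜 f := by
    rw [Scheme.Opens.ι_preimage_self]
  have h1 : (Proj.awayι 𝒜 f hf hd).appLE (Proj.basicOpen 𝒜 f) ⊤
        (awayι_preimage_basicOpen_self 𝒜 hf hd).ge ≫
      (Proj.basicOpenIsoSpec 𝒜 f hf hd).hom.appLE ⊤ ⊤ le_top =
      (Proj.basicOpen 𝒜 f).ι.appLE (Proj.basicOpen 𝒜 f) ⊤ e₀ := by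
    rw [Scheme.Hom.appLE_comp_appLE]
    simp only [hιU]
  have h2 : (Proj.basicOpenIsoSpec 𝒜 f hf hd).hom.appLE ⊤ ⊤ le_top =
      (Scheme.ΓSpecIso _).hom ≫ Proj.awayToSection 𝒜 f ≫ (Proj.basicOpen 𝒜 f).topIso.inv := by
    rw [← Proj.basicOpenToSpec_app_top, ← Proj.basicOpenIsoSpec_hom 𝒜 f hf hd]
    simp only [Scheme.Hom.appLE]
    exact Category.comp_id _
  have h3 : (Proj.basicOpen 𝒜 f).ι.appLE (Proj.basicOpen 𝒜 f) ⊤ e₀ =
      (Proj.basicOpen 𝒜 f).topIso.inv := by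
    rw [Scheme.Opens.ι_appLE, Scheme.Opens.topIso_inv]
    rfl
  rw [h2, h3] at h1
  have hiso : IsIso (Proj.awayToSection 𝒜 f) :=
    (Proj.basicOpenIsoAway 𝒜 f hf hd).isIso_hom
  have h4 : (Proj.awayι 𝒜 f hf hd).appLE (Proj.basicOpen 𝒜 f) ⊤
        (awayι_preimage_basicOpen_self 𝒜 hf hd).ge ≫
      (Scheme.ΓSpecIso _).hom ≫ Proj.awayToSection 𝒜 f = 𝟙 _ := by
    rw [← cancel_mono (Proj.basicOpen 𝒜 f).topIso.inv]
    simpa only [Category.assoc, Category.id_comp] using h1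
  rw [← cancel_mono (Scheme.ΓSpecIso _).hom, Category.assoc, Iso.inv_hom_id,
    ← cancel_mono (Proj.awayToSection 𝒜 f), Category.assoc, Category.assoc, h4]
  simp

theorem awayι_appLE_awayToSection (x : Away 𝒜 f) :
    ((Proj.awayι 𝒜 f hf hd).appLE (Proj.basicOpen 𝒜 f) ⊤
      (awayι_preimage_basicOpen_self 𝒜 hf hd).ge).hom ((Proj.awayToSection 𝒜 f).hom x) =
      (Scheme.ΓSpecIso (CommRingCat.of (Away 𝒜 f))).inv.hom x :=
  congrArg (fun φ => φ.hom x) (awayToSection_comp_awayι_appLE 𝒜 hf hd)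

end general

section inj

/-- for an open immersion `j` whose range contains `V`, `Γ(Y, V) → Γ(X, ⊤)` is injective -/
theorem appLE_top_injective {X Y : Scheme.{u}} (j : X ⟶ Y) [IsOpenImmersion j] (V : Y.Opens)
    (hV : V ≤ j.opensRange) (hle : (⊤ : X.Opens) ≤ j ⁻¹ᵁ V) :
    Function.Injective (j.appLE V ⊤ hle).hom := by
  have h1 : IsIso (j.app V) := Scheme.Hom.isIso_app j V hV
  have h2 : IsIso (homOfLE hle) := ⟨⟨homOfLE le_top, rfl, rfl⟩⟩
  have h3 : IsIso (j.appLE V ⊤ hle) := by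
    unfold Scheme.Hom.appLE
    infer_instance
  exact (ConcreteCategory.bijective_of_isIso (j.appLE V ⊤ hle)).injective

end inj

section rel
variable {Y P : Scheme.{u}} {𝒮 : RelProj.QCGrAlg Y} {p : P ⟶ Y}
  {chart : ∀ (U : Y.Opens) (hU : IsAffineOpen U), (((p ⁻¹ᵁ U : P.Opens) : Scheme.{u}) ≅ Proj (𝒮.deg U hU))}

/-- the open `emb(D₊(b))` of `P` -/
def VD (p : P ⟶ Y) (chart : ∀ (U : Y.Opens) (hU : IsAffineOpen U),
    (((p ⁻¹ᵁ U : P.Opens) : Scheme.{u}) ≅ Proj (𝒮.deg U hU)))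
    (U : Y.Opens) (hU : IsAffineOpen U) (b : 𝒮.presheaf.obj (op U)) : P.Opens :=
  (RelProj.emb p chart U hU) ''ᵁ (Proj.basicOpen (𝒮.deg U hU) b)

theorem VD_le (U : Y.Opens) (hU : IsAffineOpen U) (b : 𝒮.presheaf.obj (op U)) :
    VD p chart U hU b ≤ p ⁻¹ᵁ U := by
  rw [← RelTilde.opensRange_emb (chart := chart) U hU]
  rintro _ ⟨z, -, rfl⟩
  exact ⟨z, rfl⟩

theorem emb_mem_VD_iff (U : Y.Opens) (hU : IsAffineOpen U) (b : 𝒮.presheaf.obj (op U))
    (y : ProjectiveSpectrum (𝒮.deg U hU)) :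
    (RelProj.emb p chart U hU).base y ∈ VD p chart U hU b ↔ b ∉ y.asHomogeneousIdeal := by
  constructor
  · rintro ⟨z', hz', e⟩
    have : z' = y := (RelProj.emb p chart U hU).isOpenEmbedding.injective e
    subst this
    exact (ProjectiveSpectrum.mem_basicOpen _ _ _).mp hz'
  · intro hb
    exact ⟨y, (ProjectiveSpectrum.mem_basicOpen _ _ _).mpr hb, rfl⟩

/-- the function on `emb(D₊(b))` attached to `x ∈ 𝒮(U)_(b)` -/
def Fsec (U : Y.Opens) (hU : IsAffineOpen U) (b : 𝒮.presheaf.obj (op U)) (x : Away (𝒮.deg U hU) b) :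
    Γ(P, VD p chart U hU b) :=
  ((RelProj.emb p chart U hU).appIso (Proj.basicOpen (𝒮.deg U hU) b)).inv.hom
    ((Proj.awayToSection (𝒮.deg U hU) b).hom x)

/-- the function `c` on `W` reads the fraction `a / b` on the chart over `U` -/
def FReads (chart : ∀ (U : Y.Opens) (hU : IsAffineOpen U),
    (((p ⁻¹ᵁ U : P.Opens) : Scheme.{u}) ≅ Proj (𝒮.deg U hU)))
    (U : Y.Opens) (hU : IsAffineOpen U) (W : P.Opens) (c : Γ(P, W)) (a b : 𝒮.presheaf.obj (op U)) : Prop :=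
  ∀ (y : ProjectiveSpectrum (𝒮.deg U hU)) (hy : (RelProj.emb p chart U hU).base y ∈ W)
    (hb : b ∉ y.asHomogeneousIdeal),
    ((toOc (chart := chart) U hU W c).1 ⟨y, hy⟩).val =
      Localization.mk a (⟨b, hb⟩ : y.asHomogeneousIdeal.toIdeal.primeCompl)

theorem toOc_fres (U : Y.Opens) (hU : IsAffineOpen U) {W W' : P.Opens} (hW : W' ≤ W) (c : Γ(P, W))
    (y : ProjectiveSpectrum (𝒮.deg U hU)) (hy : (RelProj.emb p chart U hU).base y ∈ W') :
    (toOc (chart := chart) U hU W' (fres hW c)).1 ⟨y, hy⟩ =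
      (toOc (chart := chart) U hU W c).1 ⟨y, hW hy⟩ := by
  have h1 := (RelProj.emb p chart U hU).naturality (homOfLE hW).op
  have h2 := congrArg (fun φ => φ.hom c) h1
  change (((RelProj.emb p chart U hU).app W').hom ((P.presheaf.map (homOfLE hW).op).hom c)).1 ⟨y, hy⟩ = _
  have h3 : ((RelProj.emb p chart U hU).app W').hom ((P.presheaf.map (homOfLE hW).op).hom c) = _ := h2
  rw [h3]
  rfl

theorem FReads.fres {U : Y.Opens} {hU : IsAffineOpen U} {W W' : P.Opens} {c : Γ(P, W)}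
    {a b : 𝒮.presheaf.obj (op U)} (h : FReads chart U hU W c a b) (hW : W' ≤ W) :
    FReads chart U hU W' (fres hW c) a b := by
  intro y hy hb
  rw [toOc_fres]
  exact h y (hW hy) hb

theorem FReads.unique {U : Y.Opens} {hU : IsAffineOpen U} {W : P.Opens} (hW : W ≤ p ⁻¹ᵁ U) {c c' : Γ(P, W)}
    {a b : 𝒮.presheaf.obj (op U)}
    (hb : ∀ y : ProjectiveSpectrum (𝒮.deg U hU), (RelProj.emb p chart U hU).base y ∈ W → b ∉ y.asHomogeneousIdeal)
    (h : FReads chart U hU W c a b) (h' : FReads chart U hU W c' a b) : c = c' := by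
  apply (toOc_bijective (chart := chart) U hU W hW).injective
  apply Subtype.ext
  funext y
  apply HomogeneousLocalization.val_injective
  exact (h y.1 y.2 (hb y.1 y.2)).trans (h' y.1 y.2 (hb y.1 y.2)).symm

theorem Fsec_reads (U : Y.Opens) (hU : IsAffineOpen U) {b : 𝒮.presheaf.obj (op U)} {d : ℕ}
    (hb : b ∈ 𝒮.deg U hU d) (k : ℕ) (a : 𝒮.presheaf.obj (op U)) (ha : a ∈ 𝒮.deg U hU (k • d)) :
    FReads chart U hU (VD p chart U hU b) (Fsec U hU b (Away.mk (𝒮.deg U hU) hb k a ha)) a (b ^ k) := by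
  intro y hy hbk
  have hby : b ∉ y.asHomogeneousIdeal := (emb_mem_VD_iff U hU b y).mp hy
  have h1 := Scheme.Hom.appIso_inv_app (RelProj.emb p chart U hU) (Proj.basicOpen (𝒮.deg U hU) b)
  have h2 := congrArg (fun φ => φ.hom ((Proj.awayToSection (𝒮.deg U hU) b).hom
    (Away.mk (𝒮.deg U hU) hb k a ha))) h1
  have h3 : toOc (chart := chart) U hU (VD p chart U hU b) (Fsec U hU b (Away.mk (𝒮.deg U hU) hb k a ha)) =
      ((Proj (𝒮.deg U hU)).presheaf.map (eqToHom (Scheme.Hom.preimage_image_eq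
        (RelProj.emb p chart U hU) (Proj.basicOpen (𝒮.deg U hU) b))).op).hom
        ((Proj.awayToSection (𝒮.deg U hU) b).hom (Away.mk (𝒮.deg U hU) hb k a ha)) := h2
  rw [h3]
  exact GrQCohA.val_awayToSection_mk (𝒮.deg U hU) hb k a ha y hby

theorem tgt_preimage_VD (U : Y.Opens) (hU : IsAffineOpen U) {b : 𝒮.presheaf.obj (op U)} {d : ℕ}
    (hb : b ∈ 𝒮.deg U hU d) (hd : 0 < d) :
    (⊤ : (Spec (CommRingCat.of (Away (𝒮.deg U hU) b))).Opens) ≤
      (Proj.awayι (𝒮.deg U hU) b hb hd ≫ RelProj.emb p chart U hU) ⁻¹ᵁ VD p chart U hU b := by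
  intro q _
  exact ⟨_, (Proj.opensRange_awayι (𝒮.deg U hU) b hb hd).le ⟨q, rfl⟩, rfl⟩

theorem VD_le_opensRange (U : Y.Opens) (hU : IsAffineOpen U) {b : 𝒮.presheaf.obj (op U)} {d : ℕ}
    (hb : b ∈ 𝒮.deg U hU d) (hd : 0 < d) :
    VD p chart U hU b ≤ (Proj.awayι (𝒮.deg U hU) b hb hd ≫ RelProj.emb p chart U hU).opensRange := by
  rintro _ ⟨z, hz, rfl⟩
  rw [← Proj.opensRange_awayι (𝒮.deg U hU) b hb hd] at hz
  obtain ⟨q, rfl⟩ := hz
  exact ⟨q, rfl⟩

/-- on the standard affine chart, `Fsec x` is `x` -/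
theorem Fsec_tgt (U : Y.Opens) (hU : IsAffineOpen U) {b : 𝒮.presheaf.obj (op U)} {d : ℕ}
    (hb : b ∈ 𝒮.deg U hU d) (hd : 0 < d) (x : Away (𝒮.deg U hU) b) :
    ((Proj.awayι (𝒮.deg U hU) b hb hd ≫ RelProj.emb p chart U hU).appLE (VD p chart U hU b) ⊤
      (tgt_preimage_VD U hU hb hd)).hom (Fsec U hU b x) =
      (Scheme.ΓSpecIso (CommRingCat.of (Away (𝒮.deg U hU) b))).inv.hom x := by
  have h1 : (RelProj.emb p chart U hU).appLE (VD p chart U hU b) (Proj.basicOpen (𝒮.deg U hU) b)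
        (Scheme.Hom.preimage_image_eq _ _).ge ≫
      (Proj.awayι (𝒮.deg U hU) b hb hd).appLE (Proj.basicOpen (𝒮.deg U hU) b) ⊤
        (awayι_preimage_basicOpen_self (𝒮.deg U hU) hb hd).ge =
      (Proj.awayι (𝒮.deg U hU) b hb hd ≫ RelProj.emb p chart U hU).appLE (VD p chart U hU b) ⊤
        (tgt_preimage_VD U hU hb hd) := Scheme.Hom.appLE_comp_appLE _ _ _ _ _ _ _
  rw [← h1]
  have h2 := Scheme.Hom.appIso_inv_appLE (RelProj.emb p chart U hU)
    (U := Proj.basicOpen (𝒮.deg U hU) b) (V := Proj.basicOpen (𝒮.deg U hU) b)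
    (Scheme.Hom.preimage_image_eq _ _).ge
  have h3 := congrArg (fun φ => φ.hom ((Proj.awayToSection (𝒮.deg U hU) b).hom x)) h2
  have h4 : ((RelProj.emb p chart U hU).appLE (VD p chart U hU b) (Proj.basicOpen (𝒮.deg U hU) b)
        (Scheme.Hom.preimage_image_eq _ _).ge).hom (Fsec U hU b x) =
      (Proj.awayToSection (𝒮.deg U hU) b).hom x := by
    refine Eq.trans h3 ?_
    change ((Proj (𝒮.deg U hU)).presheaf.map (𝟙 _)).hom _ = _
    rw [(Proj (𝒮.deg U hU)).presheaf.map_id]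
    rfl
  change ((Proj.awayι (𝒮.deg U hU) b hb hd).appLE (Proj.basicOpen (𝒮.deg U hU) b) ⊤ _).hom
    (((RelProj.emb p chart U hU).appLE (VD p chart U hU b) (Proj.basicOpen (𝒮.deg U hU) b) _).hom
      (Fsec U hU b x)) = _
  rw [h4]
  exact awayι_appLE_awayToSection (𝒮.deg U hU) hb hd x

/-- a function reading `a / b^k` on an open of `emb(D₊(b))` is the restriction of `Fsec` -/
theorem eq_fres_Fsec (U : Y.Opens) (hU : IsAffineOpen U) {b : 𝒮.presheaf.obj (op U)} {d : ℕ}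
    (hb : b ∈ 𝒮.deg U hU d) (k : ℕ) (a : 𝒮.presheaf.obj (op U)) (ha : a ∈ 𝒮.deg U hU (k • d))
    {W : P.Opens} (hW : W ≤ VD p chart U hU b) (c : Γ(P, W)) (hc : FReads chart U hU W c a (b ^ k)) :
    c = fres hW (Fsec U hU b (Away.mk (𝒮.deg U hU) hb k a ha)) := by
  refine FReads.unique (hW.trans (VD_le U hU b)) ?_ hc ((Fsec_reads U hU hb k a ha).fres hW)
  intro y hy hmem
  exact (emb_mem_VD_iff U hU b y).mp (hW hy) (y.isPrime.mem_of_pow_mem k hmem)

end rel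

end Groth.Agent.Lib.Helper63.AwaySection
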