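import Mathlib

set_option autoImplicit false
universe v u
open CategoryTheory CategoryTheory.Limits

namespace Groth.Agent.Lib.Helper63.NoethObj

variable {C : Type u} [Category.{v} C] [Abelian C]

/-- a morphism `t` into `Y` factors through a subobject `S` if it does so after an epi. -/
lemma factors_of_epi_comp {W W' Y : C} (π : W' ⟶ W) [Epi π] (t : W ⟶ Y) (S : Subobject Y)
    (h : S.Factors (π ≫ t)) : S.Factors t := by
  -- t ≫ cokernel.π S.arrow = 0
  have h0 : t ≫ cokernel.π S.arrow = 0 := by
    rw [← cancel_epi π, comp_zero, ← Category.assoc, ← S.factorThru_arrow _ h, Category.assoc,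
      cokernel.condition, comp_zero]
  -- S.arrow is the kernel of its cokernel
  have hk : IsLimit (KernelFork.ofι S.arrow (cokernel.condition S.arrow)) :=
    Abelian.monoIsKernelOfCokernel _ (colimit.isColimit _)
  have := hk.fac (KernelFork.ofι t h0) WalkingParallelPair.zero
  dsimp at this
  rw [← this]
  exact Subobject.factors_comp_arrow _

lemma le_of_pullback_le_of_epi {X Y : C} (p : X ⟶ Y) [Epi p] (S T : Subobject Y)
    (h : (Subobject.pullback p).obj T ≤ (Subobject.pullback p).obj S) : T ≤ S := by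
  have sqT := Subobject.isPullback p T
  have sqS := Subobject.isPullback p S
  have : Epi (Subobject.pullbackπ p T) :=
    Abelian.epi_fst_of_isLimit _ _ sqT.isLimit
  apply Subobject.le_of_comm (S.factorThru T.arrow ?_) (S.factorThru_arrow _ _)
  apply factors_of_epi_comp (Subobject.pullbackπ p T)
  have : (Subobject.ofLE _ _ h ≫ Subobject.pullbackπ p S) ≫ S.arrow =
      Subobject.pullbackπ p T ≫ T.arrow := by
    rw [Category.assoc, sqS.w, ← Category.assoc, Subobject.ofLE_arrow, sqT.w]
  rw [← this]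
  exact Subobject.factors_comp_arrow _

lemma isNoetherianObject_of_epi {X Y : C} (p : X ⟶ Y) [Epi p] [IsNoetherianObject X] :
    IsNoetherianObject Y := by
  rw [isNoetherianObject_iff_not_strictMono]
  intro f hf
  refine not_strictMono_of_isNoetherianObject (fun n => (Subobject.pullback p).obj (f n)) ?_
  apply strictMono_nat_of_lt_succ
  intro n
  have h1 : f n < f (n + 1) := hf (Nat.lt_succ_self n)
  refine lt_of_le_not_ge ((Subobject.pullback p).monotone h1.le) ?_
  intro h2
  exact (not_le_of_gt h1) (le_of_pullback_le_of_epi p _ _ h2)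

lemma imageSubobject_comp_mono {Z Y : C} (p : Z ⟶ Y) {S T : Subobject Z} (h : S ≤ T) :
    imageSubobject (S.arrow ≫ p) ≤ imageSubobject (T.arrow ≫ p) := by
  refine imageSubobject_le _ (Subobject.ofLE _ _ h ≫ factorThruImageSubobject (T.arrow ≫ p)) ?_
  rw [Category.assoc, imageSubobject_arrow_comp, ← Category.assoc, Subobject.ofLE_arrow]

lemma le_of_biprod_aux {X Y : C} (S T : Subobject (X ⊞ Y)) (hST : S ≤ T)
    (h1 : (Subobject.pullback (biprod.inl : X ⟶ X ⊞ Y)).obj T ≤
      (Subobject.pullback (biprod.inl : X ⟶ X ⊞ Y)).obj S)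
    (h2 : imageSubobject (T.arrow ≫ (biprod.snd : X ⊞ Y ⟶ Y)) ≤
      imageSubobject (S.arrow ≫ (biprod.snd : X ⊞ Y ⟶ Y))) : T ≤ S := by
  suffices hfac : S.Factors T.arrow from
    Subobject.le_of_comm (S.factorThru T.arrow hfac) (S.factorThru_arrow _ _)
  -- Step 1
  let IS := imageSubobject (S.arrow ≫ (biprod.snd : X ⊞ Y ⟶ Y))
  let eS : (S : C) ⟶ (IS : C) := factorThruImageSubobject (S.arrow ≫ (biprod.snd : X ⊞ Y ⟶ Y))
  let u : (T : C) ⟶ (IS : C) :=
    factorThruImageSubobject (T.arrow ≫ (biprod.snd : X ⊞ Y ⟶ Y)) ≫ Subobject.ofLE _ _ h2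
  have hu : u ≫ IS.arrow = T.arrow ≫ biprod.snd := by
    simp only [u, IS, Category.assoc, Subobject.ofLE_arrow, imageSubobject_arrow_comp]
  let W := pullback u eS
  let π : W ⟶ (T : C) := pullback.fst u eS
  let s₁ : W ⟶ (S : C) := pullback.snd u eS
  haveI : Epi π := by
    dsimp only [π]
    infer_instance
  have hπ : π ≫ T.arrow ≫ biprod.snd = s₁ ≫ S.arrow ≫ biprod.snd := by
    rw [← hu, ← Category.assoc, pullback.condition, Category.assoc]
    congr 1
    exact imageSubobject_arrow_comp _
  -- Step 2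
  let τ : W ⟶ (T : C) := π - s₁ ≫ Subobject.ofLE _ _ hST
  let d' : W ⟶ X := (π ≫ T.arrow - s₁ ≫ S.arrow) ≫ biprod.fst
  have hd : d' ≫ biprod.inl = π ≫ T.arrow - s₁ ≫ S.arrow := by
    have h0 : (π ≫ T.arrow - s₁ ≫ S.arrow) ≫ (biprod.snd : X ⊞ Y ⟶ Y) = 0 := by
      rw [Preadditive.sub_comp, Category.assoc, Category.assoc, hπ, sub_self]
    have := biprod.total (X := X) (Y := Y)
    calc d' ≫ biprod.inl = (π ≫ T.arrow - s₁ ≫ S.arrow) ≫ (biprod.fst ≫ biprod.inl) := by
          simp only [d', Category.assoc]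
      _ = (π ≫ T.arrow - s₁ ≫ S.arrow) ≫ (biprod.fst ≫ biprod.inl + biprod.snd ≫ biprod.inr) := by
          rw [Preadditive.comp_add, ← Category.assoc _ biprod.snd, h0, zero_comp, add_zero]
      _ = _ := by rw [this, Category.comp_id]
  have hτ : τ ≫ T.arrow = d' ≫ biprod.inl := by
    rw [hd]
    simp only [τ, Preadditive.sub_comp, Category.assoc, Subobject.ofLE_arrow]
  have sqT := Subobject.isPullback (biprod.inl : X ⟶ X ⊞ Y) T
  have sqS := Subobject.isPullback (biprod.inl : X ⟶ X ⊞ Y) S
  let ℓ := sqT.lift τ d' hτ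
  let s₂ : W ⟶ (S : C) := ℓ ≫ Subobject.ofLE _ _ h1 ≫ Subobject.pullbackπ _ S
  have hs₂ : s₂ ≫ S.arrow = π ≫ T.arrow - s₁ ≫ S.arrow := by
    rw [← hd]
    simp only [s₂, Category.assoc]
    rw [sqS.w, ← Category.assoc (Subobject.ofLE _ _ h1), Subobject.ofLE_arrow, ← Category.assoc,
      sqT.lift_snd]
  -- Step 3
  apply factors_of_epi_comp π
  have : (s₂ + s₁) ≫ S.arrow = π ≫ T.arrow := by
    rw [Preadditive.add_comp, hs₂, sub_add_cancel]
  rw [← this]
  exact Subobject.factors_comp_arrow _

lemma isNoetherianObject_biprod (X Y : C) [IsNoetherianObject X] [IsNoetherianObject Y] :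
    IsNoetherianObject (X ⊞ Y) := by
  rw [isNoetherianObject_iff_monotone_chain_condition]
  intro f
  obtain ⟨n1, hn1⟩ := monotone_chain_condition_of_isNoetherianObject
    ⟨fun n => (Subobject.pullback (biprod.inl : X ⟶ X ⊞ Y)).obj (f n),
      fun a b hab => (Subobject.pullback _).monotone (f.monotone hab)⟩
  obtain ⟨n2, hn2⟩ := monotone_chain_condition_of_isNoetherianObject
    ⟨fun n => imageSubobject ((f n).arrow ≫ (biprod.snd : X ⊞ Y ⟶ Y)),
      fun a b hab => imageSubobject_comp_mono _ (f.monotone hab)⟩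
  refine ⟨max n1 n2, fun m hm => ?_⟩
  have hle : f (max n1 n2) ≤ f m := f.monotone hm
  refine le_antisymm hle (le_of_biprod_aux _ _ hle ?_ ?_)
  · have e1 := hn1 (max n1 n2) (le_max_left _ _)
    have e2 := hn1 m (le_trans (le_max_left _ _) hm)
    exact e2.symm.trans e1 |>.le
  · have e1 := hn2 (max n1 n2) (le_max_right _ _)
    have e2 := hn2 m (le_trans (le_max_right _ _) hm)
    exact e2.symm.trans e1 |>.le

lemma isNoetherianObject_imageSubobject {Z W : C} (h : W ⟶ Z) [IsNoetherianObject W] :
    IsNoetherianObject (imageSubobject h : C) :=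
  isNoetherianObject_of_epi (factorThruImageSubobject h)

lemma isNoetherianObject_bot (Z : C) : IsNoetherianObject ((⊥ : Subobject Z) : C) :=
  isNoetherianObject_of_isZero (IsZero.of_iso (isZero_zero C) Subobject.botCoeIsoZero)

lemma isNoetherianObject_sup {Z : C} (S S' : Subobject Z) (hS : IsNoetherianObject (S : C))
    (hS' : IsNoetherianObject (S' : C)) : IsNoetherianObject ((S ⊔ S' : Subobject Z) : C) := by
  let v : (S : C) ⊞ (S' : C) ⟶ Z := biprod.desc S.arrow S'.arrow
  have hI : imageSubobject v = S ⊔ S' := by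
    apply le_antisymm
    · refine imageSubobject_le v
        (biprod.desc (Subobject.ofLE S _ le_sup_left) (Subobject.ofLE S' _ le_sup_right)) ?_
      ext <;> simp [v]
    · apply sup_le
      · exact Subobject.le_of_comm (biprod.inl ≫ factorThruImageSubobject v) (by simp [v])
      · exact Subobject.le_of_comm (biprod.inr ≫ factorThruImageSubobject v) (by simp [v])
  haveI := isNoetherianObject_biprod (S : C) (S' : C)
  have : IsNoetherianObject (imageSubobject v : C) :=
    isNoetherianObject_of_epi (factorThruImageSubobject v)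
  rw [← hI]
  exact this

lemma isNoetherianObject_finsetSup {Z : C} {α : Type*} [DecidableEq α] (T : Finset α)
    (φ : α → Subobject Z)
    (hφ : ∀ t, IsNoetherianObject (φ t : C)) : IsNoetherianObject ((T.sup φ : Subobject Z) : C) := by
  induction T using Finset.induction_on with
  | empty => rw [Finset.sup_empty]; exact isNoetherianObject_bot Z
  | insert a T _ ih => rw [Finset.sup_insert]; exact isNoetherianObject_sup _ _ (hφ a) ih

end Groth.Agent.Lib.Helper63.NoethObj
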