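import Mathlib
import Groth.Agent.Lib.Helper63.NoethObj

set_option autoImplicit false
universe w u₁ u₂
open CategoryTheory CategoryTheory.Limits

namespace Groth.Agent.Lib.Helper63.CohDerAdj

open Groth.Agent.Lib.Helper63.NoethObj

section BSide

variable {B : Type u₂} [Category.{w} B] [Abelian B] [HasColimitsOfSize.{w, w} B]
  {ι : Type w} (s : ι → B)

/-- index: finite sets of maps from generators -/
abbrev Idx (X : B) : Type w := Finset (Σ i : ι, s i ⟶ X)

noncomputable def subOf (X : B) (T : Idx s X) : Subobject X :=
  T.sup (fun t => imageSubobject t.2)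

lemma subOf_mono (X : B) : Monotone (subOf s X) := by
  intro T T' h
  exact Finset.sup_mono h

lemma le_subOf_singleton (X : B) (i : ι) (h : s i ⟶ X) :
    imageSubobject h ≤ subOf s X {⟨i, h⟩} := by
  unfold subOf
  rw [Finset.sup_singleton]

lemma isNoetherianObject_subOf (hsN : ∀ i, IsNoetherianObject (s i)) (X : B) (T : Idx s X) :
    IsNoetherianObject ((subOf s X T : Subobject X) : B) := by
  classical
  exact isNoetherianObject_finsetSup T _ (fun t => by
    haveI := hsN t.1
    exact isNoetherianObject_imageSubobject t.2)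

/-- the diagram of finitely generated subobjects -/
noncomputable def diag (X : B) : Idx s X ⥤ B :=
  (subOf_mono s X).functor ⋙ Subobject.underlying

noncomputable def diagι (X : B) (T : Idx s X) : (diag s X).obj T ⟶ X := (subOf s X T).arrow

instance (X : B) (T : Idx s X) : Mono (diagι s X T) :=
  (inferInstance : Mono (subOf s X T).arrow)

lemma diag_map_ι (X : B) {T T' : Idx s X} (f : T ⟶ T') :
    (diag s X).map f ≫ diagι s X T' = diagι s X T :=
  Subobject.underlying_arrow _

noncomputable def diagCocone (X : B) : Cocone (diag s X) where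
  pt := X
  ι :=
    { app := fun T => diagι s X T
      naturality := fun T T' f => by
        dsimp
        rw [diag_map_ι, Category.comp_id] }

noncomputable def descMap (X : B) : colimit (diag s X) ⟶ X :=
  colimit.desc (diag s X) (diagCocone s X)

@[reassoc]
lemma ι_descMap (X : B) (T : Idx s X) : colimit.ι (diag s X) T ≫ descMap s X = diagι s X T :=
  colimit.ι_desc _ _

/-- a map from a generator factors through the colimit -/
lemma exists_factor (X : B) (i : ι) (h : s i ⟶ X) :
    ∃ (T : Idx s X) (g : s i ⟶ (diag s X).obj T), g ≫ diagι s X T = h := by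
  let T0 : Idx s X := {⟨i, h⟩}
  have hle : imageSubobject h ≤ subOf s X T0 := le_subOf_singleton s X i h
  let g : s i ⟶ ((subOf s X T0 : Subobject X) : B) :=
    factorThruImageSubobject h ≫ Subobject.ofLE (imageSubobject h) (subOf s X T0) hle
  have hg : g ≫ (subOf s X T0).arrow = h := by
    rw [Category.assoc, Subobject.ofLE_arrow, imageSubobject_arrow_comp]
  exact ⟨T0, g, hg⟩

attribute [local instance] IsFiltered.isConnected

lemma mono_descMap [AB5OfSize.{w, w} B] (X : B) : Mono (descMap s X) := by
  let α : diag s X ⟶ (Functor.const _).obj X :=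
    { app := fun T => diagι s X T
      naturality := fun T T' f => by
        dsimp
        rw [diag_map_ι, Category.comp_id] }
  haveI : ∀ T, Mono (α.app T) := fun T => inferInstanceAs (Mono (diagι s X T))
  have := NatTrans.mono_of_mono_app α
  exact colim.map_mono' α (colimit.isColimit _) (isColimitConstCocone _ X) _ (by
    intro T
    exact (ι_descMap s X T).trans (Category.comp_id _).symm)

variable (hsep : ∀ ⦃X Y : B⦄ (f g : X ⟶ Y), (∀ (i : ι) (h : s i ⟶ X), h ≫ f = h ≫ g) → f = g)

include hsep in
lemma epi_descMap (X : B) : Epi (descMap s X) := by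
  apply Abelian.epi_of_cokernel_π_eq_zero
  refine hsep (cokernel.π (descMap s X)) 0 ?_
  intro i h
  rw [comp_zero]
  obtain ⟨T, g, rfl⟩ := exists_factor s X i h
  rw [← ι_descMap, Category.assoc, Category.assoc, cokernel.condition, comp_zero, comp_zero]

include hsep in
lemma isIso_descMap [AB5OfSize.{w, w} B] (X : B) : IsIso (descMap s X) := by
  haveI := mono_descMap s X
  haveI := epi_descMap s hsep X
  exact isIso_of_mono_of_epi _

include hsep in
noncomputable def isColimitDiagCocone [AB5OfSize.{w, w} B] (X : B) :
    IsColimit (diagCocone s X) := by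
  haveI : IsIso ((colimit.isColimit (diag s X)).desc (diagCocone s X)) := isIso_descMap s hsep X
  exact IsColimit.ofPointIso (colimit.isColimit (diag s X))

end BSide

section ASide

variable {A : Type u₁} [Category.{w} A] [Abelian A] [HasColimitsOfSize.{w, w} A]
  {B : Type u₂} [Category.{w} B] [Abelian B] [HasColimitsOfSize.{w, w} B] [AB5OfSize.{w, w} B]
  {ι : Type w} (s : ι → B)
  (hsep : ∀ ⦃X Y : B⦄ (f g : X ⟶ Y), (∀ (i : ι) (h : s i ⟶ X), h ≫ f = h ≫ g) → f = g)
  (F : A ⥤ B) (G : B ⥤ A) (adj : F ⊣ G) [F.Additive] [F.Faithful]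
  [PreservesFiniteLimits F] [PreservesFiniteColimits F] [PreservesFilteredColimitsOfSize.{w, w} G]

include adj in
theorem ab5_of_adj : AB5OfSize.{w, w} A := by
  constructor
  intro J _ _
  haveI : PreservesColimitsOfShape J F := by
    haveI := adj.leftAdjoint_preservesColimits
    infer_instance
  exact HasExactColimitsOfShape.domain_of_functor J F

attribute [local instance] IsFiltered.isConnected

include hsep adj in
/-- key: for noetherian `a`, the unit `a ⟶ G F a` factors through `G` of a finitely generated
subobject of `F a`. -/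
theorem exists_unit_factor (a : A) [IsNoetherianObject a] :
    ∃ (T : Idx s (F.obj a)) (u : a ⟶ G.obj ((diag s (F.obj a)).obj T)),
      u ≫ G.map (diagι s (F.obj a) T) = adj.unit.app a := by
  classical
  haveI : AB5OfSize.{w, w} A := ab5_of_adj F G adj
  haveI : G.PreservesMonomorphisms := by
    haveI := adj.rightAdjoint_preservesLimits
    infer_instance
  let X := F.obj a
  let J := Idx s X
  have hc : IsColimit (diagCocone s X) := isColimitDiagCocone s hsep X
  haveI : PreservesColimitsOfShape J G :=
    PreservesFilteredColimitsOfSize.preserves_filtered_colimits J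
  let c' : Cocone (diag s X ⋙ G) := G.mapCocone (diagCocone s X)
  have hc' : IsColimit c' := isColimitOfPreserves G hc
  let η : a ⟶ c'.pt := adj.unit.app a
  haveI : ∀ T, Mono (c'.ι.app T) := fun T => by
    change Mono (G.map (diagι s X T))
    infer_instance
  let S : J → Subobject a := fun T => Subobject.mk (pullback.snd (c'.ι.app T) η)
  have hSmono : Monotone S := by
    intro T T' hTT'
    refine Subobject.mk_le_mk_of_comm
      (pullback.lift (pullback.fst (c'.ι.app T) η ≫ (diag s X ⋙ G).map (homOfLE hTT'))
        (pullback.snd (c'.ι.app T) η) ?_) (pullback.lift_snd _ _ _)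
    rw [Category.assoc, c'.w, pullback.condition]
  -- maximal element
  obtain ⟨m, ⟨T0, rfl⟩, hmax⟩ := (wellFounded_gt (α := Subobject a)).has_min (Set.range S)
    ⟨S ∅, ∅, rfl⟩
  have hle : ∀ T, S T ≤ S T0 := by
    intro T
    have h1 : S T ≤ S (T ∪ T0) := hSmono Finset.subset_union_left
    have h2 : S T0 ≤ S (T ∪ T0) := hSmono Finset.subset_union_right
    have h3 : ¬ (S (T ∪ T0) > S T0) := hmax _ ⟨_, rfl⟩
    have h4 : S (T ∪ T0) = S T0 := by
      by_contra hne
      exact h3 (lt_of_le_of_ne h2 (Ne.symm hne))
    exact h1.trans h4.le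
  -- the pulled back cocone is a colimit
  have P := hc'.pullbackOfHasExactColimitsOfShape η
  -- S T0 = ⊤
  have hepi : Epi (S T0).arrow := by
    apply Abelian.epi_of_cokernel_π_eq_zero
    refine P.hom_ext (fun T => ?_)
    have e1 : (pullback.snd c'.ι ((Functor.const J).map η)).app T =
        (pullbackObjIso c'.ι ((Functor.const J).map η) T).hom ≫ pullback.snd (c'.ι.app T) η :=
      (pullbackObjIso_hom_comp_snd _ _ T).symm
    have e2 : pullback.snd (c'.ι.app T) η =
        ((Subobject.underlyingIso (pullback.snd (c'.ι.app T) η)).inv ≫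
          Subobject.ofLE _ _ (hle T)) ≫ (S T0).arrow := by
      rw [Category.assoc, Subobject.ofLE_arrow, Subobject.underlyingIso_arrow]
    have e3 : (pullback.snd c'.ι ((Functor.const J).map η)).app T ≫
        cokernel.π (S T0).arrow = 0 := by
      rw [e1, e2, Category.assoc, Category.assoc, cokernel.condition, comp_zero, comp_zero]
    exact e3.trans comp_zero.symm
  haveI : IsIso (S T0).arrow := isIso_of_mono_of_epi _
  refine ⟨T0, inv (S T0).arrow ≫ (Subobject.underlyingIso (pullback.snd (c'.ι.app T0) η)).hom ≫
    pullback.fst (c'.ι.app T0) η, ?_⟩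
  have e4 : (inv (S T0).arrow ≫ (Subobject.underlyingIso (pullback.snd (c'.ι.app T0) η)).hom ≫
      pullback.fst (c'.ι.app T0) η) ≫ c'.ι.app T0 = η := by
    rw [Category.assoc, Category.assoc, pullback.condition,
      ← Category.assoc (Subobject.underlyingIso _).hom,
      Subobject.underlyingIso_hom_comp_eq_mk, ← Category.assoc, IsIso.inv_hom_id, Category.id_comp]
  exact e4

include hsep adj in
theorem isNoetherianObject_map_of_isNoetherianObject (hsN : ∀ i, IsNoetherianObject (s i)) (a : A)
    [IsNoetherianObject a] : IsNoetherianObject (F.obj a) := by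
  obtain ⟨T, u, hu⟩ := exists_unit_factor s hsep F G adj a
  -- `diagι T` is a split epi
  have h1 : (F.map u ≫ adj.counit.app _) ≫ diagι s (F.obj a) T = 𝟙 (F.obj a) := by
    have hn := adj.counit_naturality (diagι s (F.obj a) T)
    rw [Category.assoc, ← hn, ← Category.assoc, ← F.map_comp, hu,
      adj.left_triangle_components]
  haveI : IsSplitEpi (diagι s (F.obj a) T) := ⟨⟨_, h1⟩⟩
  haveI : IsIso (diagι s (F.obj a) T) := isIso_of_mono_of_isSplitEpi _
  haveI : IsNoetherianObject ((diag s (F.obj a)).obj T) := isNoetherianObject_subOf s hsN _ T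
  exact isNoetherianObject_of_epi (diagι s (F.obj a) T)

omit [HasColimitsOfSize.{w, w} A] [HasColimitsOfSize.{w, w} B] [AB5OfSize.{w, w} B]
  [PreservesFilteredColimitsOfSize.{w, w} G] in
theorem isNoetherianObject_of_isNoetherianObject_map (a : A) [IsNoetherianObject (F.obj a)] :
    IsNoetherianObject a := by
  rw [isNoetherianObject_iff_not_strictMono]
  intro f hf
  haveI : F.PreservesMonomorphisms := inferInstance
  let φ : Subobject a → Subobject (F.obj a) := fun S => Subobject.mk (F.map S.arrow)
  refine not_strictMono_of_isNoetherianObject (fun n => φ (f n)) ?_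
  apply strictMono_nat_of_lt_succ
  intro n
  have hlt : f n < f (n + 1) := hf (Nat.lt_succ_self n)
  have hle : φ (f n) ≤ φ (f (n + 1)) :=
    Subobject.mk_le_mk_of_comm (F.map (Subobject.ofLE _ _ hlt.le))
      (by rw [← F.map_comp, Subobject.ofLE_arrow])
  refine lt_of_le_not_ge hle ?_
  intro hge
  apply not_le_of_gt hlt
  -- F (ofLE) is an iso
  let g := Subobject.ofMkLEMk _ _ hge
  have hg : g ≫ F.map (f n).arrow = F.map (f (n + 1)).arrow := Subobject.ofMkLEMk_comp hge
  have e1 : F.map (Subobject.ofLE _ _ hlt.le) ≫ g = 𝟙 _ := by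
    rw [← cancel_mono (F.map (f n).arrow), Category.assoc, hg, ← F.map_comp, Subobject.ofLE_arrow,
      Category.id_comp]
  have e2 : g ≫ F.map (Subobject.ofLE _ _ hlt.le) = 𝟙 _ := by
    rw [← cancel_mono (F.map (f (n + 1)).arrow), Category.assoc, ← F.map_comp, Subobject.ofLE_arrow,
      hg, Category.id_comp]
  haveI : IsIso (F.map (Subobject.ofLE _ _ hlt.le)) := ⟨g, e1, e2⟩
  haveI : IsIso (Subobject.ofLE _ _ hlt.le) := isIso_of_reflects_iso _ F
  exact Subobject.le_of_comm (inv (Subobject.ofLE _ _ hlt.le))
    (by rw [IsIso.inv_comp_eq, Subobject.ofLE_arrow])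

end ASide

end Groth.Agent.Lib.Helper63.CohDerAdj
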