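import Mathlib
import Groth.Agent.Lib.Helper63.CohDerAdj

set_option autoImplicit false
universe w v u u₁ u₂
open CategoryTheory CategoryTheory.Limits ZeroObject

namespace Groth.Agent.Lib.Helper63.CohDerAdj

open Groth.Agent.Lib.Helper63.NoethObj

section Generic

variable {C : Type u} [Category.{v} C] [Abelian C]

lemma exists_epi_sup {Z : C} (S S' : Subobject Z) :
    ∃ v : (S : C) ⊞ (S' : C) ⟶ ((S ⊔ S' : Subobject Z) : C), Epi v := by
  let w : (S : C) ⊞ (S' : C) ⟶ Z := biprod.desc S.arrow S'.arrow
  let v : (S : C) ⊞ (S' : C) ⟶ ((S ⊔ S' : Subobject Z) : C) :=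
    biprod.desc (Subobject.ofLE S _ le_sup_left) (Subobject.ofLE S' _ le_sup_right)
  have hv : v ≫ (S ⊔ S').arrow = w := by
    ext <;> simp [v, w]
  have hI : imageSubobject w = S ⊔ S' := by
    apply le_antisymm
    · exact imageSubobject_le w v hv
    · apply sup_le
      · exact Subobject.le_of_comm (biprod.inl ≫ factorThruImageSubobject w) (by simp [w])
      · exact Subobject.le_of_comm (biprod.inr ≫ factorThruImageSubobject w) (by simp [w])
  have h1 : v = factorThruImageSubobject w ≫ Subobject.ofLE _ _ hI.le := by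
    rw [← cancel_mono (S ⊔ S').arrow, hv, Category.assoc, Subobject.ofLE_arrow,
      imageSubobject_arrow_comp]
  haveI : IsIso (Subobject.ofLE _ _ hI.le) :=
    ⟨Subobject.ofLE _ _ hI.ge, by simp, by simp⟩
  refine ⟨v, ?_⟩
  rw [h1]
  exact epi_comp _ _

lemma exists_iso_cokernel {X Y : C} (p : X ⟶ Y) [Epi p] :
    ∃ K : Subobject X, Nonempty (cokernel K.arrow ≅ Y) := by
  refine ⟨kernelSubobject p, ⟨?_⟩⟩
  exact cokernelIsoOfEq (kernelSubobject_arrow p).symm ≪≫ cokernelEpiComp _ _ ≪≫
    asIso (Abelian.factorThruCoimage p)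

end Generic

section BSide2

variable {B : Type u₂} [Category.{w} B] [Abelian B] [HasColimitsOfSize.{w, w} B]
  {ι : Type w} (s : ι → B)

noncomputable def sigmaList : List ι → B
  | [] => 0
  | i :: L => s i ⊞ sigmaList L

lemma exists_epi_subOf (X : B) (T : Idx s X) :
    ∃ (L : List ι) (p : sigmaList s L ⟶ ((subOf s X T : Subobject X) : B)), Epi p := by
  classical
  induction T using Finset.induction_on with
  | empty =>
    refine ⟨[], 0, ?_⟩
    have hZ : IsZero ((subOf s X ∅ : Subobject X) : B) := by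
      have : subOf s X ∅ = ⊥ := Finset.sup_empty
      rw [this]
      exact IsZero.of_iso (isZero_zero B) Subobject.botCoeIsoZero
    exact ⟨fun g g' _ => hZ.eq_of_src g g'⟩
  | insert a T _ ih =>
    obtain ⟨L, p, hp⟩ := ih
    have h : subOf s X (insert a T) = imageSubobject a.2 ⊔ subOf s X T := Finset.sup_insert
    rw [h]
    obtain ⟨v, hv⟩ := exists_epi_sup (imageSubobject a.2) (subOf s X T)
    refine ⟨a.1 :: L, biprod.map (factorThruImageSubobject a.2) p ≫ v, ?_⟩
    have h1 : Epi (biprod.map (factorThruImageSubobject a.2) p) := biprod.map_epi _ _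
    exact epi_comp' h1 hv

lemma exists_iso_cokernel_subOf (X : B) (T : Idx s X) :
    ∃ (L : List ι) (K : Subobject (sigmaList s L)),
      Nonempty (cokernel K.arrow ≅ ((subOf s X T : Subobject X) : B)) := by
  obtain ⟨L, p, hp⟩ := exists_epi_subOf s X T
  obtain ⟨K, hK⟩ := exists_iso_cokernel p
  exact ⟨L, K, hK⟩

variable (hsep : ∀ ⦃X Y : B⦄ (f g : X ⟶ Y), (∀ (i : ι) (h : s i ⟶ X), h ≫ f = h ≫ g) → f = g)

include hsep in
lemma wellPowered_of_sep : WellPowered.{w} B := by
  have h1 : (ObjectProperty.ofObj s).IsSeparating := by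
    intro X Y f g h
    apply hsep
    intro i k
    exact h (s i) ⟨i⟩ k
  exact wellPowered_of_isDetecting (𝒢 := ObjectProperty.ofObj s) h1.isDetecting

end BSide2

section ASide2

variable {A : Type u₁} [Category.{w} A] [Abelian A]
  {B : Type u₂} [Category.{w} B] [Abelian B]
  (F : A ⥤ B) [F.Additive] [F.Faithful] [PreservesFiniteLimits F] [PreservesFiniteColimits F]

lemma le_of_map_le {a : A} (S S' : Subobject a)
    (h : Subobject.mk (F.map S.arrow) ≤ Subobject.mk (F.map S'.arrow)) : S ≤ S' := by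
  have h0 : S.arrow ≫ cokernel.π S'.arrow = 0 := by
    apply F.map_injective
    rw [F.map_zero, F.map_comp]
    have e := Subobject.ofMkLEMk_comp h
    rw [← e, Category.assoc, ← F.map_comp, cokernel.condition, F.map_zero, comp_zero]
  have hk : IsLimit (KernelFork.ofι S'.arrow (cokernel.condition S'.arrow)) :=
    Abelian.monoIsKernelOfCokernel _ (colimit.isColimit _)
  have hf := hk.fac (KernelFork.ofι S.arrow h0) WalkingParallelPair.zero
  exact Subobject.le_of_comm (hk.lift (KernelFork.ofι S.arrow h0)) hf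

include F in
lemma wellPowered_of_faithful_exact [WellPowered.{w} B] : WellPowered.{w} A where
  subobject_small a := by
    refine small_of_injective (f := fun S : Subobject a => Subobject.mk (F.map S.arrow)) ?_
    intro S S' h
    exact le_antisymm (le_of_map_le F S S' h.le) (le_of_map_le F S' S h.ge)

end ASide2

section Family

variable {A : Type u₁} [Category.{w} A] [Abelian A] [HasColimitsOfSize.{w, w} A]
  {B : Type u₂} [Category.{w} B] [Abelian B] [HasColimitsOfSize.{w, w} B] [AB5OfSize.{w, w} B]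
  {ι : Type w} (s : ι → B)
  (hsep : ∀ ⦃X Y : B⦄ (f g : X ⟶ Y), (∀ (i : ι) (h : s i ⟶ X), h ≫ f = h ≫ g) → f = g)
  (F : A ⥤ B) (G : B ⥤ A) (adj : F ⊣ G) [F.Additive] [F.Faithful]
  [PreservesFiniteLimits F] [PreservesFiniteColimits F] [PreservesFilteredColimitsOfSize.{w, w} G]

attribute [local instance] IsFiltered.isConnected

include hsep adj in
lemma hom_ext_pullbacks (X : A) {Y : A} (f g : X ⟶ Y)
    (h : ∀ T : Idx s (F.obj X),
      pullback.snd (G.map (diagι s (F.obj X) T)) (adj.unit.app X) ≫ f =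
        pullback.snd (G.map (diagι s (F.obj X) T)) (adj.unit.app X) ≫ g) : f = g := by
  haveI : AB5OfSize.{w, w} A := ab5_of_adj F G adj
  let J := Idx s (F.obj X)
  have hc : IsColimit (diagCocone s (F.obj X)) := isColimitDiagCocone s hsep (F.obj X)
  haveI : PreservesColimitsOfShape J G :=
    PreservesFilteredColimitsOfSize.preserves_filtered_colimits J
  let c' : Cocone (diag s (F.obj X) ⋙ G) := G.mapCocone (diagCocone s (F.obj X))
  have hc' : IsColimit c' := isColimitOfPreserves G hc
  let η : X ⟶ c'.pt := adj.unit.app X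
  have P := hc'.pullbackOfHasExactColimitsOfShape η
  refine P.hom_ext (fun T => ?_)
  have e1 : (pullback.snd c'.ι ((Functor.const J).map η)).app T =
      (pullbackObjIso c'.ι ((Functor.const J).map η) T).hom ≫ pullback.snd (c'.ι.app T) η :=
    (pullbackObjIso_hom_comp_snd _ _ T).symm
  have e2 : (pullback.snd c'.ι ((Functor.const J).map η)).app T ≫ f =
      (pullback.snd c'.ι ((Functor.const J).map η)).app T ≫ g := by
    rw [e1, Category.assoc, Category.assoc]
    congr 1
    exact h T
  exact e2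

include adj in
lemma isNoetherianObject_pullback (hsN : ∀ i, IsNoetherianObject (s i)) (X : A)
    (T : Idx s (F.obj X)) :
    IsNoetherianObject (pullback (G.map (diagι s (F.obj X) T)) (adj.unit.app X)) := by
  haveI : G.PreservesMonomorphisms := by
    haveI := adj.rightAdjoint_preservesLimits
    infer_instance
  let m₀ := pullback.fst (G.map (diagι s (F.obj X) T)) (adj.unit.app X)
  let leg := pullback.snd (G.map (diagι s (F.obj X) T)) (adj.unit.app X)
  let ψ : F.obj (pullback (G.map (diagι s (F.obj X) T)) (adj.unit.app X)) ⟶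
      (diag s (F.obj X)).obj T := F.map m₀ ≫ adj.counit.app _
  have hψ : ψ ≫ diagι s (F.obj X) T = F.map leg := by
    have hn := adj.counit_naturality (diagι s (F.obj X) T)
    have ht := adj.left_triangle_components X
    simp only [ψ, Category.assoc]
    rw [← hn, ← Category.assoc, ← F.map_comp, pullback.condition, F.map_comp, Category.assoc]
    exact (congrArg (fun z => F.map leg ≫ z) ht).trans (Category.comp_id _)
  haveI : Mono (ψ ≫ diagι s (F.obj X) T) := by
    rw [hψ]
    infer_instance
  haveI : Mono ψ := mono_of_mono ψ (diagι s (F.obj X) T)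
  haveI : IsNoetherianObject ((diag s (F.obj X)).obj T) := isNoetherianObject_subOf s hsN _ T
  haveI : IsNoetherianObject (F.obj (pullback (G.map (diagι s (F.obj X) T)) (adj.unit.app X))) :=
    isNoetherianObject_of_mono ψ
  exact isNoetherianObject_of_isNoetherianObject_map F _

variable (P : A → Prop)

/-- the big index type -/
def BigIdx : Type (max u₁ u₂ w) :=
  Σ (L : List ι) (K : Subobject (sigmaList s L)),
    {S : Subobject (G.obj (cokernel K.arrow)) // P (S : A)}

instance [WellPowered.{w} A] [WellPowered.{w} B] : Small.{w} (BigIdx s G P) := by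
  unfold BigIdx
  infer_instance

variable [WellPowered.{w} A] [WellPowered.{w} B]

def FamIdx : Type w := Shrink.{w} (BigIdx s G P)

omit [HasColimitsOfSize.{w, w} A] [AB5OfSize.{w, w} B] [PreservesFilteredColimitsOfSize.{w, w} G]
  [WellPowered.{w} A] [WellPowered.{w} B] in
noncomputable def bigObj (y : BigIdx s G P) : A := (y.2.2.1 : A)

noncomputable def fam (k : FamIdx s G P) : A :=
  bigObj s G P ((equivShrink (BigIdx s G P)).symm k)

lemma fam_prop (k : FamIdx s G P) : P (fam s G P k) :=
  ((equivShrink (BigIdx s G P)).symm k).2.2.2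

omit [HasColimitsOfSize.{w, w} A] [AB5OfSize.{w, w} B] [PreservesFilteredColimitsOfSize.{w, w} G]
  [WellPowered.{w} A] [WellPowered.{w} B] in
lemma bigObj_mk (L : List ι) (K : Subobject (sigmaList s L))
    (S : Subobject (G.obj (cokernel K.arrow))) (hS : P (S : A)) :
    bigObj s G P ⟨L, K, ⟨S, hS⟩⟩ = (S : A) := rfl

lemma exists_fam_iso (hP : ∀ {x y : A}, (x ≅ y) → P x → P y) (L : List ι)
    (K : Subobject (sigmaList s L)) {x : A} (m : x ⟶ G.obj (cokernel K.arrow)) [Mono m]
    (hx : P x) : ∃ k : FamIdx s G P, Nonempty (fam s G P k ≅ x) := by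
  have hS : P ((Subobject.mk m : Subobject _) : A) := hP (Subobject.underlyingIso m).symm hx
  refine ⟨equivShrink (BigIdx s G P) ⟨L, K, ⟨Subobject.mk m, hS⟩⟩, ⟨?_⟩⟩
  have h1 : fam s G P (equivShrink (BigIdx s G P) ⟨L, K, ⟨Subobject.mk m, hS⟩⟩) =
      bigObj s G P ⟨L, K, ⟨Subobject.mk m, hS⟩⟩ :=
    congrArg (bigObj s G P) (Equiv.symm_apply_apply _ _)
  exact eqToIso (h1.trans (bigObj_mk s G P L K _ hS)) ≪≫ Subobject.underlyingIso m

include hsep adj in
theorem fam_separating (hP : ∀ {x y : A}, (x ≅ y) → P x → P y)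
    (hPx : ∀ (X : A) (T : Idx s (F.obj X)),
      P (pullback (G.map (diagι s (F.obj X) T)) (adj.unit.app X))) :
    ∀ ⦃X Y : A⦄ (f g : X ⟶ Y),
      (∀ (k : FamIdx s G P) (h : fam s G P k ⟶ X), h ≫ f = h ≫ g) → f = g := by
  intro X Y f g hfg
  apply hom_ext_pullbacks s hsep F G adj X f g
  intro T
  obtain ⟨L, K, ⟨e⟩⟩ := exists_iso_cokernel_subOf s (F.obj X) T
  let e₂ : (diag s (F.obj X)).obj T ≅ cokernel K.arrow := e.symm
  let m : pullback (G.map (diagι s (F.obj X) T)) (adj.unit.app X) ⟶ G.obj (cokernel K.arrow) :=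
    pullback.fst _ _ ≫ G.map e₂.hom
  have hm1 : Mono (pullback.fst (G.map (diagι s (F.obj X) T)) (adj.unit.app X)) := inferInstance
  have hm2 : Mono (G.map e₂.hom) := inferInstance
  haveI : Mono m := mono_comp' hm1 hm2
  obtain ⟨k, ⟨e'⟩⟩ := exists_fam_iso s G P hP L K m (hPx X T)
  have := hfg k (e'.hom ≫ pullback.snd _ _)
  rw [Category.assoc, Category.assoc] at this
  exact (cancel_epi e'.hom).mp this

end Family

end Groth.Agent.Lib.Helper63.CohDerAdj
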