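import Mathlib.RingTheory.Finiteness.Defs
import Mathlib.RingTheory.Finiteness.Finsupp
import Mathlib.RingTheory.FinitePresentation
import Mathlib.Algebra.Module.FinitePresentation
import Mathlib.LinearAlgebra.Quotient.Basic
import Mathlib.RingTheory.Noetherian.Basic

set_option autoImplicit false
universe u

namespace Groth.Agent.Lib.Helper63

variable {R : Type u} [CommRing R]

/-- "Every finitely generated submodule is finitely presented" (the second half of coherence). -/
def FGSubFP (R : Type u) [CommRing R] (M : Type u) [AddCommGroup M] [Module R M] : Prop :=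
  ∀ P : Submodule R M, P.FG → Module.FinitePresentation R P

theorem FGSubFP.submodule {M : Type u} [AddCommGroup M] [Module R M] (hM : FGSubFP R M)
    (L : Submodule R M) : FGSubFP R L := by
  intro P hP
  have h1 : (P.map L.subtype).FG := hP.map _
  have := hM _ h1
  exact Module.FinitePresentation.of_equiv
    (Submodule.equivMapOfInjective L.subtype L.injective_subtype P).symm

theorem FGSubFP.quotient {M : Type u} [AddCommGroup M] [Module R M] (hM : FGSubFP R M)
    (K : Submodule R M) (hK : K.FG) : FGSubFP R (M ⧸ K) := by
  intro P hP
  set P' : Submodule R M := P.comap K.mkQ with hP'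
  have hKP' : K ≤ P' := by
    intro x hx
    show K.mkQ x ∈ P
    rw [Submodule.mkQ_apply, (Submodule.Quotient.mk_eq_zero K).mpr hx]
    exact P.zero_mem
  have hfg : P'.FG := by
    apply Submodule.fg_of_fg_map_of_fg_inf_ker K.mkQ
    · rw [hP', Submodule.map_comap_eq_of_surjective (Submodule.mkQ_surjective K)]
      exact hP
    · rw [Submodule.ker_mkQ, inf_eq_right.mpr hKP']
      exact hK
  have := hM P' hfg
  let g : P' →ₗ[R] P := (K.mkQ.domRestrict P').codRestrict P (fun x => x.2)
  have hg : Function.Surjective g := by
    rintro ⟨y, hy⟩
    obtain ⟨x, rfl⟩ := Submodule.mkQ_surjective K y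
    exact ⟨⟨x, hy⟩, rfl⟩
  have hker : (LinearMap.ker g).FG := by
    have : LinearMap.ker g = Submodule.map (Submodule.inclusion hKP') ⊤ := by
      ext ⟨x, hx⟩
      simp only [LinearMap.mem_ker, Submodule.map_top, LinearMap.mem_range]
      constructor
      · intro h
        have h' : K.mkQ x = 0 := congrArg Subtype.val h
        rw [Submodule.mkQ_apply, Submodule.Quotient.mk_eq_zero] at h'
        exact ⟨⟨x, h'⟩, rfl⟩
      · rintro ⟨⟨z, hz⟩, hzx⟩
        have : z = x := congrArg Subtype.val hzx
        subst this
        apply Subtype.ext
        show K.mkQ z = 0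
        rw [Submodule.mkQ_apply, Submodule.Quotient.mk_eq_zero]
        exact hz
    rw [this]
    exact ((Submodule.fg_top K).mpr hK).map _
  exact Module.finitePresentation_of_surjective g hg hker

end Groth.Agent.Lib.Helper63
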