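import Mathlib

set_option autoImplicit false
universe u
open LinearMap

namespace Groth.Agent.Lib.Helper63.ComplFree

section Part1


variable {R : Type u} [CommRing R] {I : Ideal R}

/-- Artin–Rees condition for a submodule. -/
def ARCond (I : Ideal R) {N : Type u} [AddCommGroup N] [Module R N] (S : Submodule R N) : Prop :=
  ∃ k : ℕ, ∀ n ≥ k, I ^ n • ⊤ ⊓ S = I ^ (n - k) • (I ^ k • ⊤ ⊓ S)

variable {M : Type u} [AddCommGroup M] [Module R M]
variable {N : Type u} [AddCommGroup N] [Module R N]
variable {P : Type u} [AddCommGroup P] [Module R P]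

section Injectivity

variable (I)

theorem map_injective_of_AR {f : M →ₗ[R] N} (hf : Function.Injective f)
    (hAR : ARCond I (range f)) :
    Function.Injective (AdicCompletion.map I f) := by
  obtain ⟨k, hk⟩ := hAR
  rw [← LinearMap.ker_eq_bot, LinearMap.ker_eq_bot']
  intro x
  apply AdicCompletion.induction_on I M x (fun a ↦ ?_)
  intro hx
  refine AdicCompletion.mk_zero_of _ _ _ ⟨42, fun n _ ↦ ⟨n + k, by lia, n, by lia, ?_⟩⟩
  rw [← Submodule.comap_map_eq_of_injective hf (I ^ n • ⊤ : Submodule R M),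
    Submodule.map_smul'', Submodule.map_top]
  apply (smul_mono_right _ inf_le_right : I ^ n • (I ^ k • ⊤ ⊓ (range f)) ≤ _)
  nth_rw 1 [show n = n + k - k by lia]
  rw [← hk (n + k) (show n + k ≥ k by lia)]
  exact ⟨by simpa using congrArg (fun x ↦ x.val (n + k)) hx, ⟨a (n + k), rfl⟩⟩

end Injectivity

section

variable {f : M →ₗ[R] N} {g : N →ₗ[R] P} (hf : Function.Injective f)
  (hfg : Function.Exact f g) (hg : Function.Surjective g)

section

variable {k : ℕ}
  (hkn : ∀ n ≥ k, I ^ n • ⊤ ⊓ LinearMap.range f = I ^ (n - k) • (I ^ k • ⊤ ⊓ LinearMap.range f))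
  (x : AdicCompletion.AdicCauchySequence I N) (hker : ∀ (n : ℕ), g (x n) ∈ (I ^ n • ⊤ : Submodule R P))

include hf hkn in
theorem mapExactAuxDelta {n : ℕ} {d : N}
    (hdmem : d ∈ (I ^ (k + n + 1) • ⊤ : Submodule R N)) {y yₙ : M}
    (hd : f y = x (k + n + 1) - d) (hyₙ : f yₙ - x (k + n) ∈ (I ^ (k + n) • ⊤ : Submodule R N)) :
    ∃ d : (I ^ n • ⊤ : Submodule R M),
      f (yₙ + d) - x (k + n + 1) ∈ (I ^ (k + n + 1) • ⊤ : Submodule R N) := by
  have h : f (y - yₙ) ∈ (I ^ (k + n) • ⊤ : Submodule R N) := by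
    simp only [map_sub, hd]
    convert_to x (k + n + 1) - x (k + n) - d - (f yₙ - x (k + n)) ∈ I ^ (k + n) • ⊤
    · abel
    · refine Submodule.sub_mem _ (Submodule.sub_mem _ ?_ ?_) hyₙ
      · rw [← Submodule.Quotient.eq]
        exact AdicCompletion.AdicCauchySequence.mk_eq_mk (by lia) _
      · exact (Submodule.smul_mono_left (Ideal.pow_le_pow_right (by lia))) hdmem
  have hincl : I ^ (k + n - k) • (I ^ k • ⊤ ⊓ range f) ≤ I ^ (k + n - k) • (range f) :=
    smul_mono_right _ inf_le_right
  have hyyₙ : y - yₙ ∈ (I ^ n • ⊤ : Submodule R M) := by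
    convert_to y - yₙ ∈ (I ^ (k + n - k) • ⊤ : Submodule R M)
    · simp
    · rw [← Submodule.comap_map_eq_of_injective hf (I ^ (k + n - k) • ⊤ : Submodule R M),
        Submodule.map_smul'', Submodule.map_top]
      apply hincl
      rw [← hkn (k + n) (by lia)]
      exact ⟨h, ⟨y - yₙ, rfl⟩⟩
  exact ⟨⟨y - yₙ, hyyₙ⟩, by simpa [hd, Nat.succ_eq_add_one, Nat.add_assoc]⟩

include hf hfg hg hkn hker in
theorem exists_seq :
    ∃ a : ℕ → M, (∀ n, f (a n) - x (k + n) ∈ (I ^ (k + n) • ⊤ : Submodule R N)) ∧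
      ∀ n, a (n + 1) - a n ∈ (I ^ n • ⊤ : Submodule R M) := by
  have h1 (n : ℕ) : g (x (k + n)) ∈ Submodule.map g (I ^ (k + n) • ⊤ : Submodule R N) := by
    rw [Submodule.map_smul'', Submodule.map_top, range_eq_top.mpr hg]
    exact hker (k + n)
  have h2 (n : ℕ) : ∃ (d : N) (y : M),
      d ∈ (I ^ (k + n) • ⊤ : Submodule R N) ∧ f y = x (k + n) - d := by
    obtain ⟨d, hdmem, hd⟩ := h1 n
    obtain ⟨y, hdy⟩ := (hfg (x (k + n) - d)).mp (by simp [hd])
    exact ⟨d, y, hdmem, hdy⟩
  have base : ∃ y : M, f y - x (k + 0) ∈ (I ^ (k + 0) • ⊤ : Submodule R N) := by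
    obtain ⟨d, y, hdmem, hdy⟩ := h2 0
    exact ⟨y, by simpa [hdy] using hdmem⟩
  have step : ∀ (n : ℕ) (yₙ : M), f yₙ - x (k + n) ∈ (I ^ (k + n) • ⊤ : Submodule R N) →
      ∃ y' : M, f y' - x (k + (n + 1)) ∈ (I ^ (k + (n + 1)) • ⊤ : Submodule R N) ∧
        y' - yₙ ∈ (I ^ n • ⊤ : Submodule R M) := by
    intro n yₙ hyₙ
    obtain ⟨d, y, hdmem, hdy⟩ := h2 (n + 1)
    obtain ⟨d', hd'⟩ := mapExactAuxDelta hf hkn x hdmem hdy hyₙ
    exact ⟨yₙ + d', hd', by simp⟩
  let seq : (n : ℕ) → {y : M // f y - x (k + n) ∈ (I ^ (k + n) • ⊤ : Submodule R N)} :=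
    fun n => Nat.rec ⟨base.choose, base.choose_spec⟩
      (fun n p => ⟨(step n p.1 p.2).choose, (step n p.1 p.2).choose_spec.1⟩) n
  refine ⟨fun n => (seq n).1, fun n => (seq n).2, fun n => ?_⟩
  exact (step n (seq n).1 (seq n).2).choose_spec.2

end

include hf hfg hg in
theorem map_exact_of_AR (hAR : ARCond I (range f)) :
    Function.Exact (AdicCompletion.map I f) (AdicCompletion.map I g) := by
  refine LinearMap.exact_of_comp_eq_zero_of_ker_le_range ?_ (fun y ↦ ?_)
  · rw [AdicCompletion.map_comp, hfg.linearMap_comp_eq_zero, AdicCompletion.map_zero]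
  · apply AdicCompletion.induction_on I N y (fun b ↦ ?_)
    intro hz
    obtain ⟨k, hk⟩ := hAR
    have hb (n : ℕ) : g (b n) ∈ (I ^ n • ⊤ : Submodule R P) := by
      simpa using congrArg (fun x ↦ x.val n) hz
    obtain ⟨a, ha1, ha2⟩ := exists_seq hf hfg hg hk b hb
    refine ⟨AdicCompletion.mk I M (AdicCompletion.AdicCauchySequence.mk I M a ?_), ?_⟩
    · intro n
      refine SModEq.symm ?_
      rw [SModEq.sub_mem]
      exact ha2 n
    · ext n
      suffices h : Submodule.Quotient.mk (p := (I ^ n • ⊤ : Submodule R N)) (f (a n)) =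
            Submodule.Quotient.mk (p := (I ^ n • ⊤ : Submodule R N)) (b (k + n)) by
        simp [h, AdicCompletion.AdicCauchySequence.mk_eq_mk (show n ≤ k + n by lia)]
      rw [Submodule.Quotient.eq]
      have hle : (I ^ (k + n) • ⊤ : Submodule R N) ≤ (I ^ n • ⊤ : Submodule R N) :=
        Submodule.smul_mono_left (Ideal.pow_le_pow_right (by lia))
      exact hle (ha1 n)

end


end Part1

section Part2


variable {R : Type u} [CommRing R] (I : Ideal R)
variable {N : Type u} [AddCommGroup N] [Module R N] (α : Type u)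

/-- coordinatewise submodule -/
abbrev fs (S : Submodule R N) : Submodule R (α →₀ N) := Finsupp.submodule (fun _ : α => S)

lemma smul_fs (J : Ideal R) (S : Submodule R N) : J • fs α S = fs α (J • S) := by
  unfold fs
  rw [Finsupp.submodule_eq_iSup, Finsupp.submodule_eq_iSup, Submodule.smul_iSup]
  congr 1
  ext a : 1
  rw [Submodule.map_smul'']

lemma fs_top : fs α (⊤ : Submodule R N) = ⊤ := Finsupp.submodule_top

lemma fs_inf (S T : Submodule R N) : fs α S ⊓ fs α T = fs α (S ⊓ T) := by
  ext v
  simp only [Submodule.mem_inf, Finsupp.mem_submodule_iff]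
  exact ⟨fun h i => ⟨h.1 i, h.2 i⟩, fun h => ⟨fun i => (h i).1, fun i => (h i).2⟩⟩

lemma ar_fs (S : Submodule R N)
    (h : ∃ k : ℕ, ∀ n ≥ k, I ^ n • ⊤ ⊓ S = I ^ (n - k) • (I ^ k • ⊤ ⊓ S)) :
    ∃ k : ℕ, ∀ n ≥ k, I ^ n • ⊤ ⊓ fs α S = I ^ (n - k) • (I ^ k • ⊤ ⊓ fs α S) := by
  obtain ⟨k, hk⟩ := h
  refine ⟨k, fun n hn => ?_⟩
  rw [← fs_top α, smul_fs, smul_fs, fs_inf, fs_inf, smul_fs, hk n hn]


end Part2

section Part3


variable {R : Type u} [CommRing R] (I : Ideal R) (α : Type u)
variable {N N' N'' : Type u} [AddCommGroup N] [Module R N] [AddCommGroup N'] [Module R N']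
  [AddCommGroup N''] [Module R N'']

lemma adicMap_add (f g : N →ₗ[R] N') (x : AdicCompletion I N) :
    AdicCompletion.map I (f + g) x = AdicCompletion.map I f x + AdicCompletion.map I g x := by
  ext n
  rw [AdicCompletion.val_add_apply]
  simp only [AdicCompletion.map_val_apply]
  obtain ⟨y, hy⟩ := Submodule.Quotient.mk_surjective _ (x.val n)
  rw [← hy]
  simp [LinearMap.reduceModIdeal_apply]

lemma adicMap_smul (r : R) (f : N →ₗ[R] N') (x : AdicCompletion I N) :
    AdicCompletion.map I (r • f) x = r • AdicCompletion.map I f x := by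
  ext n
  rw [AdicCompletion.val_smul_apply]
  simp only [AdicCompletion.map_val_apply]
  obtain ⟨y, hy⟩ := Submodule.Quotient.mk_surjective _ (x.val n)
  rw [← hy]
  simp [LinearMap.reduceModIdeal_apply]

lemma adicMap_sum {ι : Type*} (s : Finset ι) (f : ι → (N →ₗ[R] N')) (x : AdicCompletion I N) :
    AdicCompletion.map I (∑ i ∈ s, f i) x = ∑ i ∈ s, AdicCompletion.map I (f i) x := by
  classical
  induction s using Finset.induction_on with
  | empty => simp
  | insert a s ha ih => rw [Finset.sum_insert ha, Finset.sum_insert ha, adicMap_add, ih]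


end Part3

section Part4

variable {R : Type u} [CommRing R] [IsNoetherianRing R] (I : Ideal R) (α : Type u)
variable {N₀ N₁ N₂ : Type u} [AddCommGroup N₀] [Module R N₀] [AddCommGroup N₁] [Module R N₁]
  [AddCommGroup N₂] [Module R N₂] [Module.Finite R N₁] [Module.Finite R N₂]

/-- coordinatewise map -/
noncomputable abbrev mr {N N' : Type u} [AddCommGroup N] [Module R N] [AddCommGroup N']
    [Module R N'] (f : N →ₗ[R] N') : (α →₀ N) →ₗ[R] (α →₀ N') :=
  Finsupp.mapRange.linearMap (α := α) f

lemma mr_injective {N N' : Type u} [AddCommGroup N] [Module R N] [AddCommGroup N']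
    [Module R N'] (f : N →ₗ[R] N') (hf : Function.Injective f) :
    Function.Injective (mr α f) :=
  Finsupp.mapRange_injective _ (map_zero f) hf

lemma mr_surjective {N N' : Type u} [AddCommGroup N] [Module R N] [AddCommGroup N']
    [Module R N'] (f : N →ₗ[R] N') (hf : Function.Surjective f) :
    Function.Surjective (mr α f) :=
  Finsupp.mapRange_surjective _ (map_zero f) hf

lemma range_mr {N N' : Type u} [AddCommGroup N] [Module R N] [AddCommGroup N']
    [Module R N'] (f : N →ₗ[R] N') (hf : Function.Injective f) :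
    LinearMap.range (mr α f) = fs α (LinearMap.range f) :=
  Finsupp.range_mapRange_linearMap f (LinearMap.ker_eq_bot.mpr hf) α

lemma ar_range_mr {N N' : Type u} [AddCommGroup N] [Module R N] [AddCommGroup N']
    [Module R N'] [Module.Finite R N'] (f : N →ₗ[R] N') (hf : Function.Injective f) :
    ARCond I (LinearMap.range (mr α f)) := by
  rw [range_mr α f hf]
  exact ar_fs I α _ (Ideal.exists_pow_inf_eq_pow_smul I (LinearMap.range f))

/-- main exactness statement -/
theorem ker_le_range (φ : N₁ →ₗ[R] N₂) (ψ : N₀ →ₗ[R] N₁)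
    (hψ : LinearMap.range ψ = LinearMap.ker φ) :
    LinearMap.ker (AdicCompletion.map I (mr α φ)) ≤
      LinearMap.range (AdicCompletion.map I (mr α ψ)) := by
  -- factor φ through its range
  let J := LinearMap.range φ
  let φ' : N₁ →ₗ[R] J := φ.rangeRestrict
  have hφ : φ = J.subtype ∘ₗ φ' := (LinearMap.subtype_comp_codRestrict _ _ _).symm
  have hφ'surj : Function.Surjective φ' := LinearMap.surjective_rangeRestrict φ
  let K := LinearMap.ker φ
  have hKφ' : Function.Exact K.subtype φ' := by
    intro v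
    constructor
    · intro hv
      refine ⟨⟨v, ?_⟩, rfl⟩
      have : (φ' v : N₂) = 0 := by rw [hv]; rfl
      exact this
    · rintro ⟨w, rfl⟩
      apply Subtype.ext
      exact w.2
  -- ψ factors through K
  let ψ' : N₀ →ₗ[R] K := ψ.codRestrict K (fun c => by
    change ψ c ∈ LinearMap.ker φ
    rw [← hψ]; exact ⟨c, rfl⟩)
  have hψ' : ψ = K.subtype ∘ₗ ψ' := (LinearMap.subtype_comp_codRestrict _ _ _).symm
  have hψ'surj : Function.Surjective ψ' := by
    rintro ⟨v, hv⟩
    have : v ∈ LinearMap.range ψ := by rw [hψ]; exact hv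
    obtain ⟨c, rfl⟩ := this
    exact ⟨c, rfl⟩
  intro X hX
  rw [LinearMap.mem_ker] at hX
  -- pass to φ'
  have h1 : AdicCompletion.map I (mr α φ') X = 0 := by
    have hinj : Function.Injective (AdicCompletion.map I (mr α J.subtype)) :=
      map_injective_of_AR I (mr_injective α _ J.injective_subtype)
        (ar_range_mr I α _ J.injective_subtype)
    apply hinj
    rw [map_zero, AdicCompletion.map_comp_apply, ← Finsupp.mapRange.linearMap_comp, ← hφ]
    exact hX
  -- exactness
  have hex : Function.Exact (AdicCompletion.map I (mr α K.subtype))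
      (AdicCompletion.map I (mr α φ')) := by
    refine map_exact_of_AR (mr_injective α _ K.injective_subtype) ?_
      (mr_surjective α _ hφ'surj) (ar_range_mr I α _ K.injective_subtype)
    intro v
    constructor
    · intro hv
      have hv' : ∀ a, v a ∈ LinearMap.range K.subtype := by
        intro a
        have := congrArg (fun w => w a) hv
        simp only [mr, Finsupp.mapRange.linearMap_apply, Finsupp.mapRange_apply,
          Finsupp.coe_zero, Pi.zero_apply] at this
        exact (hKφ' (v a)).mp this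
      have : v ∈ fs α (LinearMap.range K.subtype) := hv'
      rw [← range_mr α _ K.injective_subtype] at this
      exact this
    · rintro ⟨w, rfl⟩
      refine Finsupp.ext (fun a => ?_)
      simp only [mr, Finsupp.mapRange.linearMap_apply, Finsupp.mapRange_apply,
        Finsupp.coe_zero, Pi.zero_apply]
      exact (hKφ' _).mpr ⟨w a, rfl⟩
  obtain ⟨Y, hY⟩ := (hex X).mp h1
  obtain ⟨W, hW⟩ := AdicCompletion.map_surjective I (mr_surjective α _ hψ'surj) Y
  refine ⟨W, ?_⟩
  have hcomp : mr α (K.subtype ∘ₗ ψ') = mr α K.subtype ∘ₗ mr α ψ' :=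
    Finsupp.mapRange.linearMap_comp _ _
  rw [hψ', hcomp, ← AdicCompletion.map_comp_apply, hW, hY]

omit [IsNoetherianRing R] in
lemma C_sum_smul {N N' : Type u} [AddCommGroup N] [Module R N] [AddCommGroup N']
    [Module R N'] {ι : Type*} [Fintype ι] (c : ι → R) (g : ι → (N →ₗ[R] N'))
    (x : AdicCompletion I (α →₀ N)) :
    AdicCompletion.map I (mr α (∑ j, c j • g j)) x =
      ∑ j, c j • AdicCompletion.map I (mr α (g j)) x := by
  have h : mr α (∑ j, c j • g j) = ∑ j, c j • mr α (g j) := by
    apply LinearMap.ext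
    intro v
    refine Finsupp.ext (fun a => ?_)
    simp [mr, Finsupp.mapRange_apply, LinearMap.sum_apply, Finsupp.finsetSum_apply]
  rw [h, adicMap_sum]
  refine Finset.sum_congr rfl (fun j _ => ?_)
  rw [adicMap_smul]

omit [IsNoetherianRing R] in
lemma C_id {N : Type u} [AddCommGroup N] [Module R N] (x : AdicCompletion I (α →₀ N)) :
    AdicCompletion.map I (mr α (LinearMap.id : N →ₗ[R] N)) x = x := by
  have h : mr α (LinearMap.id : N →ₗ[R] N) = LinearMap.id := Finsupp.mapRange.linearMap_id
  rw [h, AdicCompletion.map_id]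
  rfl

omit [IsNoetherianRing R] in
lemma C_comp {N N' N'' : Type u} [AddCommGroup N] [Module R N] [AddCommGroup N']
    [Module R N'] [AddCommGroup N''] [Module R N''] (f : N →ₗ[R] N') (g : N' →ₗ[R] N'')
    (x : AdicCompletion I (α →₀ N)) :
    AdicCompletion.map I (mr α g) (AdicCompletion.map I (mr α f) x) =
      AdicCompletion.map I (mr α (g ∘ₗ f)) x := by
  have h : mr α (g ∘ₗ f) = mr α g ∘ₗ mr α f := Finsupp.mapRange.linearMap_comp _ _
  rw [h, AdicCompletion.map_comp_apply]

theorem flat_completion_free : Module.Flat R (AdicCompletion I (α →₀ R)) := by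
  classical
  apply Module.Flat.of_forall_isTrivialRelation
  intro l r x hx
  let φ : (Fin l → R) →ₗ[R] R := ∑ i, r i • (LinearMap.proj i : (Fin l → R) →ₗ[R] R)
  have hφ_apply : ∀ c : Fin l → R, φ c = ∑ i, r i * c i := by
    intro c
    simp [φ, LinearMap.sum_apply]
  obtain ⟨s, v, hv⟩ := Module.Finite.exists_fin (R := R) (M := LinearMap.ker φ)
  let ψ : (Fin s → R) →ₗ[R] (Fin l → R) :=
    Fintype.linearCombination R (fun j => ((v j : LinearMap.ker φ) : Fin l → R))
  have hψ : LinearMap.range ψ = LinearMap.ker φ := by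
    rw [Fintype.range_linearCombination]
    have : (Set.range fun j => ((v j : LinearMap.ker φ) : Fin l → R)) =
        (LinearMap.ker φ).subtype '' Set.range v := by
      ext w
      simp [Set.mem_image]
    rw [this, ← Submodule.map_span, hv, Submodule.map_top, Submodule.range_subtype]
  let sg : ∀ i : Fin l, R →ₗ[R] (Fin l → R) := fun i => LinearMap.single R (fun _ : Fin l => R) i
  let X : AdicCompletion I (α →₀ (Fin l → R)) := ∑ i, AdicCompletion.map I (mr α (sg i)) (x i)
  have hX : AdicCompletion.map I (mr α φ) X = 0 := by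
    simp only [X, map_sum, C_comp]
    rw [← hx]
    refine Finset.sum_congr rfl (fun i _ => ?_)
    have h1 : φ ∘ₗ sg i = ∑ j : Fin 1, (fun _ => r i) j • (fun _ => (LinearMap.id : R →ₗ[R] R)) j := by
      apply LinearMap.ext
      intro c
      simp [hφ_apply, sg, Pi.single_apply]
    rw [h1, C_sum_smul]
    simp
  obtain ⟨W, hW⟩ := ker_le_range I α φ ψ hψ hX
  refine ⟨s, fun i j => ((v j : LinearMap.ker φ) : Fin l → R) i,
    fun j => AdicCompletion.map I (mr α (LinearMap.proj j : (Fin s → R) →ₗ[R] R)) W, ?_, ?_⟩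
  · intro i
    have h2 : x i = AdicCompletion.map I (mr α (LinearMap.proj i : (Fin l → R) →ₗ[R] R)) X := by
      simp only [X, map_sum, C_comp]
      rw [Finset.sum_eq_single i]
      · have : (LinearMap.proj i : (Fin l → R) →ₗ[R] R) ∘ₗ sg i = LinearMap.id := by
          apply LinearMap.ext
          intro c
          simp [sg]
        rw [this, C_id]
      · intro i' _ hne
        have : (LinearMap.proj i : (Fin l → R) →ₗ[R] R) ∘ₗ sg i' = 0 := by
          apply LinearMap.ext
          intro c
          simp [sg, hne.symm]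
        rw [this]
        have h0 : mr α (0 : R →ₗ[R] R) = 0 := by
          apply LinearMap.ext
          intro w
          refine Finsupp.ext (fun a => ?_)
          simp [mr, Finsupp.mapRange_apply]
        rw [h0, AdicCompletion.map_zero]
        rfl
      · intro h
        exact absurd (Finset.mem_univ i) h
    rw [h2, ← hW, C_comp]
    have h3 : (LinearMap.proj i : (Fin l → R) →ₗ[R] R) ∘ₗ ψ =
        ∑ j, (((v j : LinearMap.ker φ) : Fin l → R) i) • (LinearMap.proj j : (Fin s → R) →ₗ[R] R) := by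
      apply LinearMap.ext
      intro c
      simp [ψ, Fintype.linearCombination_apply, LinearMap.sum_apply, mul_comm]
    rw [h3, C_sum_smul]
  · intro j
    have : φ ((v j : LinearMap.ker φ) : Fin l → R) = 0 := (v j).2
    rw [hφ_apply] at this
    exact this

end Part4

end Groth.Agent.Lib.Helper63.ComplFree
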