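import Mathlib.Topology.Spectral.ConstructibleTopology
import Mathlib.Topology.Spectral.Prespectral
import Mathlib.Topology.QuasiSeparated
import Mathlib.Topology.Sober
import Mathlib.Topology.Compactness.LocallyCompact
import Mathlib.Topology.Connected.TotallyDisconnected
import Mathlib.Topology.Connected.Separation
import Mathlib.Topology.Separation.Basic

set_option autoImplicit false

namespace Groth.Agent.Lib.Helper63

open Topology

variable {X : Type*} [TopologicalSpace X]

/-- A compact open subset of `X`, viewed in `WithConstructibleTopology X`, is open. -/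
theorem isOpen_preimage_ofTopology_of_isCompact_isOpen {U : Set X} (hU : IsOpen U)
    (hc : IsCompact U) :
    IsOpen (WithTopology.ofTopology ⁻¹' U : Set (WithConstructibleTopology X)) := by
  rw [WithConstructibleTopology.isOpen_iff]
  exact hc.isOpen_constructibleTopology_of_isOpen hU

/-- The complement of a compact open subset of `X`, viewed in `WithConstructibleTopology X`,
is open. -/
theorem isOpen_preimage_ofTopology_compl_of_isCompact_isOpen {U : Set X} (hU : IsOpen U)
    (hc : IsCompact U) :
    IsOpen (WithTopology.ofTopology ⁻¹' Uᶜ : Set (WithConstructibleTopology X)) := by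
  rw [WithConstructibleTopology.isOpen_iff]
  change IsOpen[constructibleTopology X] Uᶜ
  exact IsCompact.isOpen_constructibleTopology_of_isClosed (by rwa [compl_compl])
    hU.isClosed_compl

theorem isClopen_preimage_ofTopology_of_isCompact_isOpen {U : Set X} (hU : IsOpen U)
    (hc : IsCompact U) :
    IsClopen (WithTopology.ofTopology ⁻¹' U : Set (WithConstructibleTopology X)) := by
  refine ⟨?_, isOpen_preimage_ofTopology_of_isCompact_isOpen hU hc⟩
  rw [← isOpen_compl_iff, ← Set.preimage_compl]
  exact isOpen_preimage_ofTopology_compl_of_isCompact_isOpen hU hc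

/-- For a `T0` prespectral space the constructible topology is totally separated. -/
theorem totallySeparatedSpace_withConstructibleTopology [T0Space X] [PrespectralSpace X] :
    TotallySeparatedSpace (WithConstructibleTopology X) := by
  rw [totallySeparatedSpace_iff_exists_isClopen]
  intro x y hxy
  have hxy' : x.ofTopology ≠ y.ofTopology := fun h => hxy (WithTopology.ofTopology_injective _ h)
  obtain ⟨U, hU, hx⟩ := exists_isOpen_xor_mem hxy'
  rcases hx with ⟨hxU, hyU⟩ | ⟨hyU, hxU⟩
  · obtain ⟨V, ⟨hVo, hVc⟩, hxV, hVU⟩ :=
      (PrespectralSpace.isTopologicalBasis (X := X)).exists_subset_of_mem_open hxU hU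
    exact ⟨_, isClopen_preimage_ofTopology_of_isCompact_isOpen hVo hVc, hxV,
      fun hyV => hyU (hVU hyV)⟩
  · obtain ⟨V, ⟨hVo, hVc⟩, hyV, hVU⟩ :=
      (PrespectralSpace.isTopologicalBasis (X := X)).exists_subset_of_mem_open hyU hU
    refine ⟨_, (isClopen_preimage_ofTopology_of_isCompact_isOpen hVo hVc).compl,
      fun hxV => hxU (hVU hxV), ?_⟩
    rw [compl_compl]
    exact hyV

/-- The inclusion of an open subset of a quasi-separated space is continuous for the
constructible topologies. -/
theorem continuous_subtypeVal_constructibleTopology [QuasiSeparatedSpace X] {V : Set X}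
    (hVo : IsOpen V) (hVc : IsCompact V) :
    @Continuous V X (constructibleTopology V) (constructibleTopology X) Subtype.val := by
  have key : ∀ s : Set X, IsOpen s → IsCompact s →
      IsCompact (Subtype.val ⁻¹' s : Set V) := by
    intro s hso hsc
    rw [Subtype.isCompact_iff, Subtype.image_preimage_coe]
    exact QuasiSeparatedSpace.inter_isCompact _ _ hVo hVc hso hsc
  unfold constructibleTopology
  rw [continuous_generateFrom_iff]
  rintro s (⟨hso, hsc⟩ | ⟨hsc, hsk⟩)
  · exact (key s hso hsc).isOpen_constructibleTopology_of_isOpen
      (hso.preimage continuous_subtype_val)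
  · apply IsCompact.isOpen_constructibleTopology_of_isClosed
    · rw [← Set.preimage_compl]
      exact key sᶜ hsc.isOpen_compl hsk
    · exact hsc.preimage continuous_subtype_val

/-- A compact open subset of a quasi-separated, quasi-sober, prespectral space is compact in the
constructible topology. -/
theorem isCompact_preimage_ofTopology_of_isCompact_isOpen [QuasiSeparatedSpace X] [QuasiSober X]
    [PrespectralSpace X] {V : Set X} (hVo : IsOpen V) (hVc : IsCompact V) :
    IsCompact (WithTopology.ofTopology ⁻¹' V : Set (WithConstructibleTopology X)) := by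
  have : CompactSpace V := isCompact_iff_compactSpace.mp hVc
  have : QuasiSober V := hVo.isOpenEmbedding_subtypeVal.quasiSober
  have : PrespectralSpace V := hVo.isOpenEmbedding_subtypeVal.prespectralSpace
  have : QuasiSeparatedSpace V := hVo.isOpenEmbedding_subtypeVal.quasiSeparatedSpace
  let j : WithConstructibleTopology V → WithConstructibleTopology X :=
    fun v => WithTopology.toTopology _ (v.ofTopology : X)
  have hj : Continuous j := by
    refine ⟨fun s hs => ?_⟩
    rw [WithConstructibleTopology.isOpen_iff] at hs ⊢
    obtain ⟨h⟩ := continuous_subtypeVal_constructibleTopology hVo hVc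
    exact h _ hs
  have hr : Set.range j = WithTopology.ofTopology ⁻¹' V := by
    ext w
    constructor
    · rintro ⟨v, rfl⟩
      exact v.ofTopology.2
    · intro hw
      exact ⟨WithTopology.toTopology _ ⟨w.ofTopology, hw⟩, rfl⟩
  rw [← hr]
  exact isCompact_range hj

/-- The constructible topology of a quasi-separated, quasi-sober, prespectral space is weakly
locally compact. -/
theorem weaklyLocallyCompactSpace_withConstructibleTopology [QuasiSeparatedSpace X] [QuasiSober X]
    [PrespectralSpace X] : WeaklyLocallyCompactSpace (WithConstructibleTopology X) := by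
  refine ⟨fun x => ?_⟩
  obtain ⟨V, ⟨hVo, hVc⟩, hxV, -⟩ :=
    (PrespectralSpace.isTopologicalBasis (X := X)).exists_subset_of_mem_open
      (Set.mem_univ x.ofTopology) isOpen_univ
  exact ⟨_, isCompact_preimage_ofTopology_of_isCompact_isOpen hVo hVc,
    (isOpen_preimage_ofTopology_of_isCompact_isOpen hVo hVc).mem_nhds hxV⟩

end Groth.Agent.Lib.Helper63
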