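import Groth.Agent.Lib.Helper63.ConsTop
import Mathlib.Topology.Constructible
import Mathlib.Topology.Bases

set_option autoImplicit false

namespace Groth.Agent.Lib.Helper63

open Topology TopologicalSpace

/-- Abstract principle: in a space whose topology is generated by `𝔅`, a compact open set is a
finite union of finite intersections of members of `𝔅`; hence it satisfies every property that
holds on `𝔅` and is stable under finite intersections and finite unions. -/
theorem prop_of_isCompact_isOpen_generateFrom {T : Type*} [t : TopologicalSpace T]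
    {𝔅 : Set (Set T)} (ht : t = generateFrom 𝔅) (P : Set T → Prop)
    (hI : ∀ f : Set (Set T), f.Finite → f ⊆ 𝔅 → P (⋂₀ f))
    (hempty : P ∅) (hunion : ∀ a b, P a → P b → P (a ∪ b))
    {K : Set T} (hKo : IsOpen K) (hKc : IsCompact K) : P K := by
  classical
  have hbasis := isTopologicalBasis_of_subbasis ht
  have : ∀ x : K, ∃ v, v ∈ ((fun f => ⋂₀ f) '' {f : Set (Set T) | f.Finite ∧ f ⊆ 𝔅}) ∧
      x.1 ∈ v ∧ v ⊆ K := fun x => hbasis.exists_subset_of_mem_open x.2 hKo
  choose v hv1 hv2 hv3 using this
  obtain ⟨s, hs⟩ := hKc.elim_nhds_subcover' (fun x hx => v ⟨x, hx⟩)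
    (fun x hx => (hbasis.isOpen (hv1 ⟨x, hx⟩)).mem_nhds (hv2 ⟨x, hx⟩))
  have hK : K = ⋃ x ∈ s, v x := by
    apply Set.Subset.antisymm
    · exact hs
    · exact Set.iUnion₂_subset fun x _ => hv3 x
  have hPv : ∀ x, P (v x) := by
    intro x
    obtain ⟨f, ⟨hf1, hf2⟩, hfv⟩ := hv1 x
    rw [← hfv]
    exact hI f hf1 hf2
  rw [hK]
  clear hK hs
  induction s using Finset.induction_on with
  | empty => simpa using hempty
  | insert a s _ ih =>
    rw [Finset.set_biUnion_insert]
    exact hunion _ _ (hPv a) ih

variable {X : Type*} [TopologicalSpace X]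

/-- Constructible sets are clopen in the constructible topology. -/
theorem isClopen_cons_of_isConstructible [PrespectralSpace X] {s : Set X}
    (hs : IsConstructible s) : @IsClopen X (constructibleTopology X) s := by
  induction hs using IsConstructible.empty_union_induction with
  | open_retrocompact U hUo hUr =>
    have hbasis := PrespectralSpace.isTopologicalBasis (X := X)
    have h1 : ∀ x ∈ U, ∃ V, IsOpen V ∧ IsCompact V ∧ x ∈ V ∧ V ⊆ U := by
      intro x hx
      obtain ⟨V, ⟨hVo, hVc⟩, hxV, hVU⟩ := hbasis.exists_subset_of_mem_open hx hUo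
      exact ⟨V, hVo, hVc, hxV, hVU⟩
    have h2 : ∀ x : X, ∃ V, IsOpen V ∧ IsCompact V ∧ x ∈ V := by
      intro x
      obtain ⟨V, ⟨hVo, hVc⟩, hxV, -⟩ :=
        hbasis.exists_subset_of_mem_open (Set.mem_univ x) isOpen_univ
      exact ⟨V, hVo, hVc, hxV⟩
    have hVopen : ∀ V : Set X, IsOpen V → IsCompact V → IsOpen[constructibleTopology X] V :=
      fun V ho hc => hc.isOpen_constructibleTopology_of_isOpen ho
    have hVclosed : ∀ V : Set X, IsOpen V → IsCompact V → IsOpen[constructibleTopology X] Vᶜ :=
      fun V ho hc => IsCompact.isOpen_constructibleTopology_of_isClosed (by rwa [compl_compl])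
        ho.isClosed_compl
    have hUV : ∀ V : Set X, IsOpen V → IsCompact V → IsOpen (U ∩ V) ∧ IsCompact (U ∩ V) :=
      fun V ho hc => ⟨hUo.inter ho, hUr hc ho⟩
    let _ := constructibleTopology X
    constructor
    · rw [← isOpen_compl_iff, isOpen_iff_forall_mem_open]
      intro x hx
      obtain ⟨V, hVo, hVc, hxV⟩ := h2 x
      obtain ⟨h3, h4⟩ := hUV V hVo hVc
      refine ⟨V ∩ (U ∩ V)ᶜ, ?_, (hVopen V hVo hVc).inter (hVclosed (U ∩ V) h3 h4),
        ⟨hxV, fun h => hx h.1⟩⟩
      rintro y ⟨hyV, hyUV⟩ hyU
      exact hyUV ⟨hyU, hyV⟩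
    · rw [isOpen_iff_forall_mem_open]
      intro x hx
      obtain ⟨V, hVo, hVc, hxV, hVU⟩ := h1 x hx
      exact ⟨V, hVU, hVopen V hVo hVc, hxV⟩
  | union s hs t ht hs' ht' => exact @IsClopen.union X (constructibleTopology X) _ _ hs' ht'
  | compl s hs hs' => exact @IsClopen.compl X (constructibleTopology X) _ hs'

theorem isLocallyConstructible_compl {s : Set X} (hs : IsLocallyConstructible s) :
    IsLocallyConstructible sᶜ := by
  intro x
  obtain ⟨U, hxU, hU, hUs⟩ := hs x
  refine ⟨U, hxU, hU, ?_⟩
  rw [Set.preimage_compl]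
  exact hUs.compl

/-- Locally constructible sets are open in the constructible topology. -/
theorem isOpen_cons_of_isLocallyConstructible [PrespectralSpace X] [QuasiSeparatedSpace X]
    {s : Set X} (hs : IsLocallyConstructible s) : IsOpen[constructibleTopology X] s := by
  have hbasis := PrespectralSpace.isTopologicalBasis (X := X)
  have h2 : ∀ x : X, ∃ V, IsOpen V ∧ IsCompact V ∧ x ∈ V := by
    intro x
    obtain ⟨V, ⟨hVo, hVc⟩, hxV, -⟩ :=
      hbasis.exists_subset_of_mem_open (Set.mem_univ x) isOpen_univ
    exact ⟨V, hVo, hVc, hxV⟩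
  have h3 : ∀ V : Set X, IsOpen V → IsCompact V → IsOpen[constructibleTopology X] (s ∩ V) :=
    fun V ho hc => (isClopen_cons_of_isConstructible (hs.inter_of_isOpen_isCompact ho hc)).2
  let _ := constructibleTopology X
  rw [isOpen_iff_forall_mem_open]
  intro x hx
  obtain ⟨V, hVo, hVc, hxV⟩ := h2 x
  exact ⟨s ∩ V, Set.inter_subset_left, h3 V hVo hVc, ⟨hx, hxV⟩⟩

theorem isClopen_cons_of_isLocallyConstructible [PrespectralSpace X] [QuasiSeparatedSpace X]
    {s : Set X} (hs : IsLocallyConstructible s) :
    IsOpen[constructibleTopology X] s ∧ IsClosed[constructibleTopology X] s := by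
  refine ⟨isOpen_cons_of_isLocallyConstructible hs, ?_⟩
  have := isOpen_cons_of_isLocallyConstructible (isLocallyConstructible_compl hs)
  exact (@isOpen_compl_iff X s (constructibleTopology X)).mp this

theorem isConstructible_of_mem_subbasis [QuasiSeparatedSpace X] {s : Set X}
    (hs : s ∈ constructibleTopologySubbasis X) : IsConstructible s := by
  rcases hs with ⟨ho, hc⟩ | ⟨hcl, hc⟩
  · exact hc.isConstructible ho
  · have := hc.isConstructible hcl.isOpen_compl
    rwa [isConstructible_compl] at this

/-- A compact open subset is compact in the constructible topology (stated on `X` itself). -/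
theorem isCompact_cons_of_isCompact_isOpen [QuasiSeparatedSpace X] [QuasiSober X]
    [PrespectralSpace X] {V : Set X} (hVo : IsOpen V) (hVc : IsCompact V) :
    @IsCompact X (constructibleTopology X) V := by
  have h := isCompact_preimage_ofTopology_of_isCompact_isOpen hVo hVc
  have h2 := @IsCompact.image _ X _ (constructibleTopology X) _ _ h
    (WithTopology.continuous_ofTopology (constructibleTopology X))
  rwa [Set.image_preimage_eq _ (WithTopology.ofTopology_surjective _)] at h2

/-- A set which is clopen for the constructible topology meets every compact open subset in a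
constructible set. -/
theorem isConstructible_inter_of_isClopen_cons [QuasiSeparatedSpace X] [QuasiSober X]
    [PrespectralSpace X] {E : Set X} (hEo : IsOpen[constructibleTopology X] E)
    (hEc : IsClosed[constructibleTopology X] E) {V : Set X} (hVo : IsOpen V) (hVc : IsCompact V) :
    IsConstructible (E ∩ V) := by
  have hV1 : IsOpen[constructibleTopology X] V := hVc.isOpen_constructibleTopology_of_isOpen hVo
  have hV2 := isCompact_cons_of_isCompact_isOpen hVo hVc
  have hK1 : IsOpen[constructibleTopology X] (E ∩ V) := by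
    let _ := constructibleTopology X
    exact hEo.inter hV1
  have hK2 : @IsCompact X (constructibleTopology X) (E ∩ V) := by
    let _ := constructibleTopology X
    exact hV2.inter_left hEc
  refine @prop_of_isCompact_isOpen_generateFrom X (constructibleTopology X)
    (constructibleTopologySubbasis X) rfl IsConstructible ?_ IsConstructible.empty
    (fun a b ha hb => ha.union hb) (E ∩ V) hK1 hK2
  intro f hf hfs
  exact IsConstructible.sInter hf fun s hs => isConstructible_of_mem_subbasis (hfs hs)

/-- Characterisation of locally constructible sets through the constructible topology. -/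
theorem isLocallyConstructible_iff_isClopen_cons [QuasiSeparatedSpace X] [QuasiSober X]
    [PrespectralSpace X] (E : Set X) :
    IsLocallyConstructible E ↔
      (IsOpen[constructibleTopology X] E ∧ IsClosed[constructibleTopology X] E) := by
  refine ⟨isClopen_cons_of_isLocallyConstructible, ?_⟩
  rintro ⟨hEo, hEc⟩ x
  obtain ⟨V, ⟨hVo, hVc⟩, hxV, -⟩ :=
    (PrespectralSpace.isTopologicalBasis (X := X)).exists_subset_of_mem_open
      (Set.mem_univ x) isOpen_univ
  refine ⟨V, hVo.mem_nhds hxV, hVo, ?_⟩
  have h := isConstructible_inter_of_isClopen_cons hEo hEc hVo hVc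
  have h2 := h.preimage_of_isOpenEmbedding hVo.isOpenEmbedding_subtypeVal
  rwa [Subtype.preimage_coe_inter_self] at h2

end Groth.Agent.Lib.Helper63
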