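import Groth.Agent.Lib.Helper63.ConsTop2
import Mathlib.Topology.Maps.Proper.Basic
import Mathlib.Topology.Maps.Proper.CompactlyGenerated
import Mathlib.Topology.Compactness.CompactlyCoherentSpace

set_option autoImplicit false

namespace Groth.Agent.Lib.Helper63

open Topology TopologicalSpace

section transfer

variable {X Y : Type*} [tX : TopologicalSpace X] [tY : TopologicalSpace Y]

/-- the tautological homeomorphism `X ≃ₜ WithTopology X t` -/
def homeoWithTopology (X : Type*) [tX : TopologicalSpace X] : X ≃ₜ WithTopology X tX where
  toFun := WithTopology.toTopology tX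
  invFun := WithTopology.ofTopology
  left_inv _ := rfl
  right_inv _ := rfl
  continuous_toFun := WithTopology.continuous_toTopology tX
  continuous_invFun := WithTopology.continuous_ofTopology tX

/-- Properness can be tested on the `WithTopology` copies. -/
theorem isProperMap_iff_withTopology (f : X → Y) :
    IsProperMap f ↔
      IsProperMap (fun w : WithTopology X tX => WithTopology.toTopology tY (f w.ofTopology)) := by
  constructor
  · intro h
    exact ((homeoWithTopology Y).isProperMap.comp h).comp (homeoWithTopology X).symm.isProperMap
  · intro h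
    exact ((homeoWithTopology Y).symm.isProperMap.comp h).comp (homeoWithTopology X).isProperMap

end transfer

variable {X Y : Type*} [TopologicalSpace X] [TopologicalSpace Y]

/-- open sets of a prespectral space are open in the constructible topology -/
theorem isOpen_cons_of_isOpen [PrespectralSpace X] {U : Set X} (hU : IsOpen U) :
    IsOpen[constructibleTopology X] U := by
  have h1 : ∀ x ∈ U, ∃ V, IsOpen[constructibleTopology X] V ∧ x ∈ V ∧ V ⊆ U := by
    intro x hx
    obtain ⟨V, ⟨hVo, hVc⟩, hxV, hVU⟩ :=
      (PrespectralSpace.isTopologicalBasis (X := X)).exists_subset_of_mem_open hx hU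
    exact ⟨V, hVc.isOpen_constructibleTopology_of_isOpen hVo, hxV, hVU⟩
  let _ := constructibleTopology X
  rw [isOpen_iff_forall_mem_open]
  intro x hx
  obtain ⟨V, hV, hxV, hVU⟩ := h1 x hx
  exact ⟨V, hVU, hV, hxV⟩

/-- `ofTopology : WithConstructibleTopology X → X` is continuous for the original topology. -/
theorem continuous_ofTopology_cons [PrespectralSpace X] :
    Continuous (WithTopology.ofTopology : WithConstructibleTopology X → X) := by
  refine ⟨fun s hs => ?_⟩
  rw [WithConstructibleTopology.isOpen_iff]
  exact isOpen_cons_of_isOpen hs

/-- A spectral map is continuous for the constructible topologies. -/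
theorem continuous_cons_of_isSpectral {f : X → Y} (hf : Continuous f)
    (hqc : ∀ V : Set Y, IsOpen V → IsCompact V → IsCompact (f ⁻¹' V)) :
    @Continuous X Y (constructibleTopology X) (constructibleTopology Y) f := by
  unfold constructibleTopology
  rw [continuous_generateFrom_iff]
  rintro s (⟨hso, hsc⟩ | ⟨hsc, hsk⟩)
  · exact (hqc s hso hsc).isOpen_constructibleTopology_of_isOpen (hso.preimage hf)
  · apply IsCompact.isOpen_constructibleTopology_of_isClosed
    · rw [← Set.preimage_compl]
      exact hqc sᶜ hsc.isOpen_compl hsk
    · exact hsc.preimage hf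

/-- the map induced on the constructible-topology copies -/
def consMap (f : X → Y) : WithConstructibleTopology X → WithConstructibleTopology Y :=
  fun w => WithTopology.toTopology _ (f w.ofTopology)

theorem continuous_consMap {f : X → Y} (hf : Continuous f)
    (hqc : ∀ V : Set Y, IsOpen V → IsCompact V → IsCompact (f ⁻¹' V)) :
    Continuous (consMap f) := by
  refine ⟨fun s hs => ?_⟩
  rw [WithConstructibleTopology.isOpen_iff] at hs ⊢
  obtain ⟨h⟩ := continuous_cons_of_isSpectral hf hqc
  exact h _ hs

theorem isProperMap_consMap_iff [T0Space Y] [PrespectralSpace X] [PrespectralSpace Y]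
    [QuasiSeparatedSpace X] [QuasiSeparatedSpace Y] [QuasiSober X] [QuasiSober Y]
    {f : X → Y} (hf : Continuous f) :
    (∀ V : Set Y, IsOpen V → IsCompact V → IsCompact (f ⁻¹' V)) ↔ IsProperMap (consMap f) := by
  have : TotallySeparatedSpace (WithConstructibleTopology Y) :=
    totallySeparatedSpace_withConstructibleTopology
  have : WeaklyLocallyCompactSpace (WithConstructibleTopology Y) :=
    weaklyLocallyCompactSpace_withConstructibleTopology
  constructor
  · intro hqc
    rw [isProperMap_iff_isCompact_preimage]
    have hcont := continuous_consMap hf hqc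
    refine ⟨hcont, fun K hK => ?_⟩
    -- cover K by compact opens
    have hcov : ∀ y : WithConstructibleTopology Y, ∃ V : Set Y, IsOpen V ∧ IsCompact V ∧
        y.ofTopology ∈ V := by
      intro y
      obtain ⟨V, ⟨hVo, hVc⟩, hyV, -⟩ :=
        (PrespectralSpace.isTopologicalBasis (X := Y)).exists_subset_of_mem_open
          (Set.mem_univ y.ofTopology) isOpen_univ
      exact ⟨V, hVo, hVc, hyV⟩
    choose V hVo hVc hyV using hcov
    obtain ⟨t, -, ht⟩ := hK.elim_nhds_subcover
      (fun y => (WithTopology.ofTopology ⁻¹' V y : Set (WithConstructibleTopology Y)))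
      (fun y _ => (isOpen_preimage_ofTopology_of_isCompact_isOpen (hVo y) (hVc y)).mem_nhds (hyV y))
    have hcl : IsClosed (consMap f ⁻¹' K) := hK.isClosed.preimage hcont
    have hbig : IsCompact (⋃ y ∈ t, (WithTopology.ofTopology ⁻¹' (f ⁻¹' V y) :
        Set (WithConstructibleTopology X))) := by
      apply t.isCompact_biUnion
      intro y _
      exact isCompact_preimage_ofTopology_of_isCompact_isOpen ((hVo y).preimage hf)
        (hqc _ (hVo y) (hVc y))
    apply hbig.of_isClosed_subset hcl
    intro w hw
    have := ht hw
    simp only [Set.mem_iUnion, Set.mem_preimage] at this ⊢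
    obtain ⟨y, hyt, hy⟩ := this
    exact ⟨y, hyt, hy⟩
  · intro hp V hVo hVc
    have h1 := isCompact_preimage_ofTopology_of_isCompact_isOpen hVo hVc
    have h2 := hp.isCompact_preimage h1
    have h3 := h2.image continuous_ofTopology_cons
    have e : WithTopology.ofTopology '' (consMap f ⁻¹' (WithTopology.ofTopology ⁻¹' V)) =
        f ⁻¹' V := by
      ext x
      constructor
      · rintro ⟨w, hw, rfl⟩
        exact hw
      · intro hx
        exact ⟨WithTopology.toTopology _ x, hx, rfl⟩
    rwa [e] at h3

/-- Spectral maps are exactly the maps that are proper for the constructible topologies. -/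
theorem isProperMap_cons_iff [T0Space Y] [PrespectralSpace X] [PrespectralSpace Y]
    [QuasiSeparatedSpace X] [QuasiSeparatedSpace Y] [QuasiSober X] [QuasiSober Y]
    {f : X → Y} (hf : Continuous f) :
    (∀ V : Set Y, IsOpen V → IsCompact V → IsCompact (f ⁻¹' V)) ↔
      @IsProperMap X Y (constructibleTopology X) (constructibleTopology Y) f := by
  rw [isProperMap_consMap_iff hf]
  exact (@isProperMap_iff_withTopology X Y (constructibleTopology X) (constructibleTopology Y) f).symm

end Groth.Agent.Lib.Helper63
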