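import Mathlib

/-!
# Ext¹ between the two branches of a "node-like" ring

For a commutative `k`-algebra `A` with elements `x y` such that `x * y = 0`, `ann y = (x)` and
`A/(x,y) = k`, we show `Ext¹_A(A/(y), A/(x))` is one-dimensional over `k`.
-/

universe u
open CategoryTheory

namespace Groth.Agent.Lib.Helper63.ExtNode

section lin
variable {k V W : Type*} [Field k] [AddCommGroup V] [Module k V] [AddCommGroup W] [Module k W]

theorem finrank_eq_one_of_surj (δ : V →ₗ[k] W) (Φ : V →ₗ[k] k) (hδ : Function.Surjective δ)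
    (hΦ : Function.Surjective Φ) (hker : LinearMap.ker δ = LinearMap.ker Φ) :
    Module.finrank k W = 1 := by
  have e1 := δ.quotKerEquivOfSurjective hδ
  have e2 := Φ.quotKerEquivOfSurjective hΦ
  have e3 : (V ⧸ LinearMap.ker δ) ≃ₗ[k] (V ⧸ LinearMap.ker Φ) := Submodule.quotEquivOfEq _ _ hker
  have e : W ≃ₗ[k] k := e1.symm.trans (e3.trans e2)
  rw [e.finrank_eq, Module.finrank_self]

end lin

variable {k A : Type u} [Field k] [CommRing A] [Algebra k A] (x y : A)

/-- multiplication by `y` as a map `A/(x) → A`. -/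
noncomputable def mulY (hxy : x * y = 0) : (A ⧸ Ideal.span {x}) →ₗ[A] A :=
  Submodule.liftQ (Ideal.span {x}) (LinearMap.toSpanSingleton A A y) (by
    rw [Ideal.span, Submodule.span_le]
    rintro _ rfl
    simp [LinearMap.mem_ker, hxy])

@[simp] lemma mulY_mk (hxy : x * y = 0) (a : A) :
    mulY x y hxy (Ideal.Quotient.mk _ a) = a * y := by
  change (LinearMap.toSpanSingleton A A y) a = _
  simp

/-- The short complex `0 → A/(x) → A → A/(y) → 0`. -/
noncomputable abbrev S (hxy : x * y = 0) : ShortComplex (ModuleCat.{u} A) :=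
  ShortComplex.mk (X₁ := ModuleCat.of A (A ⧸ Ideal.span {x})) (X₂ := ModuleCat.of A A)
    (X₃ := ModuleCat.of A (A ⧸ Ideal.span {y}))
    (ModuleCat.ofHom (mulY x y hxy))
    (ModuleCat.ofHom (Submodule.mkQ (Ideal.span {y})))
    (by
      apply ModuleCat.hom_ext
      apply LinearMap.ext
      intro a
      obtain ⟨a, rfl⟩ := Ideal.Quotient.mk_surjective a
      simp only [ModuleCat.hom_comp, ModuleCat.hom_ofHom, LinearMap.comp_apply, mulY_mk]
      change Ideal.Quotient.mk (Ideal.span {y}) (a * y) = 0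
      rw [Ideal.Quotient.eq_zero_iff_mem]
      exact Ideal.mul_mem_left _ _ (Ideal.subset_span rfl))

lemma shortExact (hxy : x * y = 0) (hann : ∀ a : A, a * y = 0 → a ∈ Ideal.span {x}) :
    (S x y hxy).ShortExact := by
  have hmono : Mono (S x y hxy).f := by
    rw [ModuleCat.mono_iff_injective]
    rw [injective_iff_map_eq_zero]
    intro a ha
    obtain ⟨a, rfl⟩ := Ideal.Quotient.mk_surjective a
    change mulY x y hxy _ = 0 at ha
    rw [mulY_mk] at ha
    exact Ideal.Quotient.eq_zero_iff_mem.mpr (hann a ha)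
  have hepi : Epi (S x y hxy).g := by
    rw [ModuleCat.epi_iff_surjective]
    exact Submodule.mkQ_surjective _
  refine ShortComplex.ShortExact.mk ?_
  rw [ShortComplex.moduleCat_exact_iff]
  intro (a : A) ha
  change Ideal.Quotient.mk (Ideal.span {y}) a = 0 at ha
  rw [Ideal.Quotient.eq_zero_iff_mem, Ideal.mem_span_singleton'] at ha
  obtain ⟨b, rfl⟩ := ha
  exact ⟨Ideal.Quotient.mk _ b, mulY_mk x y hxy b⟩


open Abelian

/-- the connecting map `Hom(A/(x), N) → Ext¹(A/(y), N)` as a `k`-linear map. -/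
noncomputable def δ (hxy : x * y = 0) (hS : (S x y hxy).ShortExact) (N : ModuleCat.{u} A) :
    Ext (S x y hxy).X₁ N 0 →ₗ[k] Ext (S x y hxy).X₃ N 1 :=
  (Ext.bilinearCompOfLinear k (S x y hxy).X₃ (S x y hxy).X₁ N 1 0 1 (add_zero 1)) hS.extClass

lemma δ_apply (hxy : x * y = 0) (hS : (S x y hxy).ShortExact) (N : ModuleCat.{u} A)
    (z : Ext (S x y hxy).X₁ N 0) :
    δ (k := k) x y hxy hS N z = hS.extClass.comp z (add_zero 1) := rfl

lemma δ_surjective (hxy : x * y = 0) (hS : (S x y hxy).ShortExact) (N : ModuleCat.{u} A) :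
    Function.Surjective (δ (k := k) x y hxy hS N) := by
  intro x₃
  have : Projective (S x y hxy).X₂ := by
    change Projective (ModuleCat.of A A)
    exact ModuleCat.projective_of_free (Module.Free.chooseBasis A A)
  have h0 : (Ext.mk₀ (S x y hxy).g).comp x₃ (zero_add 1) = 0 := Ext.eq_zero_of_projective _
  obtain ⟨x₁, hx₁⟩ := Ext.contravariant_sequence_exact₃ hS N x₃ h0 (add_zero 1)
  exact ⟨x₁, hx₁⟩

lemma δ_eq_zero_iff (hxy : x * y = 0) (hS : (S x y hxy).ShortExact) (N : ModuleCat.{u} A)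
    (z : Ext (S x y hxy).X₁ N 0) :
    δ (k := k) x y hxy hS N z = 0 ↔ ∃ φ : (S x y hxy).X₂ ⟶ N, z = Ext.mk₀ ((S x y hxy).f ≫ φ) := by
  rw [δ_apply]
  constructor
  · intro h
    obtain ⟨x₂, hx₂⟩ := Ext.contravariant_sequence_exact₁ hS N z (add_zero 1) h
    obtain ⟨φ, rfl⟩ := Ext.addEquiv₀.symm.surjective x₂
    refine ⟨φ, ?_⟩
    rw [← hx₂]
    simp
  · rintro ⟨φ, rfl⟩
    rw [← Ext.mk₀_comp_mk₀, ← Ext.comp_assoc_of_second_deg_zero,
      hS.extClass_comp, Ext.zero_comp]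


variable (ε : A →+* k)

/-- the augmentation on `A/(x)` -/
noncomputable def εbar (hεx : ε x = 0) : (A ⧸ Ideal.span {x}) →+* k :=
  Ideal.Quotient.lift _ ε (by
    intro a ha
    rw [Ideal.mem_span_singleton'] at ha
    obtain ⟨b, rfl⟩ := ha
    simp [hεx])

omit [Algebra k A] in
@[simp] lemma εbar_mk (hεx : ε x = 0) (a : A) : εbar x ε hεx (Ideal.Quotient.mk _ a) = ε a := by
  simp [εbar]

lemma hom_smul_apply {M N : ModuleCat.{u} A} (c : k) (ψ : M ⟶ N) (m : M) :
    (c • ψ).hom m = algebraMap k A c • ψ.hom m := by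
  rfl

/-- evaluation at `1` followed by the augmentation. -/
noncomputable def Φ (hxy : x * y = 0) (hεk : ∀ c, ε (algebraMap k A c) = c) (hεx : ε x = 0) :
    Ext (S x y hxy).X₁ (S x y hxy).X₁ 0 →ₗ[k] k where
  toFun z := εbar x ε hεx ((Ext.addEquiv₀ z).hom (Ideal.Quotient.mk _ 1))
  map_add' z w := by
    rw [map_add, ModuleCat.hom_add, LinearMap.add_apply, map_add]
  map_smul' c z := by
    have h1 := (Ext.linearEquiv₀ (R := k)).map_smul c z
    have h2 : (Ext.addEquiv₀ (c • z)).hom (Ideal.Quotient.mk (Ideal.span {x}) 1) =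
        algebraMap k A c • (Ext.addEquiv₀ z).hom (Ideal.Quotient.mk (Ideal.span {x}) 1) :=
      congrArg (fun ψ : (S x y hxy).X₁ ⟶ (S x y hxy).X₁ =>
        ψ.hom (Ideal.Quotient.mk (Ideal.span {x}) 1)) h1
    rw [h2]
    obtain ⟨a, ha⟩ := Ideal.Quotient.mk_surjective
      ((Ext.addEquiv₀ z).hom (Ideal.Quotient.mk (Ideal.span {x}) 1))
    rw [← ha]
    change εbar x ε hεx (Ideal.Quotient.mk _ (algebraMap k A c * a)) = _
    rw [εbar_mk, εbar_mk, map_mul, hεk]
    rfl


lemma Φ_mk₀ (hxy : x * y = 0) (hεk : ∀ c, ε (algebraMap k A c) = c) (hεx : ε x = 0)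
    (ψ : (S x y hxy).X₁ ⟶ (S x y hxy).X₁) :
    Φ x y ε hxy hεk hεx (Ext.mk₀ ψ) = εbar x ε hεx (ψ.hom (Ideal.Quotient.mk _ 1)) := by
  change εbar x ε hεx ((Ext.addEquiv₀ (Ext.mk₀ ψ)).hom (Ideal.Quotient.mk _ 1)) = _
  have : Ext.addEquiv₀ (Ext.mk₀ ψ) = ψ := Ext.addEquiv₀.apply_symm_apply ψ
  rw [this]

theorem finrank_ext_one (hxy : x * y = 0) (hann : ∀ a : A, a * y = 0 → a ∈ Ideal.span {x})
    (hεk : ∀ c, ε (algebraMap k A c) = c) (hεx : ε x = 0) (hεy : ε y = 0)
    (hε : ∀ a, ε a = 0 → a ∈ Ideal.span {x, y}) :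
    Module.finrank k (Ext (ModuleCat.of A (A ⧸ Ideal.span {y}))
      (ModuleCat.of A (A ⧸ Ideal.span {x})) 1) = 1 := by
  have hS := shortExact x y hxy hann
  refine finrank_eq_one_of_surj (δ x y hxy hS _) (Φ x y ε hxy hεk hεx)
    (δ_surjective x y hxy hS _) ?_ ?_
  · intro c
    refine ⟨c • Ext.mk₀ (𝟙 _), ?_⟩
    rw [map_smul, Φ_mk₀]
    simp
  · ext z
    rw [LinearMap.mem_ker, LinearMap.mem_ker, δ_eq_zero_iff]
    constructor
    · rintro ⟨φ, rfl⟩
      rw [Φ_mk₀]
      obtain ⟨a, ha⟩ := Ideal.Quotient.mk_surjective (φ.hom (1 : A))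
      have h1 : ((S x y hxy).f ≫ φ).hom (Ideal.Quotient.mk (Ideal.span {x}) 1) =
          Ideal.Quotient.mk (Ideal.span {x}) (y * a) := by
        change φ.hom (mulY x y hxy (Ideal.Quotient.mk _ 1)) = _
        rw [mulY_mk, one_mul]
        have h2 : φ.hom (y • (1 : A)) = y • φ.hom (1 : A) := map_smul _ _ _
        rw [smul_eq_mul, mul_one] at h2
        rw [h2, ← ha]
        rfl
      rw [h1, εbar_mk, map_mul, hεy, zero_mul]
    · intro hz
      obtain ⟨ψ, rfl⟩ := Ext.addEquiv₀.symm.surjective z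
      change Φ x y ε hxy hεk hεx (Ext.mk₀ ψ) = 0 at hz
      rw [Φ_mk₀] at hz
      obtain ⟨a, ha⟩ := Ideal.Quotient.mk_surjective
        (ψ.hom (Ideal.Quotient.mk (Ideal.span {x}) 1))
      rw [← ha, εbar_mk] at hz
      obtain ⟨b, c, hbc⟩ := Ideal.mem_span_pair.mp (hε a hz)
      refine ⟨ModuleCat.ofHom (LinearMap.toSpanSingleton A (A ⧸ Ideal.span {x})
        (Ideal.Quotient.mk _ c)), ?_⟩
      change Ext.mk₀ ψ = _
      congr 1
      apply ModuleCat.hom_ext
      apply Submodule.linearMap_qext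
      apply LinearMap.ext_ring
      change ψ.hom (Ideal.Quotient.mk (Ideal.span {x}) 1) =
        (LinearMap.toSpanSingleton A (A ⧸ Ideal.span {x}) (Ideal.Quotient.mk _ c))
          (mulY x y hxy (Ideal.Quotient.mk _ 1))
      rw [mulY_mk, one_mul, LinearMap.toSpanSingleton_apply, ← ha, ← hbc]
      change _ = Ideal.Quotient.mk (Ideal.span {x}) (y * c)
      rw [Ideal.Quotient.eq]
      have : b * x + c * y - y * c = b * x := by ring
      rw [this]
      exact Ideal.mul_mem_left _ _ (Ideal.subset_span rfl)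

end Groth.Agent.Lib.Helper63.ExtNode
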