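import Mathlib

set_option autoImplicit false
universe w v u

namespace Groth.Agent.Lib.Helper63.ExtObs

open CategoryTheory Limits Abelian

variable {C : Type u} [Category.{v} C] [Abelian C]

section pushoutSES

variable {S : ShortComplex C} {Q : C} (φ : S.X₁ ⟶ Q)

noncomputable def poObj : C := cokernel (biprod.lift S.f (-φ))

noncomputable def poπ : S.X₂ ⊞ Q ⟶ poObj φ := cokernel.π _

instance : Epi (poπ φ) := inferInstanceAs (Epi (cokernel.π (biprod.lift S.f (-φ))))

noncomputable def poInl : S.X₂ ⟶ poObj φ := biprod.inl ≫ poπ φ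

noncomputable def poInr : Q ⟶ poObj φ := biprod.inr ≫ poπ φ

lemma lift_poπ : biprod.lift S.f (-φ) ≫ poπ φ = 0 := cokernel.condition _

lemma po_comm : S.f ≫ poInl φ = φ ≫ poInr φ := by
  have h := lift_poπ φ
  have h2 : biprod.lift S.f (-φ) = S.f ≫ biprod.inl + (-φ) ≫ biprod.inr := by
    apply biprod.hom_ext <;> simp
  rw [h2, Preadditive.add_comp, Category.assoc, Category.assoc, Preadditive.neg_comp,
    ← sub_eq_add_neg, sub_eq_zero] at h
  exact h

noncomputable def poG : poObj φ ⟶ S.X₃ :=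
  cokernel.desc _ (biprod.desc S.g 0) (by simp)

@[reassoc (attr := simp)]
lemma poπ_G : poπ φ ≫ poG φ = biprod.desc S.g 0 := cokernel.π_desc _ _ _

@[reassoc (attr := simp)]
lemma poInl_G : poInl φ ≫ poG φ = S.g := by simp [poInl]

@[reassoc (attr := simp)]
lemma poInr_G : poInr φ ≫ poG φ = 0 := by simp [poInr]

lemma lift_eq {T : C} (z : T ⟶ S.X₂ ⊞ Q) :
    z ≫ poπ φ = (z ≫ biprod.fst) ≫ poInl φ + (z ≫ biprod.snd) ≫ poInr φ := by
  simp only [poInl, poInr, Category.assoc]
  rw [← Preadditive.comp_add, ← Category.assoc biprod.fst, ← Category.assoc biprod.snd,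
    ← Preadditive.add_comp, biprod.total, Category.id_comp]

noncomputable abbrev poSC : ShortComplex C := ShortComplex.mk (poInr φ) (poG φ) (poInr_G φ)

lemma poSC_shortExact (hS : S.ShortExact) : (poSC φ).ShortExact := by
  have hmono : Mono (poInr φ) := by
    have := hS.mono_f
    apply Preadditive.mono_of_cancel_zero
    intro T x hx
    have hex : (ShortComplex.mk (biprod.lift S.f (-φ)) (poπ φ) (lift_poπ φ)).Exact :=
      ShortComplex.exact_cokernel _
    obtain ⟨T', π, hπ, y, hy⟩ := hex.exact_up_to_refinements (x ≫ biprod.inr)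
      (by simpa [poInr] using hx)
    dsimp at y hy
    have h1 : y ≫ S.f = 0 := by
      have := congrArg (· ≫ biprod.fst) hy
      simpa using this.symm
    have hy0 : y = 0 := by rw [← cancel_mono S.f, h1, zero_comp]
    have h2 : π ≫ x = 0 := by
      have := congrArg (· ≫ biprod.snd) hy
      simpa [hy0] using this
    rw [← cancel_epi π, h2, comp_zero]
  have hepi : Epi (poG φ) := by
    have := hS.epi_g
    exact epi_of_epi_fac (poInl_G φ)
  have hexact : (poSC φ).Exact := by
    rw [ShortComplex.exact_iff_exact_up_to_refinements]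
    intro T x hx
    change T ⟶ poObj φ at x
    change x ≫ poG φ = 0 at hx
    change ∃ (A' : C) (π : A' ⟶ T) (_ : Epi π) (x₁ : A' ⟶ Q), π ≫ x = x₁ ≫ poInr φ
    obtain ⟨T₁, π₁, hπ₁, z, hz⟩ := surjective_up_to_refinements_of_epi (poπ φ) x
    have hdesc : biprod.desc S.g (0 : Q ⟶ S.X₃) = biprod.fst ≫ S.g := by
      apply biprod.hom_ext' <;> simp
    have hz1 : (z ≫ biprod.fst) ≫ S.g = 0 := by
      have : z ≫ poπ φ ≫ poG φ = 0 := by
        rw [← Category.assoc, ← hz, Category.assoc, hx, comp_zero]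
      rw [poπ_G, hdesc] at this
      rw [Category.assoc]; exact this
    obtain ⟨T₂, π₂, hπ₂, w, hw⟩ := hS.exact.exact_up_to_refinements (z ≫ biprod.fst) hz1
    refine ⟨T₂, π₂ ≫ π₁, epi_comp _ _, w ≫ φ + π₂ ≫ z ≫ biprod.snd, ?_⟩
    rw [Category.assoc, hz, lift_eq, Preadditive.comp_add, ← Category.assoc π₂, hw,
      Category.assoc, po_comm, Preadditive.add_comp]
    simp only [Category.assoc]
  exact ShortComplex.ShortExact.mk' hexact hmono hepi

noncomputable def poMap : S ⟶ poSC φ where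
  τ₁ := φ
  τ₂ := poInl φ
  τ₃ := 𝟙 _
  comm₁₂ := (po_comm φ).symm
  comm₂₃ := by simp [poSC]

lemma extClass_po [HasExt.{w} C] (hS : S.ShortExact) :
    hS.extClass.comp (Ext.mk₀ φ) (add_zero 1) = (poSC_shortExact φ hS).extClass := by
  exact (ShortComplex.ShortExact.extClass_naturality hS (poSC_shortExact φ hS) (poMap φ)).trans
    (Ext.mk₀_id_comp _)

end pushoutSES

open Abelian in
theorem main [HasExt.{w} C] {S : ShortComplex C} (hS : S.ShortExact) {Q P : C} (φ : S.X₁ ⟶ Q)
    (π : S.X₃ ⟶ P) [Epi π] :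
    (∃ (B : C) (f : Q ⟶ B) (g : B ⟶ P) (h : S.X₂ ⟶ B) (w : f ≫ g = 0),
        (ShortComplex.mk f g w).ShortExact ∧ S.f ≫ h = φ ≫ f ∧ h ≫ g = S.g ≫ π) ↔
      (Ext.mk₀ (kernel.ι π)).comp (hS.extClass.comp (Ext.mk₀ φ) (add_zero 1)) (zero_add 1) = 0 := by
  constructor
  · rintro ⟨B, f, g, h, w, hB, h1, h2⟩
    let m : S ⟶ ShortComplex.mk f g w :=
      { τ₁ := φ, τ₂ := h, τ₃ := π, comm₁₂ := h1.symm, comm₂₃ := h2 }
    have hn : hS.extClass.comp (Ext.mk₀ φ) (add_zero 1) = (Ext.mk₀ π).comp hB.extClass (zero_add 1) :=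
      ShortComplex.ShortExact.extClass_naturality hS hB m
    rw [hn, ← Ext.comp_assoc (a₁₂ := 0) _ _ _ (by omega) (by omega) (by omega), Ext.mk₀_comp_mk₀,
      kernel.condition, Ext.mk₀_zero, Ext.zero_comp]
  · intro h0
    rw [extClass_po φ hS] at h0
    obtain ⟨x₂, hx₂⟩ := Ext.covariant_sequence_exact₃ _ (poSC_shortExact φ hS)
      (Ext.mk₀ (kernel.ι π)) (zero_add 1) h0
    obtain ⟨σ, rfl⟩ := (Ext.mk₀_bijective _ _).2 x₂
    have hσ : σ ≫ poG φ = kernel.ι π := by
      rw [Ext.mk₀_comp_mk₀] at hx₂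
      exact (Ext.mk₀_bijective _ _).1 hx₂
    have hσπ : σ ≫ poG φ ≫ π = 0 := by rw [← Category.assoc, hσ, kernel.condition]
    have hPoS := poSC_shortExact φ hS
    have := hPoS.mono_f
    have := hPoS.epi_g
    have hfg : (poInr φ ≫ cokernel.π σ) ≫ cokernel.desc σ (poG φ ≫ π) hσπ = 0 := by simp
    refine ⟨cokernel σ, poInr φ ≫ cokernel.π σ, cokernel.desc σ (poG φ ≫ π) hσπ,
      poInl φ ≫ cokernel.π σ, hfg, ?_, ?_, ?_⟩
    · -- short exactness
      have hexσ : (ShortComplex.mk σ (cokernel.π σ) (cokernel.condition σ)).Exact :=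
        ShortComplex.exact_cokernel _
      have hmono : Mono (poInr φ ≫ cokernel.π σ) := by
        apply Preadditive.mono_of_cancel_zero
        intro T x hx
        obtain ⟨T₁, π₁, hπ₁, c, hc⟩ := hexσ.exact_up_to_refinements (x ≫ poInr φ)
          (by simpa using hx)
        dsimp at c hc
        have hc0 : c ≫ kernel.ι π = 0 := by
          rw [← hσ, ← Category.assoc, ← hc]
          simp
        have hc0' : c = 0 := by rw [← cancel_mono (kernel.ι π), hc0, zero_comp]
        have h2 : (π₁ ≫ x) ≫ poInr φ = 0 := by rw [Category.assoc, hc, hc0', zero_comp]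
        have h3 : π₁ ≫ x = 0 := by rw [← cancel_mono (poInr φ), h2, zero_comp]
        rw [← cancel_epi π₁, h3, comp_zero]
      have hepi : Epi (cokernel.desc σ (poG φ ≫ π) hσπ) := by
        have : Epi (cokernel.π σ ≫ cokernel.desc σ (poG φ ≫ π) hσπ) := by
          rw [cokernel.π_desc]; exact epi_comp _ _
        exact epi_of_epi (cokernel.π σ) _
      have hexact : (ShortComplex.mk (poInr φ ≫ cokernel.π σ) (cokernel.desc σ (poG φ ≫ π) hσπ) hfg).Exact := by
        rw [ShortComplex.exact_iff_exact_up_to_refinements]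
        intro T y hy
        dsimp at y hy ⊢
        obtain ⟨T₁, π₁, hπ₁, e, he⟩ := surjective_up_to_refinements_of_epi (cokernel.π σ) y
        have he0 : (e ≫ poG φ) ≫ π = 0 := by
          have : e ≫ cokernel.π σ ≫ cokernel.desc σ (poG φ ≫ π) hσπ = 0 := by
            rw [← Category.assoc, ← he, Category.assoc, hy, comp_zero]
          simpa using this
        let c : T₁ ⟶ kernel π := kernel.lift π (e ≫ poG φ) he0
        have hc : c ≫ kernel.ι π = e ≫ poG φ := kernel.lift_ι _ _ _
        have hdiff : (e - c ≫ σ) ≫ poG φ = 0 := by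
          rw [Preadditive.sub_comp, Category.assoc, hσ, hc, sub_self]
        obtain ⟨T₂, π₂, hπ₂, u, hu⟩ := hPoS.exact.exact_up_to_refinements (e - c ≫ σ) hdiff
        dsimp at u hu
        refine ⟨T₂, π₂ ≫ π₁, epi_comp _ _, u, ?_⟩
        rw [Category.assoc, he, ← Category.assoc u, ← hu, Preadditive.comp_sub, Preadditive.sub_comp]
        simp
      exact ShortComplex.ShortExact.mk' hexact hmono hepi
    · rw [← Category.assoc, po_comm, Category.assoc]
    · simp

end Groth.Agent.Lib.Helper63.ExtObs
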