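import Mathlib

set_option autoImplicit false
set_option linter.unusedSectionVars false

namespace Groth.Agent.Lib.Helper63.GL2Approx

open Matrix

section abstract
variable {R : Type*} [CommRing R] (π : R) (H : Subgroup (GL (Fin 2) R))

/-- the set of `M` such that `1 + π^n M` is congruent mod `π^(n+1)` to an element of `H`. -/
def LL (n : ℕ) : Set (Matrix (Fin 2) (Fin 2) R) :=
  {M | ∃ h ∈ H, ∃ C : Matrix (Fin 2) (Fin 2) R,
    (h : Matrix (Fin 2) (Fin 2) R) = 1 + π ^ n • M + π ^ (n + 1) • C}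

variable {π H}

lemma LL_zero (n : ℕ) : (0 : Matrix (Fin 2) (Fin 2) R) ∈ LL π H n :=
  ⟨1, H.one_mem, 0, by simp⟩

lemma LL_congr {n : ℕ} {M : Matrix (Fin 2) (Fin 2) R} (hM : M ∈ LL π H n)
    (D : Matrix (Fin 2) (Fin 2) R) : M + π • D ∈ LL π H n := by
  obtain ⟨h, hh, C, hC⟩ := hM
  refine ⟨h, hh, C - D, ?_⟩
  rw [hC, smul_add, smul_sub, smul_smul, pow_succ]
  abel

lemma LL_add {n : ℕ} (hn : 1 ≤ n) {M M' : Matrix (Fin 2) (Fin 2) R} (hM : M ∈ LL π H n)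
    (hM' : M' ∈ LL π H n) : M + M' ∈ LL π H n := by
  obtain ⟨h, hh, C, hC⟩ := hM
  obtain ⟨h', hh', C', hC'⟩ := hM'
  obtain ⟨m, rfl⟩ : ∃ m, n = m + 1 := ⟨n - 1, by omega⟩
  refine ⟨h * h', H.mul_mem hh hh', C + C' + π ^ m • (M * M') + π ^ (m + 1) • (M * C')
    + π ^ (m + 1) • (C * M') + π ^ (m + 1 + 1) • (C * C'), ?_⟩
  rw [Matrix.GeneralLinearGroup.coe_mul, hC, hC']
  simp only [add_mul, mul_add, one_mul, mul_one, smul_mul_assoc, mul_smul_comm, smul_add,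
    smul_smul]
  have e1 : π ^ (m + 1) * π ^ (m + 1) = π ^ (m + 1 + 1) * π ^ m := by ring
  have e2 : π ^ (m + 1) * π ^ (m + 1 + 1) = π ^ (m + 1 + 1) * π ^ (m + 1) := by ring
  rw [e1, e2]
  abel


lemma LL_nsmul {n : ℕ} (hn : 1 ≤ n) {M : Matrix (Fin 2) (Fin 2) R} (hM : M ∈ LL π H n)
    (k : ℕ) : (k : R) • M ∈ LL π H n := by
  induction k with
  | zero => simpa using LL_zero (π := π) (H := H) n
  | succ k ih =>
    have : ((k + 1 : ℕ) : R) • M = (k : R) • M + M := by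
      rw [Nat.cast_succ, add_smul, one_smul]
    rw [this]
    exact LL_add hn ih hM

lemma LL_smul (hnat : ∀ r : R, ∃ k : ℕ, ∃ r' : R, r = k + π * r') {n : ℕ} (hn : 1 ≤ n)
    {M : Matrix (Fin 2) (Fin 2) R} (hM : M ∈ LL π H n) (r : R) : r • M ∈ LL π H n := by
  obtain ⟨k, r', rfl⟩ := hnat r
  have := LL_congr (LL_nsmul hn hM k) (r' • M)
  rwa [smul_smul, ← add_smul] at this

lemma LL_conj_H {n : ℕ} {M : Matrix (Fin 2) (Fin 2) R} (hM : M ∈ LL π H n)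
    (h₀ : GL (Fin 2) R) (hh₀ : h₀ ∈ H) :
    (h₀ : Matrix (Fin 2) (Fin 2) R) * M * ((h₀⁻¹ : GL (Fin 2) R) : Matrix (Fin 2) (Fin 2) R)
      ∈ LL π H n := by
  obtain ⟨h, hh, C, hC⟩ := hM
  refine ⟨h₀ * h * h₀⁻¹, H.mul_mem (H.mul_mem hh₀ hh) (H.inv_mem hh₀),
    (h₀ : Matrix (Fin 2) (Fin 2) R) * C * ((h₀⁻¹ : GL (Fin 2) R) : Matrix (Fin 2) (Fin 2) R), ?_⟩
  have h1 : (h₀ : Matrix (Fin 2) (Fin 2) R) * ((h₀⁻¹ : GL (Fin 2) R) : Matrix (Fin 2) (Fin 2) R) = 1 := by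
    rw [← Matrix.GeneralLinearGroup.coe_mul, mul_inv_cancel, Matrix.GeneralLinearGroup.coe_one]
  rw [Matrix.GeneralLinearGroup.coe_mul, Matrix.GeneralLinearGroup.coe_mul, hC]
  simp only [add_mul, mul_add, mul_one, smul_mul_assoc, mul_smul_comm, h1]

lemma inv_congr (A A' B B' D : Matrix (Fin 2) (Fin 2) R) (hAA' : A * A' = 1) (hB'B : B' * B = 1)
    (hB : B = A + π • D) : ∃ E : Matrix (Fin 2) (Fin 2) R, B' = A' + π • E := by
  refine ⟨-(B' * D * A'), ?_⟩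
  have hA : A = B - π • D := by rw [hB]; abel
  calc B' = B' * (A * A') := by rw [hAA', mul_one]
    _ = (B' * B) * A' - π • (B' * D * A') := by
      rw [hA]
      simp only [sub_mul, mul_sub, smul_mul_assoc, mul_smul_comm, mul_assoc]
    _ = A' + π • -(B' * D * A') := by
      rw [hB'B, one_mul, smul_neg, sub_eq_add_neg]

lemma LL_conj (hsurj : ∀ γ : GL (Fin 2) R, ∃ h ∈ H, ∃ D : Matrix (Fin 2) (Fin 2) R,
      (h : Matrix (Fin 2) (Fin 2) R) = (γ : Matrix (Fin 2) (Fin 2) R) + π • D)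
    {n : ℕ} {M : Matrix (Fin 2) (Fin 2) R} (hM : M ∈ LL π H n) (γ : GL (Fin 2) R) :
    (γ : Matrix (Fin 2) (Fin 2) R) * M * ((γ⁻¹ : GL (Fin 2) R) : Matrix (Fin 2) (Fin 2) R)
      ∈ LL π H n := by
  obtain ⟨h₀, hh₀, D, hD⟩ := hsurj γ
  have h1 := LL_conj_H hM h₀ hh₀
  have hγ' : (γ : Matrix (Fin 2) (Fin 2) R) * ((γ⁻¹ : GL (Fin 2) R) : Matrix (Fin 2) (Fin 2) R) = 1 := by
    rw [← Matrix.GeneralLinearGroup.coe_mul, mul_inv_cancel, Matrix.GeneralLinearGroup.coe_one]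
  have hh : ((h₀⁻¹ : GL (Fin 2) R) : Matrix (Fin 2) (Fin 2) R) * (h₀ : Matrix (Fin 2) (Fin 2) R) = 1 := by
    rw [← Matrix.GeneralLinearGroup.coe_mul, inv_mul_cancel, Matrix.GeneralLinearGroup.coe_one]
  obtain ⟨E, hE⟩ := inv_congr _ _ _ _ D hγ' hh hD
  have h2 := LL_congr h1 (-(D * M * ((γ⁻¹ : GL (Fin 2) R) : Matrix (Fin 2) (Fin 2) R) +
    (γ : Matrix (Fin 2) (Fin 2) R) * M * E + π • (D * M * E)))
  convert h2 using 1
  rw [hD, hE]
  simp only [add_mul, mul_add, smul_mul_assoc, mul_smul_comm, smul_add, smul_neg, smul_smul]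
  abel


/-- the swap matrix. -/
def wGL : GL (Fin 2) R :=
  ⟨!![0, 1; 1, 0], !![0, 1; 1, 0], by simp [Matrix.one_fin_two],
    by simp [Matrix.one_fin_two]⟩

/-- upper unipotent. -/
def uGL : GL (Fin 2) R :=
  ⟨!![1, 1; 0, 1], !![1, -1; 0, 1], by simp [Matrix.one_fin_two],
    by simp [Matrix.one_fin_two]⟩

/-- lower unipotent. -/
def lGL : GL (Fin 2) R :=
  ⟨!![1, 0; 1, 1], !![1, 0; -1, 1], by simp [Matrix.one_fin_two],
    by simp [Matrix.one_fin_two]⟩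

lemma LL_all (hnat : ∀ r : R, ∃ k : ℕ, ∃ r' : R, r = k + π * r')
    (hsurj : ∀ γ : GL (Fin 2) R, ∃ h ∈ H, ∃ D : Matrix (Fin 2) (Fin 2) R,
      (h : Matrix (Fin 2) (Fin 2) R) = (γ : Matrix (Fin 2) (Fin 2) R) + π • D)
    {n : ℕ} (hn : 1 ≤ n) (a b c d : R) (ha : IsUnit a)
    (h0 : !![a, π * b; π * c, π * d] ∈ LL π H n) (M : Matrix (Fin 2) (Fin 2) R) :
    M ∈ LL π H n := by
  have h1 : !![a, 0; 0, 0] ∈ LL π H n := by
    have := LL_congr h0 !![0, -b; -c, -d]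
    convert this using 1
    ext i j
    fin_cases i <;> fin_cases j <;> simp
  obtain ⟨a', ha'⟩ := ha.exists_left_inv
  have hE11 : (!![1, 0; 0, 0] : Matrix (Fin 2) (Fin 2) R) ∈ LL π H n := by
    have := LL_smul hnat hn h1 a'
    convert this using 1
    ext i j
    fin_cases i <;> fin_cases j <;> simp [ha']
  have hE22 : (!![0, 0; 0, 1] : Matrix (Fin 2) (Fin 2) R) ∈ LL π H n := by
    have := LL_conj hsurj hE11 wGL
    convert this using 1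
    show _ = !![0, 1; 1, 0] * !![1, 0; 0, 0] * !![0, 1; 1, 0]
    simp
  have hU : (!![1, -1; 0, 0] : Matrix (Fin 2) (Fin 2) R) ∈ LL π H n := by
    have := LL_conj hsurj hE11 uGL
    convert this using 1
    show _ = !![1, 1; 0, 1] * !![1, 0; 0, 0] * !![1, -1; 0, 1]
    simp
  have hL : (!![1, 0; 1, 0] : Matrix (Fin 2) (Fin 2) R) ∈ LL π H n := by
    have := LL_conj hsurj hE11 lGL
    convert this using 1
    show _ = !![1, 0; 1, 1] * !![1, 0; 0, 0] * !![1, 0; -1, 1]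
    simp
  have hE12 : (!![0, 1; 0, 0] : Matrix (Fin 2) (Fin 2) R) ∈ LL π H n := by
    have := LL_add hn hE11 (LL_smul hnat hn hU (-1))
    convert this using 1
    ext i j
    fin_cases i <;> fin_cases j <;> simp
  have hE21 : (!![0, 0; 1, 0] : Matrix (Fin 2) (Fin 2) R) ∈ LL π H n := by
    have := LL_add hn hL (LL_smul hnat hn hE11 (-1))
    convert this using 1
    ext i j
    fin_cases i <;> fin_cases j <;> simp
  have := LL_add hn (LL_add hn (LL_add hn (LL_smul hnat hn hE11 (M 0 0))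
    (LL_smul hnat hn hE12 (M 0 1))) (LL_smul hnat hn hE21 (M 1 0))) (LL_smul hnat hn hE22 (M 1 1))
  convert this using 1
  ext i j
  fin_cases i <;> fin_cases j <;> simp


theorem approx (hnat : ∀ r : R, ∃ k : ℕ, ∃ r' : R, r = k + π * r')
    (hsurj : ∀ γ : GL (Fin 2) R, ∃ h ∈ H, ∃ D : Matrix (Fin 2) (Fin 2) R,
      (h : Matrix (Fin 2) (Fin 2) R) = (γ : Matrix (Fin 2) (Fin 2) R) + π • D)
    (hii : ∀ n : ℕ, 1 ≤ n → ∃ a b c d : R, IsUnit a ∧ !![a, π * b; π * c, π * d] ∈ LL π H n)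
    (n : ℕ) (hn : 1 ≤ n) (γ : GL (Fin 2) R) :
    ∃ h ∈ H, ∃ C : Matrix (Fin 2) (Fin 2) R,
      (γ : Matrix (Fin 2) (Fin 2) R) = (h : Matrix (Fin 2) (Fin 2) R) + π ^ n • C := by
  induction n, hn using Nat.le_induction with
  | base =>
    obtain ⟨h, hh, D, hD⟩ := hsurj γ
    refine ⟨h, hh, -D, ?_⟩
    rw [hD, pow_one, smul_neg]
    abel
  | succ n hn ih =>
    obtain ⟨h, hh, C, hC⟩ := ih
    obtain ⟨a, b, c, d, ha, h0⟩ := hii n hn
    obtain ⟨h', hh', C', hC'⟩ := LL_all hnat hsurj hn a b c d ha h0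
      (((h⁻¹ : GL (Fin 2) R) : Matrix (Fin 2) (Fin 2) R) * C)
    refine ⟨h * h', H.mul_mem hh hh', -((h : Matrix (Fin 2) (Fin 2) R) * C'), ?_⟩
    have h1 : (h : Matrix (Fin 2) (Fin 2) R) * ((h⁻¹ : GL (Fin 2) R) : Matrix (Fin 2) (Fin 2) R) = 1 := by
      rw [← Matrix.GeneralLinearGroup.coe_mul, mul_inv_cancel, Matrix.GeneralLinearGroup.coe_one]
    rw [Matrix.GeneralLinearGroup.coe_mul, hC', hC]
    simp only [mul_add, mul_one, mul_smul_comm, smul_neg]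
    rw [← mul_assoc, h1, one_mul]
    abel

end abstract


section padic
variable (p : ℕ) [Fact p.Prime]

lemma padic_hnat (r : ℤ_[p]) : ∃ k : ℕ, ∃ r' : ℤ_[p], r = k + (p : ℤ_[p]) * r' := by
  obtain ⟨k, _, hk⟩ := PadicInt.exists_mem_range (x := r)
  rw [PadicInt.maximalIdeal_eq_span_p, Ideal.mem_span_singleton] at hk
  obtain ⟨r', hr'⟩ := hk
  exact ⟨k, r', by rw [← hr']; ring⟩

lemma congr_of_toZMod_eq (x y : ℤ_[p]) (h : PadicInt.toZMod x = PadicInt.toZMod y) :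
    ∃ d : ℤ_[p], x = y + (p : ℤ_[p]) * d := by
  have h1 : x - y ∈ RingHom.ker (PadicInt.toZMod (p := p)) := by
    rw [RingHom.mem_ker, map_sub, h, sub_self]
  rw [PadicInt.ker_toZMod, PadicInt.maximalIdeal_eq_span_p, Ideal.mem_span_singleton] at h1
  obtain ⟨d, hd⟩ := h1
  exact ⟨d, by rw [← hd]; ring⟩

lemma isUnit_of_toZMod_ne_zero (x : ℤ_[p]) (h : PadicInt.toZMod x ≠ 0) : IsUnit x := by
  by_contra hx
  apply h
  have : x ∈ IsLocalRing.maximalIdeal ℤ_[p] := hx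
  rw [← PadicInt.ker_toZMod] at this
  exact this

lemma isUnit_of_not_dvd (a : ℤ_[p]) (ha : ¬ ((p : ℤ_[p]) ∣ a)) : IsUnit a := by
  rw [PadicInt.isUnit_iff]
  apply le_antisymm (PadicInt.norm_le_one a)
  by_contra hlt
  push Not at hlt
  exact ha ((PadicInt.norm_lt_one_iff_dvd a).mp hlt)

end padic


section main
variable (p : ℕ) [Fact p.Prime]
  {𝔊 : Type*} [Group 𝔊] [TopologicalSpace 𝔊] [CompactSpace 𝔊]
  (ϕ : 𝔊 →* GL (Fin 2) ℤ_[p])
  (hϕ : Continuous fun g => ((ϕ g : GL (Fin 2) ℤ_[p]) : Matrix (Fin 2) (Fin 2) ℤ_[p]))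

include hϕ in
theorem surj_of (h1 : Function.Surjective
      ((Matrix.GeneralLinearGroup.map (n := Fin 2) (PadicInt.toZMod (p := p))).comp ϕ))
    (h2 : ∀ n : ℕ, 1 ≤ n → ∃ (g : 𝔊) (a b c d : ℤ_[p]), ¬ ((p : ℤ_[p]) ∣ a) ∧
          ((ϕ g : GL (Fin 2) ℤ_[p]) : Matrix (Fin 2) (Fin 2) ℤ_[p]) =
            !![1 + (p : ℤ_[p]) ^ n * a, (p : ℤ_[p]) ^ (n + 1) * b;
               (p : ℤ_[p]) ^ (n + 1) * c, 1 + (p : ℤ_[p]) ^ (n + 1) * d]) :
    Function.Surjective ϕ := by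
  have hsurj : ∀ γ : GL (Fin 2) ℤ_[p], ∃ h ∈ ϕ.range, ∃ D : Matrix (Fin 2) (Fin 2) ℤ_[p],
      (h : Matrix (Fin 2) (Fin 2) ℤ_[p]) = (γ : Matrix (Fin 2) (Fin 2) ℤ_[p]) + (p : ℤ_[p]) • D := by
    intro γ
    obtain ⟨g, hg⟩ := h1 (Matrix.GeneralLinearGroup.map (PadicInt.toZMod (p := p)) γ)
    have hij : ∀ i j, ∃ d : ℤ_[p], (ϕ g : Matrix (Fin 2) (Fin 2) ℤ_[p]) i j =
        (γ : Matrix (Fin 2) (Fin 2) ℤ_[p]) i j + (p : ℤ_[p]) * d := by
      intro i j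
      apply congr_of_toZMod_eq
      have := congrArg (fun G : GL (Fin 2) (ZMod p) => (G : Matrix (Fin 2) (Fin 2) (ZMod p)) i j) hg
      simpa [Matrix.GeneralLinearGroup.map_apply] using this
    choose D hD using hij
    refine ⟨ϕ g, ⟨g, rfl⟩, Matrix.of D, ?_⟩
    ext i j
    rw [hD i j]
    simp
  have hii : ∀ n : ℕ, 1 ≤ n → ∃ a b c d : ℤ_[p], IsUnit a ∧
      !![a, (p : ℤ_[p]) * b; (p : ℤ_[p]) * c, (p : ℤ_[p]) * d] ∈ LL (p : ℤ_[p]) ϕ.range n := by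
    intro n hn
    obtain ⟨g, a, b, c, d, ha, hg⟩ := h2 n hn
    refine ⟨a, b, c, d, isUnit_of_not_dvd p a ha, ϕ g, ⟨g, rfl⟩, 0, ?_⟩
    rw [hg]
    ext i j
    fin_cases i <;> fin_cases j <;> simp <;> ring
  have happrox := approx (padic_hnat p) hsurj hii
  -- closedness
  have hcl : IsClosed (Set.range fun g => ((ϕ g : GL (Fin 2) ℤ_[p]) : Matrix (Fin 2) (Fin 2) ℤ_[p])) :=
    (isCompact_range hϕ).isClosed
  intro γ
  have hmem : ∀ n : ℕ, ∃ g : 𝔊, ∃ C : Matrix (Fin 2) (Fin 2) ℤ_[p],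
      (γ : Matrix (Fin 2) (Fin 2) ℤ_[p]) =
        (ϕ g : Matrix (Fin 2) (Fin 2) ℤ_[p]) + (p : ℤ_[p]) ^ (n + 1) • C := by
    intro n
    obtain ⟨h, ⟨g, rfl⟩, C, hC⟩ := happrox (n + 1) (by omega) γ
    exact ⟨g, C, hC⟩
  choose g C hgC using hmem
  have hlim : Filter.Tendsto (fun n => ((ϕ (g n) : GL (Fin 2) ℤ_[p]) : Matrix (Fin 2) (Fin 2) ℤ_[p]))
      Filter.atTop (nhds (γ : Matrix (Fin 2) (Fin 2) ℤ_[p])) := by
    refine tendsto_pi_nhds.mpr fun i => tendsto_pi_nhds.mpr fun j => ?_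
    rw [tendsto_iff_norm_sub_tendsto_zero]
    have hp1 : (p : ℝ)⁻¹ < 1 := by
      apply inv_lt_one_of_one_lt₀
      exact_mod_cast (Fact.out : p.Prime).one_lt
    have hp0 : (0 : ℝ) ≤ (p : ℝ)⁻¹ := by positivity
    have hb : ∀ n, ‖((ϕ (g n) : GL (Fin 2) ℤ_[p]) : Matrix (Fin 2) (Fin 2) ℤ_[p]) i j -
        (γ : Matrix (Fin 2) (Fin 2) ℤ_[p]) i j‖ ≤ ((p : ℝ)⁻¹) ^ (n + 1) := by
      intro n
      have h0 := congrFun (congrFun (hgC n) i) j
      rw [Matrix.add_apply, Matrix.smul_apply, smul_eq_mul] at h0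
      rw [h0, sub_add_cancel_left, norm_neg, norm_mul, norm_pow, PadicInt.norm_p]
      calc ((p : ℝ)⁻¹) ^ (n + 1) * ‖C n i j‖ ≤ ((p : ℝ)⁻¹) ^ (n + 1) * 1 :=
            mul_le_mul_of_nonneg_left (PadicInt.norm_le_one _) (pow_nonneg hp0 _)
        _ = ((p : ℝ)⁻¹) ^ (n + 1) := mul_one _
    exact squeeze_zero (fun n => norm_nonneg _) hb
      ((tendsto_pow_atTop_nhds_zero_of_lt_one hp0 hp1).comp (Filter.tendsto_add_atTop_nat 1))
  have hγ := hcl.mem_of_tendsto hlim (Filter.Eventually.of_forall fun n => Set.mem_range_self _)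
  obtain ⟨g₀, hg₀⟩ := hγ
  exact ⟨g₀, Units.ext hg₀⟩


lemma map_toZMod_surjective :
    Function.Surjective (Matrix.GeneralLinearGroup.map (n := Fin 2) (PadicInt.toZMod (p := p))) := by
  intro γ
  have hs : Function.Surjective (PadicInt.toZMod (p := p)) := ZMod.ringHom_surjective _
  choose A hA using fun i j => hs ((γ : Matrix (Fin 2) (Fin 2) (ZMod p)) i j)
  have hmap : (PadicInt.toZMod (p := p)).mapMatrix (Matrix.of A) =
      (γ : Matrix (Fin 2) (Fin 2) (ZMod p)) := by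
    ext i j
    simp [hA]
  have hdet : IsUnit (Matrix.of A).det := by
    apply isUnit_of_toZMod_ne_zero
    rw [RingHom.map_det, hmap]
    exact Matrix.GeneralLinearGroup.det_ne_zero γ
  refine ⟨Matrix.GeneralLinearGroup.mk'' (Matrix.of A) hdet, ?_⟩
  apply Matrix.GeneralLinearGroup.ext
  intro i j
  rw [Matrix.GeneralLinearGroup.map_apply]
  show PadicInt.toZMod (A i j) = _
  exact hA i j

theorem of_surj (hs : Function.Surjective ϕ) :
    Function.Surjective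
      ((Matrix.GeneralLinearGroup.map (n := Fin 2) (PadicInt.toZMod (p := p))).comp ϕ) ∧
    ∀ n : ℕ, 1 ≤ n → ∃ (g : 𝔊) (a b c d : ℤ_[p]), ¬ ((p : ℤ_[p]) ∣ a) ∧
          ((ϕ g : GL (Fin 2) ℤ_[p]) : Matrix (Fin 2) (Fin 2) ℤ_[p]) =
            !![1 + (p : ℤ_[p]) ^ n * a, (p : ℤ_[p]) ^ (n + 1) * b;
               (p : ℤ_[p]) ^ (n + 1) * c, 1 + (p : ℤ_[p]) ^ (n + 1) * d] := by
  constructor
  · rw [MonoidHom.coe_comp]
    exact (map_toZMod_surjective p).comp hs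
  · intro n hn
    have hu : IsUnit (1 + (p : ℤ_[p]) ^ n) := by
      apply isUnit_of_toZMod_ne_zero
      rw [map_add, map_one, map_pow, map_natCast, ZMod.natCast_self, zero_pow (by omega), add_zero]
      exact one_ne_zero
    have hdet : IsUnit (!![1 + (p : ℤ_[p]) ^ n, 0; 0, 1] : Matrix (Fin 2) (Fin 2) ℤ_[p]).det := by
      rw [Matrix.det_fin_two_of]
      simpa using hu
    obtain ⟨g, hg⟩ := hs (Matrix.GeneralLinearGroup.mk'' _ hdet)
    refine ⟨g, 1, 0, 0, 0, ?_, ?_⟩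
    · intro hdvd
      exact PadicInt.p_nonunit (isUnit_of_dvd_one hdvd)
    · rw [hg]
      show !![1 + (p : ℤ_[p]) ^ n, 0; 0, 1] = _
      simp

end main

end Groth.Agent.Lib.Helper63.GL2Approx
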