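import Mathlib

/-!
# Graded rings of finite type over degree zero: eventual generation in degree one
-/

universe u
open DirectSum

namespace Groth.Agent.Lib.Helper63.GenDegOne

section G

variable {R B : Type u} [CommRing R] [CommRing B] [Algebra R B]
  (ℬ : ℕ → Submodule R B) [GradedAlgebra ℬ]

/-- If every homogeneous element of positive degree is nilpotent modulo `I`, and `B` is of finite
type over `ℬ 0`, then `B` is spanned over `ℬ 0`, modulo `I`, by finitely many homogeneous
elements. -/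
theorem exists_finset_homogeneous_span_sup_eq_top [Algebra.FiniteType (ℬ 0) B] (I : Ideal B)
    (hrad : ∀ n : ℕ, 0 < n → ∀ b ∈ ℬ n, b ∈ I.radical) :
    ∃ Y : Finset B, (∀ y ∈ Y, ∃ m : ℕ, y ∈ ℬ m) ∧
      Submodule.span (ℬ 0) (Y : Set B) ⊔ I.restrictScalars (ℬ 0) = ⊤ := by
  classical
  have hft : Algebra.FiniteType (ℬ 0) (B ⧸ I) :=
    Algebra.FiniteType.of_surjective (Ideal.Quotient.mkₐ (ℬ 0) I) Ideal.Quotient.mk_surjective
  have hint : Algebra.IsIntegral (ℬ 0) (B ⧸ I) := by
    refine ⟨fun x => ?_⟩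
    obtain ⟨b, rfl⟩ := Ideal.Quotient.mk_surjective x
    rw [← DirectSum.sum_support_decompose ℬ b, map_sum]
    refine IsIntegral.sum _ (fun i _ => ?_)
    rcases Nat.eq_zero_or_pos i with h | h
    · subst h
      exact isIntegral_algebraMap (x := (decompose ℬ b 0))
    · obtain ⟨k, hk⟩ := hrad i h _ (SetLike.coe_mem (decompose ℬ b i))
      have hk' : (Ideal.Quotient.mk I ((decompose ℬ b i : B))) ^ (k + 1) = 0 := by
        rw [← map_pow, Ideal.Quotient.eq_zero_iff_mem, pow_succ]
        exact Ideal.mul_mem_right _ _ hk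
      refine IsIntegral.of_pow (Nat.succ_pos k) ?_
      rw [hk']
      exact isIntegral_zero
  have hfin : Module.Finite (ℬ 0) (B ⧸ I) := Algebra.IsIntegral.finite
  obtain ⟨s, hs⟩ := hfin.fg_top
  -- lift
  let σ : B ⧸ I → B := Function.surjInv Ideal.Quotient.mk_surjective
  have hσ : ∀ x, Ideal.Quotient.mk I (σ x) = x := Function.surjInv_eq _
  let Y : Finset B := s.biUnion (fun z => (decompose ℬ (σ z)).support.image
    (fun i => (decompose ℬ (σ z) i : B)))
  refine ⟨Y, ?_, ?_⟩
  · intro y hy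
    simp only [Y, Finset.mem_biUnion, Finset.mem_image] at hy
    obtain ⟨z, _, i, _, rfl⟩ := hy
    exact ⟨i, SetLike.coe_mem _⟩
  · let q : B →ₗ[ℬ 0] B ⧸ I := (Ideal.Quotient.mkₐ (ℬ 0) I).toLinearMap
    have hker : LinearMap.ker q = I.restrictScalars (ℬ 0) := by
      ext x
      simp only [q, LinearMap.mem_ker, Submodule.restrictScalars_mem]
      exact Ideal.Quotient.eq_zero_iff_mem
    have hσY : ∀ z ∈ s, σ z ∈ Submodule.span (ℬ 0) (Y : Set B) := by
      intro z hz
      rw [← DirectSum.sum_support_decompose ℬ (σ z)]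
      refine Submodule.sum_mem _ (fun i hi => Submodule.subset_span ?_)
      simp only [Y, Finset.coe_biUnion, Set.mem_iUnion, Finset.coe_image]
      exact ⟨z, hz, i, hi, rfl⟩
    have hmap : Submodule.map q (Submodule.span (ℬ 0) (Y : Set B)) = ⊤ := by
      rw [eq_top_iff, ← hs, Submodule.span_le]
      intro z hz
      exact ⟨σ z, hσY z hz, hσ z⟩
    rw [← hker, ← Submodule.comap_map_eq, hmap, Submodule.comap_top]

end G

section components

variable {R B : Type u} [CommRing R] [CommRing B] [Algebra R B]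
  (ℬ : ℕ → Submodule R B) [GradedAlgebra ℬ]

lemma decompose_of_mem_ite {m : ℕ} {y : B} (hy : y ∈ ℬ m) (n : ℕ) :
    (decompose ℬ y n : B) = if m = n then y else 0 := by
  split_ifs with h
  · subst h
    exact DirectSum.decompose_of_mem_same ℬ hy
  · exact DirectSum.decompose_of_mem_ne ℬ hy h

/-- components of elements of the `ℬ 0`-span of homogeneous elements -/
lemma decompose_mem_span_of_mem_span {Y : Set B} (hY : ∀ y ∈ Y, ∃ m : ℕ, y ∈ ℬ m) {p : B}
    (hp : p ∈ Submodule.span (ℬ 0) Y) (n : ℕ) :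
    (decompose ℬ p n : B) ∈ Submodule.span (ℬ 0) {y | y ∈ Y ∧ y ∈ ℬ n} := by
  induction hp using Submodule.span_induction with
  | mem y hy =>
    obtain ⟨m, hm⟩ := hY y hy
    rw [decompose_of_mem_ite ℬ hm]
    split_ifs with h
    · subst h
      exact Submodule.subset_span ⟨hy, hm⟩
    · exact Submodule.zero_mem _
  | zero => rw [decompose_zero]; exact Submodule.zero_mem _
  | add x y _ _ hx hy =>
    rw [decompose_add]
    exact Submodule.add_mem _ hx hy
  | smul c x _ hx =>
    have : (decompose ℬ (c • x) n : B) = c • (decompose ℬ x n : B) := by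
      change (decompose ℬ ((c : B) * x) n : B) = (c : B) * (decompose ℬ x n : B)
      exact DirectSum.coe_decompose_mul_of_left_mem_zero ℬ c.2
    rw [this]
    exact Submodule.smul_mem _ _ hx

/-- low components of elements of an ideal generated in degrees `≥ j` vanish -/
lemma decompose_eq_zero_of_mem_span {j : ℕ} {S : Set B} (hS : ∀ a ∈ S, ∃ k : ℕ, j ≤ k ∧ a ∈ ℬ k)
    {i : B} (hi : i ∈ Ideal.span S) {n : ℕ} (hn : n < j) : (decompose ℬ i n : B) = 0 := by
  obtain ⟨c, t, htS, -, rfl⟩ := Submodule.mem_span_iff_exists_finset_subset.mp hi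
  rw [decompose_sum, DFinsupp.finsetSum_apply, AddSubmonoidClass.coe_finsetSum]
  refine Finset.sum_eq_zero (fun a ha => ?_)
  obtain ⟨k, hjk, hak⟩ := hS a (htS ha)
  rw [smul_eq_mul]
  exact DirectSum.coe_decompose_mul_of_right_mem_of_not_le ℬ hak (by omega)

/-- components of elements of the ideal generated by `ℬ 1` -/
lemma decompose_succ_mem_of_mem_span_one {i : B} (hi : i ∈ Ideal.span (ℬ 1 : Set B)) (n : ℕ) :
    (decompose ℬ i (n + 1) : B) ∈ ℬ n * ℬ 1 := by
  obtain ⟨c, t, htS, -, rfl⟩ := Submodule.mem_span_iff_exists_finset_subset.mp hi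
  rw [decompose_sum, DFinsupp.finsetSum_apply, AddSubmonoidClass.coe_finsetSum]
  refine Submodule.sum_mem _ (fun a ha => ?_)
  rw [smul_eq_mul, DirectSum.coe_decompose_mul_add_of_right_mem ℬ (htS ha)]
  exact Submodule.mul_mem_mul (SetLike.coe_mem _) (htS ha)

end components

section fgOne

variable {R B : Type u} [CommRing R] [CommRing B] [Algebra R B]
  (ℬ : ℕ → Submodule R B) [GradedAlgebra ℬ]

/-- `ℬ 1` is a finitely generated `ℬ 0`-module when `B` is of finite type over `ℬ 0`. -/
theorem exists_finset_deg_one [Algebra.FiniteType (ℬ 0) B] :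
    ∃ F : Finset B, (∀ f ∈ F, f ∈ ℬ 1) ∧ ∀ b ∈ ℬ 1, b ∈ Submodule.span (ℬ 0) (F : Set B) := by
  classical
  set S : Set B := {a | ∃ k : ℕ, 2 ≤ k ∧ a ∈ ℬ k} with hS
  have hrad : ∀ n : ℕ, 0 < n → ∀ b ∈ ℬ n, b ∈ (Ideal.span S).radical := by
    intro n hn b hb
    refine ⟨2, Ideal.subset_span ⟨2 • n, ?_, SetLike.pow_mem_graded 2 hb⟩⟩
    simp only [smul_eq_mul]
    omega
  obtain ⟨Y, hY, hYtop⟩ := exists_finset_homogeneous_span_sup_eq_top ℬ (Ideal.span S) hrad
  refine ⟨Y.filter (fun y => y ∈ ℬ 1), fun f hf => (Finset.mem_filter.mp hf).2, ?_⟩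
  intro b hb
  have hbtop : b ∈ Submodule.span (ℬ 0) (Y : Set B) ⊔ (Ideal.span S).restrictScalars (ℬ 0) := by
    rw [hYtop]; trivial
  obtain ⟨p, hp, i, hi, rfl⟩ := Submodule.mem_sup.mp hbtop
  have h1 : (decompose ℬ (p + i) 1 : B) = p + i := DirectSum.decompose_of_mem_same ℬ hb
  have h2 : (decompose ℬ i 1 : B) = 0 :=
    decompose_eq_zero_of_mem_span ℬ (j := 2) (S := S) (fun a ha => ha) hi (by omega)
  rw [← h1, decompose_add, DirectSum.add_apply, Submodule.coe_add, h2, add_zero]
  have h3 := decompose_mem_span_of_mem_span ℬ (Y := (Y : Set B)) (fun y hy => hY y hy) hp 1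
  convert h3 using 2
  ext y
  simp

end fgOne

section main

variable {R A B : Type u} [CommRing R] [CommRing A] [Algebra R A]
  {𝒜 : ℕ → Submodule R A} [GradedAlgebra 𝒜] [CommRing B] [Algebra R B]
  {ℬ : ℕ → Submodule R B} [GradedAlgebra ℬ] (φ : 𝒜 →+*ᵍ ℬ)

/-- `b` is a `φ(A)`-linear combination of the elements of `Y`. -/
def InN (Y : Finset B) (b : B) : Prop := ∃ a : B → A, b = ∑ y ∈ Y, φ (a y) * y

variable {φ}

lemma InN.zero (Y : Finset B) : InN φ Y 0 := ⟨fun _ => 0, by simp⟩

lemma InN.add {Y : Finset B} {b b' : B} (h : InN φ Y b) (h' : InN φ Y b') : InN φ Y (b + b') := by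
  obtain ⟨a, rfl⟩ := h
  obtain ⟨a', rfl⟩ := h'
  refine ⟨fun y => a y + a' y, ?_⟩
  rw [← Finset.sum_add_distrib]
  exact Finset.sum_congr rfl (fun y _ => by rw [map_add, add_mul])

lemma InN.mul_left {Y : Finset B} {b : B} (h : InN φ Y b) (c : A) : InN φ Y (φ c * b) := by
  obtain ⟨a, rfl⟩ := h
  refine ⟨fun y => c * a y, ?_⟩
  rw [Finset.mul_sum]
  exact Finset.sum_congr rfl (fun y _ => by rw [map_mul, mul_assoc])

lemma InN.sum {Y : Finset B} {ι : Type*} (t : Finset ι) (g : ι → B) (h : ∀ i ∈ t, InN φ Y (g i)) :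
    InN φ Y (∑ i ∈ t, g i) := by
  classical
  induction t using Finset.induction_on with
  | empty => simpa using InN.zero Y
  | insert i t hi ih =>
    rw [Finset.sum_insert hi]
    exact (h i (Finset.mem_insert_self i t)).add
      (ih (fun j hj => h j (Finset.mem_insert_of_mem hj)))

lemma InN.of_mem {Y : Finset B} {y : B} (hy : y ∈ Y) : InN φ Y y := by
  classical
  refine ⟨fun z => if z = y then 1 else 0, ?_⟩
  rw [Finset.sum_eq_single y]
  · simp
  · intro z _ hz
    simp [hz]
  · intro h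
    exact absurd hy h

/-- homogeneous components of elements of `N` are in `N`. -/
lemma InN.decompose {Y : Finset B} (hY : ∀ y ∈ Y, ∃ m : ℕ, y ∈ ℬ m) {b : B} (h : InN φ Y b)
    (n : ℕ) : InN φ Y (decompose ℬ b n : B) := by
  classical
  obtain ⟨a, rfl⟩ := h
  rw [decompose_sum, DFinsupp.finsetSum_apply, AddSubmonoidClass.coe_finsetSum]
  refine InN.sum Y _ (fun y hy => ?_)
  obtain ⟨m, hm⟩ := hY y hy
  rw [DirectSum.coe_decompose_mul_of_right_mem ℬ n hm]
  split_ifs with hmn
  · rw [← φ.map_directSumDecompose]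
    exact (InN.of_mem hy).mul_left _
  · exact InN.zero Y

variable (hφ : Function.Injective φ) (h0 : Set.BijOn φ (𝒜 0) (ℬ 0)) (h1 : Set.BijOn φ (𝒜 1) (ℬ 1))

include h0 in
lemma InN.of_mem_span {Y : Finset B} {p : B} (hp : p ∈ Submodule.span (ℬ 0) (Y : Set B)) :
    InN φ Y p := by
  induction hp using Submodule.span_induction with
  | mem y hy => exact InN.of_mem hy
  | zero => exact InN.zero Y
  | add x y _ _ hx hy => exact hx.add hy
  | smul c x _ hx =>
    obtain ⟨c', -, hc'⟩ := h0.surjOn c.2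
    have : c • x = φ c' * x := by rw [hc']; rfl
    rw [this]
    exact hx.mul_left c'

include h0 h1 in
/-- graded Nakayama: `B` is generated by `Y` over `φ(A)`. -/
theorem inN_of_homogeneous {Y : Finset B} (hY : ∀ y ∈ Y, ∃ m : ℕ, y ∈ ℬ m)
    (hYtop : Submodule.span (ℬ 0) (Y : Set B) ⊔
      (Ideal.span (ℬ 1 : Set B)).restrictScalars (ℬ 0) = ⊤) :
    ∀ (n : ℕ) (b : B), b ∈ ℬ n → InN φ Y b := by
  intro n
  induction n using Nat.strong_induction_on with
  | _ n ih =>
    intro b hb
    have hbtop : b ∈ Submodule.span (ℬ 0) (Y : Set B) ⊔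
        (Ideal.span (ℬ 1 : Set B)).restrictScalars (ℬ 0) := by
      rw [hYtop]; trivial
    obtain ⟨p, hp, i, hi, rfl⟩ := Submodule.mem_sup.mp hbtop
    have h1' : (decompose ℬ (p + i) n : B) = p + i := DirectSum.decompose_of_mem_same ℬ hb
    rw [← h1', decompose_add, DirectSum.add_apply, Submodule.coe_add]
    refine ((InN.of_mem_span h0 hp).decompose hY n).add ?_
    rcases Nat.eq_zero_or_pos n with hn | hn
    · subst hn
      have : (decompose ℬ i 0 : B) = 0 :=
        decompose_eq_zero_of_mem_span ℬ (j := 1) (S := (ℬ 1 : Set B))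
          (fun a ha => ⟨1, le_rfl, ha⟩) hi Nat.one_pos
      rw [this]
      exact InN.zero Y
    · obtain ⟨n', rfl⟩ : ∃ n', n = n' + 1 := ⟨n - 1, by omega⟩
      have hmem := decompose_succ_mem_of_mem_span_one ℬ hi n'
      have key : ∀ w ∈ ℬ n' * ℬ 1, InN φ Y w := by
        intro w hw
        induction hw using Submodule.mul_induction_on' with
        | mem_mul_mem u hu v hv =>
          obtain ⟨v', -, hv'⟩ := h1.surjOn hv
          rw [mul_comm, ← hv']
          exact (ih n' (Nat.lt_succ_self n') u hu).mul_left v'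
        | add x hx y hy ihx ihy => exact ihx.add ihy
      exact key _ hmem

end main

end Groth.Agent.Lib.Helper63.GenDegOne
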