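import Mathlib

/-!
# The graded ring `S♮ = ⊕ S_{≥ n}` (EGA II 2.1.5-2.1.6 style), presented through an injective
algebra map `φ : B → A[X]` with `φ (ℬ n) = A_{≥ n} X^n`.
-/

universe u
open Polynomial DirectSum

set_option linter.unusedSectionVars false
set_option linter.unusedVariables false

namespace Groth.Agent.Lib.Helper63.SNat

section filtration

variable {R A : Type u} [CommRing R] [CommRing A] [Algebra R A]
  (𝒜 : ℕ → Submodule R A) [GradedAlgebra 𝒜]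

/-- the filtration `A_{≥ n}`. -/
def F (n : ℕ) : Submodule R A := ⨆ (m : ℕ) (_ : n ≤ m), 𝒜 m

lemma le_F {n m : ℕ} (h : n ≤ m) : 𝒜 m ≤ F 𝒜 n :=
  le_iSup₂_of_le m h le_rfl

lemma F_antitone {n m : ℕ} (h : n ≤ m) : F 𝒜 m ≤ F 𝒜 n :=
  iSup₂_le fun k hk => le_F 𝒜 (h.trans hk)

lemma proj_eq_zero_of_mem_F {n : ℕ} {a : A} (ha : a ∈ F 𝒜 n) {i : ℕ} (hi : i < n) :
    GradedAlgebra.proj 𝒜 i a = 0 := by
  unfold F at ha
  induction ha using Submodule.iSup_induction' with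
  | mem m x hx =>
    induction hx using Submodule.iSup_induction' with
    | mem hm x hx =>
      rw [GradedAlgebra.proj_apply, DirectSum.decompose_of_mem_ne 𝒜 hx (by omega)]
    | zero => simp
    | add x y _ _ hx hy => rw [map_add, hx, hy, add_zero]
  | zero => simp
  | add x y _ _ hx hy => rw [map_add, hx, hy, add_zero]

lemma mem_F_of_proj {n : ℕ} {a : A} (h : ∀ i < n, GradedAlgebra.proj 𝒜 i a = 0) : a ∈ F 𝒜 n := by
  classical
  rw [← DirectSum.sum_support_decompose 𝒜 a]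
  refine Submodule.sum_mem _ fun i _ => ?_
  by_cases hi : i < n
  · have := h i hi
    rw [GradedAlgebra.proj_apply] at this
    rw [this]
    exact zero_mem _
  · exact le_F 𝒜 (not_lt.mp hi) (SetLike.coe_mem _)

lemma mem_F_iff {n : ℕ} {a : A} : a ∈ F 𝒜 n ↔ ∀ i < n, GradedAlgebra.proj 𝒜 i a = 0 :=
  ⟨fun h _ hi => proj_eq_zero_of_mem_F 𝒜 h hi, mem_F_of_proj 𝒜⟩

lemma F_zero : F 𝒜 0 = ⊤ := by
  rw [eq_top_iff]
  intro a _
  exact mem_F_of_proj 𝒜 (fun i hi => absurd hi (Nat.not_lt_zero i))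

lemma proj_mem (i : ℕ) (a : A) : GradedAlgebra.proj 𝒜 i a ∈ 𝒜 i := by
  rw [GradedAlgebra.proj_apply]
  exact SetLike.coe_mem _

lemma proj_of_mem {i : ℕ} {a : A} (ha : a ∈ 𝒜 i) : GradedAlgebra.proj 𝒜 i a = a := by
  rw [GradedAlgebra.proj_apply, DirectSum.decompose_of_mem_same 𝒜 ha]

lemma proj_of_mem_ne {i j : ℕ} {a : A} (ha : a ∈ 𝒜 i) (h : i ≠ j) :
    GradedAlgebra.proj 𝒜 j a = 0 := by
  rw [GradedAlgebra.proj_apply, DirectSum.decompose_of_mem_ne 𝒜 ha h]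

/-- degree `p+q` component of a product of elements of `A_{≥p}` and `A_{≥q}`. -/
lemma proj_mul_of_mem_F {p q : ℕ} {u v : A} (hu : u ∈ F 𝒜 p) (hv : v ∈ F 𝒜 q) :
    GradedAlgebra.proj 𝒜 (p + q) (u * v) = GradedAlgebra.proj 𝒜 p u * GradedAlgebra.proj 𝒜 q v := by
  classical
  unfold F at hu
  induction hu using Submodule.iSup_induction' with
  | mem m x hx =>
    induction hx using Submodule.iSup_induction' with
    | mem hm x hx =>
      unfold F at hv
      induction hv using Submodule.iSup_induction' with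
      | mem m' y hy =>
        induction hy using Submodule.iSup_induction' with
        | mem hm' y hy =>
          have hxy : x * y ∈ 𝒜 (m + m') := SetLike.mul_mem_graded hx hy
          by_cases h1 : m = p
          · by_cases h2 : m' = q
            · subst h1 h2
              rw [proj_of_mem 𝒜 hxy, proj_of_mem 𝒜 hx, proj_of_mem 𝒜 hy]
            · rw [proj_of_mem_ne 𝒜 hxy (by omega), proj_of_mem_ne 𝒜 hy h2, mul_zero]
          · rw [proj_of_mem_ne 𝒜 hxy (by omega), proj_of_mem_ne 𝒜 hx h1, zero_mul]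
        | zero => simp
        | add y z _ _ hy hz => rw [mul_add, map_add, map_add, hy, hz, mul_add]
      | zero => simp
      | add y z _ _ hy hz => rw [mul_add, map_add, map_add, hy, hz, mul_add]
    | zero => simp
    | add x y _ _ hx hy => rw [add_mul, map_add, map_add, hx, hy, add_mul]
  | zero => simp
  | add x y _ _ hx hy => rw [add_mul, map_add, map_add, hx, hy, add_mul]

lemma mul_mem_F {p q : ℕ} {u v : A} (hu : u ∈ F 𝒜 p) (hv : v ∈ F 𝒜 q) : u * v ∈ F 𝒜 (p + q) := by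
  classical
  unfold F at hu
  induction hu using Submodule.iSup_induction' with
  | mem m x hx =>
    induction hx using Submodule.iSup_induction' with
    | mem hm x hx =>
      unfold F at hv
      induction hv using Submodule.iSup_induction' with
      | mem m' y hy =>
        induction hy using Submodule.iSup_induction' with
        | mem hm' y hy =>
          exact le_F 𝒜 (by omega) (SetLike.mul_mem_graded hx hy)
        | zero => simp
        | add y z _ _ hy hz => rw [mul_add]; exact add_mem hy hz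
      | zero => simp
      | add y z _ _ hy hz => rw [mul_add]; exact add_mem hy hz
    | zero => simp
    | add x y _ _ hx hy => rw [add_mul]; exact add_mem hx hy
  | zero => simp
  | add x y _ _ hx hy => rw [add_mul]; exact add_mem hx hy

lemma F_mul_le (p q : ℕ) : F 𝒜 p * F 𝒜 q ≤ F 𝒜 (p + q) :=
  Submodule.mul_le.mpr fun _ hu _ hv => mul_mem_F 𝒜 hu hv

lemma mul_mem_F_left {p : ℕ} (a : A) {u : A} (hu : u ∈ F 𝒜 p) : a * u ∈ F 𝒜 p := by
  have := mul_mem_F 𝒜 (p := 0) (q := p) (u := a) (v := u) (by rw [F_zero]; trivial) hu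
  rwa [zero_add] at this

end filtration


section graded

variable {R A : Type u} [CommRing R] [CommRing A] [Algebra R A]
  (𝒜 : ℕ → Submodule R A) [GradedAlgebra 𝒜]

lemma map_proj_le (i : ℕ) (N : Submodule R A) : N.map (GradedAlgebra.proj 𝒜 i) ≤ 𝒜 i := by
  rintro _ ⟨a, _, rfl⟩
  exact proj_mem 𝒜 i a

/-- component extraction for products -/
lemma proj_mem_mul {p q : ℕ} {N N' : Submodule R A} (hN : N ≤ F 𝒜 p) (hN' : N' ≤ F 𝒜 q)
    {x : A} (hx : x ∈ N * N') :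
    GradedAlgebra.proj 𝒜 (p + q) x ∈
      N.map (GradedAlgebra.proj 𝒜 p) * N'.map (GradedAlgebra.proj 𝒜 q) := by
  induction hx using Submodule.mul_induction_on' with
  | mem_mul_mem u hu v hv =>
    rw [proj_mul_of_mem_F 𝒜 (hN hu) (hN' hv)]
    exact Submodule.mul_mem_mul (Submodule.mem_map_of_mem hu) (Submodule.mem_map_of_mem hv)
  | add x hx y hy ihx ihy =>
    rw [map_add]
    exact add_mem ihx ihy

lemma F_one_pow_le' (n : ℕ) : F 𝒜 1 ^ n ≤ F 𝒜 n := by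
  induction n with
  | zero => rw [F_zero]; exact le_top
  | succ n ih =>
    rw [pow_succ]
    refine le_trans ?_ (F_mul_le 𝒜 n 1)
    exact Submodule.mul_le.mpr fun u hu v hv => Submodule.mul_mem_mul (ih hu) hv

lemma map_proj_F_one_pow (n : ℕ) : (F 𝒜 1 ^ n).map (GradedAlgebra.proj 𝒜 n) ≤ 𝒜 1 ^ n := by
  induction n with
  | zero =>
    rw [pow_zero, pow_zero, Submodule.one_eq_span, Submodule.map_span, Submodule.span_le]
    rintro _ ⟨_, rfl, rfl⟩
    rw [proj_of_mem 𝒜 (SetLike.GradedOne.one_mem)]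
    exact Submodule.subset_span rfl
  | succ n ih =>
    rintro _ ⟨x, hx, rfl⟩
    rw [pow_succ] at hx
    have := proj_mem_mul 𝒜 (F_one_pow_le' 𝒜 n) le_rfl hx
    rw [pow_succ]
    exact mul_le_mul' ih (map_proj_le 𝒜 1 _) this

lemma one_pow_le (n : ℕ) : 𝒜 1 ^ n ≤ 𝒜 n := by
  induction n with
  | zero =>
    rw [pow_zero, Submodule.one_eq_span, Submodule.span_le]
    rintro _ rfl
    exact SetLike.GradedOne.one_mem
  | succ n ih =>
    rw [pow_succ]
    exact Submodule.mul_le.mpr fun u hu v hv => SetLike.mul_mem_graded (ih hu) hv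

lemma graded_mul_le (i j : ℕ) : 𝒜 i * 𝒜 j ≤ 𝒜 (i + j) :=
  Submodule.mul_le.mpr fun u hu v hv => SetLike.mul_mem_graded hu hv

/-- G1 -/
theorem F_succ_iff (n₀ : ℕ) :
    (∀ n : ℕ, n₀ ≤ n → F 𝒜 (n + 1) = F 𝒜 1 * F 𝒜 n) ↔
      (∀ n : ℕ, n₀ ≤ n → 𝒜 (n + 1) = 𝒜 1 * 𝒜 n) := by
  constructor
  · intro h n hn
    apply le_antisymm
    · intro x hx
      have hx' : x ∈ F 𝒜 1 * F 𝒜 n := by
        rw [← h n hn]
        exact le_F 𝒜 le_rfl hx
      have := proj_mem_mul 𝒜 le_rfl le_rfl hx'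
      rw [add_comm 1 n, proj_of_mem 𝒜 hx] at this
      exact mul_le_mul' (map_proj_le 𝒜 1 _) (map_proj_le 𝒜 n _) this
    · rw [add_comm n 1]
      exact graded_mul_le 𝒜 1 n
  · intro h n hn
    apply le_antisymm
    · refine iSup₂_le fun m hm => ?_
      obtain ⟨m, rfl⟩ : ∃ m', m = m' + 1 := ⟨m - 1, by omega⟩
      rw [h m (by omega)]
      exact mul_le_mul' (le_F 𝒜 le_rfl) (le_F 𝒜 (by omega))
    · rw [add_comm n 1]
      exact F_mul_le 𝒜 1 n

lemma F_one_pow_absorb (n : ℕ) (hn : 1 ≤ n) (a : A) {x : A} (hx : x ∈ F 𝒜 1 ^ n) :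
    a * x ∈ F 𝒜 1 ^ n := by
  induction n, hn using Nat.le_induction generalizing a x with
  | base => rw [pow_one] at hx ⊢; exact mul_mem_F_left 𝒜 a hx
  | succ n hn ih =>
    rw [pow_succ] at hx ⊢
    induction hx using Submodule.mul_induction_on' with
    | mem_mul_mem u hu v hv =>
      rw [← mul_assoc]
      exact Submodule.mul_mem_mul (ih a hu) hv
    | add x hx y hy ihx ihy =>
      rw [mul_add]
      exact add_mem ihx ihy

lemma F_one_pow_antitone {n m : ℕ} (hn : 1 ≤ n) (hnm : n ≤ m) : F 𝒜 1 ^ m ≤ F 𝒜 1 ^ n := by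
  obtain ⟨k, rfl⟩ := Nat.exists_eq_add_of_le hnm
  rw [pow_add, Submodule.mul_le]
  intro u hu v hv
  rw [mul_comm]
  exact F_one_pow_absorb 𝒜 n hn v hu

/-- G2 -/
theorem F_pow_iff (n₀ : ℕ) (hn₀ : 1 ≤ n₀) :
    (∀ n : ℕ, n₀ ≤ n → F 𝒜 n = F 𝒜 1 ^ n) ↔ (∀ n : ℕ, n₀ ≤ n → 𝒜 n = 𝒜 1 ^ n) := by
  constructor
  · intro h n hn
    apply le_antisymm
    · intro x hx
      have hx' : x ∈ F 𝒜 1 ^ n := by
        rw [← h n hn]
        exact le_F 𝒜 le_rfl hx
      have : GradedAlgebra.proj 𝒜 n x ∈ (F 𝒜 1 ^ n).map (GradedAlgebra.proj 𝒜 n) :=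
        Submodule.mem_map_of_mem hx'
      rw [proj_of_mem 𝒜 hx] at this
      exact map_proj_F_one_pow 𝒜 n this
    · exact one_pow_le 𝒜 n
  · intro h n hn
    apply le_antisymm
    · refine iSup₂_le fun m hm => ?_
      rw [h m (by omega)]
      refine le_trans ?_ (F_one_pow_antitone 𝒜 (by omega) hm)
      exact pow_le_pow_left' (le_F 𝒜 le_rfl) m
    · exact F_one_pow_le' 𝒜 n

end graded

section phi

variable {R A B : Type u} [CommRing R] [CommRing A] [Algebra R A]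
  (𝒜 : ℕ → Submodule R A) [GradedAlgebra 𝒜] [CommRing B] [Algebra R B]
  (ℬ : ℕ → Submodule R B) [GradedAlgebra ℬ]
  (φ : B →ₐ[R] Polynomial A)

/-- `R`-linear monomial map. -/
noncomputable def mon (n : ℕ) : A →ₗ[R] A[X] :=
  (Polynomial.monomial n : A →ₗ[A] Polynomial A).restrictScalars R

@[simp] lemma mon_apply (n : ℕ) (a : A) : mon (R := R) n a = Polynomial.monomial n a := rfl

/-- The submodule of `B` of elements mapping to `N · X^n`. -/
noncomputable def Φ (n : ℕ) (N : Submodule R A) : Submodule R B :=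
  Submodule.comap φ.toLinearMap (Submodule.map (mon n) N)

lemma mem_Φ {n : ℕ} {N : Submodule R A} {b : B} :
    b ∈ Φ φ n N ↔ ∃ a ∈ N, φ b = Polynomial.monomial n a := by
  unfold Φ
  rw [Submodule.mem_comap, Submodule.mem_map]
  constructor
  · rintro ⟨a, ha, h⟩
    exact ⟨a, ha, h.symm⟩
  · rintro ⟨a, ha, h⟩
    exact ⟨a, ha, h.symm⟩

lemma Φ_mono {n : ℕ} {N N' : Submodule R A} (h : N ≤ N') : Φ φ n N ≤ Φ φ n N' := by
  intro b hb
  rw [mem_Φ] at hb ⊢
  obtain ⟨a, ha, hab⟩ := hb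
  exact ⟨a, h ha, hab⟩

variable (hφ : Function.Injective φ)
  (hdeg : ∀ n : ℕ, Submodule.map φ.toLinearMap (ℬ n) =
    Submodule.map ((Polynomial.monomial n : A →ₗ[A] Polynomial A).restrictScalars R)
      (⨆ (m : ℕ) (_ : n ≤ m), 𝒜 m))

include hφ hdeg

lemma ℬ_eq_Φ (n : ℕ) : ℬ n = Φ φ n (F 𝒜 n) := by
  ext b
  rw [mem_Φ]
  constructor
  · intro hb
    have : φ.toLinearMap b ∈ Submodule.map φ.toLinearMap (ℬ n) := Submodule.mem_map_of_mem hb
    rw [hdeg n] at this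
    obtain ⟨a, ha, h⟩ := this
    exact ⟨a, ha, h.symm⟩
  · rintro ⟨a, ha, h⟩
    have : φ.toLinearMap b ∈ Submodule.map φ.toLinearMap (ℬ n) := by
      rw [hdeg n]
      exact ⟨a, ha, h.symm⟩
    obtain ⟨b', hb', h'⟩ := this
    have : b' = b := hφ h'
    rwa [← this]

/-- existence of preimages -/
lemma exists_of_mem_F {n : ℕ} {a : A} (ha : a ∈ F 𝒜 n) :
    ∃ b ∈ ℬ n, φ b = Polynomial.monomial n a := by
  have : mon (R := R) n a ∈ Submodule.map φ.toLinearMap (ℬ n) := by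
    rw [hdeg n]
    exact ⟨a, ha, rfl⟩
  obtain ⟨b, hb, h⟩ := this
  exact ⟨b, hb, h⟩

lemma Φ_le_iff {n : ℕ} {N N' : Submodule R A} (hN : N ≤ F 𝒜 n) :
    Φ φ n N ≤ Φ φ n N' ↔ N ≤ N' := by
  constructor
  · intro h a ha
    obtain ⟨b, hb, hba⟩ := exists_of_mem_F 𝒜 ℬ φ hφ hdeg (hN ha)
    have : b ∈ Φ φ n N' := h ((mem_Φ φ).mpr ⟨a, ha, hba⟩)
    obtain ⟨a', ha', hba'⟩ := (mem_Φ φ).mp this
    have : a = a' := by
      have h2 := hba.symm.trans hba'
      exact Polynomial.monomial_injective n h2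
    rwa [this]
  · exact Φ_mono φ

lemma Φ_eq_iff {n : ℕ} {N N' : Submodule R A} (hN : N ≤ F 𝒜 n) (hN' : N' ≤ F 𝒜 n) :
    Φ φ n N = Φ φ n N' ↔ N = N' := by
  rw [le_antisymm_iff, le_antisymm_iff, Φ_le_iff 𝒜 ℬ φ hφ hdeg hN, Φ_le_iff 𝒜 ℬ φ hφ hdeg hN']

lemma Φ_mul {n m : ℕ} {N N' : Submodule R A} (hN : N ≤ F 𝒜 n) (hN' : N' ≤ F 𝒜 m) :
    Φ φ n N * Φ φ m N' = Φ φ (n + m) (N * N') := by
  apply le_antisymm
  · rw [Submodule.mul_le]
    intro b hb b' hb'
    obtain ⟨a, ha, h⟩ := (mem_Φ φ).mp hb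
    obtain ⟨a', ha', h'⟩ := (mem_Φ φ).mp hb'
    refine (mem_Φ φ).mpr ⟨a * a', Submodule.mul_mem_mul ha ha', ?_⟩
    rw [map_mul, h, h', Polynomial.monomial_mul_monomial]
  · intro b hb
    obtain ⟨a, ha, h⟩ := (mem_Φ φ).mp hb
    -- show: every a ∈ N * N' has a preimage in the product
    have key : ∀ a ∈ N * N', ∃ b' ∈ Φ φ n N * Φ φ m N', φ b' = Polynomial.monomial (n + m) a := by
      intro a ha
      induction ha using Submodule.mul_induction_on' with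
      | mem_mul_mem u hu v hv =>
        obtain ⟨bu, hbu, hu'⟩ := exists_of_mem_F 𝒜 ℬ φ hφ hdeg (hN hu)
        obtain ⟨bv, hbv, hv'⟩ := exists_of_mem_F 𝒜 ℬ φ hφ hdeg (hN' hv)
        refine ⟨bu * bv, Submodule.mul_mem_mul ((mem_Φ φ).mpr ⟨u, hu, hu'⟩) ((mem_Φ φ).mpr ⟨v, hv, hv'⟩), ?_⟩
        rw [map_mul, hu', hv', Polynomial.monomial_mul_monomial]
      | add x hx y hy ihx ihy =>
        obtain ⟨bx, hbx, hx'⟩ := ihx
        obtain ⟨by', hby, hy'⟩ := ihy
        exact ⟨bx + by', add_mem hbx hby, by rw [map_add, hx', hy', map_add]⟩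
    obtain ⟨b', hb', h'⟩ := key a ha
    have : b' = b := hφ (h'.trans h.symm)
    rwa [← this]

lemma ℬ_mul (n m : ℕ) : ℬ n * ℬ m = Φ φ (n + m) (F 𝒜 n * F 𝒜 m) := by
  rw [ℬ_eq_Φ 𝒜 ℬ φ hφ hdeg n, ℬ_eq_Φ 𝒜 ℬ φ hφ hdeg m, Φ_mul 𝒜 ℬ φ hφ hdeg le_rfl le_rfl]

lemma F_one_pow_le (n : ℕ) : F 𝒜 1 ^ n ≤ F 𝒜 n := by
  induction n with
  | zero => rw [F_zero]; exact le_top
  | succ n ih =>
    rw [pow_succ]
    refine le_trans ?_ (F_mul_le 𝒜 n 1)
    exact Submodule.mul_le.mpr fun u hu v hv => Submodule.mul_mem_mul (ih hu) hv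

lemma ℬ_one_pow (n : ℕ) (hn : 1 ≤ n) : ℬ 1 ^ n = Φ φ n (F 𝒜 1 ^ n) := by
  induction n, hn using Nat.le_induction with
  | base => rw [pow_one, pow_one]; exact ℬ_eq_Φ 𝒜 ℬ φ hφ hdeg 1
  | succ n hn ih =>
    rw [pow_succ, pow_succ, ih, ℬ_eq_Φ 𝒜 ℬ φ hφ hdeg 1,
      Φ_mul 𝒜 ℬ φ hφ hdeg (F_one_pow_le 𝒜 ℬ φ hφ hdeg n) le_rfl]

end phi

end Groth.Agent.Lib.Helper63.SNat
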