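import Mathlib
import Groth.Agent.Lib.Helper63.GenDegOne
import Groth.Agent.Lib.Helper63.SNat

/-!
# Eventual generation in degree one (continued): the conductor argument
-/

universe u
open DirectSum HomogeneousLocalization

namespace Groth.Agent.Lib.Helper63.GenDegOne

section conductor

variable {R A B : Type u} [CommRing R] [CommRing A] [Algebra R A]
  {𝒜 : ℕ → Submodule R A} [GradedAlgebra 𝒜] [CommRing B] [Algebra R B]
  {ℬ : ℕ → Submodule R B} [GradedAlgebra ℬ] (φ : 𝒜 →+*ᵍ ℬ)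

/-- The conductor of `y` into `φ(A)`. -/
def cond (y : B) : Ideal A where
  carrier := {a | ∃ a' : A, φ a' = φ a * y}
  add_mem' := by
    rintro a b ⟨a', ha⟩ ⟨b', hb⟩
    exact ⟨a' + b', by rw [map_add, map_add, ha, hb, add_mul]⟩
  zero_mem' := ⟨0, by simp⟩
  smul_mem' := by
    rintro c a ⟨a', ha⟩
    exact ⟨c * a', by rw [smul_eq_mul, map_mul, map_mul, ha, mul_assoc]⟩

lemma mem_cond {y : B} {a : A} : a ∈ cond φ y ↔ ∃ a' : A, φ a' = φ a * y := Iff.rfl

variable {φ}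

/-- From surjectivity of `Away.map φ f`: a power of `f` conducts `y` into `φ(A)`. -/
lemma mem_radical_cond {f : A} (hf : f ∈ 𝒜 1) (hsurj : Function.Surjective (Away.map φ f))
    {m : ℕ} {y : B} (hy : y ∈ ℬ m) : f ∈ (cond φ y).radical := by
  have hy' : y ∈ ℬ (m • 1) := by rwa [smul_eq_mul, mul_one]
  obtain ⟨x, hx⟩ := hsurj (Away.mk ℬ (Graded.map_mem φ hf) m y hy')
  obtain ⟨k, a, ha, rfl⟩ := Away.mk_surjective 𝒜 hf x
  rw [Away.map_mk φ f hf, HomogeneousLocalization.ext_iff_val, Away.val_mk, Away.val_mk,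
    Localization.mk_eq_mk_iff, Localization.r_iff_exists] at hx
  obtain ⟨⟨_, j, rfl⟩, hj⟩ := hx
  have hj' : φ f ^ j * (φ f ^ m * φ a) = φ f ^ j * (φ f ^ k * y) := hj
  refine ⟨j + k, f ^ (j + m) * a, ?_⟩
  rw [map_mul, map_pow, map_pow, pow_add, pow_add, mul_assoc, hj', mul_assoc]

lemma pow_le_span_pow (n : ℕ) :
    (𝒜 1 ^ n : Submodule R A) ≤ ((Ideal.span (𝒜 1 : Set A)) ^ n).restrictScalars R := by
  induction n with
  | zero =>
    intro x _
    simp
  | succ n ih =>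
    rw [pow_succ, Submodule.mul_le]
    intro u hu v hv
    rw [Submodule.restrictScalars_mem, pow_succ]
    exact Ideal.mul_mem_mul (ih hu) (Ideal.subset_span hv)

variable (hφ : Function.Injective φ) (h0 : Set.BijOn φ (𝒜 0) (ℬ 0)) (h1 : Set.BijOn φ (𝒜 1) (ℬ 1))

include hφ h0 h1 in
lemma span_one_fg [Algebra.FiniteType (ℬ 0) B] : (Ideal.span (𝒜 1 : Set A)).FG := by
  classical
  obtain ⟨F, hF, hFspan⟩ := exists_finset_deg_one ℬ
  have hpre : ∀ f : B, ∃ f' : A, f ∈ F → (f' ∈ 𝒜 1 ∧ φ f' = f) := by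
    intro f
    by_cases hf : f ∈ F
    · obtain ⟨f', hf', hff'⟩ := h1.surjOn (hF f hf)
      exact ⟨f', fun _ => ⟨hf', hff'⟩⟩
    · exact ⟨0, fun h => absurd h hf⟩
  choose g hg using hpre
  refine ⟨F.image g, le_antisymm ?_ ?_⟩
  · rw [Ideal.span_le]
    intro x hx
    simp only [Finset.coe_image, Set.mem_image, Finset.mem_coe] at hx
    obtain ⟨f, hf, rfl⟩ := hx
    exact Ideal.subset_span (hg f hf).1
  · rw [Ideal.span_le]
    intro x hx
    have hφx : φ x ∈ Submodule.span (ℬ 0) (F : Set B) := hFspan _ (Graded.map_mem φ hx)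
    obtain ⟨c, -, hc⟩ := Submodule.mem_span_finset.mp hφx
    have hpre0 : ∀ b : ℬ 0, ∃ b' : A, φ b' = (b : B) := by
      intro b
      obtain ⟨b', -, hb'⟩ := h0.surjOn b.2
      exact ⟨b', hb'⟩
    choose c' hc' using hpre0
    have hx' : x = ∑ f ∈ F, c' (c f) * g f := by
      apply hφ
      rw [← hc, map_sum]
      refine Finset.sum_congr rfl (fun f hf => ?_)
      rw [map_mul, hc', (hg f hf).2]
      rfl
    rw [hx']
    refine Ideal.sum_mem _ (fun f hf => Ideal.mul_mem_left _ _ (Ideal.subset_span ?_))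
    exact Finset.mem_coe.mpr (Finset.mem_image_of_mem g hf)

include hφ h0 h1 in
/-- for homogeneous `y`, high-degree elements of `A` conduct `y` into `φ(A)`. -/
theorem exists_forall_mem_cond [Algebra.FiniteType (ℬ 0) B]
    (hgen : ∀ n : ℕ, 1 ≤ n → 𝒜 n = 𝒜 1 ^ n)
    (hsurj : ∀ f ∈ 𝒜 1, Function.Surjective (Away.map φ f))
    {m : ℕ} {y : B} (hy : y ∈ ℬ m) :
    ∃ K : ℕ, ∀ n : ℕ, K ≤ n → ∀ u ∈ 𝒜 n, u ∈ cond φ y := by
  have hle : Ideal.span (𝒜 1 : Set A) ≤ (cond φ y).radical := by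
    rw [Ideal.span_le]
    intro f hf
    exact mem_radical_cond hf (hsurj f hf) hy
  obtain ⟨K, hK⟩ := Ideal.exists_pow_le_of_le_radical_of_fg hle (span_one_fg hφ h0 h1)
  refine ⟨K, fun n hn u hu => hK (Ideal.pow_le_pow_right hn ?_)⟩
  rcases Nat.eq_zero_or_pos n with h | h
  · subst h
    simp
  · have hu' : u ∈ (𝒜 1 ^ n : Submodule R A) := by rw [← hgen n h]; exact hu
    have hle' := pow_le_span_pow (𝒜 := 𝒜) n
    have := hle' hu'
    rwa [Submodule.restrictScalars_mem] at this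

include h0 h1 in
lemma map_mem_pow {n : ℕ} (hn : 1 ≤ n) {a : A} (ha : a ∈ (𝒜 1 ^ n : Submodule R A)) :
    φ a ∈ (ℬ 1 ^ n : Submodule R B) := by
  induction n, hn using Nat.le_induction generalizing a with
  | base =>
    rw [pow_one] at ha ⊢
    exact Graded.map_mem φ ha
  | succ n hn ih =>
    rw [pow_succ] at ha ⊢
    induction ha using Submodule.mul_induction_on' with
    | mem_mul_mem u hu v hv =>
      rw [map_mul]
      exact Submodule.mul_mem_mul (ih hu) (Graded.map_mem φ hv)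
    | add x hx y hy ihx ihy =>
      rw [map_add]
      exact Submodule.add_mem _ ihx ihy

include hφ h0 h1 in
theorem eventually_eq_pow [Algebra.FiniteType (ℬ 0) B]
    (hgen : ∀ n : ℕ, 1 ≤ n → 𝒜 n = 𝒜 1 ^ n)
    (hsurj : ∀ f ∈ 𝒜 1, Function.Surjective (Away.map φ f))
    (hrad : ∀ n : ℕ, 0 < n → ∀ b ∈ ℬ n, b ∈ (Ideal.span (ℬ 1 : Set B)).radical) :
    ∃ n₀ : ℕ, ∀ n : ℕ, n₀ ≤ n → ℬ n = ℬ 1 ^ n := by
  classical
  obtain ⟨Y, hY, hYtop⟩ :=
    exists_finset_homogeneous_span_sup_eq_top ℬ (Ideal.span (ℬ 1 : Set B)) hrad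
  have hdeg : ∀ y : B, ∃ m : ℕ, y ∈ Y → y ∈ ℬ m := by
    intro y
    by_cases hy : y ∈ Y
    · obtain ⟨m, hm⟩ := hY y hy
      exact ⟨m, fun _ => hm⟩
    · exact ⟨0, fun h => absurd h hy⟩
  choose m hm using hdeg
  have hcond : ∀ y : B, ∃ K : ℕ, y ∈ Y → ∀ n : ℕ, K ≤ n → ∀ u ∈ 𝒜 n, u ∈ cond φ y := by
    intro y
    by_cases hy : y ∈ Y
    · obtain ⟨K, hK⟩ := exists_forall_mem_cond hφ h0 h1 hgen hsurj (hm y hy)
      exact ⟨K, fun _ => hK⟩
    · exact ⟨0, fun h => absurd h hy⟩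
  choose K hK using hcond
  refine ⟨Y.sup m + Y.sup K + 1, fun n hn => le_antisymm ?_ (SNat.one_pow_le ℬ n)⟩
  intro b hb
  obtain ⟨a, hba⟩ := inN_of_homogeneous h0 h1 hY hYtop n b hb
  -- take the degree n component
  have hb1 : b = ∑ y ∈ Y, φ (decompose 𝒜 (a y) (n - m y) : A) * y := by
    have h1' : (decompose ℬ b n : B) = b := DirectSum.decompose_of_mem_same ℬ hb
    rw [← h1']
    conv_lhs => rw [hba]
    rw [decompose_sum, DFinsupp.finsetSum_apply, AddSubmonoidClass.coe_finsetSum]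
    refine Finset.sum_congr rfl (fun y hy => ?_)
    have hmy : m y ≤ n := by
      have : m y ≤ Y.sup m := Finset.le_sup hy
      omega
    rw [DirectSum.coe_decompose_mul_of_right_mem_of_le ℬ (hm y hy) hmy,
      ← φ.map_directSumDecompose]
  -- each term is in the range of φ
  have hterm : ∀ y : B, ∃ a' : A, y ∈ Y → φ a' = φ (decompose 𝒜 (a y) (n - m y) : A) * y := by
    intro y
    by_cases hy : y ∈ Y
    · have hmy : m y ≤ Y.sup m := Finset.le_sup hy
      have hKy : K y ≤ Y.sup K := Finset.le_sup hy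
      obtain ⟨a', ha'⟩ := hK y hy (n - m y) (by omega) _ (SetLike.coe_mem (decompose 𝒜 (a y) (n - m y)))
      exact ⟨a', fun _ => ha'⟩
    · exact ⟨0, fun h => absurd h hy⟩
  choose a' ha' using hterm
  have hb2 : b = φ (∑ y ∈ Y, a' y) := by
    rw [hb1, map_sum]
    exact Finset.sum_congr rfl (fun y hy => (ha' y hy).symm)
  have hb3 : b = φ (decompose 𝒜 (∑ y ∈ Y, a' y) n : A) := by
    rw [φ.map_directSumDecompose, ← hb2]
    exact (DirectSum.decompose_of_mem_same ℬ hb).symm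
  have hn1 : 1 ≤ n := by omega
  rw [hb3]
  apply map_mem_pow h0 h1 hn1
  rw [← hgen n hn1]
  exact SetLike.coe_mem _

end conductor

end Groth.Agent.Lib.Helper63.GenDegOne
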