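import Mathlib
import Groth.Agent.Lib.Helper85.IntMult.FiniteRank
import Groth.Agent.Lib.Helper69.LocalTarget

/-! Fibres of a morphism over an open where it is finite flat: finiteness and rank; the rank at the
generic point is the degree of the function field extension (helper63). -/

set_option linter.style.haveILetI false

set_option autoImplicit false

universe u

namespace Groth.Agent.Lib.Helper63.GenFinRankB

open AlgebraicGeometry CategoryTheory Limits

/-- The global sections of a finite flat scheme over a field form a vector space of dimension the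
rank of the morphism. -/
theorem finrank_sections_of_finite_flat {P : Scheme.{u}} (K : Type u) [Field K]
    (p : P ⟶ Spec (CommRingCat.of K)) [IsFinite p] [Flat p] (s : Spec (CommRingCat.of K)) :
    letI := ((Scheme.ΓSpecIso (CommRingCat.of K)).inv ≫ p.appTop).hom.toAlgebra
    Module.finrank K Γ(P, ⊤) = p.finrank s := by
  have haff : IsAffine P := isAffine_of_isAffineHom p
  have hfac : p = P.isoSpec.hom ≫ Spec.map ((Scheme.ΓSpecIso (CommRingCat.of K)).inv ≫ p.appTop) := by
    rw [Spec.map_comp, Scheme.isoSpec_hom, ← Category.assoc, ← Scheme.toSpecΓ_naturality,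
      Category.assoc, toSpecΓ_SpecMap_ΓSpecIso_inv, Category.comp_id]
  have hφfin : IsFinite (Spec.map ((Scheme.ΓSpecIso (CommRingCat.of K)).inv ≫ p.appTop)) := by
    rw [← MorphismProperty.cancel_left_of_respectsIso (P := @IsFinite) P.isoSpec.hom, ← hfac]
    infer_instance
  have hφflat : Flat (Spec.map ((Scheme.ΓSpecIso (CommRingCat.of K)).inv ≫ p.appTop)) := by
    rw [← MorphismProperty.cancel_left_of_respectsIso (P := @Flat) P.isoSpec.hom, ← hfac]
    infer_instance
  have hφfin' := (IsFinite.SpecMap_iff _).mp hφfin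
  have hφflat' := Flat.SpecMap_iff.mp hφflat
  have hrank2 : p.finrank s = ((Scheme.ΓSpecIso (CommRingCat.of K)).inv ≫ p.appTop).hom.finrank s := by
    conv_lhs => rw [hfac]
    rw [Scheme.Hom.finrank_comp_left_of_isIso, Scheme.Hom.finrank_SpecMap_eq_finrank hφfin' hφflat']
  letI : Algebra K Γ(P, ⊤) := ((Scheme.ΓSpecIso (CommRingCat.of K)).inv ≫ p.appTop).hom.toAlgebra
  rw [hrank2]
  show Module.finrank K Γ(P, ⊤) = Module.rankAtStalk _ _
  rw [Module.rankAtStalk_eq_finrank_of_free]
  rfl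

/-- The fibre of `f` over a point `y` of an open `W` is a base change of `f ∣_ W`. -/
theorem exists_isPullback_fiber {X Y : Scheme.{u}} (f : X ⟶ Y) (W : Y.Opens) (y : Y) (hy : y ∈ W) :
    ∃ (a : f.fiber y ⟶ (f ⁻¹ᵁ W).toScheme) (h : Spec (Y.residueField y) ⟶ W.toScheme),
      IsPullback a (f.fiberToSpecResidueField y) (f ∣_ W) h ∧
        h (IsLocalRing.closedPoint (Y.residueField y)) = ⟨y, hy⟩ := by
  have hrange : Set.range (Y.fromSpecResidueField y) ⊆ Set.range W.ι := by
    rw [Scheme.range_fromSpecResidueField, Scheme.Opens.range_ι]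
    exact Set.singleton_subset_iff.mpr hy
  let h : Spec (Y.residueField y) ⟶ W.toScheme :=
    IsOpenImmersion.lift W.ι (Y.fromSpecResidueField y) hrange
  have hh : h ≫ W.ι = Y.fromSpecResidueField y := IsOpenImmersion.lift_fac _ _ _
  have hpb := isPullback_morphismRestrict f W
  have hcond : f.fiberι y ≫ f = (f.fiberToSpecResidueField y ≫ h) ≫ W.ι := by
    rw [Category.assoc, hh]
    exact f.fiber_fac y
  let a : f.fiber y ⟶ (f ⁻¹ᵁ W).toScheme :=
    hpb.lift (f.fiberToSpecResidueField y ≫ h) (f.fiberι y) hcond.symm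
  have ha1 : a ≫ (f ∣_ W) = f.fiberToSpecResidueField y ≫ h := hpb.lift_fst _ _ _
  have ha2 : a ≫ (f ⁻¹ᵁ W).ι = f.fiberι y := hpb.lift_snd _ _ _
  refine ⟨a, h, ?_, ?_⟩
  · refine IsPullback.of_right ?_ ha1 hpb.flip
    rw [ha2, hh]
    exact IsPullback.of_hasPullback f (Y.fromSpecResidueField y)
  · apply W.ι.isEmbedding.injective
    rw [← Scheme.Hom.comp_apply, hh, Scheme.fromSpecResidueField_apply]
    rfl

/-- Over an open `W` where `f` is finite flat, the fibres are finite and the dimension of their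
global sections is the rank of `f ∣_ W`. -/
theorem fiber_isFinite_and_finrank {X Y : Scheme.{u}} (f : X ⟶ Y) (W : Y.Opens)
    [IsFinite (f ∣_ W)] [Flat (f ∣_ W)] (y : Y) (hy : y ∈ W) :
    IsFinite (f.fiberToSpecResidueField y) ∧
      (letI := ((Scheme.ΓSpecIso (CommRingCat.of (Y.residueField y))).inv ≫
          (f.fiberToSpecResidueField y).appTop).hom.toAlgebra;
        Module.finrank (Y.residueField y) Γ(f.fiber y, ⊤)) = (f ∣_ W).finrank ⟨y, hy⟩ := by
  obtain ⟨a, h, hpb, hpt⟩ := exists_isPullback_fiber f W y hy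
  have hfin : IsFinite (f.fiberToSpecResidueField y) :=
    MorphismProperty.of_isPullback (P := @IsFinite) hpb inferInstance
  have hflat : Flat (f.fiberToSpecResidueField y) :=
    MorphismProperty.of_isPullback (P := @Flat) hpb inferInstance
  refine ⟨hfin, ?_⟩
  have h1 := finrank_sections_of_finite_flat (Y.residueField y) (f.fiberToSpecResidueField y)
    (IsLocalRing.closedPoint (Y.residueField y))
  have h2 := Scheme.Hom.finrank_of_isPullback a (f.fiberToSpecResidueField y) (f ∣_ W) h hpb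
    (IsLocalRing.closedPoint (Y.residueField y))
  rw [hpt] at h2
  rw [← h2]
  exact h1

theorem length_quot_eq_one {R : Type*} [CommRing R] (hR : IsField R) (I : Ideal R) (hI : I ≠ ⊤) :
    Module.length R (R ⧸ I) = 1 := by
  obtain ⟨M, hM, hIM⟩ := Ideal.exists_le_maximal I hI
  have hMbot : M = ⊥ := by
    rw [eq_bot_iff]
    intro x hx
    by_contra hx0
    obtain ⟨b, hb⟩ := hR.mul_inv_cancel hx0
    exact hM.ne_top ((Ideal.eq_top_iff_one M).mpr (hb ▸ M.mul_mem_right b hx))
  have hIbot : I = M := by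
    rw [hMbot] at hIM ⊢
    exact le_bot_iff.mp hIM
  rw [hIbot, Module.length_eq_one_iff]
  exact isSimpleModule_iff_quot_maximal.mpr ⟨M, hM, ⟨LinearEquiv.refl _ _⟩⟩

theorem isField_stalk_of_eq_genericPoint {Z : Scheme.{u}} [IsIntegral Z] (z : Z)
    (hz : z = genericPoint ↥Z) : IsField (Z.presheaf.stalk z) := by
  subst hz
  exact Field.toIsField Z.functionField

theorem residueDegree_ι_eq_one {X : Scheme.{u}} (U : X.Opens) (x : U.toScheme) :
    U.ι.residueDegree x = 1 := by
  apply Groth.Agent.Lib.Helper85.FiniteRank.residueDegree_eq_one_of_stalkMap_surjective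
  exact (ConcreteCategory.bijective_of_isIso (U.ι.stalkMap x)).surjective

/-- The rank of `f ∣_ W` at the image of the generic point is the degree of the function field
extension, when the generic point is alone in its fibre. -/
theorem finrank_restrict_generic {X Y : Scheme.{u}} [IsIntegral X] [IsIntegral Y] (f : X ⟶ Y)
    (W : Y.Opens) [IsFinite (f ∣_ W)] [Flat (f ∣_ W)]
    (hC : ∀ x : X, f x = f (genericPoint ↥X) → x = genericPoint ↥X)
    (hξ : f (genericPoint ↥X) ∈ W) :
    (f ∣_ W).finrank ⟨f (genericPoint ↥X), hξ⟩ = f.residueDegree (genericPoint ↥X) := by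
  set g := f ∣_ W with hg
  let ξ' : (f ⁻¹ᵁ W).toScheme := ⟨genericPoint ↥X, hξ⟩
  have hneU : Nonempty ↥((f ⁻¹ᵁ W).toScheme) := ⟨ξ'⟩
  have hneW : Nonempty ↥(W.toScheme) := ⟨⟨f (genericPoint ↥X), hξ⟩⟩
  have hcomm : g ≫ W.ι = (f ⁻¹ᵁ W).ι ≫ f := morphismRestrict_ι f W
  have hgval : ∀ x : (f ⁻¹ᵁ W).toScheme, (g x).1 = f x.1 := by
    intro x
    have := congrArg (fun φ : (f ⁻¹ᵁ W).toScheme ⟶ Y => φ x) hcomm
    simpa using this
  have hgξ : g ξ' = ⟨f (genericPoint ↥X), hξ⟩ := Subtype.ext (hgval ξ')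
  have hfib : g ⁻¹' {⟨f (genericPoint ↥X), hξ⟩} = {ξ'} := by
    ext x
    simp only [Set.mem_preimage, Set.mem_singleton_iff]
    constructor
    · intro hx
      have h1 : f x.1 = f (genericPoint ↥X) := by
        rw [← hgval x, hx]
      exact Subtype.ext (hC x.1 h1)
    · rintro rfl
      exact hgξ
  rw [Groth.Agent.Lib.Helper85.FiniteRank.finrank_eq_finsum g, hfib, finsum_mem_singleton]
  unfold Groth.Agent.Lib.Helper85.FiniteRank.locDeg
  have hdeg : g.residueDegree ξ' = f.residueDegree (genericPoint ↥X) := by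
    have h1 := Groth.Agent.Lib.Helper55.residueDegree_comp g W.ι ξ'
    have h2 := Groth.Agent.Lib.Helper55.residueDegree_comp (f ⁻¹ᵁ W).ι f ξ'
    rw [hcomm, h2, residueDegree_ι_eq_one, residueDegree_ι_eq_one, one_mul, mul_one] at h1
    exact h1.symm
  have hξ'gen : ξ' = genericPoint ↥(f ⁻¹ᵁ W).toScheme := by
    apply (f ⁻¹ᵁ W).ι.isEmbedding.injective
    rw [genericPoint_eq_of_isOpenImmersion (f ⁻¹ᵁ W).ι]
    rfl
  have hfield : IsField ((f ⁻¹ᵁ W).toScheme.presheaf.stalk ξ') :=
    isField_stalk_of_eq_genericPoint ξ' hξ'gen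
  have hne : Ideal.map (g.stalkMap ξ').hom
      (IsLocalRing.maximalIdeal (W.toScheme.presheaf.stalk (g ξ'))) ≠ ⊤ := by
    intro htop
    exact (IsLocalRing.map_maximalIdeal_lt_top (g.stalkMap ξ').hom).ne htop
  rw [hdeg, length_quot_eq_one hfield _ hne]
  simp

theorem one_le_finrank_restrict {X Y : Scheme.{u}} (f : X ⟶ Y)
    (W : Y.Opens) [IsFinite (f ∣_ W)] [Flat (f ∣_ W)] (x : X) (hx : f x ∈ W) :
    1 ≤ (f ∣_ W).finrank ⟨f x, hx⟩ := by
  let x' : (f ⁻¹ᵁ W).toScheme := ⟨x, hx⟩
  have hcomm : (f ∣_ W) ≫ W.ι = (f ⁻¹ᵁ W).ι ≫ f := morphismRestrict_ι f W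
  have hgval : ∀ z : (f ⁻¹ᵁ W).toScheme, ((f ∣_ W) z).1 = f z.1 := by
    intro z
    have := congrArg (fun φ : (f ⁻¹ᵁ W).toScheme ⟶ Y => φ z) hcomm
    simpa using this
  have h1 := Scheme.Hom.one_le_finrank_map (f ∣_ W) x'
  have h2 : (f ∣_ W) x' = ⟨f x, hx⟩ := Subtype.ext (hgval x')
  rwa [h2] at h1

end Groth.Agent.Lib.Helper63.GenFinRankB
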