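import Mathlib

/-!
# Finite-type graded rings: `Proj` is covered by finitely many `D₊(h)`, and by the `D₊(g)`, `g` of one
fixed positive degree `d` (and of every positive multiple of `d`).
-/

set_option autoImplicit false
universe u
open DirectSum
open scoped HomogeneousIdeal

namespace Groth.Agent.Lib.Helper63.GrFTCover

variable {A σ : Type u} [CommRing A] [SetLike σ A] [AddSubgroupClass σ A] (𝒜 : ℕ → σ) [GradedRing 𝒜]

/-- If all positive-degree homogeneous components of a generating family lie in a homogeneous prime `y`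
(and the base ring maps to degree zero), then `y` contains the irrelevant ideal. -/
theorem irrelevant_le_of_components_mem {R : Type u} [CommRing R] [Algebra R A]
    (hφ0 : ∀ r : R, algebraMap R A r ∈ 𝒜 0) (S : Set A) (hS : Algebra.adjoin R S = ⊤)
    (P : HomogeneousIdeal 𝒜)
    (hP : ∀ s ∈ S, ∀ i : ℕ, 0 < i → ((decompose 𝒜 s i : 𝒜 i) : A) ∈ P.toIdeal) :
    𝒜₊ ≤ P := by
  classical
  have key : ∀ a : A, ∃ a0 ∈ 𝒜 0, a - a0 ∈ P.toIdeal := by
    intro a
    have ha : a ∈ Algebra.adjoin R S := by rw [hS]; trivial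
    induction ha using Algebra.adjoin_induction with
    | mem s hs =>
      refine ⟨((decompose 𝒜 s 0 : 𝒜 0) : A), SetLike.coe_mem _, ?_⟩
      have hsum : s - ((decompose 𝒜 s 0 : 𝒜 0) : A) =
          ∑ i ∈ (decompose 𝒜 s).support.erase 0, ((decompose 𝒜 s i : 𝒜 i) : A) := by
        rw [sub_eq_iff_eq_add]
        conv_lhs => rw [← DirectSum.sum_support_decompose 𝒜 s]
        by_cases h0 : 0 ∈ (decompose 𝒜 s).support
        · rw [← Finset.sum_erase_add _ _ h0]
        · rw [Finset.erase_eq_of_notMem h0]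
          have : ((decompose 𝒜 s 0 : 𝒜 0) : A) = 0 := by simpa using h0
          rw [this, add_zero]
      rw [hsum]
      refine Ideal.sum_mem _ (fun i hi => ?_)
      have hi0 : i ≠ 0 := (Finset.mem_erase.mp hi).1
      exact hP s hs i (Nat.pos_of_ne_zero hi0)
    | algebraMap r =>
      exact ⟨algebraMap R A r, hφ0 r, by rw [sub_self]; exact zero_mem _⟩
    | add x y _ _ hx hy =>
      obtain ⟨x0, hx0, hx⟩ := hx
      obtain ⟨y0, hy0, hy⟩ := hy
      refine ⟨x0 + y0, add_mem hx0 hy0, ?_⟩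
      have : x + y - (x0 + y0) = (x - x0) + (y - y0) := by ring
      rw [this]; exact add_mem hx hy
    | mul x y _ _ hx hy =>
      obtain ⟨x0, hx0, hx⟩ := hx
      obtain ⟨y0, hy0, hy⟩ := hy
      refine ⟨x0 * y0, ?_, ?_⟩
      · have := SetLike.GradedMul.mul_mem (A := 𝒜) hx0 hy0
        rwa [add_zero] at this
      · have : x * y - x0 * y0 = (x - x0) * y + x0 * (y - y0) := by ring
        rw [this]
        exact add_mem (Ideal.mul_mem_right _ _ hx) (Ideal.mul_mem_left _ _ hy)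
  rw [HomogeneousIdeal.irrelevant_le]
  intro i hi a ha
  have ha' : a ∈ 𝒜 i := ha
  obtain ⟨a0, ha0, hq⟩ := key a
  have h1 := P.isHomogeneous i hq
  have h2 : ((decompose 𝒜 (a - a0) i : 𝒜 i) : A) = a := by
    rw [decompose_sub, DirectSum.sub_apply, AddSubgroupClass.coe_sub,
      decompose_of_mem_same 𝒜 ha', decompose_of_mem_ne 𝒜 ha0 (by omega), sub_zero]
  rw [h2] at h1
  exact h1

/-- For a graded ring of finite type over a ring mapping to degree zero, finitely many homogeneous elements of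
positive degrees cover `Proj`. -/
theorem exists_finset_cover {R : Type u} [CommRing R] (φ : R →+* A) (hφ0 : ∀ r : R, φ r ∈ 𝒜 0)
    (hft : φ.FiniteType) :
    ∃ (H : Finset A) (dg : A → ℕ), (∀ h ∈ H, 0 < dg h ∧ h ∈ 𝒜 (dg h)) ∧
      ∀ y : ProjectiveSpectrum 𝒜, ∃ h ∈ H, h ∉ y.asHomogeneousIdeal := by
  classical
  algebraize [φ]
  obtain ⟨S, hS⟩ := (Algebra.FiniteType.out : (⊤ : Subalgebra R A).FG)
  set H : Finset A := S.biUnion (fun s => ((decompose 𝒜 s).support.filter (fun i => 0 < i)).image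
    (fun i => ((decompose 𝒜 s i : 𝒜 i) : A))) with hH
  have hdeg : ∀ h ∈ H, ∃ i : ℕ, 0 < i ∧ h ∈ 𝒜 i := by
    intro h hh
    rw [hH, Finset.mem_biUnion] at hh
    obtain ⟨s, _, hh⟩ := hh
    rw [Finset.mem_image] at hh
    obtain ⟨i, hi, rfl⟩ := hh
    exact ⟨i, (Finset.mem_filter.mp hi).2, SetLike.coe_mem _⟩
  choose! dg hdg using hdeg
  refine ⟨H, dg, hdg, ?_⟩
  intro y
  by_contra hcon
  push Not at hcon
  apply y.not_irrelevant_le
  refine irrelevant_le_of_components_mem 𝒜 (R := R) (fun r => hφ0 r) (S : Set A) hS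
    y.asHomogeneousIdeal ?_
  intro s hs i hi
  by_cases hsupp : i ∈ (decompose 𝒜 s).support
  · apply hcon
    rw [hH, Finset.mem_biUnion]
    exact ⟨s, hs, Finset.mem_image.mpr ⟨i, Finset.mem_filter.mpr ⟨hsupp, hi⟩, rfl⟩⟩
  · have : ((decompose 𝒜 s i : 𝒜 i) : A) = 0 := by simpa using hsupp
    rw [this]; exact zero_mem _

/-- For a graded ring of finite type over a ring mapping to degree zero, there is `d > 0` such that for every
`k > 0` the `D₊(g)`, `g` homogeneous of degree `k d`, cover `Proj`; moreover `Proj` is quasi-compact. -/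
theorem exists_degree_cover {R : Type u} [CommRing R] (φ : R →+* A) (hφ0 : ∀ r : R, φ r ∈ 𝒜 0)
    (hft : φ.FiniteType) :
    ∃ d : ℕ, 0 < d ∧ ∀ k : ℕ, 0 < k → ∀ y : ProjectiveSpectrum 𝒜,
      ∃ g ∈ 𝒜 (k * d), g ∉ y.asHomogeneousIdeal := by
  classical
  obtain ⟨H, dg, hdg, hcov⟩ := exists_finset_cover 𝒜 φ hφ0 hft
  refine ⟨∏ h ∈ H, dg h, Finset.prod_pos (fun h hh => (hdg h hh).1), ?_⟩
  intro k hk y
  obtain ⟨h, hh, hy⟩ := hcov y
  have hdvd : dg h ∣ ∏ h ∈ H, dg h := Finset.dvd_prod_of_mem dg hh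
  obtain ⟨c, hc⟩ := hdvd
  refine ⟨h ^ (k * c), ?_, ?_⟩
  · have := SetLike.pow_mem_graded (k * c) (hdg h hh).2
    have e : (k * c) • dg h = k * ∏ h ∈ H, dg h := by rw [hc, smul_eq_mul]; ring
    rwa [e] at this
  · intro hmem
    exact hy (y.isPrime.mem_of_pow_mem _ hmem)

open AlgebraicGeometry in
/-- `Proj` of a graded ring of finite type over a ring mapping to degree zero is quasi-compact. -/
theorem compactSpace_proj {R : Type u} [CommRing R] (φ : R →+* A) (hφ0 : ∀ r : R, φ r ∈ 𝒜 0)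
    (hft : φ.FiniteType) : CompactSpace (Proj 𝒜) := by
  classical
  obtain ⟨H, dg, hdg, hcov⟩ := exists_finset_cover 𝒜 φ hφ0 hft
  refine ⟨?_⟩
  have hc : IsCompact (⋃ h ∈ H, ((Proj.basicOpen 𝒜 h : (Proj 𝒜).Opens) : Set (Proj 𝒜))) := by
    refine H.isCompact_biUnion (fun h hh => ?_)
    by_cases hm : h ∈ H
    · exact (Proj.isAffineOpen_basicOpen 𝒜 h (hdg h hm).2 (hdg h hm).1).isCompact
    · exact (hm hh).elim
  convert hc
  symm
  rw [Set.eq_univ_iff_forall]
  intro y
  obtain ⟨h, hh, hy⟩ := hcov y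
  exact Set.mem_biUnion hh ((Proj.mem_basicOpen 𝒜 h y).mpr hy)

end Groth.Agent.Lib.Helper63.GrFTCover
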