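import Mathlib

set_option autoImplicit false
set_option linter.unusedSectionVars false

namespace Groth.Agent.Lib.Helper63.GrModLoc

universe u
open Polynomial

section psi
variable {R R' S : Type u} [CommRing R] [CommRing R'] [CommRing S] [Algebra R S]
  (𝒜 : ℕ → Submodule R S) [GradedAlgebra 𝒜] {f : S} (hf : f ∈ 𝒜 1)
  (e : HomogeneousLocalization.Away 𝒜 f ≃+* R')

/-- the fraction `a / f^k`. -/
noncomputable def frac (k : ℕ) (a : S) (ha : a ∈ 𝒜 k) : HomogeneousLocalization.Away 𝒜 f :=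
  HomogeneousLocalization.Away.mk 𝒜 hf k a (by simpa using ha)

lemma val_frac (k : ℕ) (a : S) (ha : a ∈ 𝒜 k) :
    (frac 𝒜 hf k a ha).val = Localization.mk a (⟨f ^ k, ⟨k, rfl⟩⟩ : Submonoid.powers f) := rfl

lemma frac_add (k : ℕ) (a b : S) (ha : a ∈ 𝒜 k) (hb : b ∈ 𝒜 k) :
    frac 𝒜 hf k (a + b) (add_mem ha hb) = frac 𝒜 hf k a ha + frac 𝒜 hf k b hb := by
  apply HomogeneousLocalization.val_injective
  rw [HomogeneousLocalization.val_add, val_frac, val_frac, val_frac, Localization.add_mk_self]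

lemma frac_zero (k : ℕ) : frac 𝒜 hf k 0 (zero_mem _) = 0 := by
  apply HomogeneousLocalization.val_injective
  rw [HomogeneousLocalization.val_zero, val_frac, Localization.mk_zero]

lemma frac_mul (i j : ℕ) (a b : S) (ha : a ∈ 𝒜 i) (hb : b ∈ 𝒜 j) :
    frac 𝒜 hf (i + j) (a * b) (SetLike.mul_mem_graded ha hb)
      = frac 𝒜 hf i a ha * frac 𝒜 hf j b hb := by
  apply HomogeneousLocalization.val_injective
  rw [HomogeneousLocalization.val_mul, val_frac, val_frac, val_frac, Localization.mk_mul]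
  congr 1
  ext
  simp [pow_add]

lemma frac_one : frac 𝒜 hf 0 1 (SetLike.GradedOne.one_mem) = 1 := by
  apply HomogeneousLocalization.val_injective
  rw [HomogeneousLocalization.val_one, val_frac]
  simp

lemma frac_f : frac 𝒜 hf 1 f hf = 1 := by
  apply HomogeneousLocalization.val_injective
  rw [HomogeneousLocalization.val_one, val_frac]
  simp


lemma frac_congr {k : ℕ} {a b : S} (h : a = b) (ha : a ∈ 𝒜 k) (hb : b ∈ 𝒜 k) :
    frac 𝒜 hf k a ha = frac 𝒜 hf k b hb := by
  subst h; rfl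

/-- the additive maps on graded pieces. -/
noncomputable def phi (k : ℕ) : 𝒜 k →+ R'[X] where
  toFun a := monomial k (e (frac 𝒜 hf k a a.2))
  map_zero' := by
    rw [frac_congr 𝒜 hf (Submodule.coe_zero) _ (zero_mem _), frac_zero, map_zero, map_zero]
  map_add' a b := by
    rw [frac_congr 𝒜 hf (Submodule.coe_add a b) _ (add_mem a.2 b.2), frac_add, map_add, map_add]

lemma frac_eq_one (a : 𝒜 0) (h : (a : S) = 1) : frac 𝒜 hf 0 a a.2 = 1 :=
  (frac_congr 𝒜 hf h a.2 SetLike.GradedOne.one_mem).trans (frac_one 𝒜 hf)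

lemma frac_mul' {i j : ℕ} (ai : 𝒜 i) (aj : 𝒜 j) (c : 𝒜 (i + j)) (h : (c : S) = ai * aj) :
    frac 𝒜 hf (i + j) c c.2 = frac 𝒜 hf i ai ai.2 * frac 𝒜 hf j aj aj.2 :=
  (frac_congr 𝒜 hf h c.2 (SetLike.mul_mem_graded ai.2 aj.2)).trans (frac_mul 𝒜 hf i j _ _ ai.2 aj.2)

lemma phi_apply (k : ℕ) (a : 𝒜 k) : phi 𝒜 hf e k a = monomial k (e (frac 𝒜 hf k a a.2)) := rfl

/-- the ring hom `S → R'[X]`, `a ∈ 𝒜 k ↦ e(a/f^k) X^k`. -/
noncomputable def psi : S →+* R'[X] :=
  (DirectSum.toSemiring (phi 𝒜 hf e)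
    (by
      rw [phi_apply, frac_eq_one 𝒜 hf _ rfl, map_one]
      rfl)
    (by
      intro i j ai aj
      rw [phi_apply, phi_apply, phi_apply, frac_mul' 𝒜 hf ai aj _ rfl, map_mul,
        monomial_mul_monomial])).comp
  (DirectSum.decomposeRingEquiv 𝒜).toRingHom

lemma psi_of_mem (k : ℕ) (a : S) (ha : a ∈ 𝒜 k) :
    psi 𝒜 hf e a = monomial k (e (frac 𝒜 hf k a ha)) := by
  have h : (DirectSum.decomposeRingEquiv 𝒜).toRingHom a = DirectSum.of _ k ⟨a, ha⟩ :=
    DirectSum.decompose_of_mem 𝒜 ha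
  rw [psi, RingHom.comp_apply, h, DirectSum.toSemiring_of]
  rfl

lemma psi_f : psi 𝒜 hf e f = X := by
  rw [psi_of_mem 𝒜 hf e 1 f hf, frac_f, map_one]
  rfl

end psi


section alg
variable {R R' S : Type u} [CommRing R] [CommRing R'] [CommRing S] [Algebra R S] [Algebra R R']
  (𝒜 : ℕ → Submodule R S) [GradedAlgebra 𝒜] {f : S} (hf : f ∈ 𝒜 1)
  (e : HomogeneousLocalization.Away 𝒜 f ≃+* R')
  (he : ∀ r : R, (e.symm (algebraMap R R' r)).val =
    algebraMap S (Localization.Away f) (algebraMap R S r))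

include he in
lemma psi_algebraMap (r : R) : psi 𝒜 hf e (algebraMap R S r) = C (algebraMap R R' r) := by
  have h0 : algebraMap R S r ∈ 𝒜 0 := SetLike.algebraMap_mem_graded 𝒜 r
  rw [psi_of_mem 𝒜 hf e 0 _ h0]
  have : frac 𝒜 hf 0 _ h0 = e.symm (algebraMap R R' r) := by
    apply HomogeneousLocalization.val_injective
    rw [he, val_frac, ← Localization.mk_one_eq_algebraMap]
    congr 1
    ext
    simp
  rw [this, RingEquiv.apply_symm_apply]
  rfl

end alg


section mod
variable {R R' S : Type u} [CommRing R] [CommRing R'] [CommRing S] [Algebra R S] [Algebra R R']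
  (𝒜 : ℕ → Submodule R S) [GradedAlgebra 𝒜] {f : S} (hf : f ∈ 𝒜 1)
  (e : HomogeneousLocalization.Away 𝒜 f ≃+* R')
  (he : ∀ r : R, (e.symm (algebraMap R R' r)).val =
    algebraMap S (Localization.Away f) (algebraMap R S r))
  (M : Type u) [AddCommGroup M] [Module R' M] [Module R M] [IsScalarTower R R' M]

/-- `M[X]` as a type synonym, to carry the `S`-module structure coming from `psi`. -/
@[nolint unusedArguments]
def N0 (_𝒜 : ℕ → Submodule R S) [GradedAlgebra _𝒜] {f : S} (_hf : f ∈ _𝒜 1)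
    (_e : HomogeneousLocalization.Away _𝒜 f ≃+* R')
    (_he : ∀ r : R, (_e.symm (algebraMap R R' r)).val =
      algebraMap S (Localization.Away f) (algebraMap R S r))
    (M : Type u) [AddCommGroup M] [Module R' M] :
    Type u := PolynomialModule R' M

noncomputable instance : AddCommGroup (N0 𝒜 hf e he M) :=
  inferInstanceAs (AddCommGroup (PolynomialModule R' M))

noncomputable instance instModPoly : Module R'[X] (N0 𝒜 hf e he M) :=
  inferInstanceAs (Module R'[X] (PolynomialModule R' M))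

noncomputable instance instModS : Module S (N0 𝒜 hf e he M) :=
  Module.compHom (N0 𝒜 hf e he M) (psi 𝒜 hf e)

noncomputable instance instModR : Module R (N0 𝒜 hf e he M) :=
  inferInstanceAs (Module R (PolynomialModule R' M))

variable {𝒜 hf e he M}

lemma smul_def (s : S) (x : N0 𝒜 hf e he M) : s • x = (psi 𝒜 hf e s) • x := rfl

/-- coefficient. -/
def cf (x : N0 𝒜 hf e he M) (n : ℕ) : M := PolynomialModule.coeff x n

lemma cf_add (x y : N0 𝒜 hf e he M) (n : ℕ) : cf (x + y) n = cf x n + cf y n := rfl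

lemma cf_zero (n : ℕ) : cf (0 : N0 𝒜 hf e he M) n = 0 := rfl

lemma cf_ext {x y : N0 𝒜 hf e he M} (h : ∀ n, cf x n = cf y n) : x = y := by
  apply PolynomialModule.coeff_injective
  exact Finsupp.ext h

variable (𝒜 hf e he) in
/-- single. -/
noncomputable def sg (n : ℕ) (m : M) : N0 𝒜 hf e he M := PolynomialModule.single R' n m

lemma cf_sg (n : ℕ) (m : M) (k : ℕ) : cf (sg 𝒜 hf e he n m) k = if n = k then m else 0 :=
  Finsupp.single_apply

lemma cf_smul_of_mem (k : ℕ) (a : S) (ha : a ∈ 𝒜 k) (x : N0 𝒜 hf e he M) (n : ℕ) :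
    cf (a • x) n = if k ≤ n then e (frac 𝒜 hf k a ha) • cf x (n - k) else 0 := by
  rw [smul_def, psi_of_mem 𝒜 hf e k a ha]
  exact PolynomialModule.monomial_smul_apply _ _ _ _

lemma smul_sg_of_mem (k : ℕ) (a : S) (ha : a ∈ 𝒜 k) (j : ℕ) (m : M) :
    a • sg 𝒜 hf e he j m = sg 𝒜 hf e he (k + j) (e (frac 𝒜 hf k a ha) • m) := by
  rw [smul_def, psi_of_mem 𝒜 hf e k a ha]
  exact PolynomialModule.monomial_smul_single _ _ _ _

lemma cf_smul_R (r : R) (x : N0 𝒜 hf e he M) (n : ℕ) : cf (r • x) n = r • cf x n := rfl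


lemma C_smul_eq (r : R) (x : N0 𝒜 hf e he M) :
    (C (algebraMap R R' r) : R'[X]) • x = r • x := by
  apply cf_ext
  intro n
  rw [cf_smul_R]
  have := PolynomialModule.monomial_smul_apply (M := M) 0 (algebraMap R R' r) x n
  rw [if_pos (Nat.zero_le n), Nat.sub_zero, algebraMap_smul] at this
  exact this

instance instTower : IsScalarTower R S (N0 𝒜 hf e he M) where
  smul_assoc r s x := by
    rw [Algebra.smul_def, smul_def, smul_def, map_mul, mul_smul, psi_algebraMap 𝒜 hf e he, C_smul_eq]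

end mod


section grading
variable {R R' S : Type u} [CommRing R] [CommRing R'] [CommRing S] [Algebra R S] [Algebra R R']
  {𝒜 : ℕ → Submodule R S} [GradedAlgebra 𝒜] {f : S} {hf : f ∈ 𝒜 1}
  {e : HomogeneousLocalization.Away 𝒜 f ≃+* R'}
  {he : ∀ r : R, (e.symm (algebraMap R R' r)).val =
    algebraMap S (Localization.Away f) (algebraMap R S r)}
  {M : Type u} [AddCommGroup M] [Module R' M] [Module R M] [IsScalarTower R R' M]
  {ι : Type} (gen : ι → M)

lemma sg_zero (k : ℕ) : sg 𝒜 hf e he k (0 : M) = 0 := PolynomialModule.single_zero k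

lemma sg_add (k : ℕ) (a b : M) : sg 𝒜 hf e he k (a + b) = sg 𝒜 hf e he k a + sg 𝒜 hf e he k b :=
  PolynomialModule.single_add k a b

variable (𝒜 hf e he) in
/-- The graded module `N`: the `S`-span of the generators placed in degree `0`. -/
noncomputable def NN : Submodule S (N0 𝒜 hf e he M) :=
  Submodule.span S (Set.range fun l => sg 𝒜 hf e he 0 (gen l))

lemma comp_mem (x : N0 𝒜 hf e he M) (hx : x ∈ NN 𝒜 hf e he gen) (k : ℕ) :
    sg 𝒜 hf e he k (cf x k) ∈ NN 𝒜 hf e he gen := by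
  induction hx using Submodule.span_induction generalizing k with
  | mem x hx =>
    obtain ⟨l, rfl⟩ := hx
    rw [cf_sg]
    split_ifs with h
    · subst h
      exact Submodule.subset_span ⟨l, rfl⟩
    · rw [sg_zero]; exact zero_mem _
  | zero => rw [cf_zero, sg_zero]; exact zero_mem _
  | add x y _ _ hx hy => rw [cf_add, sg_add]; exact add_mem (hx k) (hy k)
  | smul s x _ hx =>
    induction s using DirectSum.Decomposition.inductionOn 𝒜 with
    | zero => rw [zero_smul, cf_zero, sg_zero]; exact zero_mem _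
    | @homogeneous i a =>
      rw [cf_smul_of_mem i (a : S) a.2]
      split_ifs with h
      · have h1 := smul_sg_of_mem (hf := hf) (he := he) i (a : S) a.2 (k - i) (cf x (k - i))
        rw [show i + (k - i) = k by omega] at h1
        rw [← h1]
        exact Submodule.smul_mem _ _ (hx _)
      · rw [sg_zero]; exact zero_mem _
    | add s t hs ht => rw [add_smul, cf_add, sg_add]; exact add_mem hs ht


/-- coefficient as additive hom on `N0`. -/
def cfHom0 (j : ℕ) : N0 𝒜 hf e he M →+ M where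
  toFun x := cf x j
  map_zero' := rfl
  map_add' _ _ := rfl

/-- coefficient as additive hom on `N`. -/
def cfHom (j : ℕ) : ↥(NN 𝒜 hf e he gen) →+ M where
  toFun x := cf (x : N0 𝒜 hf e he M) j
  map_zero' := rfl
  map_add' _ _ := rfl

lemma cfHom_apply (j : ℕ) (x : ↥(NN 𝒜 hf e he gen)) :
    cfHom gen j x = cf (x : N0 𝒜 hf e he M) j := rfl

variable (𝒜 hf e he) in
/-- graded pieces of `N`. -/
def gr (k : ℕ) : Submodule R ↥(NN 𝒜 hf e he gen) where
  carrier := {n | ∀ j, j ≠ k → cf (n : N0 𝒜 hf e he M) j = 0}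
  add_mem' := by
    intro a b ha hb j hj
    rw [Submodule.coe_add, cf_add, ha j hj, hb j hj, add_zero]
  zero_mem' := by
    intro j _
    rfl
  smul_mem' := by
    intro r n hn j hj
    rw [Submodule.coe_smul_of_tower, cf_smul_R, hn j hj, smul_zero]

lemma mem_gr (k : ℕ) (n : ↥(NN 𝒜 hf e he gen)) :
    n ∈ gr 𝒜 hf e he gen k ↔ ∀ j, j ≠ k → cf (n : N0 𝒜 hf e he M) j = 0 := Iff.rfl

lemma eq_sg_of_mem_gr (k : ℕ) (n : ↥(NN 𝒜 hf e he gen)) (hn : n ∈ gr 𝒜 hf e he gen k) :
    (n : N0 𝒜 hf e he M) = sg 𝒜 hf e he k (cf (n : N0 𝒜 hf e he M) k) := by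
  apply cf_ext
  intro j
  rw [cf_sg]
  split_ifs with h
  · subst h; rfl
  · exact hn j (Ne.symm h)

lemma sg_mem_gr (k : ℕ) (m : M) (h : sg 𝒜 hf e he k m ∈ NN 𝒜 hf e he gen) :
    (⟨sg 𝒜 hf e he k m, h⟩ : ↥(NN 𝒜 hf e he gen)) ∈ gr 𝒜 hf e he gen k := by
  intro j hj
  show cf (sg 𝒜 hf e he k m) j = 0
  rw [cf_sg, if_neg (Ne.symm hj)]

lemma isInternal_gr : DirectSum.IsInternal (gr 𝒜 hf e he gen) := by
  classical
  constructor
  · -- injective
    rw [injective_iff_map_eq_zero]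
    intro z hz
    rw [DirectSum.coeAddMonoidHom_eq_dfinsuppSum, DFinsupp.sum] at hz
    apply DFinsupp.ext
    intro j
    have h1 := congrArg (cfHom gen j) hz
    rw [map_sum, map_zero] at h1
    have h2 : ∀ i ∈ z.support, i ≠ j → cfHom gen j ((z i : ↥(gr 𝒜 hf e he gen i)) : ↥(NN 𝒜 hf e he gen)) = 0 := by
      intro i _ hij
      exact (z i).2 j (Ne.symm hij)
    have h3 : cfHom gen j ((z j : ↥(gr 𝒜 hf e he gen j)) : ↥(NN 𝒜 hf e he gen)) = 0 := by
      by_cases hj : j ∈ z.support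
      · rw [Finset.sum_eq_single_of_mem j hj h2] at h1
        exact h1
      · rw [DFinsupp.notMem_support_iff] at hj
        rw [hj]; rfl
    apply Subtype.ext
    apply Subtype.ext
    rw [eq_sg_of_mem_gr gen j _ (z j).2]
    rw [cfHom_apply] at h3
    rw [h3, sg_zero]
    rfl
  · -- surjective
    intro n
    let s := (PolynomialModule.coeff (n : N0 𝒜 hf e he M)).support
    refine ⟨∑ k ∈ s, DirectSum.of (fun k => ↥(gr 𝒜 hf e he gen k)) k
      ⟨⟨sg 𝒜 hf e he k (cf (n : N0 𝒜 hf e he M) k), comp_mem gen _ n.2 k⟩,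
        sg_mem_gr gen k _ _⟩, ?_⟩
    rw [map_sum]
    simp only [DirectSum.coeAddMonoidHom_of]
    apply Subtype.ext
    rw [Submodule.coe_sum]
    apply cf_ext
    intro j
    show cfHom0 j (∑ k ∈ s, _) = _
    rw [map_sum]
    show ∑ k ∈ s, cf (sg 𝒜 hf e he k (cf (n : N0 𝒜 hf e he M) k)) j = _
    simp only [cf_sg]
    rw [Finset.sum_ite_eq' s j]
    split_ifs with hj
    · rfl
    · exact (Finsupp.notMem_support_iff.mp hj).symm


lemma gradedSMul_gr : SetLike.GradedSMul 𝒜 (gr 𝒜 hf e he gen) where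
  smul_mem := by
    intro i j a n ha hn k hk
    rw [Submodule.coe_smul, cf_smul_of_mem i a ha]
    split_ifs with h
    · have h' : k - i ≠ j := by
        intro h'
        apply hk
        rw [vadd_eq_add]
        omega
      rw [hn _ h', smul_zero]
    · rfl

lemma finite_NN [Finite ι] : Module.Finite S ↥(NN 𝒜 hf e he gen) :=
  Module.Finite.span_of_finite S (Set.finite_range _)

end grading


section loc
variable {R R' S : Type u} [CommRing R] [CommRing R'] [CommRing S] [Algebra R S] [Algebra R R']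
  {𝒜 : ℕ → Submodule R S} [GradedAlgebra 𝒜] {f : S} {hf : f ∈ 𝒜 1}
  {e : HomogeneousLocalization.Away 𝒜 f ≃+* R'}
  {he : ∀ r : R, (e.symm (algebraMap R R' r)).val =
    algebraMap S (Localization.Away f) (algebraMap R S r)}
  {M : Type u} [AddCommGroup M] [Module R' M] [Module R M] [IsScalarTower R R' M]
  {ι : Type} (gen : ι → M)

variable (𝒜 hf e) in
/-- dehomogenization `S → R'`. -/
noncomputable def chi : S →+* R' := (Polynomial.evalRingHom 1).comp (psi 𝒜 hf e)

lemma chi_of_mem (k : ℕ) (a : S) (ha : a ∈ 𝒜 k) : chi 𝒜 hf e a = e (frac 𝒜 hf k a ha) := by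
  show Polynomial.eval 1 (psi 𝒜 hf e a) = _
  rw [psi_of_mem 𝒜 hf e k a ha, Polynomial.eval_monomial, one_pow, mul_one]

lemma chi_f : chi 𝒜 hf e f = 1 := by
  rw [chi_of_mem 1 f hf, frac_f, map_one]

lemma chi_pow_f (k : ℕ) : chi 𝒜 hf e (f ^ k) = 1 := by
  rw [map_pow, chi_f, one_pow]

include he in
lemma chi_algebraMap (r : R) : chi 𝒜 hf e (algebraMap R S r) = algebraMap R R' r := by
  show Polynomial.eval 1 (psi 𝒜 hf e _) = _
  rw [psi_algebraMap 𝒜 hf e he, Polynomial.eval_C]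

/-- `M` with `S` acting through `chi`. -/
@[nolint unusedArguments]
def MS (_𝒜 : ℕ → Submodule R S) [GradedAlgebra _𝒜] {f : S} (_hf : f ∈ _𝒜 1)
    (_e : HomogeneousLocalization.Away _𝒜 f ≃+* R') (M : Type u) : Type u := M

instance : AddCommGroup (MS 𝒜 hf e M) := inferInstanceAs (AddCommGroup M)

instance instModMS' : Module R' (MS 𝒜 hf e M) := inferInstanceAs (Module R' M)

instance instModMSR : Module R (MS 𝒜 hf e M) := inferInstanceAs (Module R M)

noncomputable instance instModMS : Module S (MS 𝒜 hf e M) := Module.compHom M (chi 𝒜 hf e)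

lemma MS_smul (s : S) (m : MS 𝒜 hf e M) : s • m = chi 𝒜 hf e s • m := rfl

/-- evaluation at `1`. -/
noncomputable def ev : ↥(NN 𝒜 hf e he gen) →ₗ[S] MS 𝒜 hf e M where
  toFun x := (PolynomialModule.eval (M := M) (1 : R') (x : N0 𝒜 hf e he M) : M)
  map_add' x y := by
    rw [Submodule.coe_add]
    exact map_add (PolynomialModule.eval (M := M) (1 : R')) _ _
  map_smul' s x := by
    rw [Submodule.coe_smul, smul_def]
    exact PolynomialModule.eval_smul (M := M) _ _ _

lemma ev_apply (x : ↥(NN 𝒜 hf e he gen)) :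
    ev gen x = (PolynomialModule.eval (M := M) (1 : R') (x : N0 𝒜 hf e he M) : M) := rfl

lemma eval_sg (k : ℕ) (m : M) : PolynomialModule.eval (1 : R') (sg 𝒜 hf e he k m) = m := by
  rw [sg, PolynomialModule.eval_single, one_pow, one_smul]

lemma ev_of_mem_gr (k : ℕ) (n : ↥(NN 𝒜 hf e he gen)) (hn : n ∈ gr 𝒜 hf e he gen k) :
    ev gen n = cf (n : N0 𝒜 hf e he M) k := by
  rw [ev_apply, eq_sg_of_mem_gr gen k n hn, eval_sg, cf_sg, if_pos rfl]

lemma isUnit_powers (x : Submonoid.powers f) :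
    IsUnit ((algebraMap S (Module.End S (MS 𝒜 hf e M))) x) := by
  obtain ⟨k, hk⟩ := x.2
  have : (algebraMap S (Module.End S (MS 𝒜 hf e M))) x = 1 := by
    ext m
    show (x : S) • m = m
    rw [MS_smul, ← hk, chi_pow_f, one_smul]
  rw [this]
  exact isUnit_one

/-- the map `N_f → M`. -/
noncomputable def Phi : LocalizedModule (Submonoid.powers f) ↥(NN 𝒜 hf e he gen) →ₗ[S] MS 𝒜 hf e M :=
  LocalizedModule.lift (Submonoid.powers f) (ev gen) isUnit_powers

lemma Phi_mk (n : ↥(NN 𝒜 hf e he gen)) (s : Submonoid.powers f) :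
    Phi gen (LocalizedModule.mk n s) = ev gen n := by
  rw [Phi, LocalizedModule.lift_mk, Module.End.algebraMap_isUnit_inv_apply_eq_iff]
  obtain ⟨k, hk⟩ := s.2
  show ev gen n = (s : S) • ev gen n
  rw [MS_smul, ← hk, chi_pow_f, one_smul]


lemma smul_mem_gr (i : ℕ) (a : S) (ha : a ∈ 𝒜 i) (k : ℕ) (n : ↥(NN 𝒜 hf e he gen))
    (hn : n ∈ gr 𝒜 hf e he gen k) (j : ℕ) (hj : j = i + k) :
    a • n ∈ gr 𝒜 hf e he gen j := by
  subst hj
  exact (gradedSMul_gr gen).smul_mem ha hn

include hf in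
lemma pow_mem (l : ℕ) : f ^ l ∈ 𝒜 l := by
  have := SetLike.pow_mem_graded l hf
  simpa using this

/-- the abbreviation for the localized module. -/
abbrev LL := LocalizedModule (Submonoid.powers f) ↥(NN 𝒜 hf e he gen)

variable (𝒜 hf e he) in
/-- the degree zero part of the localization. -/
def Nf : Submodule R (LocalizedModule (Submonoid.powers f) ↥(NN 𝒜 hf e he gen)) where
  carrier := {x | ∃ k : ℕ, ∃ n ∈ gr 𝒜 hf e he gen k, f ^ k • x = LocalizedModule.mk n 1}
  add_mem' := by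
    rintro x y ⟨k, n, hn, hx⟩ ⟨l, n', hn', hy⟩
    refine ⟨k + l, f ^ l • n + f ^ k • n', ?_, ?_⟩
    · exact add_mem (smul_mem_gr gen l _ (pow_mem (hf := hf) l) k n hn _ (by omega))
        (smul_mem_gr gen k _ (pow_mem (hf := hf) k) l n' hn' _ (by omega))
    · have e1 : f ^ (k + l) • x = f ^ l • (f ^ k • x) := by rw [pow_add, mul_comm, mul_smul]
      have e2 : f ^ (k + l) • y = f ^ k • (f ^ l • y) := by rw [pow_add, mul_smul]
      rw [smul_add, e1, e2, hx, hy, LocalizedModule.smul'_mk,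
        LocalizedModule.smul'_mk, LocalizedModule.mk_add_mk]
      simp
  zero_mem' := ⟨0, 0, zero_mem _, by simp⟩
  smul_mem' := by
    rintro r x ⟨k, n, hn, hx⟩
    refine ⟨k, r • n, Submodule.smul_mem _ r hn, ?_⟩
    rw [smul_comm, hx, LocalizedModule.smul'_mk]

lemma mem_Nf (x : LocalizedModule (Submonoid.powers f) ↥(NN 𝒜 hf e he gen)) :
    x ∈ Nf 𝒜 hf e he gen ↔
      ∃ k : ℕ, ∃ n ∈ gr 𝒜 hf e he gen k, f ^ k • x = LocalizedModule.mk n 1 := Iff.rfl


include he in
lemma Phi_smul_R (r : R) (x : LocalizedModule (Submonoid.powers f) ↥(NN 𝒜 hf e he gen)) :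
    Phi gen (r • x) = r • (Phi gen x) := by
  have h1 : r • x = (algebraMap R S r) • x := (algebraMap_smul S r x).symm
  rw [h1, map_smul, MS_smul, chi_algebraMap (he := he)]
  exact algebraMap_smul (M := M) R' r _

/-- the comparison map `N_(f) → M`. -/
noncomputable def e0 : ↥(Nf 𝒜 hf e he gen) →ₗ[R] M where
  toFun x := (Phi gen (x : LocalizedModule (Submonoid.powers f) ↥(NN 𝒜 hf e he gen)) : M)
  map_add' x y := by
    rw [Submodule.coe_add, map_add]
    rfl
  map_smul' r x := by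
    rw [Submodule.coe_smul, Phi_smul_R (he := he)]
    rfl

lemma e0_apply (x : ↥(Nf 𝒜 hf e he gen)) :
    e0 gen x = (Phi gen (x : LocalizedModule (Submonoid.powers f) ↥(NN 𝒜 hf e he gen)) : M) := rfl

lemma e0_injective : Function.Injective (e0 (hf := hf) (he := he) gen) := by
  rw [injective_iff_map_eq_zero]
  rintro ⟨x, k, n, hn, hx⟩ h0
  rw [e0_apply] at h0
  change (Phi gen x : M) = 0 at h0
  have h1 : Phi gen (f ^ k • x) = (0 : M) := by
    rw [map_smul, MS_smul, chi_pow_f, one_smul]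
    exact h0
  rw [hx, Phi_mk, ev_of_mem_gr gen k n hn] at h1
  have h2 : n = 0 := by
    apply Subtype.ext
    rw [eq_sg_of_mem_gr gen k n hn, h1, sg_zero]
    rfl
  rw [h2, LocalizedModule.zero_mk] at hx
  apply Subtype.ext
  exact LocalizedModule.eq_zero_of_smul_eq_zero (S := Submonoid.powers f) (f ^ k) (Submonoid.mem_powers_iff _ _ |>.mpr ⟨k, rfl⟩) x hx


/-- generator as element of `N`. -/
noncomputable def gN (l : ι) : ↥(NN 𝒜 hf e he gen) :=
  ⟨sg 𝒜 hf e he 0 (gen l), Submodule.subset_span ⟨l, rfl⟩⟩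

lemma gN_mem_gr (l : ι) : gN (hf := hf) (he := he) gen l ∈ gr 𝒜 hf e he gen 0 :=
  sg_mem_gr gen 0 _ _

lemma ev_gN (l : ι) : ev gen (gN (hf := hf) (he := he) gen l) = gen l := by
  rw [ev_apply]
  show PolynomialModule.eval (M := M) (1 : R') (sg 𝒜 hf e he 0 (gen l)) = gen l
  exact eval_sg (𝒜 := 𝒜) (hf := hf) (e := e) (he := he) 0 (gen l)

lemma exists_preimage (c : R') (l : ι) :
    ∃ x : ↥(Nf 𝒜 hf e he gen), e0 gen x = c • gen l := by
  obtain ⟨n, a, ha, h⟩ := HomogeneousLocalization.Away.mk_surjective 𝒜 hf (e.symm c)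
  have ha' : a ∈ 𝒜 n := by simpa using ha
  have hc : e (frac 𝒜 hf n a ha') = c := by
    have h' : frac 𝒜 hf n a ha' = e.symm c := h
    rw [h', RingEquiv.apply_symm_apply]
  have hs : f ^ n ∈ Submonoid.powers f := ⟨n, rfl⟩
  refine ⟨⟨LocalizedModule.mk (a • gN gen l) ⟨f ^ n, hs⟩, n, a • gN gen l,
    smul_mem_gr gen n a ha' 0 _ (gN_mem_gr gen l) n (by omega), ?_⟩, ?_⟩
  · rw [LocalizedModule.smul'_mk]
    exact LocalizedModule.mk_cancel (⟨f ^ n, hs⟩ : Submonoid.powers f) _
  · rw [e0_apply]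
    show (Phi gen (LocalizedModule.mk _ _) : M) = _
    rw [Phi_mk, map_smul, MS_smul, chi_of_mem n a ha', hc, ev_gN]
    rfl

lemma e0_surjective (hgen : Submodule.span R' (Set.range gen) = ⊤) :
    Function.Surjective (e0 (hf := hf) (he := he) gen) := by
  have key : ∀ m ∈ Submodule.span R' (Set.range gen), ∀ c : R',
      ∃ x : ↥(Nf 𝒜 hf e he gen), e0 gen x = c • m := by
    intro m hm
    induction hm using Submodule.span_induction with
    | mem m hm =>
      obtain ⟨l, rfl⟩ := hm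
      intro c
      exact exists_preimage gen c l
    | zero => intro c; exact ⟨0, by rw [map_zero, smul_zero]⟩
    | add m1 m2 _ _ h1 h2 =>
      intro c
      obtain ⟨x1, hx1⟩ := h1 c
      obtain ⟨x2, hx2⟩ := h2 c
      exact ⟨x1 + x2, by rw [map_add, hx1, hx2, smul_add]⟩
    | smul c' m _ h =>
      intro c
      obtain ⟨x, hx⟩ := h (c * c')
      exact ⟨x, by rw [hx, mul_smul]⟩
  intro m
  obtain ⟨x, hx⟩ := key m (by rw [hgen]; trivial) 1
  exact ⟨x, by rw [hx, one_smul]⟩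

lemma e0_compat (a : HomogeneousLocalization.Away 𝒜 f) (x y : ↥(Nf 𝒜 hf e he gen))
    (h : a.val • (x : LocalizedModule (Submonoid.powers f) ↥(NN 𝒜 hf e he gen)) = y) :
    e0 gen y = e a • e0 gen x := by
  obtain ⟨n, a0, ha0, rfl⟩ := HomogeneousLocalization.Away.mk_surjective 𝒜 hf a
  have ha' : a0 ∈ 𝒜 n := by simpa using ha0
  rw [e0_apply, e0_apply, ← h]
  obtain ⟨x, hx⟩ := x
  induction x using LocalizedModule.induction_on with
  | h m t =>
    show (Phi gen ((HomogeneousLocalization.Away.mk 𝒜 hf n a0 ha0).val • LocalizedModule.mk m t) : M) =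
      e (HomogeneousLocalization.Away.mk 𝒜 hf n a0 ha0) • (Phi gen (LocalizedModule.mk m t) : M)
    rw [HomogeneousLocalization.Away.val_mk, LocalizedModule.mk_smul_mk, Phi_mk, Phi_mk, map_smul,
      MS_smul, chi_of_mem n a0 ha']
    rfl

end loc

end Groth.Agent.Lib.Helper63.GrModLoc
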