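import Mathlib

/-!
# Hermite (row-reduced) normal form over `k⟦t⟧` (helper63)
-/

set_option autoImplicit false
set_option linter.unusedSectionVars false

namespace Groth.Agent.Lib.Helper63.HermiteNF

open PowerSeries

universe u

variable {k : Type u} [Field k] {r : ℕ}

/-- all coefficients in degrees `≥ e` vanish -/
def Reduced (e : ℕ) (f : PowerSeries k) : Prop := ∀ n, e ≤ n → coeff n f = 0

lemma reduced_zero (e : ℕ) : Reduced e (0 : PowerSeries k) := fun n _ => map_zero _

lemma Reduced.sub {e : ℕ} {f g : PowerSeries k} (hf : Reduced e f) (hg : Reduced e g) :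
    Reduced e (f - g) := fun n hn => by rw [map_sub, hf n hn, hg n hn, sub_zero]

lemma eq_zero_of_dvd_of_reduced {e : ℕ} {f : PowerSeries k} (hd : X ^ e ∣ f)
    (hr : Reduced e f) : f = 0 := by
  ext n
  rw [map_zero]
  by_cases h : e ≤ n
  · exact hr n h
  · exact X_pow_dvd_iff.mp hd n (by omega)

lemma exists_div_rem (e : ℕ) (f : PowerSeries k) :
    ∃ q rem : PowerSeries k, f = X ^ e * q + rem ∧ Reduced e rem := by
  refine ⟨PowerSeries.mk fun n => coeff (n + e) f,
    f - X ^ e * PowerSeries.mk fun n => coeff (n + e) f, by ring, fun n hn => ?_⟩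
  rw [map_sub, coeff_X_pow_mul', if_pos hn, coeff_mk, Nat.sub_add_cancel hn, sub_self]

/-- a triangular system in `L` -/
structure Tri (L : Submodule (PowerSeries k) (Fin r → PowerSeries k)) (e : Fin r → ℕ)
    (h : Fin r → Fin r → PowerSeries k) : Prop where
  mem : ∀ i, h i ∈ L
  zero : ∀ i j, j < i → h i j = 0
  diag : ∀ i, h i i = X ^ e i

/-- minimality of the exponents -/
def MinProp (L : Submodule (PowerSeries k) (Fin r → PowerSeries k)) (e : Fin r → ℕ) : Prop :=
  ∀ i, ∀ w ∈ L, (∀ j, j < i → w j = 0) → X ^ e i ∣ w i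

theorem span_eq {L : Submodule (PowerSeries k) (Fin r → PowerSeries k)} {e : Fin r → ℕ}
    {h : Fin r → Fin r → PowerSeries k} (hT : Tri L e h) (hmin : MinProp L e) :
    L = Submodule.span (PowerSeries k) (Set.range h) := by
  apply le_antisymm
  · have key : ∀ m : ℕ, ∀ w ∈ L, (∀ j : Fin r, (j : ℕ) < r - m → w j = 0) →
        w ∈ Submodule.span (PowerSeries k) (Set.range h) := by
      intro m
      induction m with
      | zero =>
        intro w _ hz
        have : w = 0 := by
          funext j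
          exact hz j (by have := j.2; omega)
        rw [this]
        exact Submodule.zero_mem _
      | succ m ih =>
        intro w hw hz
        by_cases hm : r ≤ m
        · exact ih w hw (fun j hj => hz j (by omega))
        · obtain ⟨i, hi⟩ : ∃ i : Fin r, (i : ℕ) = r - (m + 1) := ⟨⟨r - (m + 1), by omega⟩, rfl⟩
          have hd : X ^ e i ∣ w i := hmin i w hw (fun j hj => hz j (by
            have : (j : ℕ) < (i : ℕ) := hj
            omega))
          obtain ⟨c, hc⟩ := hd
          have hw' : w - c • h i ∈ L := L.sub_mem hw (L.smul_mem _ (hT.mem i))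
          have hz' : ∀ j : Fin r, (j : ℕ) < r - m → (w - c • h i) j = 0 := by
            intro j hj
            rw [Pi.sub_apply, Pi.smul_apply, smul_eq_mul]
            by_cases hji : j = i
            · rw [hji, hT.diag, hc]; ring
            · have hlt : j < i := by
                apply lt_of_le_of_ne _ hji
                show (j : ℕ) ≤ (i : ℕ)
                omega
              rw [hT.zero i j hlt, hz j (by
                have : (j : ℕ) < (i : ℕ) := hlt
                omega)]
              ring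
          have h1 := ih _ hw' hz'
          have h2 : w = (w - c • h i) + c • h i := by abel
          rw [h2]
          exact Submodule.add_mem _ h1 (Submodule.smul_mem _ _ (Submodule.subset_span ⟨i, rfl⟩))
    intro w hw
    exact key r w hw (fun j hj => by omega)
  · rw [Submodule.span_le]
    rintro _ ⟨i, rfl⟩
    exact hT.mem i

theorem min_of_span {L : Submodule (PowerSeries k) (Fin r → PowerSeries k)} {e : Fin r → ℕ}
    {h : Fin r → Fin r → PowerSeries k} (hzero : ∀ i j, j < i → h i j = 0)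
    (hdiag : ∀ i, h i i = X ^ e i)
    (hL : L = Submodule.span (PowerSeries k) (Set.range h)) : MinProp L e := by
  intro i w hw hz
  rw [hL, Submodule.mem_span_range_iff_exists_fun] at hw
  obtain ⟨c, rfl⟩ := hw
  have hwj : ∀ j, (∑ l, c l • h l) j = ∑ l, c l * h l j := by
    intro j
    rw [Finset.sum_apply]
    rfl
  have hc : ∀ n : ℕ, ∀ l : Fin r, (l : ℕ) = n → l < i → c l = 0 := by
    intro n
    induction n using Nat.strong_induction_on with
    | _ n ih =>
      intro l hl hli
      have h1 := hz l hli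
      rw [hwj, Finset.sum_eq_single l] at h1
      · rw [hdiag] at h1
        rcases mul_eq_zero.mp h1 with h2 | h2
        · exact h2
        · exact absurd h2 (pow_ne_zero _ PowerSeries.X_ne_zero)
      · intro l' _ hl'
        rcases lt_or_gt_of_ne hl' with h3 | h3
        · rw [ih l' (by rw [← hl]; exact h3) l' rfl (lt_trans h3 hli), zero_mul]
        · rw [hzero l' l h3, mul_zero]
      · intro hh
        exact absurd (Finset.mem_univ _) hh
  rw [hwj, Finset.sum_eq_single i]
  · rw [hdiag]
    exact Dvd.intro_left _ rfl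
  · intro l' _ hl'
    rcases lt_or_gt_of_ne hl' with h3 | h3
    · rw [hc l' l' rfl h3, zero_mul]
    · rw [hzero l' i h3, mul_zero]
  · intro hh
    exact absurd (Finset.mem_univ _) hh

theorem eq_zero_of_reduced {L : Submodule (PowerSeries k) (Fin r → PowerSeries k)}
    {e : Fin r → ℕ} (hmin : MinProp L e) (w : Fin r → PowerSeries k) (hw : w ∈ L)
    (hr : ∀ j, Reduced (e j) (w j)) : w = 0 := by
  have key : ∀ n : ℕ, ∀ j : Fin r, (j : ℕ) = n → w j = 0 := by
    intro n
    induction n using Nat.strong_induction_on with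
    | _ n ih =>
      intro j hj
      apply eq_zero_of_dvd_of_reduced _ (hr j)
      exact hmin j w hw (fun l hl => ih l (by rw [← hj]; exact hl) l rfl)
  funext j
  exact key j j rfl

lemma row_mul (N M : Matrix (Fin r) (Fin r) (PowerSeries k)) (i : Fin r) :
    (N * M) i = ∑ l, N i l • M l := by
  funext j
  rw [Finset.sum_apply, Matrix.mul_apply]
  rfl

lemma mem_span_rows_iff (M : Matrix (Fin r) (Fin r) (PowerSeries k)) (w : Fin r → PowerSeries k) :
    w ∈ Submodule.span (PowerSeries k) (Set.range M) ↔ ∃ c : Fin r → PowerSeries k,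
      ∑ l, c l • M l = w :=
  Submodule.mem_span_range_iff_exists_fun _

theorem exists_tri (M : Matrix (Fin r) (Fin r) (PowerSeries k)) (hM : M.det ≠ 0) :
    ∃ (e : Fin r → ℕ) (h : Fin r → Fin r → PowerSeries k),
      Tri (Submodule.span (PowerSeries k) (Set.range M)) e h ∧
      MinProp (Submodule.span (PowerSeries k) (Set.range M)) e := by
  classical
  obtain ⟨L, hL⟩ : ∃ L, L = Submodule.span (PowerSeries k) (Set.range M) := ⟨_, rfl⟩
  rw [← hL]
  have hex : ∀ i : Fin r, ∃ n : ℕ, ∃ w ∈ L, (∀ j, j < i → w j = 0) ∧ w i ≠ 0 ∧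
      (w i).order.toNat = n := by
    intro i
    refine ⟨_, (M.adjugate * M) i, ?_, ?_, ?_, rfl⟩
    · rw [hL, row_mul]
      exact Submodule.sum_mem _ (fun l _ => Submodule.smul_mem _ _ (Submodule.subset_span ⟨l, rfl⟩))
    · intro j hj
      rw [Matrix.adjugate_mul, Matrix.smul_apply, Matrix.one_apply_ne (ne_of_gt hj), smul_zero]
    · rw [Matrix.adjugate_mul, Matrix.smul_apply, Matrix.one_apply_eq, smul_eq_mul, mul_one]
      exact hM
  have key : ∀ i : Fin r, ∃ (ei : ℕ) (hi : Fin r → PowerSeries k), hi ∈ L ∧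
      (∀ j, j < i → hi j = 0) ∧ hi i = X ^ ei ∧
      (∀ w ∈ L, (∀ j, j < i → w j = 0) → X ^ ei ∣ w i) := by
    intro i
    obtain ⟨w, hwL, hwz, hwne, hword⟩ := Nat.find_spec (hex i)
    obtain ⟨ei, hei⟩ : ∃ ei, ei = Nat.find (hex i) := ⟨_, rfl⟩
    rw [← hei] at hword
    have hu := isUnit_divided_by_X_pow_order hwne
    obtain ⟨u, hu'⟩ := hu
    have hfac : X ^ ei * (u : PowerSeries k) = w i := by
      rw [hu', ← hword]
      exact X_pow_order_mul_divXPowOrder
    refine ⟨ei, ((u⁻¹ : (PowerSeries k)ˣ) : PowerSeries k) • w, L.smul_mem _ hwL, ?_, ?_, ?_⟩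
    · intro j hj
      rw [Pi.smul_apply, hwz j hj, smul_zero]
    · rw [Pi.smul_apply, smul_eq_mul, ← hfac]
      calc ((u⁻¹ : (PowerSeries k)ˣ) : PowerSeries k) * (X ^ ei * (u : PowerSeries k))
          = X ^ ei * (((u⁻¹ : (PowerSeries k)ˣ) : PowerSeries k) * (u : PowerSeries k)) := by ring
        _ = X ^ ei := by rw [Units.inv_mul, mul_one]
    · intro w' hw'L hw'z
      by_cases h0 : w' i = 0
      · rw [h0]; exact dvd_zero _
      · have h1 : ei ≤ (w' i).order.toNat := by
          rw [hei]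
          exact Nat.find_min' (hex i) ⟨w', hw'L, hw'z, h0, rfl⟩
        exact dvd_trans (pow_dvd_pow X h1) X_pow_order_dvd
  choose e h hmem hzero hdiag hmin using key
  exact ⟨e, h, ⟨hmem, hzero, hdiag⟩, fun i w hw hz => hmin i w hw hz⟩

theorem reduce {e : Fin r → ℕ} {h : Fin r → Fin r → PowerSeries k}
    (hzero : ∀ i j, j < i → h i j = 0) (hdiag : ∀ i, h i i = X ^ e i) :
    ∀ m : ℕ, ∀ w : Fin r → PowerSeries k, ∃ w' : Fin r → PowerSeries k,
      w - w' ∈ Submodule.span (PowerSeries k) (Set.range h) ∧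
      (∀ j : Fin r, (j : ℕ) < r - m → w' j = w j) ∧
      (∀ j : Fin r, r - m ≤ (j : ℕ) → Reduced (e j) (w' j)) := by
  intro m
  induction m with
  | zero =>
    intro w
    refine ⟨w, by rw [sub_self]; exact Submodule.zero_mem _, fun _ _ => rfl, fun j hj => ?_⟩
    have := j.2
    omega
  | succ m ih =>
    intro w
    by_cases hm : r ≤ m
    · obtain ⟨w', h1, h2, h3⟩ := ih w
      exact ⟨w', h1, fun j hj => h2 j (by omega), fun j hj => h3 j (by omega)⟩
    · obtain ⟨i, hi⟩ : ∃ i : Fin r, (i : ℕ) = r - (m + 1) := ⟨⟨r - (m + 1), by omega⟩, rfl⟩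
      obtain ⟨q, rem, hq, hrem⟩ := exists_div_rem (e i) (w i)
      obtain ⟨w', h1, h2, h3⟩ := ih (w - q • h i)
      refine ⟨w', ?_, ?_, ?_⟩
      · have : w - w' = (w - q • h i - w') + q • h i := by abel
        rw [this]
        exact Submodule.add_mem _ h1 (Submodule.smul_mem _ _ (Submodule.subset_span ⟨i, rfl⟩))
      · intro j hj
        rw [h2 j (by omega), Pi.sub_apply, Pi.smul_apply, smul_eq_mul,
          hzero i j (by show (j : ℕ) < (i : ℕ); omega), mul_zero, sub_zero]
      · intro j hj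
        by_cases hji : j = i
        · rw [hji, h2 i (by omega), Pi.sub_apply, Pi.smul_apply, smul_eq_mul, hdiag]
          have : w i - q * X ^ e i = rem := by rw [hq]; ring
          rw [this]
          exact hrem
        · apply h3 j
          have : (j : ℕ) ≠ (i : ℕ) := fun hh => hji (Fin.ext hh)
          omega

/-- the row-reduced condition -/
def IsRowReduced (H : Matrix (Fin r) (Fin r) (PowerSeries k)) (e : Fin r → ℕ) : Prop :=
  (∀ i, H i i = X ^ e i) ∧ (∀ i j, j < i → H i j = 0) ∧
    (∀ i j, i < j → ∀ n, e j ≤ n → coeff n (H i j) = 0)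

theorem exists_hermite (M : Matrix (Fin r) (Fin r) (PowerSeries k)) (hM : M.det ≠ 0) :
    ∃ (H : Matrix (Fin r) (Fin r) (PowerSeries k)) (e : Fin r → ℕ),
      IsRowReduced H e ∧ ∃ N : Matrix (Fin r) (Fin r) (PowerSeries k), IsUnit N ∧ N * M = H := by
  classical
  obtain ⟨e, h0, hT0, hmin⟩ := exists_tri M hM
  obtain ⟨L, hL⟩ : ∃ L, L = Submodule.span (PowerSeries k) (Set.range M) := ⟨_, rfl⟩
  rw [← hL] at hT0 hmin
  have hspan0 := span_eq hT0 hmin
  have key : ∀ i : Fin r, ∃ hi : Fin r → PowerSeries k, hi ∈ L ∧ (∀ j, j < i → hi j = 0) ∧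
      hi i = X ^ e i ∧ (∀ j, i < j → Reduced (e j) (hi j)) := by
    intro i
    obtain ⟨w', h1, h2, h3⟩ := reduce hT0.zero hT0.diag (r - ((i : ℕ) + 1)) (h0 i)
    have hi2 := i.2
    refine ⟨w', ?_, ?_, ?_, ?_⟩
    · have : w' = h0 i - (h0 i - w') := by abel
      rw [this]
      exact L.sub_mem (hT0.mem i) (by rw [hspan0]; exact h1)
    · intro j hj
      have hj' : (j : ℕ) < (i : ℕ) := hj
      rw [h2 j (by omega)]
      exact hT0.zero i j hj
    · rw [h2 i (by omega)]
      exact hT0.diag i
    · intro j hj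
      have hj' : (i : ℕ) < (j : ℕ) := hj
      exact h3 j (by omega)
  choose h hmem hzero hdiag hred using key
  have hT : Tri L e h := ⟨hmem, hzero, hdiag⟩
  have hspan := span_eq hT hmin
  -- coefficient matrices
  have hN : ∀ i, ∃ c : Fin r → PowerSeries k, ∑ l, c l • M l = h i := by
    intro i
    have := hmem i
    rw [hL, mem_span_rows_iff] at this
    exact this
  choose N hN' using hN
  have hN'' : ∀ l, ∃ c : Fin r → PowerSeries k, ∑ j, c j • h j = M l := by
    intro l
    have : M l ∈ L := by rw [hL]; exact Submodule.subset_span ⟨l, rfl⟩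
    rw [hspan, Submodule.mem_span_range_iff_exists_fun] at this
    exact this
  choose N2 hN2 using hN''
  have e1 : (Matrix.of N) * M = Matrix.of h := by
    refine Matrix.ext fun i j => ?_
    have := congrFun (row_mul (Matrix.of N) M i) j
    rw [this]
    exact congrFun (hN' i) j
  have e2 : (Matrix.of N2) * (Matrix.of h) = M := by
    refine Matrix.ext fun l j => ?_
    have := congrFun (row_mul (Matrix.of N2) (Matrix.of h) l) j
    rw [this]
    exact congrFun (hN2 l) j
  have hunit : IsUnit (Matrix.of N : Matrix (Fin r) (Fin r) (PowerSeries k)) := by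
    rw [Matrix.isUnit_iff_isUnit_det]
    have h3 : (Matrix.of N2 * Matrix.of N * M).det = M.det := by
      rw [mul_assoc, e1, e2]
    rw [Matrix.det_mul, Matrix.det_mul] at h3
    have h4 : (Matrix.of N2).det * (Matrix.of N).det = 1 := by
      have h5 : ((Matrix.of N2).det * (Matrix.of N).det - 1) * M.det = 0 := by
        rw [sub_mul, h3, one_mul, sub_self]
      rcases mul_eq_zero.mp h5 with h6 | h6
      · exact sub_eq_zero.mp h6
      · exact absurd h6 hM
    exact IsUnit.of_mul_eq_one _ (by rw [mul_comm]; exact h4)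
  refine ⟨Matrix.of h, e, ⟨fun i => hdiag i, fun i j hj => hzero i j hj,
    fun i j hj n hn => hred i j hj n hn⟩, Matrix.of N, hunit, e1⟩

theorem hermite_unique (M : Matrix (Fin r) (Fin r) (PowerSeries k))
    (H₁ H₂ : Matrix (Fin r) (Fin r) (PowerSeries k)) (e₁ e₂ : Fin r → ℕ)
    (h₁ : IsRowReduced H₁ e₁) (h₂ : IsRowReduced H₂ e₂)
    (N₁ N₂ : Matrix (Fin r) (Fin r) (PowerSeries k)) (hN₁ : IsUnit N₁) (hN₂ : IsUnit N₂)
    (hH₁ : N₁ * M = H₁) (hH₂ : N₂ * M = H₂) : H₁ = H₂ := by
  classical
  obtain ⟨L, hL⟩ : ∃ L, L = Submodule.span (PowerSeries k) (Set.range M) := ⟨_, rfl⟩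
  have hspan : ∀ (H N : Matrix (Fin r) (Fin r) (PowerSeries k)), IsUnit N → N * M = H →
      L = Submodule.span (PowerSeries k) (Set.range H) := by
    intro H N hN hH
    obtain ⟨u, hu⟩ := hN
    have hM' : ((u⁻¹ : (Matrix (Fin r) (Fin r) (PowerSeries k))ˣ) :
        Matrix (Fin r) (Fin r) (PowerSeries k)) * H = M := by
      rw [← hH, ← hu, ← mul_assoc, Units.inv_mul, one_mul]
    rw [hL]
    apply le_antisymm
    · rw [Submodule.span_le]
      rintro _ ⟨l, rfl⟩
      rw [SetLike.mem_coe]
      have hMl : M l = (((u⁻¹ : (Matrix (Fin r) (Fin r) (PowerSeries k))ˣ) :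
        Matrix (Fin r) (Fin r) (PowerSeries k)) * H) l := by rw [hM']
      rw [hMl, row_mul]
      exact Submodule.sum_mem _ (fun j _ => Submodule.smul_mem _ _ (Submodule.subset_span ⟨j, rfl⟩))
    · rw [Submodule.span_le]
      rintro _ ⟨i, rfl⟩
      rw [SetLike.mem_coe, ← hH, row_mul]
      exact Submodule.sum_mem _ (fun j _ => Submodule.smul_mem _ _ (Submodule.subset_span ⟨j, rfl⟩))
  have hs₁ := hspan H₁ N₁ hN₁ hH₁
  have hs₂ := hspan H₂ N₂ hN₂ hH₂
  have hmin₁ : MinProp L e₁ := min_of_span h₁.2.1 h₁.1 hs₁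
  have hmin₂ : MinProp L e₂ := min_of_span h₂.2.1 h₂.1 hs₂
  have hmem₁ : ∀ i, H₁ i ∈ L := fun i => by rw [hs₁]; exact Submodule.subset_span ⟨i, rfl⟩
  have hmem₂ : ∀ i, H₂ i ∈ L := fun i => by rw [hs₂]; exact Submodule.subset_span ⟨i, rfl⟩
  have hXpow : ∀ a b : ℕ, (X : PowerSeries k) ^ a ∣ X ^ b → a ≤ b := by
    intro a b hab
    exact (pow_dvd_pow_iff PowerSeries.X_ne_zero (PowerSeries.X_prime (R := k)).not_isUnit).mp hab
  have he : e₁ = e₂ := by
    funext i
    apply le_antisymm
    · have := hmin₁ i (H₂ i) (hmem₂ i) (fun j hj => h₂.2.1 i j hj)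
      rw [h₂.1 i] at this
      exact hXpow _ _ this
    · have := hmin₂ i (H₁ i) (hmem₁ i) (fun j hj => h₁.2.1 i j hj)
      rw [h₁.1 i] at this
      exact hXpow _ _ this
  subst he
  refine Matrix.ext fun i j => ?_
  have hd : H₁ i - H₂ i = 0 := by
    apply eq_zero_of_reduced hmin₁ _ (L.sub_mem (hmem₁ i) (hmem₂ i))
    intro j
    rw [Pi.sub_apply]
    rcases lt_trichotomy j i with hj | hj | hj
    · rw [h₁.2.1 i j hj, h₂.2.1 i j hj, sub_self]
      exact reduced_zero _
    · rw [hj, h₁.1 i, h₂.1 i, sub_self]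
      exact reduced_zero _
    · exact Reduced.sub (h₁.2.2 i j hj) (h₂.2.2 i j hj)
  have := congrFun hd j
  rw [Pi.sub_apply, Pi.zero_apply, sub_eq_zero] at this
  exact this

end Groth.Agent.Lib.Helper63.HermiteNF
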