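import Mathlib
import Groth.Agent.Lib.Helper63.HermiteNF

/-!
# Hermite form with column operations over `k⟦t^p⟧` (helper63)
-/

set_option autoImplicit false
set_option linter.unusedSectionVars false
set_option linter.unusedVariables false

namespace Groth.Agent.Lib.Helper63.HermiteCol

open PowerSeries Groth.Agent.Lib.Helper63.HermiteNF

universe u

variable {k : Type u} [Field k] {r : ℕ}

/-- power series in `t^p` -/
def InT (p : ℕ) (f : PowerSeries k) : Prop := ∀ n, ¬ p ∣ n → coeff n f = 0

lemma InT.zero (p : ℕ) : InT p (0 : PowerSeries k) := fun n _ => map_zero _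

lemma InT.one (p : ℕ) : InT p (1 : PowerSeries k) := fun n hn => by
  rw [coeff_one, if_neg]
  rintro rfl
  exact hn (dvd_zero p)

lemma InT.add {p : ℕ} {f g : PowerSeries k} (hf : InT p f) (hg : InT p g) : InT p (f + g) :=
  fun n hn => by rw [map_add, hf n hn, hg n hn, add_zero]

lemma InT.neg {p : ℕ} {f : PowerSeries k} (hf : InT p f) : InT p (-f) :=
  fun n hn => by rw [map_neg, hf n hn, neg_zero]

lemma InT.mul {p : ℕ} {f g : PowerSeries k} (hf : InT p f) (hg : InT p g) : InT p (f * g) := by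
  intro n hn
  rw [coeff_mul]
  apply Finset.sum_eq_zero
  rintro ⟨a, b⟩ hab
  have hab : a + b = n := Finset.HasAntidiagonal.mem_antidiagonal.mp hab
  show coeff a f * coeff b g = 0
  by_cases ha : p ∣ a
  · have hb : ¬ p ∣ b := fun hb => hn (by rw [← hab]; exact dvd_add ha hb)
    rw [hg b hb, mul_zero]
  · rw [hf a ha, zero_mul]

lemma InT.sum {p : ℕ} {ι : Type*} (s : Finset ι) (f : ι → PowerSeries k)
    (hf : ∀ i ∈ s, InT p (f i)) : InT p (∑ i ∈ s, f i) := by
  intro n hn
  rw [map_sum]
  exact Finset.sum_eq_zero (fun i hi => hf i hi n hn)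

lemma InT.expand (p : ℕ) (hp : p ≠ 0) (g : PowerSeries k) : InT p (PowerSeries.expand p hp g) :=
  fun n hn => coeff_expand_of_not_dvd p hp g hn

/-- all entries in `k⟦t^p⟧` -/
def MatInT (p : ℕ) (P : Matrix (Fin r) (Fin r) (PowerSeries k)) : Prop := ∀ i j, InT p (P i j)

lemma MatInT.one (p : ℕ) : MatInT p (1 : Matrix (Fin r) (Fin r) (PowerSeries k)) := by
  intro i j
  by_cases h : i = j
  · rw [h, Matrix.one_apply_eq]; exact InT.one p
  · rw [Matrix.one_apply_ne h]; exact InT.zero p

lemma MatInT.mul {p : ℕ} {P Q : Matrix (Fin r) (Fin r) (PowerSeries k)} (hP : MatInT p P)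
    (hQ : MatInT p Q) : MatInT p (P * Q) := by
  intro i j
  rw [Matrix.mul_apply]
  exact InT.sum _ _ (fun l _ => (hP i l).mul (hQ l j))

/-- elementary matrix: identity plus a column `c` in column `j` -/
noncomputable def E (j : Fin r) (c : Fin r → PowerSeries k) :
    Matrix (Fin r) (Fin r) (PowerSeries k) :=
  1 + Matrix.of (fun l j' => if j' = j then c l else 0)

lemma E_apply (j : Fin r) (c : Fin r → PowerSeries k) (i j' : Fin r) :
    E j c i j' = (1 : Matrix (Fin r) (Fin r) (PowerSeries k)) i j' + if j' = j then c i else 0 := rfl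

lemma E_mul_apply (j : Fin r) (c : Fin r → PowerSeries k)
    (H : Matrix (Fin r) (Fin r) (PowerSeries k)) (i j' : Fin r) :
    (E j c * H) i j' = H i j' + c i * H j j' := by
  rw [E, add_mul, one_mul, Matrix.add_apply, Matrix.mul_apply]
  congr 1
  rw [Finset.sum_eq_single j]
  · rw [Matrix.of_apply, if_pos rfl]
  · intro l _ hl
    rw [Matrix.of_apply, if_neg hl, zero_mul]
  · intro h; exact absurd (Finset.mem_univ _) h

lemma mul_E_apply (j : Fin r) (c : Fin r → PowerSeries k)
    (H : Matrix (Fin r) (Fin r) (PowerSeries k)) (i j' : Fin r) :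
    (H * E j c) i j' = H i j' + if j' = j then ∑ l, H i l * c l else 0 := by
  rw [E, mul_add, mul_one, Matrix.add_apply, Matrix.mul_apply]
  congr 1
  by_cases h : j' = j
  · rw [if_pos h]
    refine Finset.sum_congr rfl fun l _ => ?_
    rw [Matrix.of_apply, if_pos h]
  · rw [if_neg h]
    apply Finset.sum_eq_zero
    intro l _
    rw [Matrix.of_apply, if_neg h, mul_zero]

lemma E_isUnit (j : Fin r) (c : Fin r → PowerSeries k) (hc : c j = 0) : IsUnit (E j c) := by
  have h1 : E j c * E j (-c) = 1 := by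
    refine Matrix.ext fun i j' => ?_
    rw [E_mul_apply, E_apply, E_apply]
    by_cases h : j' = j
    · rw [if_pos h, if_pos h, Pi.neg_apply, Pi.neg_apply, hc, neg_zero, add_zero, h,
        Matrix.one_apply_eq]; ring
    · rw [if_neg h, if_neg h, Matrix.one_apply_ne (Ne.symm h)]; ring
  rw [Matrix.isUnit_iff_isUnit_det]
  have h2 := congrArg Matrix.det h1
  rw [Matrix.det_mul, Matrix.det_one] at h2
  exact IsUnit.of_mul_eq_one _ h2

lemma E_matInT {p : ℕ} (j : Fin r) (c : Fin r → PowerSeries k) (hc : ∀ l, InT p (c l)) :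
    MatInT p (E j c) := by
  intro i j'
  rw [E_apply]
  apply InT.add (MatInT.one p i j')
  by_cases h : j' = j
  · rw [if_pos h]; exact hc i
  · rw [if_neg h]; exact InT.zero p

/-- no term in a degree `≥ e` congruent to `e` mod `p` -/
def NoBad (e p : ℕ) (f : PowerSeries k) : Prop := ∀ n, e ≤ n → n % p = e % p → coeff n f = 0

theorem colFix (p : ℕ) (hp : p ≠ 0) {e : Fin r → ℕ} {H : Matrix (Fin r) (Fin r) (PowerSeries k)}
    (hzero : ∀ i j, j < i → H i j = 0) (hdiag : ∀ i, H i i = X ^ e i) (j : Fin r) :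
    ∃ c : Fin r → PowerSeries k, (∀ l, InT p (c l)) ∧ (∀ l, j ≤ l → c l = 0) ∧
      ∀ i, i < j → NoBad (e i) p (H i j + ∑ l, H i l * c l) := by
  classical
  have key : ∀ m : ℕ, ∃ c : Fin r → PowerSeries k, (∀ l, InT p (c l)) ∧
      (∀ l : Fin r, (j ≤ l ∨ (l : ℕ) < (j : ℕ) - m) → c l = 0) ∧
      ∀ i : Fin r, i < j → (j : ℕ) - m ≤ (i : ℕ) → NoBad (e i) p (H i j + ∑ l, H i l * c l) := by
    intro m
    induction m with
    | zero =>
      refine ⟨0, fun l => InT.zero p, fun l _ => rfl, fun i hi hi' => ?_⟩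
      have : (i : ℕ) < (j : ℕ) := hi
      omega
    | succ m ih =>
      obtain ⟨c, hcT, hcz, hcN⟩ := ih
      by_cases hm : (j : ℕ) ≤ m
      · exact ⟨c, hcT, fun l hl => hcz l (by omega), fun i hi hi' => hcN i hi (by omega)⟩
      · obtain ⟨i0, hi0⟩ : ∃ i0 : Fin r, (i0 : ℕ) = (j : ℕ) - (m + 1) :=
          ⟨⟨(j : ℕ) - (m + 1), by have := j.2; omega⟩, rfl⟩
        have hi0j : i0 < j := by
          show (i0 : ℕ) < (j : ℕ)
          omega
        obtain ⟨f, hf⟩ : ∃ f, f = H i0 j + ∑ l, H i0 l * c l := ⟨_, rfl⟩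
        obtain ⟨g, hg⟩ : ∃ g : PowerSeries k,
            g = PowerSeries.mk fun a => coeff (e i0 + p * a) f := ⟨_, rfl⟩
        obtain ⟨v, hv⟩ : ∃ v, v = - PowerSeries.expand p hp g := ⟨_, rfl⟩
        have hci0 : c i0 = 0 := hcz i0 (Or.inr (by omega))
        have hsum : ∀ i, ∑ l, H i l * ((c + Pi.single i0 v : Fin r → PowerSeries k) l) =
            ∑ l, H i l * c l + H i i0 * v := by
          intro i
          simp only [Pi.add_apply, mul_add, Finset.sum_add_distrib]
          congr 1
          rw [Finset.sum_eq_single i0]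
          · rw [Pi.single_eq_same]
          · intro l _ hl
            rw [Pi.single_eq_of_ne hl, mul_zero]
          · intro h; exact absurd (Finset.mem_univ _) h
        refine ⟨c + Pi.single i0 v, ?_, ?_, ?_⟩
        · intro l
          rw [Pi.add_apply]
          apply (hcT l).add
          by_cases hl : l = i0
          · rw [hl, Pi.single_eq_same, hv]
            exact (InT.expand p hp g).neg
          · rw [Pi.single_eq_of_ne hl]
            exact InT.zero p
        · intro l hl
          have hne : l ≠ i0 := by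
            intro h
            rw [h] at hl
            rcases hl with h1 | h1
            · exact absurd (lt_of_lt_of_le hi0j h1) (lt_irrefl _)
            · omega
          rw [Pi.add_apply, Pi.single_eq_of_ne hne, add_zero]
          apply hcz l
          rcases hl with h1 | h1
          · exact Or.inl h1
          · exact Or.inr (by omega)
        · intro i hi hi'
          rw [hsum]
          by_cases hii0 : i = i0
          · rw [hii0, hdiag, ← add_assoc, ← hf]
            intro n hn hmod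
            have hdvd : p ∣ n - e i0 :=
              Nat.dvd_of_mod_eq_zero (Nat.sub_mod_eq_zero_of_mod_eq hmod)
            obtain ⟨a, ha⟩ := hdvd
            rw [map_add, hv, mul_neg, map_neg, coeff_X_pow_mul', if_pos hn, ha, coeff_expand_mul,
              hg, coeff_mk]
            have : e i0 + p * a = n := by omega
            rw [this, add_neg_cancel]
          · have hgt : i0 < i := by
              apply lt_of_le_of_ne _ (Ne.symm hii0)
              show (i0 : ℕ) ≤ (i : ℕ)
              omega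
            rw [hzero i i0 hgt, zero_mul, add_zero]
            apply hcN i hi
            have : (i0 : ℕ) < (i : ℕ) := hgt
            omega
  obtain ⟨c, hcT, hcz, hcN⟩ := key (j : ℕ)
  exact ⟨c, hcT, fun l hl => hcz l (Or.inl hl), fun i hi => hcN i hi (by omega)⟩

/-- invariant after processing the columns `< m` -/
def Inv (p : ℕ) (M : Matrix (Fin r) (Fin r) (PowerSeries k)) (e : Fin r → ℕ) (m : ℕ) : Prop :=
  ∃ N P : Matrix (Fin r) (Fin r) (PowerSeries k), IsUnit N ∧ IsUnit P ∧ MatInT p P ∧
    (∀ i, (N * M * P) i i = X ^ e i) ∧ (∀ i j, j < i → (N * M * P) i j = 0) ∧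
    (∀ i j : Fin r, i < j → (j : ℕ) < m →
      Reduced (e j) ((N * M * P) i j) ∧ NoBad (e i) p ((N * M * P) i j))

theorem inv_succ (p : ℕ) (hp : p ≠ 0) (M : Matrix (Fin r) (Fin r) (PowerSeries k))
    (e : Fin r → ℕ) (m : ℕ) (h : Inv p M e m) : Inv p M e (m + 1) := by
  classical
  obtain ⟨N, P, hN, hP, hPT, hdiag, hzero, hcols⟩ := h
  by_cases hm : r ≤ m
  · refine ⟨N, P, hN, hP, hPT, hdiag, hzero, fun i j hij hj => hcols i j hij ?_⟩
    have := j.2
    omega
  obtain ⟨j, hj⟩ : ∃ j : Fin r, (j : ℕ) = m := ⟨⟨m, by omega⟩, rfl⟩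
  obtain ⟨H, hH⟩ : ∃ H, H = N * M * P := ⟨_, rfl⟩
  rw [← hH] at hdiag hzero hcols
  obtain ⟨c, hcT, hcz, hcN⟩ := colFix p hp hzero hdiag j
  obtain ⟨H2, hH2⟩ : ∃ H2, H2 = H * E j c := ⟨_, rfl⟩
  have hH2a : ∀ i j', H2 i j' = H i j' + if j' = j then ∑ l, H i l * c l else 0 := by
    intro i j'
    rw [hH2, mul_E_apply]
  -- vanishing of sums below the diagonal
  have hsum0 : ∀ i, j ≤ i → ∑ l, H i l * c l = 0 := by
    intro i hi
    apply Finset.sum_eq_zero
    intro l _
    by_cases hl : j ≤ l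
    · rw [hcz l hl, mul_zero]
    · rw [hzero i l (lt_of_lt_of_le (not_le.mp hl) hi), zero_mul]
  have hH2j : ∀ j', j' ≤ j → H2 j j' = if j' = j then X ^ e j else 0 := by
    intro j' hj'
    rw [hH2a]
    by_cases h : j' = j
    · rw [if_pos h, if_pos h, h, hdiag, hsum0 j le_rfl, add_zero]
    · rw [if_neg h, if_neg h, add_zero]
      exact hzero j j' (lt_of_le_of_ne hj' h)
  have hdr : ∀ i, ∃ q rem : PowerSeries k, H2 i j = X ^ e j * q + rem ∧ Reduced (e j) rem :=
    fun i => exists_div_rem (e j) (H2 i j)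
  choose q0 rem hq0 hrem using hdr
  obtain ⟨q, hq⟩ : ∃ q : Fin r → PowerSeries k, q = fun i => if i < j then - q0 i else 0 :=
    ⟨_, rfl⟩
  have hqj : q j = 0 := by rw [hq]; exact if_neg (lt_irrefl j)
  have hqlt : ∀ i, i < j → q i = - q0 i := fun i hi => by rw [hq]; exact if_pos hi
  have hqge : ∀ i, ¬ i < j → q i = 0 := fun i hi => by rw [hq]; exact if_neg hi
  obtain ⟨H3, hH3⟩ : ∃ H3, H3 = E j q * H2 := ⟨_, rfl⟩
  have hH3a : ∀ i j', H3 i j' = H2 i j' + q i * H2 j j' := by
    intro i j'
    rw [hH3, E_mul_apply]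
  have hprod : (E j q * N) * M * (P * E j c) = H3 := by
    rw [hH3, hH2, hH]
    simp only [mul_assoc]
  refine ⟨E j q * N, P * E j c, (E_isUnit j q hqj).mul hN, hP.mul (E_isUnit j c (hcz j le_rfl)),
    hPT.mul (E_matInT j c hcT), ?_, ?_, ?_⟩
  · intro i
    rw [hprod, hH3a, hH2a]
    by_cases hi : i < j
    · rw [hH2j i (le_of_lt hi), if_neg (ne_of_lt hi), if_neg (ne_of_lt hi), mul_zero, add_zero,
        add_zero, hdiag]
    · rw [hqge i hi, zero_mul, add_zero]
      by_cases hij : i = j
      · rw [if_pos hij, hij, hsum0 j le_rfl, add_zero, hdiag]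
      · rw [if_neg hij, add_zero, hdiag]
  · intro i j' hj'
    rw [hprod, hH3a, hH2a, hzero i j' hj', zero_add]
    have h1 : (if j' = j then ∑ l, H i l * c l else 0) = 0 := by
      by_cases h : j' = j
      · rw [if_pos h, hsum0 i (by rw [← h]; exact le_of_lt hj')]
      · rw [if_neg h]
    rw [h1, zero_add]
    by_cases hi : i < j
    · rw [hH2j j' (le_of_lt (lt_trans hj' hi)), if_neg (ne_of_lt (lt_trans hj' hi)), mul_zero]
    · rw [hqge i hi, zero_mul]
  · intro i j' hij' hj'm
    rw [hprod, hH3a]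
    by_cases hjj : j' = j
    · -- the processed column
      rw [hjj] at hij'
      rw [hjj, hH2j j le_rfl, if_pos rfl, hqlt i hij']
      have hrem_eq : H2 i j + -q0 i * X ^ e j = rem i := by
        rw [hq0 i]; ring
      rw [hrem_eq]
      refine ⟨hrem i, fun n hn hmod => ?_⟩
      by_cases hne : e j ≤ n
      · exact hrem i n hne
      · have h2 : coeff n (rem i) = coeff n (H2 i j) := by
          rw [hq0 i, map_add, coeff_X_pow_mul', if_neg hne, zero_add]
        rw [h2, hH2a, if_pos rfl]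
        exact hcN i hij' n hn hmod
    · -- an earlier column
      have hlt : j' < j := by
        apply lt_of_le_of_ne _ hjj
        show (j' : ℕ) ≤ (j : ℕ)
        omega
      rw [hH2j j' (le_of_lt hlt), if_neg hjj, mul_zero, add_zero, hH2a, if_neg hjj, add_zero]
      exact hcols i j' hij' (by
        have : (j' : ℕ) < (j : ℕ) := hlt
        omega)

theorem main (p : ℕ) (hp : p ≠ 0) (M : Matrix (Fin r) (Fin r) (PowerSeries k)) (hM : M.det ≠ 0) :
    ∃ (N P : Matrix (Fin r) (Fin r) (PowerSeries k)) (e : Fin r → ℕ), IsUnit N ∧ IsUnit P ∧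
      (∀ i j n, ¬ p ∣ n → PowerSeries.coeff n (P i j) = 0) ∧
      (∀ i, (N * M * P) i i = PowerSeries.X ^ e i) ∧ (∀ i j, j < i → (N * M * P) i j = 0) ∧
      (∀ i j, i < j → ∀ n, (e j ≤ n ∨ (e i ≤ n ∧ n % p = e i % p)) →
        PowerSeries.coeff n ((N * M * P) i j) = 0) := by
  obtain ⟨H, e, hH, N, hN, hNM⟩ := exists_hermite M hM
  have h0 : Inv p M e 0 := by
    refine ⟨N, 1, hN, isUnit_one, MatInT.one p, ?_, ?_, ?_⟩
    · intro i; rw [mul_one, hNM]; exact hH.1 i
    · intro i j hj; rw [mul_one, hNM]; exact hH.2.1 i j hj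
    · intro i j _ hj; omega
  have hall : ∀ m, Inv p M e m := by
    intro m
    induction m with
    | zero => exact h0
    | succ m ih => exact inv_succ p hp M e m ih
  obtain ⟨N', P', hN', hP', hPT, hdiag, hzero, hcols⟩ := hall r
  refine ⟨N', P', e, hN', hP', fun i j n hn => hPT i j n hn, hdiag, hzero, ?_⟩
  intro i j hij n hn
  obtain ⟨h1, h2⟩ := hcols i j hij j.2
  rcases hn with hn | ⟨hn, hmod⟩
  · exact h1 n hn
  · exact h2 n hn hmod

end Groth.Agent.Lib.Helper63.HermiteCol
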