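import Mathlib
import Groth.Agent.Lib.Helper63.LTApply

/-!
# Lubin–Tate logarithm: the linear equation `H(π X + X^q) = π H` over a field (helper63)
-/

set_option autoImplicit false

namespace Groth.Agent.Lib.Helper63.LT

open MvPowerSeries Finsupp

universe u v

section Linear

variable {R : Type u} [CommRing R] {σ : Type v} [Finite σ] (π : R) (q : ℕ)

lemma eps_zero_iff {H : MvPowerSeries σ R} :
    eps π q 0 H = 0 ↔ H.subst (fvec π q σ) = π • H := by
  unfold eps
  rw [zero_smul, add_zero, sub_eq_zero, eq_comm]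

lemma eps_zero_add (hq : q ≠ 0) (A B : MvPowerSeries σ R) :
    eps π q 0 (A + B) = eps π q 0 A + eps π q 0 B := by
  unfold eps
  rw [subst_add (hasSubst_fvec π q hq), zero_smul, zero_smul, zero_smul, smul_add]
  abel

lemma eps_zero_smul (hq : q ≠ 0) (α : R) (A : MvPowerSeries σ R) :
    eps π q 0 (α • A) = α • eps π q 0 A := by
  unfold eps
  rw [subst_smul (hasSubst_fvec π q hq), zero_smul, zero_smul, add_zero, add_zero, smul_sub,
    smul_comm]

end Linear

section Map

variable {R : Type u} [CommRing R] {S : Type u} [CommRing S] {σ : Type v} [Finite σ]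
  (π : R) (q : ℕ) (c : R) (φ : R →+* S)

lemma map_fvec (i : σ) : (fvec π q σ i).map φ = fvec (φ π) q σ i := by
  simp only [fvec, smul_eq_C_mul, map_add, map_mul, map_C, map_pow, map_X]

lemma map_eps_general (hq : q ≠ 0) (G : MvPowerSeries σ R) :
    (eps π q c G).map φ = eps (φ π) q (φ c) (G.map φ) := by
  unfold eps
  rw [map_sub, map_add, smul_eq_C_mul, smul_eq_C_mul, map_mul, map_mul, map_C, map_C, map_pow,
    map_subst (hasSubst_fvec π q hq), ← smul_eq_C_mul, ← smul_eq_C_mul]
  congr 2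
  funext i
  exact map_fvec π q φ i

end Map

section Field

variable {K : Type u} [Field K] {σ : Type v} [Finite σ] (π : K) (q : ℕ) (c : K)

theorem field_exists (hq : 2 ≤ q) (hπ : ∀ m : ℕ, 2 ≤ m → π - π ^ m ≠ 0) (a : σ → K) :
    ∃ H : MvPowerSeries σ K, constantCoeff H = 0 ∧ (∀ i, coeff (single i 1) H = a i) ∧
      eps π q c H = 0 :=
  exists_eps_eq_zero π q c hq (fun _ _ m hm _ _ => (IsUnit.mk0 _ (hπ m hm)).dvd) a

theorem field_unique (hq : 2 ≤ q) (hπ : ∀ m : ℕ, 2 ≤ m → π - π ^ m ≠ 0)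
    {H H' : MvPowerSeries σ K} (h0 : constantCoeff H = 0) (h0' : constantCoeff H' = 0)
    (hlin : ∀ i, coeff (single i 1) H = coeff (single i 1) H')
    (hH : eps π q c H = 0) (hH' : eps π q c H' = 0) : H = H' :=
  eq_of_eps_eq_zero π q c hq
    (fun m hm x hx => (mul_eq_zero.mp hx).resolve_left (hπ m hm)) h0 h0' hlin hH hH'

end Field

end Groth.Agent.Lib.Helper63.LT
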