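import Mathlib

/-!
# Lang's theorem for injective `p`-linear maps (helper63)

Let `K` be an algebraically closed field of characteristic `p`, `U` a finite-dimensional `K`-vector
space and `Φ : U → U` an injective Frobenius-semilinear map.  Then `U` has a `K`-basis consisting of
vectors fixed by `Φ`.

* `exists_fixed_ne_zero` : a nonzero fixed vector exists when `U ≠ 0`;
* `span_fixed_eq_top` : the fixed vectors span `U`;
* `exists_basis_fixed` : a basis of fixed vectors.
-/

namespace Groth.Agent.Lib.Helper63.LangFixed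

open Polynomial

variable {K : Type*} [Field K] [IsAlgClosed K] (p : ℕ) [Fact p.Prime] [CharP K p]
variable {U : Type*} [AddCommGroup U] [Module K U]

omit [IsAlgClosed K] in
theorem map_smul_pow (Φ : U →ₛₗ[frobenius K p] U) (c : K) (y : U) : Φ (c • y) = c ^ p • Φ y := by
  rw [map_smulₛₗ, frobenius_def]

omit [CharP K p] in
theorem exists_root_pow (c : K) : ∃ r : K, r ^ p = c :=
  IsAlgClosed.exists_pow_nat_eq c (Fact.out : p.Prime).pos

omit [CharP K p] in
theorem exists_artinSchreier (c : K) : ∃ a : K, a ^ p - a = c := by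
  have hp := (Fact.out : p.Prime)
  have hdeg : (X ^ p - X - C c : K[X]).degree ≠ 0 := by
    have h1 : (X ^ p - X - C c : K[X]) = X ^ p - (X + C c) := by ring
    have h2 : (X + C c : K[X]).degree < (X ^ p : K[X]).degree := by
      rw [degree_X_pow, degree_X_add_C]
      exact_mod_cast hp.one_lt
    rw [h1, degree_sub_eq_left_of_degree_lt h2, degree_X_pow]
    exact_mod_cast hp.ne_zero
  obtain ⟨a, ha⟩ := IsAlgClosed.exists_root _ hdeg
  refine ⟨a, ?_⟩
  simp only [IsRoot.def, eval_sub, eval_pow, eval_X, eval_C] at ha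
  exact sub_eq_zero.mp ha

/-- The auxiliary polynomials `D i`. -/
noncomputable def DD (a : ℕ → K) : ℕ → K[X]
  | 0 => C (a 0)
  | (i + 1) => X ^ (p * p - p) * (DD a i) ^ p + C (a (i + 1))

omit [IsAlgClosed K] [CharP K p] in
theorem DD_ne_zero (a : ℕ → K) (ha : a 0 ≠ 0) (i : ℕ) : DD p a i ≠ 0 := by
  have hp := (Fact.out : p.Prime)
  induction i with
  | zero => simpa [DD] using ha
  | succ i ih =>
    intro h
    rw [DD] at h
    have h1 : X ^ (p * p - p) * (DD p a i) ^ p = C (-a (i + 1)) := by
      rw [map_neg]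
      exact eq_neg_of_add_eq_zero_left h
    have h2 := congrArg natDegree h1
    rw [natDegree_C, natDegree_mul (pow_ne_zero _ X_ne_zero) (pow_ne_zero _ ih),
      natDegree_X_pow] at h2
    have h3 : 1 ≤ p * p - p := by
      have : 2 ≤ p := hp.two_le
      have : p * 2 ≤ p * p := Nat.mul_le_mul_left p this
      omega
    omega

omit [IsAlgClosed K] in
theorem exists_repr_of_mem_span_image_Iio {v : ℕ → U} {e : ℕ} {x : U}
    (h : x ∈ Submodule.span K (v '' Set.Iio e)) :
    ∃ a : ℕ → K, x = ∑ i ∈ Finset.range e, a i • v i := by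
  classical
  obtain ⟨l, hl, rfl⟩ := (Finsupp.mem_span_image_iff_linearCombination K).mp h
  refine ⟨⇑l, ?_⟩
  rw [Finsupp.linearCombination_apply]
  apply Finsupp.sum_of_support_subset
  · intro i hi
    have := (Finsupp.mem_supported K l).mp hl (Finset.mem_coe.mpr hi)
    exact Finset.mem_range.mpr this
  · intro i _
    exact zero_smul _ _

omit [IsAlgClosed K] in
theorem sum_mem_span_image_Iio (v : ℕ → U) (e : ℕ) (a : ℕ → K) :
    ∑ i ∈ Finset.range e, a i • v i ∈ Submodule.span K (v '' Set.Iio e) :=
  Submodule.sum_mem _ fun i hi =>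
    Submodule.smul_mem _ _ (Submodule.subset_span ⟨i, Finset.mem_range.mp hi, rfl⟩)

theorem exists_fixed_ne_zero [FiniteDimensional K U] [Nontrivial U]
    (Φ : U →ₛₗ[frobenius K p] U) (hinj : Function.Injective Φ) :
    ∃ x : U, x ≠ 0 ∧ Φ x = x := by
  classical
  have hp := (Fact.out : p.Prime)
  obtain ⟨u, hu⟩ := exists_ne (0 : U)
  set v : ℕ → U := fun i => (⇑Φ)^[i] u with hv
  have hv_succ : ∀ i, v (i + 1) = Φ (v i) := fun i => Function.iterate_succ_apply' _ _ _
  have hv0 : v 0 = u := rfl
  set S : ℕ → Submodule K U := fun e => Submodule.span K (v '' Set.Iio e) with hS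
  have hSmono : ∀ e, S e ≤ S (e + 1) := fun e =>
    Submodule.span_mono (Set.image_mono (Set.Iio_subset_Iio (Nat.le_succ e)))
  have hvS : ∀ e, v e ∈ S (e + 1) := fun e =>
    Submodule.subset_span ⟨e, Nat.lt_succ_self e, rfl⟩
  -- existence of a dependence
  have hex : ∃ e, v e ∈ S e := by
    by_contra h
    push Not at h
    have hgrow : ∀ e, e ≤ Module.finrank K (S e) := by
      intro e
      induction e with
      | zero => exact Nat.zero_le _
      | succ e ih =>
        have hlt : S e < S (e + 1) := by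
          refine lt_of_le_of_ne (hSmono e) (fun heq => h e ?_)
          rw [heq]
          exact hvS e
        have := Submodule.finrank_lt_finrank_of_lt hlt
        omega
    have h1 := hgrow (Module.finrank K U + 1)
    have h2 := Submodule.finrank_le (S (Module.finrank K U + 1))
    omega
  have hee : v (Nat.find hex) ∈ S (Nat.find hex) := Nat.find_spec hex
  have hmin : ∀ e' < Nat.find hex, v e' ∉ S e' := fun e' h' => Nat.find_min hex h'
  have he0 : Nat.find hex ≠ 0 := by
    intro h0
    rw [h0] at hee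
    have hI : Set.Iio (0 : ℕ) = ∅ := by ext; simp
    simp only [hS, hI, Set.image_empty, Submodule.span_empty, Submodule.mem_bot] at hee
    exact hu hee
  obtain ⟨e', he'⟩ := Nat.exists_eq_succ_of_ne_zero he0
  rw [he'] at hee hmin
  have hm1 : v e' ∉ S e' := hmin e' (Nat.lt_succ_self e')
  obtain ⟨a, ha⟩ := exists_repr_of_mem_span_image_Iio hee
  -- `a 0 ≠ 0`
  have ha0 : a 0 ≠ 0 := by
    intro h0
    apply hm1
    choose r hr using fun i => exists_root_pow p (a (i + 1))
    have h1 : Φ (v e') = Φ (∑ i ∈ Finset.range e', r i • v i) := by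
      rw [← hv_succ, ha, Finset.sum_range_succ', h0, zero_smul, add_zero, map_sum]
      apply Finset.sum_congr rfl
      intro i _
      rw [map_smul_pow, hr, hv_succ]
    rw [hinj h1]
    exact sum_mem_span_image_Iio v e' r
  -- the polynomial and its root
  have hD := DD_ne_zero p a ha0 e'
  have hdeg : (X ^ (p - 1) * DD p a e' - 1 : K[X]).degree ≠ 0 := by
    intro h
    have h1 := eq_C_of_degree_eq_zero h
    have h2 : X ^ (p - 1) * DD p a e' =
        C ((X ^ (p - 1) * DD p a e' - 1 : K[X]).coeff 0 + 1) := by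
      rw [map_add, ← h1, map_one]
      ring
    have h3 := congrArg natDegree h2
    rw [natDegree_C, natDegree_mul (pow_ne_zero _ X_ne_zero) hD, natDegree_X_pow] at h3
    have : 2 ≤ p := hp.two_le
    omega
  obtain ⟨t, ht⟩ := IsAlgClosed.exists_root _ hdeg
  simp only [IsRoot.def, eval_sub, eval_mul, eval_pow, eval_X, eval_one] at ht
  have ht1 : t ^ (p - 1) * (DD p a e').eval t = 1 := sub_eq_zero.mp ht
  have ht0 : t ≠ 0 := by
    intro h0
    rw [h0, zero_pow (by have := hp.two_le; omega), zero_mul] at ht1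
    exact zero_ne_one ht1
  set c : ℕ → K := fun i => t ^ p * (DD p a i).eval t with hc
  have hc0 : c 0 = t ^ p * a 0 := by simp [hc, DD]
  have hcs : ∀ i, c (i + 1) = (c i) ^ p + t ^ p * a (i + 1) := by
    intro i
    simp only [hc, DD, eval_add, eval_mul, eval_pow, eval_X, eval_C]
    obtain ⟨m, hm⟩ : ∃ m, m = p * p - p := ⟨_, rfl⟩
    have hpp : p * p = p + m := by
      have : p ≤ p * p := Nat.le_mul_self p
      omega
    rw [← hm, mul_pow, ← pow_mul, hpp, pow_add]
    ring
  have hce : c e' = t := by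
    have htp : t ^ p = t ^ (p - 1) * t := by
      rw [← pow_succ, Nat.sub_add_cancel hp.one_le]
    simp only [hc]
    rw [htp, mul_right_comm, ht1, one_mul]
  refine ⟨∑ i ∈ Finset.range (e' + 1), c i • v i, ?_, ?_⟩
  · intro hx
    apply hm1
    rw [Finset.sum_range_succ, hce] at hx
    have h1 : v e' = ∑ i ∈ Finset.range e', (-(t⁻¹ * c i)) • v i := by
      have h2 : t • v e' = -∑ i ∈ Finset.range e', c i • v i := by
        rw [eq_neg_iff_add_eq_zero, add_comm]
        exact hx
      have h3 : v e' = t⁻¹ • (t • v e') := by rw [smul_smul, inv_mul_cancel₀ ht0, one_smul]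
      rw [h3, h2, smul_neg, Finset.smul_sum, ← Finset.sum_neg_distrib]
      apply Finset.sum_congr rfl
      intro i _
      rw [smul_smul, neg_smul]
    rw [h1]
    exact sum_mem_span_image_Iio v e' _
  · rw [map_sum]
    have h1 : ∀ i ∈ Finset.range (e' + 1), Φ (c i • v i) = (c i) ^ p • v (i + 1) := by
      intro i _
      rw [map_smul_pow, hv_succ]
    rw [Finset.sum_congr rfl h1, Finset.sum_range_succ, hce, ha, Finset.sum_range_succ'
      (fun i => c i • v i), Finset.sum_range_succ' (fun i => a i • v i), hc0,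
      smul_add, Finset.smul_sum, ← add_assoc, ← Finset.sum_add_distrib, smul_smul]
    congr 1
    apply Finset.sum_congr rfl
    intro i _
    rw [hcs, add_smul, smul_smul]

/-- The fixed vectors of an injective Frobenius-semilinear endomorphism span. -/
theorem span_fixed_eq_top [FiniteDimensional K U]
    (Φ : U →ₛₗ[frobenius K p] U) (hinj : Function.Injective Φ) :
    Submodule.span K {x : U | Φ x = x} = ⊤ := by
  classical
  by_contra hne
  set U₁ : Submodule K U := Submodule.span K {x : U | Φ x = x} with hU₁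
  have hlt : U₁ < ⊤ := lt_top_iff_ne_top.mpr hne
  -- `Φ` maps `U₁` into `U₁`
  have hmaps : ∀ z ∈ U₁, Φ z ∈ U₁ := by
    intro z hz
    induction hz using Submodule.span_induction with
    | mem x hx =>
      have hx' : Φ x = x := hx
      rw [hx']
      exact Submodule.subset_span hx
    | zero => rw [map_zero]; exact Submodule.zero_mem _
    | add a b _ _ iha ihb => rw [map_add]; exact Submodule.add_mem _ iha ihb
    | smul c a _ iha => rw [map_smul_pow]; exact Submodule.smul_mem _ _ iha
  -- `Φ` maps `U₁` onto `U₁`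
  have hsurj : ∀ z ∈ U₁, ∀ c : K, ∃ z' ∈ U₁, Φ z' = c • z := by
    intro z hz
    induction hz using Submodule.span_induction with
    | mem x hx =>
      intro c
      have hx' : Φ x = x := hx
      obtain ⟨r, hr⟩ := exists_root_pow p c
      refine ⟨r • x, Submodule.smul_mem _ _ (Submodule.subset_span hx), ?_⟩
      rw [map_smul_pow, hr, hx']
    | zero => intro c; exact ⟨0, Submodule.zero_mem _, by rw [map_zero, smul_zero]⟩
    | add a b _ _ iha ihb =>
      intro c
      obtain ⟨a', ha', ha''⟩ := iha c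
      obtain ⟨b', hb', hb''⟩ := ihb c
      exact ⟨a' + b', Submodule.add_mem _ ha' hb', by rw [map_add, ha'', hb'', smul_add]⟩
    | smul d a _ iha =>
      intro c
      obtain ⟨a', ha', ha''⟩ := iha (c * d)
      exact ⟨a', ha', by rw [ha'', mul_smul]⟩
  -- Artin–Schreier on `U₁`
  have hAS : ∀ z ∈ U₁, ∀ c : K, ∃ v ∈ U₁, Φ v - v = c • z := by
    intro z hz
    induction hz using Submodule.span_induction with
    | mem x hx =>
      intro c
      have hx' : Φ x = x := hx
      obtain ⟨a, ha⟩ := exists_artinSchreier p c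
      refine ⟨a • x, Submodule.smul_mem _ _ (Submodule.subset_span hx), ?_⟩
      rw [map_smul_pow, hx', ← sub_smul, ha]
    | zero => intro c; exact ⟨0, Submodule.zero_mem _, by rw [map_zero, smul_zero, sub_zero]⟩
    | add a b _ _ iha ihb =>
      intro c
      obtain ⟨a', ha', ha''⟩ := iha c
      obtain ⟨b', hb', hb''⟩ := ihb c
      refine ⟨a' + b', Submodule.add_mem _ ha' hb', ?_⟩
      rw [map_add, smul_add, ← ha'', ← hb'']
      abel
    | smul d a _ iha =>
      intro c
      obtain ⟨a', ha', ha''⟩ := iha (c * d)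
      exact ⟨a', ha', by rw [ha'', mul_smul]⟩
  -- the induced map on the quotient
  have hle : U₁ ≤ U₁.comap Φ := fun z hz => hmaps z hz
  set Ψ : (U ⧸ U₁) →ₛₗ[frobenius K p] (U ⧸ U₁) := U₁.mapQ U₁ Φ hle with hΨ
  have hΨmk : ∀ x : U, Ψ (U₁.mkQ x) = U₁.mkQ (Φ x) := fun x => rfl
  have hΨinj : Function.Injective Ψ := by
    rw [injective_iff_map_eq_zero]
    intro xb hxb
    obtain ⟨x, rfl⟩ := U₁.mkQ_surjective xb
    rw [hΨmk, Submodule.mkQ_apply, Submodule.Quotient.mk_eq_zero] at hxb
    obtain ⟨z', hz', hz''⟩ := hsurj _ hxb 1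
    rw [one_smul] at hz''
    have : z' = x := hinj hz''
    rw [Submodule.mkQ_apply, Submodule.Quotient.mk_eq_zero, ← this]
    exact hz'
  have : Nontrivial (U ⧸ U₁) := Submodule.Quotient.nontrivial_iff.mpr hne
  obtain ⟨xb, hxb0, hxbfix⟩ := exists_fixed_ne_zero p Ψ hΨinj
  obtain ⟨x, rfl⟩ := U₁.mkQ_surjective xb
  have hxU : x ∉ U₁ := by
    intro hx
    apply hxb0
    rw [Submodule.mkQ_apply, Submodule.Quotient.mk_eq_zero]
    exact hx
  have hdiff : Φ x - x ∈ U₁ := by
    rw [hΨmk, ← sub_eq_zero, ← map_sub, Submodule.mkQ_apply, Submodule.Quotient.mk_eq_zero] at hxbfix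
    exact hxbfix
  obtain ⟨v, hv, hv'⟩ := hAS _ hdiff 1
  rw [one_smul] at hv'
  have hfix : Φ (x - v) = x - v := by
    rw [map_sub]
    have : Φ x - Φ v - (x - v) = 0 := by
      have h1 : Φ x - Φ v - (x - v) = (Φ x - x) - (Φ v - v) := by abel
      rw [h1, hv', sub_self]
    exact sub_eq_zero.mp this
  apply hxU
  have h1 : x - v ∈ U₁ := Submodule.subset_span hfix
  have h2 : x = (x - v) + v := by abel
  rw [h2]
  exact Submodule.add_mem _ h1 hv

/-- **Lang's theorem** (linear-algebra form): a basis of fixed vectors. -/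
theorem exists_basis_fixed [FiniteDimensional K U]
    (Φ : U →ₛₗ[frobenius K p] U) (hinj : Function.Injective Φ) :
    ∃ (r : ℕ) (w : Module.Basis (Fin r) K U), ∀ j, Φ (w j) = w j := by
  classical
  have hspan := span_fixed_eq_top p Φ hinj
  obtain ⟨b, hbs, hbspan, hbli⟩ := exists_linearIndependent K {x : U | Φ x = x}
  rw [hspan] at hbspan
  have htop : ⊤ ≤ Submodule.span K (Set.range (fun x : b => (x : U))) := by
    rw [Subtype.range_coe_subtype, Set.ofPred_mem_eq, hbspan]
  set B : Module.Basis b K U := Module.Basis.mk hbli htop with hB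
  have : Finite b := Module.Finite.finite_basis B
  obtain ⟨r, ⟨e⟩⟩ := Finite.exists_equiv_fin b
  refine ⟨r, B.reindex e, fun j => ?_⟩
  rw [Module.Basis.reindex_apply, hB, Module.Basis.mk_apply]
  exact hbs (e.symm j).2

end Groth.Agent.Lib.Helper63.LangFixed
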