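import Mathlib
import Groth.Agent.Lib.Helper63.LangFixed

/-!
# Trace of `φ^f` and fixed points of the `p`-linear extension (helper63)

Supporting lemmas for S8618.
-/

namespace Groth.Agent.Lib.Helper63.LangTrace

open TensorProduct

section Basic

variable {p : ℕ} [Fact p.Prime] {k : Type*} [Field k] [CharP k p]
  {K : Type*} [Field K] [Algebra k K]
  {V : Type*} [AddCommGroup V] [Module k V]

/-- Semilinearity of `φK`. -/
theorem phiK_smul (φ : V →ₛₗ[frobenius k p] V) (φK : K ⊗[k] V →+ K ⊗[k] V)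
    (hφK : ∀ (μ : K) (v : V), φK (μ ⊗ₜ[k] v) = (μ ^ p) ⊗ₜ[k] φ v) (c : K) (y : K ⊗[k] V) :
    φK (c • y) = c ^ p • φK y := by
  induction y using TensorProduct.induction_on with
  | zero => simp
  | tmul μ v => rw [TensorProduct.smul_tmul', hφK, hφK, TensorProduct.smul_tmul', smul_eq_mul,
      smul_eq_mul, mul_pow]
  | add a b ha hb => rw [smul_add, map_add, ha, hb, map_add, smul_add]

/-- `φK` commutes with `F_K`. -/
theorem phiK_comm (f : ℕ) (φ : V →ₛₗ[frobenius k p] V) (F : V →ₗ[k] V)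
    (hF : ∀ x, F x = (⇑φ)^[f] x) (φK : K ⊗[k] V →+ K ⊗[k] V)
    (hφK : ∀ (μ : K) (v : V), φK (μ ⊗ₜ[k] v) = (μ ^ p) ⊗ₜ[k] φ v) (y : K ⊗[k] V) :
    φK (F.baseChange K y) = F.baseChange K (φK y) := by
  induction y using TensorProduct.induction_on with
  | zero => simp
  | tmul μ v =>
    rw [LinearMap.baseChange_tmul, hφK, hφK, LinearMap.baseChange_tmul, hF, hF,
      ← Function.iterate_succ_apply' (⇑φ) f v, Function.iterate_succ_apply]
  | add a b ha hb => simp only [map_add, ha, hb]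

theorem phiK_comm_pow (f : ℕ) (φ : V →ₛₗ[frobenius k p] V) (F : V →ₗ[k] V)
    (hF : ∀ x, F x = (⇑φ)^[f] x) (φK : K ⊗[k] V →+ K ⊗[k] V)
    (hφK : ∀ (μ : K) (v : V), φK (μ ⊗ₜ[k] v) = (μ ^ p) ⊗ₜ[k] φ v) (n : ℕ) (y : K ⊗[k] V) :
    φK ((F.baseChange K ^ n) y) = (F.baseChange K ^ n) (φK y) := by
  induction n generalizing y with
  | zero => simp
  | succ n ih =>
    rw [pow_succ, Module.End.mul_apply, ih, phiK_comm f φ F hF φK hφK, Module.End.mul_apply]

/-- Iterates of `φK` on pure tensors. -/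
theorem phiK_iterate_tmul (φ : V →ₛₗ[frobenius k p] V) (φK : K ⊗[k] V →+ K ⊗[k] V)
    (hφK : ∀ (μ : K) (v : V), φK (μ ⊗ₜ[k] v) = (μ ^ p) ⊗ₜ[k] φ v) (n : ℕ) (μ : K) (v : V) :
    (⇑φK)^[n] (μ ⊗ₜ[k] v) = (μ ^ (p ^ n)) ⊗ₜ[k] (⇑φ)^[n] v := by
  induction n with
  | zero => simp
  | succ n ih =>
    rw [Function.iterate_succ_apply', ih, hφK, Function.iterate_succ_apply', ← pow_mul, pow_succ]

end Basic

section Sigma

variable (p : ℕ) [Fact p.Prime] {k : Type*} [Field k]
  {K : Type*} [Field K] [Algebra k K] [CharP K p]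
  {V : Type*} [AddCommGroup V] [Module k V] {ι : Type*} [Fintype ι]
  (b : Module.Basis ι k V) (f : ℕ)

/-- The coordinatewise `p^f`-power map on `K ⊗ V` with respect to the basis `1 ⊗ b i`. -/
noncomputable def sigma : K ⊗[k] V → K ⊗[k] V := fun y =>
  (b.baseChange K).equivFun.symm (fun i => ((b.baseChange K).equivFun y i) ^ (p ^ f))

omit [Fact p.Prime] [CharP K p] in
theorem equivFun_sigma (y : K ⊗[k] V) (i : ι) :
    (b.baseChange K).equivFun (sigma p b f y) i = ((b.baseChange K).equivFun y i) ^ (p ^ f) := by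
  rw [sigma, LinearEquiv.apply_symm_apply]

theorem sigma_add (y z : K ⊗[k] V) : sigma p b f (y + z) = sigma p b f y + sigma p b f z := by
  apply (b.baseChange K).equivFun.injective
  funext i
  rw [map_add, Pi.add_apply, equivFun_sigma, equivFun_sigma, equivFun_sigma, map_add, Pi.add_apply,
    add_pow_char_pow]

omit [CharP K p] in
theorem sigma_zero : sigma p b f (0 : K ⊗[k] V) = 0 := by
  apply (b.baseChange K).equivFun.injective
  funext i
  rw [equivFun_sigma, map_zero, Pi.zero_apply,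
    zero_pow (pow_ne_zero _ (Fact.out : p.Prime).ne_zero)]

omit [Fact p.Prime] [CharP K p] in
theorem sigma_tmul (hk : ∀ a : k, a ^ (p ^ f) = a) (μ : K) (v : V) :
    sigma p b f (μ ⊗ₜ[k] v) = (μ ^ (p ^ f)) ⊗ₜ[k] v := by
  apply (b.baseChange K).equivFun.injective
  funext i
  rw [equivFun_sigma, Module.Basis.equivFun_apply, Module.Basis.equivFun_apply,
    Module.Basis.baseChange_repr_tmul, Module.Basis.baseChange_repr_tmul, smul_pow, hk]

theorem sigma_injective : Function.Injective (sigma p b f : K ⊗[k] V → K ⊗[k] V) := by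
  intro y z h
  apply (b.baseChange K).equivFun.injective
  funext i
  have h1 := congrFun (congrArg (b.baseChange K).equivFun h) i
  rw [equivFun_sigma, equivFun_sigma] at h1
  have h2 : ((b.baseChange K).equivFun y i - (b.baseChange K).equivFun z i) ^ (p ^ f) = 0 := by
    rw [sub_pow_char_pow, h1, sub_self]
  exact sub_eq_zero.mp (pow_eq_zero_iff (pow_ne_zero _ (Fact.out : p.Prime).ne_zero) |>.mp h2)

theorem sigma_baseChange (hk : ∀ a : k, a ^ (p ^ f) = a) (F : V →ₗ[k] V) (y : K ⊗[k] V) :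
    sigma p b f (F.baseChange K y) = F.baseChange K (sigma p b f y) := by
  induction y using TensorProduct.induction_on with
  | zero => rw [map_zero, sigma_zero, map_zero]
  | tmul μ v =>
    rw [LinearMap.baseChange_tmul, sigma_tmul p b f hk, sigma_tmul p b f hk,
      LinearMap.baseChange_tmul]
  | add y z hy hz => rw [map_add, sigma_add, hy, hz, sigma_add, map_add]

theorem sigma_pow_baseChange (hk : ∀ a : k, a ^ (p ^ f) = a) (F : V →ₗ[k] V) (n : ℕ)
    (y : K ⊗[k] V) :
    sigma p b f ((F.baseChange K ^ n) y) = (F.baseChange K ^ n) (sigma p b f y) := by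
  induction n generalizing y with
  | zero => simp
  | succ n ih =>
    rw [pow_succ, Module.End.mul_apply, ih, sigma_baseChange p b f hk, Module.End.mul_apply]

variable [CharP k p]

/-- `φK^[f] = F_K ∘ σ`. -/
theorem phiK_iterate_eq (hk : ∀ a : k, a ^ (p ^ f) = a) (φ : V →ₛₗ[frobenius k p] V)
    (F : V →ₗ[k] V) (hF : ∀ x, F x = (⇑φ)^[f] x) (φK : K ⊗[k] V →+ K ⊗[k] V)
    (hφK : ∀ (μ : K) (v : V), φK (μ ⊗ₜ[k] v) = (μ ^ p) ⊗ₜ[k] φ v) (y : K ⊗[k] V) :
    (⇑φK)^[f] y = F.baseChange K (sigma p b f y) := by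
  induction y using TensorProduct.induction_on with
  | zero => rw [iterate_map_zero, sigma_zero, map_zero]
  | tmul μ v =>
    rw [phiK_iterate_tmul φ φK hφK, sigma_tmul p b f hk, LinearMap.baseChange_tmul, hF]
  | add y z hy hz => rw [iterate_map_add, hy, hz, sigma_add, map_add]

/-- `(φK^[f])^[n] = F_K^n ∘ σ^n`. -/
theorem phiK_iterate_iterate_eq (hk : ∀ a : k, a ^ (p ^ f) = a) (φ : V →ₛₗ[frobenius k p] V)
    (F : V →ₗ[k] V) (hF : ∀ x, F x = (⇑φ)^[f] x) (φK : K ⊗[k] V →+ K ⊗[k] V)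
    (hφK : ∀ (μ : K) (v : V), φK (μ ⊗ₜ[k] v) = (μ ^ p) ⊗ₜ[k] φ v) (n : ℕ) (y : K ⊗[k] V) :
    ((⇑φK)^[f])^[n] y = (F.baseChange K ^ n) ((sigma p b f)^[n] y) := by
  induction n with
  | zero => simp
  | succ n ih =>
    rw [Function.iterate_succ_apply', ih, phiK_iterate_eq p b f hk φ F hF φK hφK,
      sigma_pow_baseChange p b f hk, Function.iterate_succ_apply', pow_succ',
      Module.End.mul_apply]

end Sigma

section Fitting

variable {K : Type*} [Field K] {U : Type*} [AddCommGroup U] [Module K U]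

theorem maps_range_pow (g : U →ₗ[K] U) (N : ℕ) :
    ∀ x ∈ LinearMap.range (g ^ N), g x ∈ LinearMap.range (g ^ N) := by
  rintro x ⟨z, rfl⟩
  refine ⟨g z, ?_⟩
  rw [← Module.End.mul_apply, ← pow_succ, pow_succ', Module.End.mul_apply]

theorem maps_ker_pow (g : U →ₗ[K] U) (N : ℕ) :
    ∀ x ∈ LinearMap.ker (g ^ N), g x ∈ LinearMap.ker (g ^ N) := by
  intro x hx
  rw [LinearMap.mem_ker] at hx ⊢
  rw [← Module.End.mul_apply, ← pow_succ, pow_succ', Module.End.mul_apply, hx, map_zero]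

theorem isNilpotent_restrict_ker_pow (g : U →ₗ[K] U) (N : ℕ)
    (h : ∀ x ∈ LinearMap.ker (g ^ N), g x ∈ LinearMap.ker (g ^ N)) :
    IsNilpotent (g.restrict h) := by
  refine ⟨N, ?_⟩
  rw [Module.End.pow_restrict]
  ext ⟨x, hx⟩
  have hx' : (g ^ N) x = 0 := LinearMap.mem_ker.mp hx
  simp [LinearMap.restrict_apply, hx']

theorem trace_eq_trace_restrict_range_pow [FiniteDimensional K U] (g : U →ₗ[K] U) (N : ℕ)
    (hc : IsCompl (LinearMap.ker (g ^ N)) (LinearMap.range (g ^ N))) :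
    LinearMap.trace K U g = LinearMap.trace K _ (g.restrict (maps_range_pow g N)) := by
  classical
  set Nb : Bool → Submodule K U :=
    fun b => bif b then LinearMap.ker (g ^ N) else LinearMap.range (g ^ N) with hNb
  have hint : DirectSum.IsInternal Nb :=
    (DirectSum.isInternal_submodule_iff_isCompl Nb (i := true) (j := false) (by decide)
      (by ext b; cases b <;> simp)).mpr hc
  have hf : ∀ b, Set.MapsTo g (Nb b) (Nb b) := by
    intro b
    cases b
    · exact maps_range_pow g N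
    · exact maps_ker_pow g N
  rw [LinearMap.trace_eq_sum_trace_restrict hint hf, Fintype.sum_bool]
  have hnil : IsNilpotent (g.restrict (hf true)) := isNilpotent_restrict_ker_pow g N (hf true)
  have h0 : LinearMap.trace K _ (g.restrict (hf true)) = 0 :=
    (LinearMap.isNilpotent_trace_of_isNilpotent hnil).eq_zero
  rw [h0, zero_add]
  rfl

end Fitting

section Main

variable {p : ℕ} [Fact p.Prime] {k : Type*} [Field k] [Fintype k] [CharP k p]
  {K : Type*} [Field K] [Algebra k K] [IsAlgClosed K]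
  {V : Type*} [AddCommGroup V] [Module k V] [FiniteDimensional k V]

theorem exists_fixed_basis (f : ℕ) (hq : Fintype.card k = p ^ f)
    (φ : V →ₛₗ[frobenius k p] V) (F : V →ₗ[k] V) (hF : ∀ x, F x = (⇑φ)^[f] x)
    (φK : K ⊗[k] V →+ K ⊗[k] V)
    (hφK : ∀ (μ : K) (v : V), φK (μ ⊗ₜ[k] v) = (μ ^ p) ⊗ₜ[k] φ v) :
    ∃ (N : ℕ) (_ : IsCompl (LinearMap.ker (F.baseChange K ^ N))
        (LinearMap.range (F.baseChange K ^ N)))
      (r : ℕ) (w : Module.Basis (Fin r) K ↥(LinearMap.range (F.baseChange K ^ N))),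
      (∀ j, φK (w j : K ⊗[k] V) = (w j : K ⊗[k] V)) ∧
      (∀ y, φK y = y → y ∈ LinearMap.range (F.baseChange K ^ N)) := by
  classical
  have : CharP K p := charP_of_injective_algebraMap (algebraMap k K).injective p
  have hk : ∀ a : k, a ^ (p ^ f) = a := fun a => by rw [← hq]; exact FiniteField.pow_card a
  have hf1 : 1 ≤ f := by
    by_contra h
    have h0 : f = 0 := by omega
    have := Fintype.one_lt_card (α := k)
    rw [hq, h0, pow_zero] at this
    exact lt_irrefl _ this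
  let b := Module.finBasis k V
  -- Fitting
  obtain ⟨N, hN, hN1⟩ := ((LinearMap.eventually_isCompl_ker_pow_range_pow
    (F.baseChange K)).and (Filter.eventually_ge_atTop 1)).exists
  refine ⟨N, hN, ?_⟩
  -- semilinear map
  let Φ : (K ⊗[k] V) →ₛₗ[frobenius K p] (K ⊗[k] V) :=
    { toFun := φK, map_add' := map_add φK, map_smul' := fun c y => by
        rw [phiK_smul φ φK hφK, frobenius_def] }
  have hΦ : ∀ y, Φ y = φK y := fun _ => rfl
  -- Φ preserves Us
  have hΦUs : ∀ y ∈ LinearMap.range (F.baseChange K ^ N),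
      Φ y ∈ LinearMap.range (F.baseChange K ^ N) := by
    rintro y ⟨z, rfl⟩
    exact ⟨φK z, (phiK_comm_pow f φ F hF φK hφK N z).symm⟩
  -- fixed vectors in Us
  have hfixUs : ∀ y, φK y = y → y ∈ LinearMap.range (F.baseChange K ^ N) := by
    intro y hy
    have h1 : ((⇑φK)^[f])^[N] y = y := Function.iterate_fixed (Function.iterate_fixed hy f) N
    rw [phiK_iterate_iterate_eq p b f hk φ F hF φK hφK] at h1
    exact ⟨_, h1⟩
  -- Φ injective on Us
  have hinj : ∀ y ∈ LinearMap.range (F.baseChange K ^ N), φK y = 0 → y = 0 := by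
    intro y hy h0
    have h1 : (⇑φK)^[f] y = 0 := by
      obtain ⟨f', rfl⟩ : ∃ f', f = f' + 1 := ⟨f - 1, by omega⟩
      rw [Function.iterate_succ_apply, h0, iterate_map_zero]
    rw [phiK_iterate_eq p b f hk φ F hF φK hφK, ← sigma_baseChange p b f hk] at h1
    have h2 : F.baseChange K y = 0 := sigma_injective p b f (h1.trans (sigma_zero p b f).symm)
    have h3 : y ∈ LinearMap.ker (F.baseChange K ^ N) := by
      rw [LinearMap.mem_ker]
      obtain ⟨N', rfl⟩ : ∃ N', N = N' + 1 := ⟨N - 1, by omega⟩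
      rw [pow_succ, Module.End.mul_apply, h2, map_zero]
    exact (Submodule.disjoint_def.mp hN.disjoint) y h3 hy
  let ΦU : ↥(LinearMap.range (F.baseChange K ^ N)) →ₛₗ[frobenius K p]
      ↥(LinearMap.range (F.baseChange K ^ N)) :=
    (Φ.domRestrict (LinearMap.range (F.baseChange K ^ N))).codRestrict
      (LinearMap.range (F.baseChange K ^ N)) (fun y => hΦUs y.1 y.2)
  have hΦU : ∀ y, ((ΦU y : ↥(LinearMap.range (F.baseChange K ^ N))) : K ⊗[k] V) = φK y :=
    fun _ => rfl
  have hΦUinj : Function.Injective ΦU := by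
    rw [injective_iff_map_eq_zero]
    intro y hy
    have h1 := congrArg Subtype.val hy
    rw [hΦU] at h1
    exact Subtype.ext (hinj y.1 y.2 h1)
  have hh := LangFixed.exists_basis_fixed (K := K) (U := ↥(LinearMap.range (F.baseChange K ^ N))) p ΦU
  obtain ⟨r, w, hw⟩ := hh hΦUinj
  refine ⟨r, w, fun j => ?_, hfixUs⟩
  rw [← hΦU, hw]

end Main

end Groth.Agent.Lib.Helper63.LangTrace
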