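import Mathlib

/-!
# Local bases from generating families (helper63)

For a finite projective module `P` over a commutative ring `A`, a prime `𝔫` of `A` and a generating
family `v : ι → P`, there are finitely many members of the family that form a basis of `P` after
inverting a single element `s ∉ 𝔫`, in the following uniform elementary sense:
`s • q` is a combination of them for every `q`, and every relation among them is killed by `s`.
-/

namespace Groth.Agent.Lib.Helper63.LocalBasis

open scoped BigOperators

universe u v w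

section

variable {A : Type u} [CommRing A] {P : Type v} [AddCommGroup P] [Module A P]

/-- Consequences of having a basis of the localized module at a submonoid, part (i). -/
theorem exists_smul_eq_sum (S : Submonoid A) {m : ℕ} (x : Fin m → P)
    (b : Module.Basis (Fin m) (Localization S) (LocalizedModule S P))
    (hb : ∀ i, b i = LocalizedModule.mkLinearMap S P (x i)) (g : P) :
    ∃ s ∈ S, ∃ c : Fin m → A, s • g = ∑ i, c i • x i := by
  classical
  set f := LocalizedModule.mkLinearMap S P with hf
  have h1 := b.sum_repr (f g)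
  obtain ⟨t, ht⟩ := IsLocalization.exist_integer_multiples S Finset.univ
    (fun i => b.repr (f g) i)
  choose c hc using fun i => ht i (Finset.mem_univ i)
  have h2 : f ((t : A) • g) = f (∑ i, c i • x i) := by
    rw [map_smul, ← h1, map_sum, Finset.smul_sum]
    apply Finset.sum_congr rfl
    intro i _
    rw [map_smul, ← hb i, ← algebraMap_smul (Localization S) (c i) (b i), hc i]
    rw [smul_assoc]
  obtain ⟨u, hu⟩ := (IsLocalizedModule.eq_iff_exists S f).mp h2
  refine ⟨(u : A) * (t : A), S.mul_mem u.2 t.2, fun i => (u : A) * c i, ?_⟩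
  rw [mul_smul]
  have : (u : A) • ((t : A) • g) = (u : A) • ∑ i, c i • x i := hu
  rw [this, Finset.smul_sum]
  apply Finset.sum_congr rfl
  intro i _
  rw [mul_smul]

/-- Consequences of having a basis of the localized module at a submonoid, part (ii). -/
theorem exists_mul_eq_zero (S : Submonoid A) {m : ℕ} (x : Fin m → P)
    (b : Module.Basis (Fin m) (Localization S) (LocalizedModule S P))
    (hb : ∀ i, b i = LocalizedModule.mkLinearMap S P (x i)) (c : Fin m → A)
    (hc : ∑ i, c i • x i = 0) (i : Fin m) : ∃ u ∈ S, u * c i = 0 := by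
  classical
  set f := LocalizedModule.mkLinearMap S P with hf
  have h1 : ∑ i, (algebraMap A (Localization S) (c i)) • b i = 0 := by
    have := congrArg f hc
    rw [map_sum, map_zero] at this
    rw [← this]
    apply Finset.sum_congr rfl
    intro i _
    rw [map_smul, ← hb i, algebraMap_smul]
  have h2 := Fintype.linearIndependent_iff.mp b.linearIndependent _ h1 i
  obtain ⟨u, hu⟩ := (IsLocalization.map_eq_zero_iff S (Localization S) (c i)).mp h2
  exact ⟨u, u.2, hu⟩

/-- Dual basis of a finite projective module. -/
theorem exists_dual_basis [Module.Finite A P] [Module.Projective A P] :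
    ∃ (k : ℕ) (g : Fin k → P) (lam : Fin k → (P →ₗ[A] A)), ∀ q : P, q = ∑ j, lam j q • g j := by
  classical
  obtain ⟨k, π, hπ⟩ := Module.Finite.exists_fin' A P
  obtain ⟨h, hh⟩ := Module.projective_lifting_property π LinearMap.id hπ
  refine ⟨k, fun j => π (fun j' => if j = j' then 1 else 0),
    fun j => (LinearMap.proj j).comp h, fun q => ?_⟩
  have h1 : π (h q) = q := LinearMap.congr_fun hh q
  conv_lhs => rw [← h1]
  rw [LinearMap.pi_apply_eq_sum_univ π (h q)]
  rfl

/-- The uniform local basis statement. -/
theorem local_basis [Module.Finite A P] [Module.Projective A P] (𝔫 : Ideal A) [𝔫.IsPrime]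
    {ι : Type w} (v : ι → P) (hv : Submodule.span A (Set.range v) = ⊤) :
    ∃ (m : ℕ) (a : Fin m → ι) (s : A), s ∉ 𝔫 ∧
      (∀ q : P, ∃ c : Fin m → A, s • q = ∑ i, c i • v (a i)) ∧
      (∀ c : Fin m → A, ∑ i, c i • v (a i) = 0 → ∀ i, s * c i = 0) := by
  classical
  set S := 𝔫.primeCompl with hS
  set f := LocalizedModule.mkLinearMap S P with hf
  have : Module.FinitePresentation (Localization S) (LocalizedModule S P) :=
    Module.finitePresentation_of_projective _ _
  have hv' : Submodule.span (Localization S) (Set.range (f ∘ v)) = ⊤ := by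
    rw [Set.range_comp]
    exact span_eq_top_of_isLocalizedModule (Localization S) S f hv
  have : IsLocalRing (Localization S) := Localization.AtPrime.isLocalRing 𝔫
  obtain ⟨κ, a0, b0, hb0⟩ := Module.exists_basis_of_span_of_flat (f ∘ v) hv'
  have : Finite κ := Module.Finite.finite_basis b0
  obtain ⟨m, ⟨e⟩⟩ := Finite.exists_equiv_fin κ
  set b := b0.reindex e with hbdef
  set a : Fin m → ι := a0 ∘ e.symm with hadef
  have hb : ∀ i, b i = f (v (a i)) := by
    intro i
    rw [hbdef, Module.Basis.reindex_apply, hb0]
    rfl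
  -- dual basis
  obtain ⟨k, g, lam, hlam⟩ := exists_dual_basis (A := A) (P := P)
  -- express generators
  choose sj hsj cj hcj using fun j => exists_smul_eq_sum S (fun i => v (a i)) b hb (g j)
  set s1 : A := ∏ j, sj j with hs1
  have hs1S : s1 ∈ S := Submonoid.prod_mem _ fun j _ => hsj j
  set amat : Fin k → Fin m → A := fun j i => (∏ j' ∈ Finset.univ.erase j, sj j') * cj j i
    with hamat
  have hgen : ∀ j, s1 • g j = ∑ i, amat j i • v (a i) := by
    intro j
    rw [hs1, ← Finset.prod_erase_mul _ _ (Finset.mem_univ j), mul_smul, hcj j, Finset.smul_sum]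
    apply Finset.sum_congr rfl
    intro i _
    rw [hamat, mul_smul]
  set Ψ : P → Fin m → A := fun q i => ∑ j, lam j q * amat j i with hΨ
  have hΦΨ : ∀ q, ∑ i, Ψ q i • v (a i) = s1 • q := by
    intro q
    conv_rhs => rw [hlam q]
    rw [Finset.smul_sum]
    simp only [hΨ, Finset.sum_smul]
    rw [Finset.sum_comm]
    apply Finset.sum_congr rfl
    intro j _
    rw [smul_comm, hgen j, Finset.smul_sum]
    apply Finset.sum_congr rfl
    intro i _
    rw [mul_smul]
  -- the defect vectors
  set z : Fin m → Fin m → A := fun i0 i => Ψ (v (a i0)) i - s1 * (if i0 = i then 1 else 0) with hz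
  have hΦz : ∀ i0, ∑ i, z i0 i • v (a i) = 0 := by
    intro i0
    simp only [hz, sub_smul, Finset.sum_sub_distrib]
    rw [hΦΨ]
    simp [mul_smul]
  choose u hu huz using fun i0 i => exists_mul_eq_zero S (fun i => v (a i)) b hb (z i0) (hΦz i0) i
  set s2 : A := ∏ i0, ∏ i, u i0 i with hs2
  have hs2S : s2 ∈ S := Submonoid.prod_mem _ fun i0 _ => Submonoid.prod_mem _ fun i _ => hu i0 i
  have hs2z : ∀ i0 i, s2 * z i0 i = 0 := by
    intro i0 i
    have hd : u i0 i ∣ s2 :=
      (Finset.dvd_prod_of_mem _ (Finset.mem_univ i)).trans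
        (Finset.dvd_prod_of_mem (fun i0 => ∏ i, u i0 i) (Finset.mem_univ i0))
    obtain ⟨t, ht⟩ := hd
    rw [ht, mul_right_comm, huz, zero_mul]
  refine ⟨m, a, s2 * s1, ?_, ?_, ?_⟩
  · exact S.mul_mem hs2S hs1S
  · intro q
    refine ⟨fun i => s2 * Ψ q i, ?_⟩
    rw [mul_smul, ← hΦΨ q, Finset.smul_sum]
    apply Finset.sum_congr rfl
    intro i _
    rw [mul_smul]
  · intro c hc i
    have h1 : Ψ (∑ i0, c i0 • v (a i0)) i = ∑ i0, c i0 * Ψ (v (a i0)) i := by
      simp only [hΨ, map_sum, map_smul, smul_eq_mul, Finset.mul_sum, Finset.sum_mul]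
      rw [Finset.sum_comm]
      apply Finset.sum_congr rfl
      intro i0 _
      apply Finset.sum_congr rfl
      intro j _
      ring
    have h0 : Ψ (∑ i0, c i0 • v (a i0)) i = 0 := by
      rw [hc]
      simp [hΨ]
    rw [h0] at h1
    have h2 : ∀ i0, Ψ (v (a i0)) i = z i0 i + s1 * (if i0 = i then 1 else 0) := by
      intro i0
      simp [hz]
    have h3 : (0 : A) = ∑ i0, c i0 * z i0 i + s1 * c i := by
      rw [h1]
      simp only [h2, mul_add, Finset.sum_add_distrib]
      congr 1
      simp [mul_comm, mul_left_comm]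
    have h4 : s2 * (∑ i0, c i0 * z i0 i) = 0 := by
      rw [Finset.mul_sum]
      apply Finset.sum_eq_zero
      intro i0 _
      rw [mul_left_comm, hs2z, mul_zero]
    have h5 := congrArg (fun t => s2 * t) h3
    simp only [mul_zero, mul_add, h4, zero_add] at h5
    rw [mul_assoc]
    exact h5.symm

end

end Groth.Agent.Lib.Helper63.LocalBasis
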