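import Mathlib
import Groth.Agent.Lib.Helper63.LocalBasis

/-!
# Local bases with dual functionals (helper63)

Refinement of `LocalBasis.local_basis`: besides the members `v (a i)` of the generating family that
become a basis after inverting `s ∉ 𝔫`, we produce functionals `φ i : P →ₗ[A] A` which are dual to
them up to `s`, and record that their number is the rank of `P` at `𝔫`.
-/

namespace Groth.Agent.Lib.Helper63.LocalBasis

open scoped BigOperators

universe u v w

variable {A : Type u} [CommRing A] {P : Type v} [AddCommGroup P] [Module A P]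

theorem local_basis_fun [Module.Finite A P] [Module.Projective A P] (𝔫 : Ideal A) [𝔫.IsPrime]
    {ι : Type w} (v : ι → P) (hv : Submodule.span A (Set.range v) = ⊤) :
    ∃ (m : ℕ) (a : Fin m → ι) (s : A) (φ : Fin m → (P →ₗ[A] A)), s ∉ 𝔫 ∧
      m = Module.finrank (Localization.AtPrime 𝔫) (LocalizedModule 𝔫.primeCompl P) ∧
      (∀ i j, φ i (v (a j)) = if i = j then s else 0) ∧
      (∀ q : P, s • q = ∑ i, φ i q • v (a i)) := by
  classical
  set S := 𝔫.primeCompl with hS
  set f := LocalizedModule.mkLinearMap S P with hf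
  have : Module.FinitePresentation (Localization S) (LocalizedModule S P) :=
    Module.finitePresentation_of_projective _ _
  have hv' : Submodule.span (Localization S) (Set.range (f ∘ v)) = ⊤ := by
    rw [Set.range_comp]
    exact span_eq_top_of_isLocalizedModule (Localization S) S f hv
  have : IsLocalRing (Localization S) := Localization.AtPrime.isLocalRing 𝔫
  obtain ⟨κ, a0, b0, hb0⟩ := Module.exists_basis_of_span_of_flat (f ∘ v) hv'
  have : Finite κ := Module.Finite.finite_basis b0
  obtain ⟨m, ⟨e⟩⟩ := Finite.exists_equiv_fin κ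
  set b := b0.reindex e with hbdef
  set a : Fin m → ι := a0 ∘ e.symm with hadef
  have hb : ∀ i, b i = f (v (a i)) := by
    intro i
    rw [hbdef, Module.Basis.reindex_apply, hb0]
    rfl
  have hm : m = Module.finrank (Localization.AtPrime 𝔫) (LocalizedModule 𝔫.primeCompl P) := by
    have := Module.finrank_eq_card_basis b
    rw [Fintype.card_fin] at this
    exact this.symm
  -- dual basis
  obtain ⟨k, g, lam, hlam⟩ := exists_dual_basis (A := A) (P := P)
  -- express generators
  choose sj hsj cj hcj using fun j => exists_smul_eq_sum S (fun i => v (a i)) b hb (g j)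
  set s1 : A := ∏ j, sj j with hs1
  have hs1S : s1 ∈ S := Submonoid.prod_mem _ fun j _ => hsj j
  set amat : Fin k → Fin m → A := fun j i => (∏ j' ∈ Finset.univ.erase j, sj j') * cj j i
    with hamat
  have hgen : ∀ j, s1 • g j = ∑ i, amat j i • v (a i) := by
    intro j
    rw [hs1, ← Finset.prod_erase_mul _ _ (Finset.mem_univ j), mul_smul, hcj j, Finset.smul_sum]
    apply Finset.sum_congr rfl
    intro i _
    rw [hamat, mul_smul]
  set Ψ : Fin m → (P →ₗ[A] A) := fun i => ∑ j, amat j i • lam j with hΨ
  have hΨapp : ∀ q i, Ψ i q = ∑ j, lam j q * amat j i := by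
    intro q i
    simp only [hΨ, LinearMap.sum_apply, LinearMap.smul_apply, smul_eq_mul]
    apply Finset.sum_congr rfl
    intro j _
    ring
  have hΦΨ : ∀ q, ∑ i, Ψ i q • v (a i) = s1 • q := by
    intro q
    conv_rhs => rw [hlam q]
    rw [Finset.smul_sum]
    simp only [hΨapp, Finset.sum_smul]
    rw [Finset.sum_comm]
    apply Finset.sum_congr rfl
    intro j _
    rw [smul_comm, hgen j, Finset.smul_sum]
    apply Finset.sum_congr rfl
    intro i _
    rw [mul_smul]
  -- the defect vectors
  set z : Fin m → Fin m → A := fun i0 i => Ψ i (v (a i0)) - s1 * (if i0 = i then 1 else 0) with hz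
  have hΦz : ∀ i0, ∑ i, z i0 i • v (a i) = 0 := by
    intro i0
    simp only [hz, sub_smul, Finset.sum_sub_distrib]
    rw [hΦΨ]
    simp
  choose u hu huz using fun i0 i => exists_mul_eq_zero S (fun i => v (a i)) b hb (z i0) (hΦz i0) i
  set s2 : A := ∏ i0, ∏ i, u i0 i with hs2
  have hs2S : s2 ∈ S := Submonoid.prod_mem _ fun i0 _ => Submonoid.prod_mem _ fun i _ => hu i0 i
  have hs2z : ∀ i0 i, s2 * z i0 i = 0 := by
    intro i0 i
    have hd : u i0 i ∣ s2 :=
      (Finset.dvd_prod_of_mem _ (Finset.mem_univ i)).trans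
        (Finset.dvd_prod_of_mem (fun i0 => ∏ i, u i0 i) (Finset.mem_univ i0))
    obtain ⟨t, ht⟩ := hd
    rw [ht, mul_right_comm, huz, zero_mul]
  refine ⟨m, a, s2 * s1, fun i => s2 • Ψ i, S.mul_mem hs2S hs1S, hm, ?_, ?_⟩
  · intro i j
    have h2 : Ψ i (v (a j)) = z j i + s1 * (if j = i then 1 else 0) := by
      simp [hz]
    rw [LinearMap.smul_apply, smul_eq_mul, h2, mul_add, hs2z, zero_add]
    by_cases hij : i = j
    · subst hij
      simp
    · have hji : ¬ j = i := fun h => hij h.symm
      simp [hij, hji]
  · intro q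
    rw [mul_smul, ← hΦΨ q, Finset.smul_sum]
    apply Finset.sum_congr rfl
    intro i _
    rw [LinearMap.smul_apply, smul_eq_mul, mul_smul]

end Groth.Agent.Lib.Helper63.LocalBasis
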