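import Mathlib
import Groth.Agent.Lib.Helper63.WeierSing2

/-!
# Ideals of `k[[x,y]]` containing `xy` (helper63)

Coefficient characterisations of the ideals `(xy, x^a, y^b)` and `(xy, x^a + α y^b)` and the
dimensions of their quotients.
-/

set_option autoImplicit false
set_option linter.unusedSectionVars false

namespace Groth.Agent.Lib.Helper63.NodeIdeal

open MvPowerSeries Groth.Agent.Lib.Helper63.WeierSing2

universe u

variable {k : Type u} [Field k]

lemma eq_mon (d : Fin 2 →₀ ℕ) : d = mon (d 0) (d 1) := by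
  ext i
  fin_cases i
  · simp [mon]
  · simp [mon]

lemma coeff_X0_mul (i j : ℕ) (g : MvPowerSeries (Fin 2) k) :
    coeff (mon i j) (X 0 * g) = if 1 ≤ i then coeff (mon (i - 1) j) g else 0 := by
  have := coeff_X0_pow_mul i j 1 g
  rwa [pow_one] at this

lemma coeff_X1_mul (i j : ℕ) (g : MvPowerSeries (Fin 2) k) :
    coeff (mon i j) (X 1 * g) = if 1 ≤ j then coeff (mon i (j - 1)) g else 0 := by
  have := coeff_X1_pow_mul i j 1 g
  rwa [pow_one] at this

lemma coeff_X0_pow (i j a : ℕ) :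
    coeff (mon i j) ((X 0 : MvPowerSeries (Fin 2) k) ^ a) = if i = a ∧ j = 0 then 1 else 0 := by
  classical
  rw [X0_pow_eq, coeff_monomial]
  by_cases h : i = a ∧ j = 0
  · rw [if_pos h, if_pos ((mon_inj _ _ _ _).mpr h)]
  · rw [if_neg h, if_neg (fun h' => h ((mon_inj _ _ _ _).mp h'))]

lemma coeff_X1_pow (i j b : ℕ) :
    coeff (mon i j) ((X 1 : MvPowerSeries (Fin 2) k) ^ b) = if i = 0 ∧ j = b then 1 else 0 := by
  classical
  rw [X1_pow_eq, coeff_monomial]
  by_cases h : i = 0 ∧ j = b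
  · rw [if_pos h, if_pos ((mon_inj _ _ _ _).mpr h)]
  · rw [if_neg h, if_neg (fun h' => h ((mon_inj _ _ _ _).mp h'))]

/-- the ideal `(xy, x^a, y^b)` -/
noncomputable def I (k : Type u) [Field k] (a b : ℕ) : Ideal (MvPowerSeries (Fin 2) k) :=
  Ideal.span {X 0 * X 1, X 0 ^ a, X 1 ^ b}

lemma xy_mem_I (a b : ℕ) : (X 0 * X 1 : MvPowerSeries (Fin 2) k) ∈ I k a b :=
  Ideal.subset_span (by simp)

lemma xa_mem_I (a b : ℕ) : (X 0 ^ a : MvPowerSeries (Fin 2) k) ∈ I k a b :=
  Ideal.subset_span (by simp)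

lemma yb_mem_I (a b : ℕ) : (X 1 ^ b : MvPowerSeries (Fin 2) k) ∈ I k a b :=
  Ideal.subset_span (by simp)

theorem mem_I_iff (a b : ℕ) (ha : 1 ≤ a) (hb : 1 ≤ b) (f : MvPowerSeries (Fin 2) k) :
    f ∈ I k a b ↔
      (∀ i < a, coeff (mon i 0) f = 0) ∧ (∀ j < b, coeff (mon 0 j) f = 0) := by
  constructor
  · intro hf
    rw [I, Ideal.mem_span_insert] at hf
    obtain ⟨c1, z, hz, rfl⟩ := hf
    rw [Ideal.mem_span_pair] at hz
    obtain ⟨c2, c3, rfl⟩ := hz
    have e1 : c1 * (X 0 * X 1) = X 0 * (X 1 * c1) := by ring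
    have e2 : c2 * X 0 ^ a = X 0 ^ a * c2 := by ring
    have e3 : c3 * X 1 ^ b = X 1 ^ b * c3 := by ring
    rw [e1, e2, e3]
    constructor
    · intro i hi
      rw [map_add, map_add, coeff_X0_mul, coeff_X0_pow_mul, coeff_X1_pow_mul,
        if_neg (by omega : ¬ a ≤ i), if_neg (by omega : ¬ b ≤ 0)]
      by_cases h1 : 1 ≤ i
      · rw [if_pos h1, coeff_X1_mul, if_neg (by omega)]; simp
      · rw [if_neg h1]; simp
    · intro j hj
      rw [map_add, map_add, coeff_X0_mul, coeff_X0_pow_mul, coeff_X1_pow_mul,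
        if_neg (by omega : ¬ a ≤ 0), if_neg (by omega : ¬ b ≤ j), if_neg (by omega : ¬ 1 ≤ 0)]
      simp
  · rintro ⟨hx, hy⟩
    obtain ⟨g, hg⟩ : ∃ g : MvPowerSeries (Fin 2) k, g = fun d => f (d + mon 1 1) := ⟨_, rfl⟩
    obtain ⟨U, hU⟩ : ∃ U : MvPowerSeries (Fin 2) k,
        U = fun d => if d 1 = 0 then f (d + mon a 0) else 0 := ⟨_, rfl⟩
    obtain ⟨V, hV⟩ : ∃ V : MvPowerSeries (Fin 2) k,
        V = fun d => if d 0 = 0 then f (d + mon 0 b) else 0 := ⟨_, rfl⟩
    have hgc : ∀ i j, coeff (mon i j) g = coeff (mon (i + 1) (j + 1)) f := by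
      intro i j
      rw [hg]
      show f (mon i j + mon 1 1) = f (mon (i + 1) (j + 1))
      rw [mon_add]
    have hUc : ∀ i j, coeff (mon i j) U = if j = 0 then coeff (mon (i + a) j) f else 0 := by
      intro i j
      rw [hU]
      show (if (mon i j) 1 = 0 then f (mon i j + mon a 0) else 0) = _
      rw [mon_apply_one, mon_add, add_zero]
      rfl
    have hVc : ∀ i j, coeff (mon i j) V = if i = 0 then coeff (mon i (j + b)) f else 0 := by
      intro i j
      rw [hV]
      show (if (mon i j) 0 = 0 then f (mon i j + mon 0 b) else 0) = _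
      rw [mon_apply_zero, mon_add, add_zero]
      rfl
    have key : f = X 0 * (X 1 * g) + X 0 ^ a * U + X 1 ^ b * V := by
      ext d
      rw [eq_mon d]
      obtain ⟨i, hi⟩ : ∃ i, i = d 0 := ⟨_, rfl⟩
      obtain ⟨j, hj⟩ : ∃ j, j = d 1 := ⟨_, rfl⟩
      rw [← hi, ← hj]
      rw [map_add, map_add, coeff_X0_mul, coeff_X0_pow_mul, coeff_X1_pow_mul, hUc, hVc]
      by_cases hj0 : j = 0
      · subst hj0
        rw [if_neg (by omega : ¬ b ≤ 0), if_pos rfl]
        by_cases hia : a ≤ i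
        · rw [if_pos hia, if_pos (by omega : 1 ≤ i), coeff_X1_mul, if_neg (by omega),
            Nat.sub_add_cancel hia]
          simp
        · rw [if_neg hia, hx i (by omega)]
          by_cases h1 : 1 ≤ i
          · rw [if_pos h1, coeff_X1_mul, if_neg (by omega)]; simp
          · rw [if_neg h1]; simp
      · by_cases hi0 : i = 0
        · subst hi0
          rw [if_neg (by omega : ¬ 1 ≤ 0), if_neg (by omega : ¬ a ≤ 0), if_pos rfl]
          by_cases hjb : b ≤ j
          · rw [if_pos hjb, Nat.sub_add_cancel hjb]; simp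
          · rw [if_neg hjb, hy j (by omega)]; simp
        · rw [if_pos (by omega : 1 ≤ i), coeff_X1_mul, if_pos (by omega : 1 ≤ j), hgc,
            Nat.sub_add_cancel (by omega : 1 ≤ i), Nat.sub_add_cancel (by omega : 1 ≤ j),
            if_neg hj0]
          by_cases hia : a ≤ i
          · rw [if_pos hia]
            by_cases hjb : b ≤ j
            · rw [if_pos hjb, if_neg (by omega)]; simp
            · rw [if_neg hjb]; simp
          · rw [if_neg hia]
            by_cases hjb : b ≤ j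
            · rw [if_pos hjb, if_neg (by omega)]; simp
            · rw [if_neg hjb]; simp
    rw [key]
    refine Ideal.add_mem _ (Ideal.add_mem _ ?_ ?_) ?_
    · have : X 0 * (X 1 * g) = g * (X 0 * X 1) := by ring
      rw [this]
      exact Ideal.mul_mem_left _ _ (xy_mem_I a b)
    · exact Ideal.mul_mem_right _ _ (xa_mem_I a b)
    · exact Ideal.mul_mem_right _ _ (yb_mem_I a b)

/-- the ideal `(xy, x^a + α y^b)` -/
noncomputable def I2 (k : Type u) [Field k] (a b : ℕ) (α : k) : Ideal (MvPowerSeries (Fin 2) k) :=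
  Ideal.span {X 0 * X 1, X 0 ^ a + C α * X 1 ^ b}

lemma xy_mem_I2 (a b : ℕ) (α : k) : (X 0 * X 1 : MvPowerSeries (Fin 2) k) ∈ I2 k a b α :=
  Ideal.subset_span (by simp)

lemma g0_mem_I2 (a b : ℕ) (α : k) :
    (X 0 ^ a + C α * X 1 ^ b : MvPowerSeries (Fin 2) k) ∈ I2 k a b α :=
  Ideal.subset_span (by simp)

lemma I_le_I2 (a b : ℕ) (ha : 1 ≤ a) (hb : 1 ≤ b) (α : k) (hα : α ≠ 0) :
    I k (a + 1) (b + 1) ≤ I2 k a b α := by
  rw [I, Ideal.span_le]
  intro z hz
  simp only [Set.mem_insert_iff, Set.mem_singleton_iff] at hz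
  obtain ⟨a', rfl⟩ : ∃ a', a = a' + 1 := ⟨a - 1, by omega⟩
  obtain ⟨b', rfl⟩ : ∃ b', b = b' + 1 := ⟨b - 1, by omega⟩
  rcases hz with rfl | rfl | rfl
  · exact xy_mem_I2 _ _ α
  · have : (X 0 : MvPowerSeries (Fin 2) k) ^ (a' + 1 + 1) =
        X 0 * (X 0 ^ (a' + 1) + C α * X 1 ^ (b' + 1)) - (C α * X 1 ^ b') * (X 0 * X 1) := by
      ring
    rw [SetLike.mem_coe, this]
    exact Ideal.sub_mem _ (Ideal.mul_mem_left _ _ (g0_mem_I2 _ _ α))
      (Ideal.mul_mem_left _ _ (xy_mem_I2 _ _ α))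
  · have hc : (C α⁻¹ : MvPowerSeries (Fin 2) k) * C α = 1 := by
      rw [← map_mul, inv_mul_cancel₀ hα, map_one]
    have : (X 1 : MvPowerSeries (Fin 2) k) ^ (b' + 1 + 1) =
        (C α⁻¹ * X 1) * (X 0 ^ (a' + 1) + C α * X 1 ^ (b' + 1)) -
          (C α⁻¹ * X 0 ^ a') * (X 0 * X 1) := by
      have : (C α⁻¹ * X 1) * (X 0 ^ (a' + 1) + C α * X 1 ^ (b' + 1)) -
          (C α⁻¹ * X 0 ^ a') * (X 0 * X 1) =
          (C α⁻¹ * C α) * (X 1 : MvPowerSeries (Fin 2) k) ^ (b' + 1 + 1) := by ring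
      rw [this, hc, one_mul]
    rw [SetLike.mem_coe, this]
    exact Ideal.sub_mem _ (Ideal.mul_mem_left _ _ (g0_mem_I2 _ _ α))
      (Ideal.mul_mem_left _ _ (xy_mem_I2 _ _ α))

theorem mem_I2_iff (a b : ℕ) (ha : 1 ≤ a) (hb : 1 ≤ b) (α : k) (hα : α ≠ 0)
    (f : MvPowerSeries (Fin 2) k) :
    f ∈ I2 k a b α ↔
      (∀ i < a, coeff (mon i 0) f = 0) ∧ (∀ j < b, coeff (mon 0 j) f = 0) ∧
        coeff (mon 0 b) f = α * coeff (mon a 0) f := by
  constructor
  · intro hf
    rw [I2, Ideal.mem_span_pair] at hf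
    obtain ⟨c1, c2, rfl⟩ := hf
    have e1 : c1 * (X 0 * X 1) + c2 * (X 0 ^ a + C α * X 1 ^ b) =
        X 0 * (X 1 * c1) + X 0 ^ a * c2 + C α * (X 1 ^ b * c2) := by ring
    rw [e1]
    have hx : ∀ i, coeff (mon i 0) (X 0 * (X 1 * c1) + X 0 ^ a * c2 + C α * (X 1 ^ b * c2)) =
        if a ≤ i then coeff (mon (i - a) 0) c2 else 0 := by
      intro i
      rw [map_add, map_add, coeff_X0_mul, coeff_X0_pow_mul, coeff_C_mul, coeff_X1_pow_mul,
        if_neg (by omega : ¬ b ≤ 0)]
      by_cases h1 : 1 ≤ i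
      · rw [if_pos h1, coeff_X1_mul, if_neg (by omega)]; simp
      · rw [if_neg h1]; simp
    have hy : ∀ j, coeff (mon 0 j) (X 0 * (X 1 * c1) + X 0 ^ a * c2 + C α * (X 1 ^ b * c2)) =
        α * if b ≤ j then coeff (mon 0 (j - b)) c2 else 0 := by
      intro j
      rw [map_add, map_add, coeff_X0_mul, coeff_X0_pow_mul, coeff_C_mul, coeff_X1_pow_mul,
        if_neg (by omega : ¬ a ≤ 0), if_neg (by omega : ¬ 1 ≤ 0)]
      simp
    refine ⟨fun i hi => ?_, fun j hj => ?_, ?_⟩
    · rw [hx, if_neg (by omega)]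
    · rw [hy, if_neg (by omega), mul_zero]
    · rw [hx, hy, if_pos le_rfl, if_pos le_rfl, Nat.sub_self, Nat.sub_self]
  · rintro ⟨hx, hy, hxy⟩
    obtain ⟨c, hc⟩ : ∃ c, c = coeff (mon a 0) f := ⟨_, rfl⟩
    have h1 : f - C c * (X 0 ^ a + C α * X 1 ^ b) ∈ I k (a + 1) (b + 1) := by
      rw [mem_I_iff (a + 1) (b + 1) (by omega) (by omega)]
      constructor
      · intro i hi
        rw [map_sub, coeff_C_mul, map_add, coeff_C_mul, coeff_X0_pow, coeff_X1_pow,
          if_neg (by omega : ¬ (i = 0 ∧ 0 = b))]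
        by_cases hia : i = a
        · rw [if_pos ⟨hia, rfl⟩, hia, ← hc]; ring
        · rw [if_neg (fun h => hia h.1), hx i (by omega)]; ring
      · intro j hj
        rw [map_sub, coeff_C_mul, map_add, coeff_C_mul, coeff_X0_pow, coeff_X1_pow,
          if_neg (by omega : ¬ (0 = a ∧ j = 0))]
        by_cases hjb : j = b
        · rw [if_pos ⟨rfl, hjb⟩, hjb, hxy, ← hc]; ring
        · rw [if_neg (fun h => hjb h.2), hy j (by omega)]; ring
    have h2 := I_le_I2 a b ha hb α hα h1
    have h3 : f = (f - C c * (X 0 ^ a + C α * X 1 ^ b)) + C c * (X 0 ^ a + C α * X 1 ^ b) := by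
      ring
    rw [h3]
    exact Ideal.add_mem _ h2 (Ideal.mul_mem_left _ _ (g0_mem_I2 _ _ α))

/-- the linear map reading off the axis coefficients -/
noncomputable def Lmap (a c : ℕ) (t : Fin c → k) (ℓ : MvPowerSeries (Fin 2) k →ₗ[k] k) :
    MvPowerSeries (Fin 2) k →ₗ[k] (Fin a → k) × (Fin c → k) :=
  LinearMap.prod (LinearMap.pi fun i : Fin a => coeff (mon (i : ℕ) 0))
    (LinearMap.pi fun j : Fin c => coeff (mon 0 ((j : ℕ) + 1)) - t j • ℓ)

lemma Lmap_apply (a c : ℕ) (t : Fin c → k) (ℓ : MvPowerSeries (Fin 2) k →ₗ[k] k)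
    (f : MvPowerSeries (Fin 2) k) :
    Lmap a c t ℓ f = (fun i : Fin a => coeff (mon (i : ℕ) 0) f,
      fun j : Fin c => coeff (mon 0 ((j : ℕ) + 1)) f - t j * ℓ f) := rfl

theorem Lmap_surjective (a c : ℕ) (t : Fin c → k) (ℓ : MvPowerSeries (Fin 2) k →ₗ[k] k)
    (hℓ : ∀ f : MvPowerSeries (Fin 2) k, coeff (mon a 0) f = 0 → ℓ f = 0) :
    Function.Surjective (Lmap a c t ℓ) := by
  rintro ⟨u, v⟩
  obtain ⟨f, hf⟩ : ∃ f : MvPowerSeries (Fin 2) k, f = fun d =>
      if d 1 = 0 then (if h : d 0 < a then u ⟨d 0, h⟩ else 0)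
      else if d 0 = 0 then (if h : d 1 - 1 < c then v ⟨d 1 - 1, h⟩ else 0) else 0 := ⟨_, rfl⟩
  have hfx : ∀ i, coeff (mon i 0) f = if h : i < a then u ⟨i, h⟩ else 0 := by
    intro i
    rw [hf]
    show (if (mon i 0) 1 = 0 then (if h : (mon i 0) 0 < a then u ⟨(mon i 0) 0, h⟩ else 0)
      else if (mon i 0) 0 = 0 then
        (if h : (mon i 0) 1 - 1 < c then v ⟨(mon i 0) 1 - 1, h⟩ else 0) else 0) = _
    rw [if_pos (mon_apply_one i 0)]
    simp only [mon_apply_zero]
  have hfy : ∀ j, coeff (mon 0 (j + 1)) f = if h : j < c then v ⟨j, h⟩ else 0 := by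
    intro j
    rw [hf]
    show (if (mon 0 (j + 1)) 1 = 0 then
        (if h : (mon 0 (j + 1)) 0 < a then u ⟨(mon 0 (j + 1)) 0, h⟩ else 0)
      else if (mon 0 (j + 1)) 0 = 0 then
        (if h : (mon 0 (j + 1)) 1 - 1 < c then v ⟨(mon 0 (j + 1)) 1 - 1, h⟩ else 0) else 0) = _
    rw [if_neg (by rw [mon_apply_one]; omega), if_pos (mon_apply_zero 0 (j + 1))]
    simp only [mon_apply_one, Nat.add_sub_cancel]
  refine ⟨f, ?_⟩
  have hℓf : ℓ f = 0 := by
    apply hℓ
    rw [hfx, dif_neg (lt_irrefl a)]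
  rw [Lmap_apply, hℓf]
  refine Prod.ext ?_ ?_
  · funext i
    show coeff (mon (i : ℕ) 0) f = u i
    rw [hfx, dif_pos i.2]
  · funext j
    show coeff (mon 0 ((j : ℕ) + 1)) f - t j * 0 = v j
    rw [hfy, dif_pos j.2, mul_zero, sub_zero]

theorem finrank_quot (a c : ℕ) (t : Fin c → k) (ℓ : MvPowerSeries (Fin 2) k →ₗ[k] k)
    (hℓ : ∀ f : MvPowerSeries (Fin 2) k, coeff (mon a 0) f = 0 → ℓ f = 0)
    (J : Ideal (MvPowerSeries (Fin 2) k))
    (hJ : ∀ f, f ∈ J ↔ Lmap a c t ℓ f = 0) :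
    Module.finrank k (MvPowerSeries (Fin 2) k ⧸ J) = a + c := by
  have hker : J.restrictScalars k = LinearMap.ker (Lmap a c t ℓ) := by
    ext f
    rw [Submodule.restrictScalars_mem, LinearMap.mem_ker]
    exact hJ f
  have e1 : (MvPowerSeries (Fin 2) k ⧸ J) ≃ₗ[k] (MvPowerSeries (Fin 2) k ⧸ J.restrictScalars k) :=
    (Submodule.Quotient.restrictScalarsEquiv k J).symm
  have e2 : (MvPowerSeries (Fin 2) k ⧸ J.restrictScalars k) ≃ₗ[k]
      (MvPowerSeries (Fin 2) k ⧸ LinearMap.ker (Lmap a c t ℓ)) :=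
    Submodule.quotEquivOfEq _ _ hker
  have e3 := (Lmap a c t ℓ).quotKerEquivOfSurjective (Lmap_surjective a c t ℓ hℓ)
  rw [(e1.trans (e2.trans e3)).finrank_eq, Module.finrank_prod, Module.finrank_fin_fun,
    Module.finrank_fin_fun]

theorem finrank_I (a b : ℕ) (ha : 1 ≤ a) (hb : 1 ≤ b) :
    Module.finrank k (MvPowerSeries (Fin 2) k ⧸ I k a b) + 1 = a + b := by
  have h := finrank_quot (k := k) a (b - 1) 0 0 (fun _ _ => rfl) (I k a b) ?_
  · rw [h]; omega
  intro f
  rw [mem_I_iff a b ha hb, Lmap_apply, Prod.ext_iff]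
  constructor
  · rintro ⟨hx, hy⟩
    constructor
    · funext i
      exact hx i i.2
    · funext j
      show coeff (mon 0 ((j : ℕ) + 1)) f - (0 : Fin (b - 1) → k) j * (0 : _ →ₗ[k] k) f = 0
      rw [hy _ (by have := j.2; omega)]
      simp
  · rintro ⟨hx, hy⟩
    have hx' : ∀ i < a, coeff (mon i 0) f = 0 := fun i hi => congrFun hx ⟨i, hi⟩
    refine ⟨hx', fun j hj => ?_⟩
    rcases Nat.eq_zero_or_pos j with rfl | hj0
    · exact hx' 0 (by omega)
    · have h1 := congrFun hy ⟨j - 1, by omega⟩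
      have h2 : coeff (mon 0 (j - 1 + 1)) f - (0 : Fin (b - 1) → k) ⟨j - 1, by omega⟩ *
          (0 : _ →ₗ[k] k) f = 0 := h1
      rw [Nat.sub_add_cancel hj0] at h2
      simpa using h2

theorem finrank_I2 (a b : ℕ) (ha : 1 ≤ a) (hb : 1 ≤ b) (α : k) (hα : α ≠ 0) :
    Module.finrank k (MvPowerSeries (Fin 2) k ⧸ I2 k a b α) = a + b := by
  classical
  refine finrank_quot (k := k) a b (fun j => if (j : ℕ) + 1 = b then 1 else 0)
    (α • coeff (mon a 0)) ?_ (I2 k a b α) ?_
  · intro f hf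
    rw [LinearMap.smul_apply, hf, smul_zero]
  intro f
  rw [mem_I2_iff a b ha hb α hα, Lmap_apply, Prod.ext_iff]
  have hval : ∀ j : Fin b, (coeff (mon 0 ((j : ℕ) + 1)) f -
      (if (j : ℕ) + 1 = b then (1 : k) else 0) * (α • coeff (mon a 0)) f) =
      if (j : ℕ) + 1 = b then coeff (mon 0 b) f - α * coeff (mon a 0) f
      else coeff (mon 0 ((j : ℕ) + 1)) f := by
    intro j
    rw [LinearMap.smul_apply, smul_eq_mul]
    by_cases hj : (j : ℕ) + 1 = b
    · rw [if_pos hj, if_pos hj, hj, one_mul]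
    · rw [if_neg hj, if_neg hj, zero_mul, sub_zero]
  constructor
  · rintro ⟨hx, hy, hxy⟩
    constructor
    · funext i
      exact hx i i.2
    · funext j
      show (coeff (mon 0 ((j : ℕ) + 1)) f -
        (if (j : ℕ) + 1 = b then (1 : k) else 0) * (α • coeff (mon a 0)) f) = 0
      rw [hval]
      by_cases hj : (j : ℕ) + 1 = b
      · rw [if_pos hj, hxy, sub_self]
      · rw [if_neg hj]
        exact hy _ (by have := j.2; omega)
  · rintro ⟨hx, hy⟩
    have hx' : ∀ i < a, coeff (mon i 0) f = 0 := fun i hi => congrFun hx ⟨i, hi⟩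
    have hy' : ∀ j : Fin b, (if (j : ℕ) + 1 = b then coeff (mon 0 b) f - α * coeff (mon a 0) f
      else coeff (mon 0 ((j : ℕ) + 1)) f) = 0 := by
      intro j
      rw [← hval]
      exact congrFun hy j
    refine ⟨hx', fun j hj => ?_, ?_⟩
    · rcases Nat.eq_zero_or_pos j with rfl | hj0
      · exact hx' 0 (by omega)
      · have h1 := hy' ⟨j - 1, by omega⟩
        rw [if_neg (by show ¬ (j - 1 + 1 = b); omega)] at h1
        have h2 : j - 1 + 1 = j := Nat.sub_add_cancel hj0
        rw [show ((⟨j - 1, by omega⟩ : Fin b) : ℕ) + 1 = j from h2] at h1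
        exact h1
    · have h1 := hy' ⟨b - 1, by omega⟩
      rw [if_pos (by show b - 1 + 1 = b; omega)] at h1
      exact sub_eq_zero.mp h1

lemma mon_zero : mon 0 0 = 0 := by simp [mon]

lemma constantCoeff_eq (f : MvPowerSeries (Fin 2) k) : constantCoeff f = coeff (mon 0 0) f := by
  rw [mon_zero, coeff_zero_eq_constantCoeff_apply]

theorem exists_pow_mem (J : Ideal (MvPowerSeries (Fin 2) k))
    [Module.Finite k (MvPowerSeries (Fin 2) k ⧸ J)] (s : Fin 2) :
    ∃ N : ℕ, (X s : MvPowerSeries (Fin 2) k) ^ N ∈ J := by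
  have hint : IsIntegral k (Ideal.Quotient.mk J (X s)) := Algebra.IsIntegral.isIntegral _
  obtain ⟨p, hpm, hp⟩ := hint
  have hp0 : p ≠ 0 := hpm.ne_zero
  obtain ⟨q, hq, hnd⟩ := Polynomial.exists_eq_pow_rootMultiplicity_mul_and_not_dvd p hp0 0
  have h1 : Polynomial.aeval (X s : MvPowerSeries (Fin 2) k) p ∈ J := by
    rw [← Ideal.Quotient.eq_zero_iff_mem]
    have h := Polynomial.aeval_algHom_apply (Ideal.Quotient.mkₐ k J)
      (X s : MvPowerSeries (Fin 2) k) p
    rw [Ideal.Quotient.mkₐ_eq_mk] at h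
    rw [← h, Polynomial.aeval_def]
    exact hp
  have h2 : Polynomial.aeval (X s : MvPowerSeries (Fin 2) k) p =
      X s ^ (p.rootMultiplicity 0) * Polynomial.aeval (X s : MvPowerSeries (Fin 2) k) q := by
    conv_lhs => rw [hq]
    rw [map_mul, map_pow, map_sub, Polynomial.aeval_X, Polynomial.aeval_C, map_zero, sub_zero]
  have h3 : constantCoeff (Polynomial.aeval (X s : MvPowerSeries (Fin 2) k) q) = q.eval 0 := by
    rw [Polynomial.aeval_def, Polynomial.hom_eval₂, constantCoeff_X]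
    have : (constantCoeff : MvPowerSeries (Fin 2) k →+* k).comp
        (algebraMap k (MvPowerSeries (Fin 2) k)) = RingHom.id k :=
      RingHom.ext fun r => (constantCoeff_C r : constantCoeff (C r : MvPowerSeries (Fin 2) k) = r)
    rw [this, Polynomial.eval₂_id]
  have h4 : q.eval 0 ≠ 0 := by
    intro h0
    apply hnd
    rw [Polynomial.dvd_iff_isRoot]
    exact h0
  have hu : IsUnit (Polynomial.aeval (X s : MvPowerSeries (Fin 2) k) q) := by
    rw [MvPowerSeries.isUnit_iff_constantCoeff, h3, isUnit_iff_ne_zero]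
    exact h4
  refine ⟨p.rootMultiplicity 0, ?_⟩
  rw [h2] at h1
  exact (Ideal.mul_unit_mem_iff_mem J hu).mp h1

theorem axis_x (J : Ideal (MvPowerSeries (Fin 2) k)) (a b : ℕ) (ha : 1 ≤ a) (hb : 1 ≤ b)
    (hIJ : I k a b ≤ J)
    (hmin : ∀ m, (X 0 : MvPowerSeries (Fin 2) k) ^ m ∈ J → a ≤ m)
    (f : MvPowerSeries (Fin 2) k) (hf : f ∈ J) :
    ∀ i, i + 1 < a → coeff (mon i 0) f = 0 := by
  intro i
  induction i using Nat.strong_induction_on with
  | _ i ih =>
    intro hi
    by_contra hne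
    obtain ⟨U, hU⟩ : ∃ U : MvPowerSeries (Fin 2) k, U = fun d => f (d + mon i 0) := ⟨_, rfl⟩
    have hUc : ∀ i' j, coeff (mon i' j) U = coeff (mon (i' + i) j) f := by
      intro i' j
      rw [hU]
      show f (mon i' j + mon i 0) = _
      rw [mon_add, add_zero]
      rfl
    have hUu : IsUnit U := by
      rw [MvPowerSeries.isUnit_iff_constantCoeff, isUnit_iff_ne_zero, constantCoeff_eq, hUc,
        zero_add]
      exact hne
    have hmem : X 0 * f - X 0 ^ (i + 1) * U ∈ I k a b := by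
      rw [mem_I_iff a b ha hb]
      constructor
      · intro i' hi'
        rw [map_sub, coeff_X0_mul, coeff_X0_pow_mul, hUc]
        by_cases h1 : i + 1 ≤ i'
        · rw [if_pos h1, if_pos (by omega)]
          have : i' - (i + 1) + i = i' - 1 := by omega
          rw [this, sub_self]
        · rw [if_neg h1, sub_zero]
          by_cases h0 : 1 ≤ i'
          · rw [if_pos h0]
            exact ih (i' - 1) (by omega) (by omega)
          · rw [if_neg h0]
      · intro j hj
        rw [map_sub, coeff_X0_mul, coeff_X0_pow_mul, if_neg (by omega), if_neg (by omega),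
          sub_zero]
    have h3 : X 0 ^ (i + 1) * U ∈ J := by
      have : X 0 ^ (i + 1) * U = X 0 * f - (X 0 * f - X 0 ^ (i + 1) * U) := by ring
      rw [this]
      exact J.sub_mem (J.mul_mem_left _ hf) (hIJ hmem)
    have h4 : (X 0 : MvPowerSeries (Fin 2) k) ^ (i + 1) ∈ J :=
      (Ideal.mul_unit_mem_iff_mem J hUu).mp h3
    have := hmin _ h4
    omega

theorem axis_y (J : Ideal (MvPowerSeries (Fin 2) k)) (a b : ℕ) (ha : 1 ≤ a) (hb : 1 ≤ b)
    (hIJ : I k a b ≤ J)
    (hmin : ∀ m, (X 1 : MvPowerSeries (Fin 2) k) ^ m ∈ J → b ≤ m)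
    (f : MvPowerSeries (Fin 2) k) (hf : f ∈ J) :
    ∀ j, j + 1 < b → coeff (mon 0 j) f = 0 := by
  intro j
  induction j using Nat.strong_induction_on with
  | _ j ih =>
    intro hj
    by_contra hne
    obtain ⟨U, hU⟩ : ∃ U : MvPowerSeries (Fin 2) k, U = fun d => f (d + mon 0 j) := ⟨_, rfl⟩
    have hUc : ∀ i j', coeff (mon i j') U = coeff (mon i (j' + j)) f := by
      intro i j'
      rw [hU]
      show f (mon i j' + mon 0 j) = _
      rw [mon_add, add_zero]
      rfl
    have hUu : IsUnit U := by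
      rw [MvPowerSeries.isUnit_iff_constantCoeff, isUnit_iff_ne_zero, constantCoeff_eq, hUc,
        zero_add]
      exact hne
    have hmem : X 1 * f - X 1 ^ (j + 1) * U ∈ I k a b := by
      rw [mem_I_iff a b ha hb]
      constructor
      · intro i hi
        rw [map_sub, coeff_X1_mul, coeff_X1_pow_mul, if_neg (by omega), if_neg (by omega),
          sub_zero]
      · intro j' hj'
        rw [map_sub, coeff_X1_mul, coeff_X1_pow_mul, hUc]
        by_cases h1 : j + 1 ≤ j'
        · rw [if_pos h1, if_pos (by omega)]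
          have : j' - (j + 1) + j = j' - 1 := by omega
          rw [this, sub_self]
        · rw [if_neg h1, sub_zero]
          by_cases h0 : 1 ≤ j'
          · rw [if_pos h0]
            exact ih (j' - 1) (by omega) (by omega)
          · rw [if_neg h0]
    have h3 : X 1 ^ (j + 1) * U ∈ J := by
      have : X 1 ^ (j + 1) * U = X 1 * f - (X 1 * f - X 1 ^ (j + 1) * U) := by ring
      rw [this]
      exact J.sub_mem (J.mul_mem_left _ hf) (hIJ hmem)
    have h4 : (X 1 : MvPowerSeries (Fin 2) k) ^ (j + 1) ∈ J :=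
      (Ideal.mul_unit_mem_iff_mem J hUu).mp h3
    have := hmin _ h4
    omega

theorem main (J : Ideal (MvPowerSeries (Fin 2) k))
    (hxy : (X 0 * X 1 : MvPowerSeries (Fin 2) k) ∈ J)
    [Module.Finite k (MvPowerSeries (Fin 2) k ⧸ J)] (n : ℕ)
    (hn : Module.finrank k (MvPowerSeries (Fin 2) k ⧸ J) = n) (h2 : 2 ≤ n) :
    ∃ a b : ℕ, 1 ≤ a ∧ 1 ≤ b ∧
      ((a + b = n + 1 ∧ J = I k a b) ∨ (a + b = n ∧ ∃ α : k, α ≠ 0 ∧ J = I2 k a b α)) := by
  classical
  have hJtop : J ≠ ⊤ := by
    intro h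
    have h1 : Subsingleton (MvPowerSeries (Fin 2) k ⧸ J) := Ideal.Quotient.subsingleton_iff.mpr h
    have h3 := Module.finrank_zero_of_subsingleton (R := k) (M := MvPowerSeries (Fin 2) k ⧸ J)
    omega
  have hcc : ∀ f ∈ J, coeff (mon 0 0) f = 0 := by
    intro f hf
    by_contra hne
    apply hJtop
    apply Ideal.eq_top_of_isUnit_mem J hf
    rw [MvPowerSeries.isUnit_iff_constantCoeff, isUnit_iff_ne_zero, constantCoeff_eq]
    exact hne
  have hex0 := exists_pow_mem J 0
  have hex1 := exists_pow_mem J 1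
  obtain ⟨a, ha_def⟩ : ∃ a, a = Nat.find hex0 := ⟨_, rfl⟩
  obtain ⟨b, hb_def⟩ : ∃ b, b = Nat.find hex1 := ⟨_, rfl⟩
  have hxa : (X 0 : MvPowerSeries (Fin 2) k) ^ a ∈ J := by
    rw [ha_def]; exact Nat.find_spec hex0
  have hyb : (X 1 : MvPowerSeries (Fin 2) k) ^ b ∈ J := by
    rw [hb_def]; exact Nat.find_spec hex1
  have hamin : ∀ m, (X 0 : MvPowerSeries (Fin 2) k) ^ m ∈ J → a ≤ m := fun m hm => by
    rw [ha_def]; exact Nat.find_min' hex0 hm
  have hbmin : ∀ m, (X 1 : MvPowerSeries (Fin 2) k) ^ m ∈ J → b ≤ m := fun m hm => by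
    rw [hb_def]; exact Nat.find_min' hex1 hm
  have ha : 1 ≤ a := by
    rcases Nat.eq_zero_or_pos a with h0 | h0
    · exfalso
      apply hJtop
      rw [h0, pow_zero] at hxa
      exact (Ideal.eq_top_iff_one J).mpr hxa
    · exact h0
  have hb : 1 ≤ b := by
    rcases Nat.eq_zero_or_pos b with h0 | h0
    · exfalso
      apply hJtop
      rw [h0, pow_zero] at hyb
      exact (Ideal.eq_top_iff_one J).mpr hyb
    · exact h0
  have hIJ : I k a b ≤ J := by
    rw [I, Ideal.span_le]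
    intro z hz
    simp only [Set.mem_insert_iff, Set.mem_singleton_iff] at hz
    rcases hz with rfl | rfl | rfl
    · exact hxy
    · exact hxa
    · exact hyb
  have hX := axis_x J a b ha hb hIJ hamin
  have hY := axis_y J a b ha hb hIJ hbmin
  by_cases hA : ∀ f ∈ J, coeff (mon (a - 1) 0) f = 0 ∧ coeff (mon 0 (b - 1)) f = 0
  · -- case A
    have hJI : J = I k a b := by
      refine le_antisymm (fun f hf => ?_) hIJ
      rw [mem_I_iff a b ha hb]
      constructor
      · intro i hi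
        by_cases h1 : i + 1 < a
        · exact hX f hf i h1
        · have : i = a - 1 := by omega
          rw [this]; exact (hA f hf).1
      · intro j hj
        by_cases h1 : j + 1 < b
        · exact hY f hf j h1
        · have : j = b - 1 := by omega
          rw [this]; exact (hA f hf).2
    refine ⟨a, b, ha, hb, Or.inl ⟨?_, hJI⟩⟩
    have h := finrank_I (k := k) a b ha hb
    rw [← hJI, hn] at h
    omega
  · -- case B
    push Not at hA
    obtain ⟨f0, hf0, hf0B⟩ := hA
    have hS1 : ∀ f ∈ J, coeff (mon 0 (b - 1)) f = 0 → coeff (mon (a - 1) 0) f = 0 := by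
      intro f hf hμ
      by_contra hne
      have ha2 : 2 ≤ a := by
        by_contra hlt
        have : a - 1 = 0 := by omega
        rw [this] at hne
        exact hne (hcc f hf)
      obtain ⟨c, hc⟩ : ∃ c, c = coeff (mon (a - 1) 0) f := ⟨_, rfl⟩
      have hmem : f - C c * X 0 ^ (a - 1) ∈ I k a b := by
        rw [mem_I_iff a b ha hb]
        constructor
        · intro i hi
          rw [map_sub, coeff_C_mul, coeff_X0_pow]
          by_cases h1 : i = a - 1
          · rw [if_pos ⟨h1, rfl⟩, h1, ← hc]; ring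
          · rw [if_neg (fun h => h1 h.1), hX f hf i (by omega)]; ring
        · intro j hj
          rw [map_sub, coeff_C_mul, coeff_X0_pow, if_neg (by omega), mul_zero, sub_zero]
          by_cases h1 : j = b - 1
          · rw [h1]; exact hμ
          · exact hY f hf j (by omega)
      have h3 : C c * X 0 ^ (a - 1) ∈ J := by
        have : C c * X 0 ^ (a - 1) = f - (f - C c * X 0 ^ (a - 1)) := by ring
        rw [this]
        exact J.sub_mem hf (hIJ hmem)
      have hu : IsUnit (C c : MvPowerSeries (Fin 2) k) := by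
        rw [MvPowerSeries.isUnit_iff_constantCoeff, constantCoeff_C, isUnit_iff_ne_zero, hc]
        exact hne
      have h4 := (Ideal.unit_mul_mem_iff_mem J hu).mp h3
      have := hamin _ h4
      omega
    have hS2 : ∀ f ∈ J, coeff (mon (a - 1) 0) f = 0 → coeff (mon 0 (b - 1)) f = 0 := by
      intro f hf hl
      by_contra hne
      have hb2 : 2 ≤ b := by
        by_contra hlt
        have : b - 1 = 0 := by omega
        rw [this] at hne
        exact hne (hcc f hf)
      obtain ⟨c, hc⟩ : ∃ c, c = coeff (mon 0 (b - 1)) f := ⟨_, rfl⟩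
      have hmem : f - C c * X 1 ^ (b - 1) ∈ I k a b := by
        rw [mem_I_iff a b ha hb]
        constructor
        · intro i hi
          rw [map_sub, coeff_C_mul, coeff_X1_pow, if_neg (by omega), mul_zero, sub_zero]
          by_cases h1 : i = a - 1
          · rw [h1]; exact hl
          · exact hX f hf i (by omega)
        · intro j hj
          rw [map_sub, coeff_C_mul, coeff_X1_pow]
          by_cases h1 : j = b - 1
          · rw [if_pos ⟨rfl, h1⟩, h1, ← hc]; ring
          · rw [if_neg (fun h => h1 h.2), hY f hf j (by omega)]; ring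
      have h3 : C c * X 1 ^ (b - 1) ∈ J := by
        have : C c * X 1 ^ (b - 1) = f - (f - C c * X 1 ^ (b - 1)) := by ring
        rw [this]
        exact J.sub_mem hf (hIJ hmem)
      have hu : IsUnit (C c : MvPowerSeries (Fin 2) k) := by
        rw [MvPowerSeries.isUnit_iff_constantCoeff, constantCoeff_C, isUnit_iff_ne_zero, hc]
        exact hne
      have h4 := (Ideal.unit_mul_mem_iff_mem J hu).mp h3
      have := hbmin _ h4
      omega
    obtain ⟨l0, hl0⟩ : ∃ l0, l0 = coeff (mon (a - 1) 0) f0 := ⟨_, rfl⟩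
    obtain ⟨m0, hm0⟩ : ∃ m0, m0 = coeff (mon 0 (b - 1)) f0 := ⟨_, rfl⟩
    have hl0ne : l0 ≠ 0 := by
      intro h
      rw [hl0] at h
      exact hf0B h (hS2 f0 hf0 h)
    have hm0ne : m0 ≠ 0 := by
      intro h
      rw [hm0] at h
      apply hl0ne
      rw [hl0]
      exact hS1 f0 hf0 h
    have ha2 : 2 ≤ a := by
      by_contra hlt
      have : a - 1 = 0 := by omega
      rw [this] at hl0
      exact hl0ne (hl0.trans (hcc f0 hf0))
    have hb2 : 2 ≤ b := by
      by_contra hlt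
      have : b - 1 = 0 := by omega
      rw [this] at hm0
      exact hm0ne (hm0.trans (hcc f0 hf0))
    obtain ⟨α, hα⟩ : ∃ α, α = m0 * l0⁻¹ := ⟨_, rfl⟩
    have hαne : α ≠ 0 := by
      rw [hα]; exact mul_ne_zero hm0ne (inv_ne_zero hl0ne)
    have hcg0x : ∀ i, coeff (mon i 0) (X 0 ^ (a - 1) + C α * X 1 ^ (b - 1) :
        MvPowerSeries (Fin 2) k) = if i = a - 1 then 1 else 0 := by
      intro i
      rw [map_add, coeff_C_mul, coeff_X0_pow, coeff_X1_pow,
        if_neg (by omega : ¬ (i = 0 ∧ 0 = b - 1)), mul_zero, add_zero]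
      by_cases h : i = a - 1
      · rw [if_pos ⟨h, rfl⟩, if_pos h]
      · rw [if_neg (fun h' => h h'.1), if_neg h]
    have hcg0y : ∀ j, coeff (mon 0 j) (X 0 ^ (a - 1) + C α * X 1 ^ (b - 1) :
        MvPowerSeries (Fin 2) k) = if j = b - 1 then α else 0 := by
      intro j
      rw [map_add, coeff_C_mul, coeff_X0_pow, coeff_X1_pow,
        if_neg (by omega : ¬ (0 = a - 1 ∧ j = 0)), zero_add]
      by_cases h : j = b - 1
      · rw [if_pos ⟨rfl, h⟩, if_pos h, mul_one]
      · rw [if_neg (fun h' => h h'.2), if_neg h, mul_zero]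
    have hg0 : (X 0 ^ (a - 1) + C α * X 1 ^ (b - 1) : MvPowerSeries (Fin 2) k) ∈ J := by
      have hmem : f0 - C l0 * (X 0 ^ (a - 1) + C α * X 1 ^ (b - 1)) ∈ I k a b := by
        rw [mem_I_iff a b ha hb]
        constructor
        · intro i hi
          rw [map_sub, coeff_C_mul, hcg0x]
          by_cases h1 : i = a - 1
          · rw [if_pos h1, h1, ← hl0]; ring
          · rw [if_neg h1, hX f0 hf0 i (by omega)]; ring
        · intro j hj
          rw [map_sub, coeff_C_mul, hcg0y]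
          by_cases h1 : j = b - 1
          · rw [if_pos h1, h1, ← hm0, hα]
            field_simp
            ring
          · rw [if_neg h1, hY f0 hf0 j (by omega)]; ring
      have h3 : C l0 * (X 0 ^ (a - 1) + C α * X 1 ^ (b - 1)) ∈ J := by
        have : C l0 * (X 0 ^ (a - 1) + C α * X 1 ^ (b - 1)) =
            f0 - (f0 - C l0 * (X 0 ^ (a - 1) + C α * X 1 ^ (b - 1))) := by ring
        rw [this]
        exact J.sub_mem hf0 (hIJ hmem)
      have hu : IsUnit (C l0 : MvPowerSeries (Fin 2) k) := by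
        rw [MvPowerSeries.isUnit_iff_constantCoeff, constantCoeff_C, isUnit_iff_ne_zero]
        exact hl0ne
      exact (Ideal.unit_mul_mem_iff_mem J hu).mp h3
    have hJI2 : J = I2 k (a - 1) (b - 1) α := by
      apply le_antisymm
      · intro f hf
        rw [mem_I2_iff (a - 1) (b - 1) (by omega) (by omega) α hαne]
        refine ⟨fun i hi => hX f hf i (by omega), fun j hj => hY f hf j (by omega), ?_⟩
        obtain ⟨c, hc⟩ : ∃ c, c = coeff (mon (a - 1) 0) f := ⟨_, rfl⟩
        have hf' : f - C c * (X 0 ^ (a - 1) + C α * X 1 ^ (b - 1)) ∈ J :=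
          J.sub_mem hf (J.mul_mem_left _ hg0)
        have h1 : coeff (mon (a - 1) 0) (f - C c * (X 0 ^ (a - 1) + C α * X 1 ^ (b - 1))) = 0 := by
          rw [map_sub, coeff_C_mul, hcg0x, if_pos rfl, ← hc]; ring
        have h2 := hS2 _ hf' h1
        rw [map_sub, coeff_C_mul, hcg0y, if_pos rfl, sub_eq_zero] at h2
        rw [h2, ← hc]; ring
      · rw [I2, Ideal.span_le]
        intro z hz
        simp only [Set.mem_insert_iff, Set.mem_singleton_iff] at hz
        rcases hz with rfl | rfl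
        · exact hxy
        · exact hg0
    refine ⟨a - 1, b - 1, by omega, by omega, Or.inr ⟨?_, α, hαne, hJI2⟩⟩
    have h := finrank_I2 (k := k) (a - 1) (b - 1) (by omega) (by omega) α hαne
    rw [← hJI2, hn] at h
    exact h.symm

end Groth.Agent.Lib.Helper63.NodeIdeal
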