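import Mathlib
import Groth.Agent.Lib.Helper63.WeierSing2

/-!
# `xy - π` in `R[[x,y]]` (helper63)

If `⋂ 𝔪^n = 0` and `π ∈ 𝔪`, then `(xy - π) H` having no mixed monomials `x^(i+1) y^(j+1)` forces
`H = 0`; in particular `xy - π` is a nonzerodivisor.
-/

set_option autoImplicit false
set_option linter.unusedSectionVars false

namespace Groth.Agent.Lib.Helper63.NodeMF

open MvPowerSeries Groth.Agent.Lib.Helper63.WeierSing2

universe u

variable {R : Type u} [CommRing R]

lemma eq_mon (d : Fin 2 →₀ ℕ) : d = mon (d 0) (d 1) := by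
  ext i
  fin_cases i
  · simp [mon]
  · simp [mon]

lemma coeff_X0_mul (i j : ℕ) (g : MvPowerSeries (Fin 2) R) :
    coeff (mon i j) (X 0 * g) = if 1 ≤ i then coeff (mon (i - 1) j) g else 0 := by
  have := coeff_X0_pow_mul i j 1 g
  rwa [pow_one] at this

lemma coeff_X1_mul (i j : ℕ) (g : MvPowerSeries (Fin 2) R) :
    coeff (mon i j) (X 1 * g) = if 1 ≤ j then coeff (mon i (j - 1)) g else 0 := by
  have := coeff_X1_pow_mul i j 1 g
  rwa [pow_one] at this

/-- the element `xy - π` -/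
noncomputable def w (π : R) : MvPowerSeries (Fin 2) R := X 0 * X 1 - C π

lemma coeff_w_mul (π : R) (H : MvPowerSeries (Fin 2) R) (i j : ℕ) :
    coeff (mon (i + 1) (j + 1)) (w π * H) =
      coeff (mon i j) H - π * coeff (mon (i + 1) (j + 1)) H := by
  have : w π * H = X 0 * (X 1 * H) - C π * H := by rw [w]; ring
  rw [this, map_sub, coeff_X0_mul, if_pos (by omega), coeff_X1_mul, if_pos (by omega), coeff_C_mul]
  rfl

lemma coeff_w_mul_x (π : R) (H : MvPowerSeries (Fin 2) R) (i : ℕ) :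
    coeff (mon i 0) (w π * H) = - (π * coeff (mon i 0) H) := by
  have : w π * H = X 0 * (X 1 * H) - C π * H := by rw [w]; ring
  rw [this, map_sub, coeff_X0_mul, coeff_C_mul]
  by_cases h : 1 ≤ i
  · rw [if_pos h, coeff_X1_mul, if_neg (by omega), zero_sub]
  · rw [if_neg h, zero_sub]

lemma coeff_w_mul_y (π : R) (H : MvPowerSeries (Fin 2) R) (j : ℕ) :
    coeff (mon 0 j) (w π * H) = - (π * coeff (mon 0 j) H) := by
  have : w π * H = X 0 * (X 1 * H) - C π * H := by rw [w]; ring
  rw [this, map_sub, coeff_X0_mul, coeff_C_mul, if_neg (by omega), zero_sub]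

theorem eq_zero_of_mixed (π : R) (I : Ideal R) (hπ : π ∈ I) (hI : ⨅ n, I ^ n = ⊥)
    (H : MvPowerSeries (Fin 2) R)
    (hH : ∀ i j, coeff (mon (i + 1) (j + 1)) (w π * H) = 0) : H = 0 := by
  have h1 : ∀ i j, coeff (mon i j) H = π * coeff (mon (i + 1) (j + 1)) H := by
    intro i j
    have := hH i j
    rw [coeff_w_mul, sub_eq_zero] at this
    exact this
  have h2 : ∀ n i j, coeff (mon i j) H = π ^ n * coeff (mon (i + n) (j + n)) H := by
    intro n
    induction n with
    | zero => intro i j; simp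
    | succ n ih =>
      intro i j
      rw [ih, h1 (i + n) (j + n), pow_succ, mul_assoc]
      rfl
  ext d
  have h3 : coeff d H ∈ ⨅ n, I ^ n := by
    rw [eq_mon d, Ideal.mem_iInf]
    intro n
    rw [h2 n]
    exact Ideal.mul_mem_right _ _ (Ideal.pow_mem_pow hπ n)
  rw [hI] at h3
  rw [(Submodule.mem_bot _).mp h3]
  exact (map_zero (coeff d)).symm

theorem w_nzd (π : R) (I : Ideal R) (hπ : π ∈ I) (hI : ⨅ n, I ^ n = ⊥)
    (H : MvPowerSeries (Fin 2) R) (hH : w π * H = 0) : H = 0 :=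
  eq_zero_of_mixed π I hπ hI H (fun i j => by rw [hH, map_zero])

end Groth.Agent.Lib.Helper63.NodeMF
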