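import Mathlib
import Groth.Agent.Lib.Helper63.NodeMF
import Groth.Agent.Lib.Helper63.EqNodeLim

/-!
# Normal form `f(x) + g(y)` modulo `xy - π` in `R[[x,y]]`, `R` complete (helper63)
-/

set_option autoImplicit false
set_option linter.unusedSectionVars false

namespace Groth.Agent.Lib.Helper63.NodeNF

open MvPowerSeries Groth.Agent.Lib.Helper63.WeierSing2 Groth.Agent.Lib.Helper63.NodeMF
open Groth.Agent.Lib.Helper63.EqNodeLim

universe u

variable {R : Type u} [CommRing R]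

/-- partial geometric sums -/
noncomputable def psum (π : R) (c : ℕ → R) (N : ℕ) : R := ∑ n ∈ Finset.range N, π ^ n * c n

lemma psum_succ' (π : R) (c : ℕ → R) (N : ℕ) :
    psum π c (N + 1) = c 0 + π * psum π (fun n => c (n + 1)) N := by
  rw [psum, psum, Finset.sum_range_succ', Finset.mul_sum, pow_zero, one_mul, add_comm]
  congr 1
  refine Finset.sum_congr rfl fun n _ => ?_
  rw [pow_succ]; ring

theorem exists_geom (I : Ideal R) [IsAdicComplete I R] (π : R) (hπ : π ∈ I) :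
    ∃ Λ : (ℕ → R) → R, ∀ c, Λ c = c 0 + π * Λ (fun n => c (n + 1)) := by
  have hex : ∀ c : ℕ → R, ∃ L, ∀ N, L - psum π c N ∈ I ^ N := by
    intro c
    apply exists_lim I
    intro N
    have : psum π c (N + 1) - psum π c N = π ^ N * c N := by
      rw [psum, psum, Finset.sum_range_succ]; ring
    rw [this]
    exact Ideal.mul_mem_right _ _ (Ideal.pow_mem_pow hπ N)
  choose Λ hΛ using hex
  refine ⟨Λ, fun c => ?_⟩
  have h0 : Λ c - (c 0 + π * Λ (fun n => c (n + 1))) = 0 := by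
    apply eq_zero_of_forall_mem_pow I
    intro N
    have e : Λ c - (c 0 + π * Λ (fun n => c (n + 1))) =
        (Λ c - psum π c (N + 1)) -
          π * (Λ (fun n => c (n + 1)) - psum π (fun n => c (n + 1)) N) := by
      rw [psum_succ']; ring
    rw [e]
    exact Ideal.sub_mem _ (Ideal.pow_le_pow_right (Nat.le_succ N) (hΛ c (N + 1)))
      (Ideal.mul_mem_left _ _ (hΛ _ N))
  exact sub_eq_zero.mp h0

/-- removing the mixed monomials modulo `xy - π` -/
theorem exists_sub_mixed (I : Ideal R) [IsAdicComplete I R] (π : R) (hπ : π ∈ I)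
    (a : MvPowerSeries (Fin 2) R) :
    ∃ H : MvPowerSeries (Fin 2) R, ∀ i j, coeff (mon (i + 1) (j + 1)) (a - w π * H) = 0 := by
  obtain ⟨Λ, hΛ⟩ := exists_geom I π hπ
  obtain ⟨H, hH⟩ : ∃ H : MvPowerSeries (Fin 2) R,
      H = fun d => Λ (fun n => coeff (mon (d 0 + 1 + n) (d 1 + 1 + n)) a) := ⟨_, rfl⟩
  have hHc : ∀ i j, coeff (mon i j) H = Λ (fun n => coeff (mon (i + 1 + n) (j + 1 + n)) a) := by
    intro i j
    rw [hH]
    show Λ (fun n => coeff (mon ((mon i j) 0 + 1 + n) ((mon i j) 1 + 1 + n)) a) = _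
    rw [mon_apply_zero, mon_apply_one]
  refine ⟨H, fun i j => ?_⟩
  rw [map_sub, coeff_w_mul, hHc, hHc, hΛ (fun n => coeff (mon (i + 1 + n) (j + 1 + n)) a)]
  have : (fun n => coeff (mon (i + 1 + (n + 1)) (j + 1 + (n + 1))) a) =
      (fun n => coeff (mon (i + 1 + 1 + n) (j + 1 + 1 + n)) a) := by
    funext n
    have e1 : i + 1 + (n + 1) = i + 1 + 1 + n := by omega
    have e2 : j + 1 + (n + 1) = j + 1 + 1 + n := by omega
    rw [e1, e2]
  rw [this]
  simp only [add_zero]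
  ring

lemma coeff_toMv_single (i : Fin 2) (f : PowerSeries R) (n : ℕ) :
    coeff (Finsupp.single i n) (PowerSeries.toMvPowerSeries (σ := Fin 2) i f) =
      PowerSeries.coeff n f := by
  have h := MvPowerSeries.coeff_embDomain_rename (Function.Embedding.punit i) f
    (Finsupp.single () n)
  rw [Finsupp.embDomain_single] at h
  exact h

lemma coeff_toMv_of_ne (i j : Fin 2) (hij : j ≠ i) (f : PowerSeries R) (d : Fin 2 →₀ ℕ)
    (hd : d j ≠ 0) : coeff d (PowerSeries.toMvPowerSeries (σ := Fin 2) i f) = 0 := by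
  apply MvPowerSeries.coeff_rename_eq_zero
  rintro ⟨z, rfl⟩
  apply hd
  have hz : z = Finsupp.single () (z ()) := by
    ext u
    simp
  rw [hz, Finsupp.mapDomain_single, Finsupp.single_apply, if_neg (Ne.symm hij)]

lemma coeff_toMv0_x (f : PowerSeries R) (n : ℕ) :
    coeff (mon n 0) (PowerSeries.toMvPowerSeries (σ := Fin 2) 0 f) = PowerSeries.coeff n f := by
  rw [← single_zero_eq, coeff_toMv_single]

lemma coeff_toMv1_y (g : PowerSeries R) (n : ℕ) :
    coeff (mon 0 n) (PowerSeries.toMvPowerSeries (σ := Fin 2) 1 g) = PowerSeries.coeff n g := by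
  rw [← single_one_eq, coeff_toMv_single]

lemma coeff_toMv0_of_ne (f : PowerSeries R) (i j : ℕ) (hj : j ≠ 0) :
    coeff (mon i j) (PowerSeries.toMvPowerSeries (σ := Fin 2) 0 f) = 0 :=
  coeff_toMv_of_ne 0 1 (by decide) f _ (by rw [mon_apply_one]; exact hj)

lemma coeff_toMv1_of_ne (g : PowerSeries R) (i j : ℕ) (hi : i ≠ 0) :
    coeff (mon i j) (PowerSeries.toMvPowerSeries (σ := Fin 2) 1 g) = 0 :=
  coeff_toMv_of_ne 1 0 (by decide) g _ (by rw [mon_apply_zero]; exact hi)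

/-- a series without mixed monomials is `f(x) + g(y)` -/
theorem eq_toMv_add_toMv (D : MvPowerSeries (Fin 2) R)
    (hD : ∀ i j, coeff (mon (i + 1) (j + 1)) D = 0) :
    ∃ f g : PowerSeries R, D = PowerSeries.toMvPowerSeries (σ := Fin 2) 0 f +
      PowerSeries.toMvPowerSeries (σ := Fin 2) 1 g := by
  refine ⟨PowerSeries.mk fun n => coeff (mon n 0) D,
    PowerSeries.mk fun n => if n = 0 then 0 else coeff (mon 0 n) D, ?_⟩
  ext d
  rw [NodeMF.eq_mon d]
  obtain ⟨i, hi⟩ : ∃ i, i = d 0 := ⟨_, rfl⟩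
  obtain ⟨j, hj⟩ : ∃ j, j = d 1 := ⟨_, rfl⟩
  rw [← hi, ← hj, map_add]
  by_cases hj0 : j = 0
  · subst hj0
    rw [coeff_toMv0_x, PowerSeries.coeff_mk]
    by_cases hi0 : i = 0
    · subst hi0
      rw [coeff_toMv1_y, PowerSeries.coeff_mk, if_pos rfl, add_zero]
    · rw [coeff_toMv1_of_ne _ _ _ hi0, add_zero]
  · rw [coeff_toMv0_of_ne _ _ _ hj0, zero_add]
    by_cases hi0 : i = 0
    · subst hi0
      rw [coeff_toMv1_y, PowerSeries.coeff_mk, if_neg hj0]
    · rw [coeff_toMv1_of_ne _ _ _ hi0]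
      obtain ⟨i', rfl⟩ : ∃ i', i = i' + 1 := ⟨i - 1, by omega⟩
      obtain ⟨j', rfl⟩ : ∃ j', j = j' + 1 := ⟨j - 1, by omega⟩
      exact hD i' j'

/-- normal form modulo `xy - π` -/
theorem exists_normal_form (I : Ideal R) [IsAdicComplete I R] (π : R) (hπ : π ∈ I)
    (a : MvPowerSeries (Fin 2) R) :
    ∃ (f g : PowerSeries R) (H : MvPowerSeries (Fin 2) R),
      a = PowerSeries.toMvPowerSeries (σ := Fin 2) 0 f +
        PowerSeries.toMvPowerSeries (σ := Fin 2) 1 g + w π * H := by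
  obtain ⟨H, hH⟩ := exists_sub_mixed I π hπ a
  obtain ⟨f, g, hfg⟩ := eq_toMv_add_toMv _ hH
  exact ⟨f, g, H, by rw [← hfg]; ring⟩

/-- uniqueness of the normal form -/
theorem eq_zero_of_toMv (I : Ideal R) (hI : ⨅ n, I ^ n = ⊥) (π : R) (hπ : π ∈ I)
    (F H : MvPowerSeries (Fin 2) R) (hF : ∀ i j, coeff (mon (i + 1) (j + 1)) F = 0)
    (h : F = w π * H) : F = 0 := by
  have hH : H = 0 := eq_zero_of_mixed π I hπ hI H (fun i j => by rw [← h]; exact hF i j)
  rw [h, hH, mul_zero]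

end Groth.Agent.Lib.Helper63.NodeNF
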