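import Mathlib
import Groth.Prelude.Def_Curv2
import Groth.Agent.Lib.Helper49.FiberStalk

/-!
# The local ring of a fibre, with its residue-field algebra structure (helper63)
-/

set_option autoImplicit false

namespace Groth.Agent.Lib.Helper63.NodeScheme

open AlgebraicGeometry CategoryTheory IsLocalRing

universe u

theorem eq_toSpecΓ_comp {X : Scheme.{u}} {A : CommRingCat.{u}} (f : X ⟶ Spec A) :
    f = X.toSpecΓ ≫ Spec.map f.appTop ≫ Spec.map (Scheme.ΓSpecIso A).inv := by
  rw [← Scheme.toSpecΓ_naturality_assoc, toSpecΓ_SpecMap_ΓSpecIso_inv, Category.comp_id]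

theorem specMap_stalkMap_eq {X : Scheme.{u}} (k : Type u) [Field k]
    [X.Over (Spec (CommRingCat.of k))] (x : X) :
    Spec.map (CommRingCat.ofHom (Curv2.stalkMap k X x)) =
      X.fromSpecStalk x ≫ (X ↘ Spec (CommRingCat.of k)) := by
  conv_rhs => rw [eq_toSpecΓ_comp (X ↘ Spec (CommRingCat.of k))]
  rw [Scheme.fromSpecStalk_toSpecΓ_assoc, ← Spec.map_comp, ← Spec.map_comp]
  rfl

variable {T S : Scheme.{u}} (f : T ⟶ S)

theorem exists_stalk_fiber (s : S) (z : ↥(f.fiber s)) (x : T) (hx : f.fiberι s z = x) :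
    ∃ φ : T.presheaf.stalk x ⟶ (f.fiber s).presheaf.stalk z, Function.Surjective φ.hom ∧
      RingHom.ker φ.hom = Ideal.map (f.stalkMap x).hom
        (maximalIdeal (S.presheaf.stalk (f x))) ∧
      Spec.map φ ≫ T.fromSpecStalk x =
        (f.fiber s).fromSpecStalk z ≫ f.fiberι s := by
  subst hx
  refine ⟨(f.fiberι s).stalkMap z, (f.fiberι s).stalkMap_surjective z,
    le_antisymm (Groth.Agent.Lib.Helper49.ker_le_map f s z)
      (Groth.Agent.Lib.Helper49.map_le_ker f s z), ?_⟩
  exact Scheme.SpecMap_stalkMap_fromSpecStalk (f := f.fiberι s) (x := z)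

theorem fibre_stalk_data (t : T) :
    letI : (f.fiber (f t)).Over (Spec (S.residueField (f t))) :=
      ⟨f.fiberToSpecResidueField (f t)⟩
    ∃ φ : T.presheaf.stalk t →+* (f.fiber (f t)).presheaf.stalk (f.asFiber t),
      Function.Surjective φ ∧
      RingHom.ker φ = Ideal.map (f.stalkMap t).hom (maximalIdeal (S.presheaf.stalk (f t))) ∧
      ∀ a : S.presheaf.stalk (f t), φ ((f.stalkMap t).hom a) =
        Curv2.stalkMap (S.residueField (f t)) (f.fiber (f t)) (f.asFiber t)
          ((S.residue (f t)).hom a) := by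
  letI : (f.fiber (f t)).Over (Spec (S.residueField (f t))) :=
    ⟨f.fiberToSpecResidueField (f t)⟩
  obtain ⟨φ, hφs, hφk, hφ⟩ := exists_stalk_fiber f (f t) (f.asFiber t) t (f.fiberι_asFiber t)
  refine ⟨φ.hom, hφs, hφk, ?_⟩
  let csC : S.residueField (f t) ⟶ (f.fiber (f t)).presheaf.stalk (f.asFiber t) :=
    CommRingCat.ofHom
      (Curv2.stalkMap (S.residueField (f t)) (f.fiber (f t)) (f.asFiber t))
  have hcs : Spec.map csC = (f.fiber (f t)).fromSpecStalk (f.asFiber t) ≫
      f.fiberToSpecResidueField (f t) :=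
    specMap_stalkMap_eq (S.residueField (f t)) (f.asFiber t)
  have key : f.stalkMap t ≫ φ = S.residue (f t) ≫ csC := by
    apply Spec.map_injective
    rw [← cancel_mono (S.fromSpecStalk (f t))]
    rw [Spec.map_comp, Spec.map_comp, Category.assoc, Category.assoc,
      Scheme.SpecMap_stalkMap_fromSpecStalk, reassoc_of% hφ, f.fiber_fac, hcs, Category.assoc]
    rfl
  intro a
  have := congrArg (fun g => g.hom a) key
  exact this

end Groth.Agent.Lib.Helper63.NodeScheme
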