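import Mathlib
import Groth.Agent.Lib.Helper42.BasisGlue
import Groth.Agent.Lib.Helper11.PullbackBasis

/-!
# The inverse image of a module with local bases, from transition coefficients (helper63)

`h : Z ⟶ T`, `N` on `T` with local bases `e i` on `V i`, `M` on `Z` with local bases `m i` on opens
`V' i ≤ h⁻¹(V i)` covering `Z`; if the transition coefficients of the `m i` are the pullbacks of those of the
`e i`, then `h^* N ≅ M`.
-/

set_option autoImplicit false
universe u
open CategoryTheory CategoryTheory.Limits AlgebraicGeometry Opposite TopologicalSpace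
noncomputable section

namespace Groth.Agent.Lib.Helper63.PullGlue

open Groth.Agent.Lib.Helper45 Groth.Agent.Lib.Helper49 Groth.Agent.Lib.Helper42
  Groth.Agent.Lib.Helper11.PullbackBasis

variable {Z T : Scheme.{u}} (h : Z ⟶ T) (N : T.Modules) (M : Z.Modules)

theorem fres_appLE {V W : T.Opens} {V' W' : Z.Opens} (hV : V' ≤ h ⁻¹ᵁ V) (hW : W' ≤ h ⁻¹ᵁ W)
    (hWV : W ≤ V) (hWV' : W' ≤ V') (c : Γ(T, V)) :
    fres hWV' ((h.appLE V V' hV).hom c) = (h.appLE W W' hW).hom (fres hWV c) := by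
  have h1 : (h.appLE V V' hV) ≫ Z.presheaf.map (homOfLE hWV').op =
      h.appLE V W' (hWV'.trans hV) := Scheme.Hom.appLE_map _ _ _
  have h2 : T.presheaf.map (homOfLE hWV).op ≫ h.appLE W W' hW =
      h.appLE V W' (hWV'.trans hV) := Scheme.Hom.map_appLE _ _ _
  have := congrArg (fun φ => φ.hom c) (h1.trans h2.symm)
  exact this

theorem appLE_eq_fres_app {V : T.Opens} {V' : Z.Opens} (hV : V' ≤ h ⁻¹ᵁ V) (c : Γ(T, V)) :
    (h.appLE V V' hV).hom c = fres hV ((h.app V).hom c) := rfl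

variable {ι : Type u} (V : ι → T.Opens) (V' : ι → Z.Opens) (hV' : ∀ i, V' i ≤ h ⁻¹ᵁ V i)
  (hcov : ∀ z : Z, ∃ i, z ∈ V' i)
  (e : ∀ i, Γ(N, V i)) (he : ∀ i, IsBasisOn N (V i) (e i))
  (m : ∀ i, Γ(M, V' i)) (hm : ∀ i, IsBasisOn M (V' i) (m i))

include hV' hcov he hm in
theorem nonempty_pullback_iso_of_local_bases
    (hc : ∀ (i j : ι) (c : Γ(T, V i ⊓ V j)),
      mres N (inf_le_left : V i ⊓ V j ≤ V i) (e i) = c • mres N (inf_le_right : V i ⊓ V j ≤ V j) (e j) →
      mres M (inf_le_left : V' i ⊓ V' j ≤ V' i) (m i) =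
        (h.appLE (V i ⊓ V j) (V' i ⊓ V' j)
          (fun _ hx => ⟨hV' i hx.1, hV' j hx.2⟩)).hom c •
            mres M (inf_le_right : V' i ⊓ V' j ≤ V' j) (m j)) :
    Nonempty ((Scheme.Modules.pullback h).obj N ≅ M) := by
  have hτ : ∀ i, IsBasisOn ((Scheme.Modules.pullback h).obj N) (V' i)
      (mres ((Scheme.Modules.pullback h).obj N) (hV' i) (pullS h N (V i) (e i))) :=
    fun i => (isBasisOn_pullS h (V i) N (e i) (he i)).mono (hV' i)
  refine BasisGlue.nonempty_iso_of_local_bases V' hcov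
    (fun i => mres ((Scheme.Modules.pullback h).obj N) (hV' i) (pullS h N (V i) (e i))) m hτ hm ?_
  intro i j W hi hj c hcW
  -- the transition coefficient downstairs
  obtain ⟨c₀, hc₀⟩ := ((he j).mono (inf_le_right : V i ⊓ V j ≤ V j)).exists_eq_smul
    (mres N (inf_le_left : V i ⊓ V j ≤ V i) (e i))
  have hle : V' i ⊓ V' j ≤ h ⁻¹ᵁ (V i ⊓ V j) := fun _ hx => ⟨hV' i hx.1, hV' j hx.2⟩
  have hWle : W ≤ V' i ⊓ V' j := le_inf hi hj
  have key := hc i j c₀ hc₀.symm
  -- the pulled back relation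
  have hpull : mres ((Scheme.Modules.pullback h).obj N) (hi.trans (hV' i)) (pullS h N (V i) (e i)) =
      (h.appLE (V i ⊓ V j) W (hWle.trans hle)).hom c₀ •
        mres ((Scheme.Modules.pullback h).obj N) (hj.trans (hV' j)) (pullS h N (V j) (e j)) := by
    have hW1 : W ≤ h ⁻¹ᵁ (V i ⊓ V j) := hWle.trans hle
    have h1 : mres ((Scheme.Modules.pullback h).obj N) (hi.trans (hV' i)) (pullS h N (V i) (e i)) =
        mres ((Scheme.Modules.pullback h).obj N) hW1
          (pullS h N (V i ⊓ V j) (mres N (inf_le_left : V i ⊓ V j ≤ V i) (e i))) := by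
      rw [← pullS_res (f := h) N (inf_le_left : V i ⊓ V j ≤ V i) (e i), mres_mres]
    have h2 : mres ((Scheme.Modules.pullback h).obj N) (hj.trans (hV' j)) (pullS h N (V j) (e j)) =
        mres ((Scheme.Modules.pullback h).obj N) hW1
          (pullS h N (V i ⊓ V j) (mres N (inf_le_right : V i ⊓ V j ≤ V j) (e j))) := by
      rw [← pullS_res (f := h) N (inf_le_right : V i ⊓ V j ≤ V j) (e j), mres_mres]
    rw [h1, h2, ← hc₀, pullS_smul, mres_smul]
    rfl
  have hcc : c = (h.appLE (V i ⊓ V j) W (hWle.trans hle)).hom c₀ := by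
    apply ((hτ j).mono hj).eq_of_smul_eq
    rw [← hcW, mres_mres, mres_mres, hpull]
  rw [hcc]
  have hfr : fres (le_refl (V i ⊓ V j)) c₀ = c₀ := by
    change (T.presheaf.map (𝟙 _)).hom c₀ = c₀
    rw [T.presheaf.map_id]; rfl
  have h3 := congrArg (mres M hWle) key
  rw [mres_mres, mres_smul, mres_mres, fres_appLE h hle (hWle.trans hle) le_rfl hWle, hfr] at h3
  exact h3

end Groth.Agent.Lib.Helper63.PullGlue
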