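import Mathlib
import Groth.Agent.Lib.Helper63.AwaySection
import Groth.Agent.Lib.Helper42.ProjQGlue

/-!
# `Proj(u)` on functions attached to fractions (helper63)

For a morphism `h : P' ⟶ P` satisfying the chart equations of `Proj(u)`, the pullback along `h` of the function
`a / b` on `emb(D₊(b))` is the function `u a / u b` on `emb'(D₊(u b))`.
-/

set_option autoImplicit false
universe u
open CategoryTheory CategoryTheory.Limits AlgebraicGeometry Opposite TopologicalSpace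
open HomogeneousLocalization
open scoped HomogeneousIdeal
noncomputable section

namespace Groth.Agent.Lib.Helper63.PullO1Key

open Groth.Agent.Lib.Helper45 Groth.Agent.Lib.Helper49 Groth.Agent.Lib.Helper42
  Groth.Agent.Lib.Helper42.RelTilde Groth.Agent.Lib.Helper42.RelTwistBasis
  Groth.Agent.Lib.Helper63.AwaySection

theorem appLE_congr_hom {X Z : Scheme.{u}} {f f' : X ⟶ Z} (e : f = f') (U : Z.Opens) (V : X.Opens)
    (hle : V ≤ f ⁻¹ᵁ U) : f.appLE U V hle = f'.appLE U V (e ▸ hle) := by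
  subst e; rfl

theorem appLE_top_top {X Z : Scheme.{u}} (f : X ⟶ Z) : f.appLE ⊤ ⊤ le_top = f.appTop := by
  simp [Scheme.Hom.appLE]

variable {Y Y' P P' : Scheme.{u}} {g : Y' ⟶ Y} {𝒮 : RelProj.QCGrAlg Y} {𝒮' : RelProj.QCGrAlg Y'}
  {u : RelProj.QGrHom g 𝒮 𝒮'} {p : P ⟶ Y}
  {chart : ∀ (U : Y.Opens) (hU : IsAffineOpen U), (((p ⁻¹ᵁ U : P.Opens) : Scheme.{u}) ≅ Proj (𝒮.deg U hU))}
  {p' : P' ⟶ Y'}
  {chart' : ∀ (U : Y'.Opens) (hU : IsAffineOpen U), (((p' ⁻¹ᵁ U : P'.Opens) : Scheme.{u}) ≅ Proj (𝒮'.deg U hU))}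
  {h : P' ⟶ P}

theorem VD_le_preimage (hh : ∀ k : QIdx g 𝒮, k.src u p' chart' ≫ h = k.rho u p chart) (k : QIdx g 𝒮) :
    VD p' chart' k.U' k.hU' (k.psi u k.f) ≤ h ⁻¹ᵁ VD p chart k.U k.hU k.f := by
  rintro _ ⟨z₀, hz₀, rfl⟩
  rw [← Proj.opensRange_awayι (𝒮'.deg k.U' k.hU') (k.psi u k.f) (Graded.map_mem (k.psi u) k.hf) k.hd] at hz₀
  obtain ⟨q, rfl⟩ := hz₀
  have h1 := congrArg (fun m => m.base q) (hh k)
  change h.base ((RelProj.emb p' chart' k.U' k.hU').base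
    ((Proj.awayι (𝒮'.deg k.U' k.hU') (k.psi u k.f) (Graded.map_mem (k.psi u) k.hf) k.hd).base q)) ∈
      VD p chart k.U k.hU k.f
  have h2 : h.base ((RelProj.emb p' chart' k.U' k.hU').base
    ((Proj.awayι (𝒮'.deg k.U' k.hU') (k.psi u k.f) (Graded.map_mem (k.psi u) k.hf) k.hd).base q)) =
      (k.rho u p chart).base q := h1
  rw [h2]
  exact ⟨_, (Proj.opensRange_awayι (𝒮.deg k.U k.hU) k.f k.hf k.hd).le ⟨_, rfl⟩, rfl⟩

/-- **Key**: `h^#` carries the function attached to `x` to the function attached to the image of `x` -/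
theorem appLE_Fsec (hh : ∀ k : QIdx g 𝒮, k.src u p' chart' ≫ h = k.rho u p chart) (k : QIdx g 𝒮)
    (x : Away (𝒮.deg k.U k.hU) k.f) :
    (h.appLE (VD p chart k.U k.hU k.f) (VD p' chart' k.U' k.hU' (k.psi u k.f)) (VD_le_preimage hh k)).hom
      (Fsec k.U k.hU k.f x) = Fsec k.U' k.hU' (k.psi u k.f) (Away.map (k.psi u) k.f x) := by
  have hψf : k.psi u k.f ∈ 𝒮'.deg k.U' k.hU' k.d := Graded.map_mem (k.psi u) k.hf
  apply appLE_top_injective (Proj.awayι (𝒮'.deg k.U' k.hU') (k.psi u k.f) hψf k.hd ≫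
    RelProj.emb p' chart' k.U' k.hU') (VD p' chart' k.U' k.hU' (k.psi u k.f))
    (VD_le_opensRange k.U' k.hU' hψf k.hd) (tgt_preimage_VD k.U' k.hU' hψf k.hd)
  rw [Fsec_tgt k.U' k.hU' hψf k.hd]
  -- the left side
  have h1 := Scheme.Hom.appLE_comp_appLE (Proj.awayι (𝒮'.deg k.U' k.hU') (k.psi u k.f) hψf k.hd ≫
    RelProj.emb p' chart' k.U' k.hU') h (VD p chart k.U k.hU k.f) (VD p' chart' k.U' k.hU' (k.psi u k.f)) ⊤
    (VD_le_preimage hh k) (tgt_preimage_VD k.U' k.hU' hψf k.hd)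
  have h2 := congrArg (fun φ => φ.hom (Fsec k.U k.hU k.f x)) h1
  refine Eq.trans h2 ?_
  have h3 : (Proj.awayι (𝒮'.deg k.U' k.hU') (k.psi u k.f) hψf k.hd ≫
      RelProj.emb p' chart' k.U' k.hU') ≫ h =
      Spec.map (CommRingCat.ofHom (Away.map (k.psi u) k.f)) ≫
        (Proj.awayι (𝒮.deg k.U k.hU) k.f k.hf k.hd ≫ RelProj.emb p chart k.U k.hU) := hh k
  change (((Proj.awayι (𝒮'.deg k.U' k.hU') (k.psi u k.f) hψf k.hd ≫
      RelProj.emb p' chart' k.U' k.hU') ≫ h).appLE (VD p chart k.U k.hU k.f) ⊤ _).hom _ = _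
  rw [appLE_congr_hom h3]
  have h4 := Scheme.Hom.appLE_comp_appLE (Spec.map (CommRingCat.ofHom (Away.map (k.psi u) k.f)))
    (Proj.awayι (𝒮.deg k.U k.hU) k.f k.hf k.hd ≫ RelProj.emb p chart k.U k.hU)
    (VD p chart k.U k.hU k.f) ⊤ ⊤ (tgt_preimage_VD k.U k.hU k.hf k.hd) le_top
  have h5 := congrArg (fun φ => φ.hom (Fsec k.U k.hU k.f x)) h4
  refine Eq.trans h5.symm ?_
  change ((Spec.map (CommRingCat.ofHom (Away.map (k.psi u) k.f))).appLE ⊤ ⊤ le_top).hom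
    (((Proj.awayι (𝒮.deg k.U k.hU) k.f k.hf k.hd ≫ RelProj.emb p chart k.U k.hU).appLE
      (VD p chart k.U k.hU k.f) ⊤ _).hom (Fsec k.U k.hU k.f x)) = _
  rw [Fsec_tgt k.U k.hU k.hf k.hd, appLE_top_top]
  exact (congrArg (fun φ => φ.hom x)
    (Scheme.ΓSpecIso_inv_naturality (CommRingCat.ofHom (Away.map (k.psi u) k.f)))).symm

end Groth.Agent.Lib.Helper63.PullO1Key
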