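import Mathlib

/-!
# A graded ring of the form `A[z]`, `z` of degree one, `A` in degree zero (helper63)

Ring-level facts used for the graded symmetric algebra of an invertible module:
`ℬ n = A z^n`, `A ≃ ℬ 0`, `ℬ 0 ≃ ℬ_(z)`, `D₊(z) = Proj ℬ`, and `Proj ℬ ⟶ Spec ℬ 0` is an isomorphism.
-/

set_option autoImplicit false
set_option linter.unusedSectionVars false
universe u

open DirectSum Polynomial HomogeneousLocalization AlgebraicGeometry CategoryTheory
open scoped HomogeneousIdeal

namespace Groth.Agent.Lib.Helper63.SymInvRing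

variable {A R : Type u} [CommRing A] [CommRing R] (ℬ : ℕ → AddSubgroup R) [GradedRing ℬ]
  (φ : A →+* R) (z : R)

/-- `R = A[z]` as a graded ring with `A` in degree `0` and `z` in degree `1`. -/
structure IsPolyGr : Prop where
  map_mem : ∀ a, φ a ∈ ℬ 0
  z_mem : z ∈ ℬ 1
  bij : Function.Bijective (Polynomial.eval₂RingHom φ z)

theorem specMap_preimage_basicOpen {B C : CommRingCat.{u}} (f : B ⟶ C) (c : B) :
    Spec.map f ⁻¹ᵁ PrimeSpectrum.basicOpen c = PrimeSpectrum.basicOpen (f.hom c) := by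
  ext v
  rfl

namespace IsPolyGr

variable {ℬ φ z} (h : IsPolyGr ℬ φ z)

include h

theorem pow_mem (n : ℕ) : z ^ n ∈ ℬ n := by
  have := SetLike.pow_mem_graded n h.z_mem
  rwa [smul_eq_mul, mul_one] at this

theorem term_mem (a : A) (n : ℕ) : φ a * z ^ n ∈ ℬ n := by
  have := SetLike.mul_mem_graded (h.map_mem a) (h.pow_mem n)
  rwa [zero_add] at this

theorem mem_iff (n : ℕ) (x : R) : x ∈ ℬ n ↔ ∃ a, x = φ a * z ^ n := by
  classical
  constructor
  · intro hx
    obtain ⟨p, rfl⟩ := h.bij.2 x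
    refine ⟨p.coeff n, ?_⟩
    have h1 : ((decompose ℬ (Polynomial.eval₂RingHom φ z p) n : ℬ n) : R) =
        Polynomial.eval₂RingHom φ z p := decompose_of_mem_same ℬ hx
    rw [← h1]
    change ((decompose ℬ (Polynomial.eval₂ φ z p) n : ℬ n) : R) = _
    rw [Polynomial.eval₂_eq_sum_range, decompose_sum, DFinsupp.finsetSum_apply,
      AddSubmonoidClass.coe_finsetSum]
    by_cases hn : n ∈ Finset.range (p.natDegree + 1)
    · rw [Finset.sum_eq_single n]
      · exact decompose_of_mem_same ℬ (h.term_mem _ _)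
      · intro i _ hin
        exact decompose_of_mem_ne ℬ (h.term_mem _ _) hin
      · intro hn'
        exact absurd hn hn'
    · have hc : p.coeff n = 0 := by
        apply Polynomial.coeff_eq_zero_of_natDegree_lt
        have := Finset.mem_range.not.mp hn
        omega
      rw [hc, map_zero, zero_mul]
      refine Finset.sum_eq_zero fun i hi => ?_
      have hin : i ≠ n := fun e => hn (e ▸ hi)
      exact decompose_of_mem_ne ℬ (h.term_mem _ _) hin
  · rintro ⟨a, rfl⟩
    exact h.term_mem a n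

theorem injective_φ : Function.Injective φ := by
  intro a b hab
  have : Polynomial.eval₂RingHom φ z (Polynomial.C a) = Polynomial.eval₂RingHom φ z (Polynomial.C b) := by
    simpa using hab
  exact Polynomial.C_injective (h.bij.1 this)

theorem eq_zero_of_pow_mul_eq_zero (m : ℕ) (x : R) (hx : z ^ m * x = 0) : x = 0 := by
  obtain ⟨p, rfl⟩ := h.bij.2 x
  have h1 : Polynomial.eval₂RingHom φ z (Polynomial.X ^ m * p) = 0 := by
    rw [map_mul, map_pow]
    simpa using hx
  have h2 : Polynomial.X ^ m * p = 0 := h.bij.1 (by rw [h1, map_zero])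
  have h3 : p = 0 := by
    ext k
    have := congrArg (fun q : A[X] => q.coeff (k + m)) h2
    simpa [Polynomial.coeff_X_pow_mul] using this
  rw [h3, map_zero]

theorem isUnit_of_dvd (a : A) (n : ℕ) (hd : φ a * z ^ n ∣ z ^ n) : IsUnit a := by
  obtain ⟨c, hc⟩ := hd
  obtain ⟨p, rfl⟩ := h.bij.2 c
  have h1 : Polynomial.eval₂RingHom φ z (Polynomial.X ^ n) =
      Polynomial.eval₂RingHom φ z (Polynomial.C a * Polynomial.X ^ n * p) := by
    rw [map_mul, map_mul, map_pow]
    simpa using hc
  have h2 := h.bij.1 h1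
  have h3 := congrArg (fun q : A[X] => q.coeff n) h2
  have h4 : (Polynomial.C a * Polynomial.X ^ n * p).coeff n = a * p.coeff 0 := by
    rw [mul_assoc, Polynomial.coeff_C_mul]
    have := Polynomial.coeff_X_pow_mul p n 0
    rw [zero_add] at this
    rw [this]
  simp only [Polynomial.coeff_X_pow, if_true] at h3
  rw [h4] at h3
  exact IsUnit.of_mul_eq_one _ h3.symm

theorem mem_span_of_isUnit (a : A) (ha : IsUnit a) (n : ℕ) (x : R) (hx : x ∈ ℬ n) :
    x ∈ Ideal.span {φ a * z ^ n} := by
  obtain ⟨b, rfl⟩ := (h.mem_iff n x).mp hx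
  obtain ⟨a', ha'⟩ := ha.exists_right_inv
  rw [Ideal.mem_span_singleton]
  refine ⟨φ (b * a'), ?_⟩
  have : φ a * φ a' = 1 := by rw [← map_mul, ha', map_one]
  calc φ b * z ^ n = φ b * (φ a * φ a') * z ^ n := by rw [this, mul_one]
    _ = φ a * z ^ n * φ (b * a') := by rw [map_mul]; ring

/-- `A → ℬ 0`. -/
def toZero : A →+* ℬ 0 where
  toFun a := ⟨φ a, h.map_mem a⟩
  map_one' := Subtype.ext (map_one φ)
  map_mul' a b := Subtype.ext (map_mul φ a b)
  map_zero' := Subtype.ext (map_zero φ)
  map_add' a b := Subtype.ext (map_add φ a b)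

@[simp] theorem toZero_coe (a : A) : ((h.toZero a : ℬ 0) : R) = φ a := rfl

theorem bijective_toZero : Function.Bijective h.toZero := by
  constructor
  · intro a b hab
    exact h.injective_φ (congrArg Subtype.val hab)
  · rintro ⟨x, hx⟩
    obtain ⟨a, rfl⟩ := (h.mem_iff 0 x).mp hx
    exact ⟨a, Subtype.ext (by simp)⟩

theorem bijective_fromZero :
    Function.Bijective (fromZeroRingHom ℬ (Submonoid.powers z)) := by
  constructor
  · rw [injective_iff_map_eq_zero]
    rintro ⟨c, hc⟩ h0
    have h1 := congrArg HomogeneousLocalization.val h0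
    rw [HomogeneousLocalization.val_zero] at h1
    change Localization.mk c 1 = 0 at h1
    rw [Localization.mk_eq_mk', IsLocalization.mk'_eq_zero_iff] at h1
    obtain ⟨⟨_, m, rfl⟩, hm⟩ := h1
    exact Subtype.ext (h.eq_zero_of_pow_mul_eq_zero m c hm)
  · intro x
    obtain ⟨n, a, ha, rfl⟩ := Away.mk_surjective ℬ h.z_mem x
    rw [smul_eq_mul, mul_one] at ha
    obtain ⟨b, rfl⟩ := (h.mem_iff n a).mp ha
    refine ⟨⟨φ b, h.map_mem b⟩, ?_⟩
    apply HomogeneousLocalization.val_injective
    rw [Away.val_mk]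
    change Localization.mk (φ b) 1 = _
    rw [Localization.mk_eq_mk_iff, Localization.r_iff_exists]
    exact ⟨1, by simp [mul_comm]⟩

theorem basicOpen_eq_top : Proj.basicOpen ℬ z = ⊤ := by
  rw [eq_top_iff]
  intro x _
  rw [Proj.mem_basicOpen]
  intro hzx
  apply x.not_irrelevant_le
  rw [HomogeneousIdeal.irrelevant_le]
  intro n hn b hb
  obtain ⟨a, rfl⟩ := (h.mem_iff n b).mp hb
  exact Ideal.mul_mem_left _ _ (Ideal.pow_mem_of_mem _ hzx n hn)

theorem isIso_awayι : IsIso (Proj.awayι ℬ z h.z_mem one_pos) := by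
  apply isIso_of_isOpenImmersion_of_opensRange_eq_top
  rw [Proj.opensRange_awayι, h.basicOpen_eq_top]

theorem isIso_toSpecZero : IsIso (Proj.toSpecZero ℬ) := by
  have h1 := h.isIso_awayι
  have h2 : IsIso (Spec.map (CommRingCat.ofHom (fromZeroRingHom ℬ (Submonoid.powers z)))) := by
    have : IsIso (CommRingCat.ofHom (fromZeroRingHom ℬ (Submonoid.powers z))) :=
      (ConcreteCategory.isIso_iff_bijective _).mpr h.bijective_fromZero
    infer_instance
  have h3 := Proj.awayι_toSpecZero ℬ z h.z_mem one_pos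
  have h4 : Proj.toSpecZero ℬ = inv (Proj.awayι ℬ z h.z_mem one_pos) ≫
      Spec.map (CommRingCat.ofHom (fromZeroRingHom ℬ (Submonoid.powers z))) := by
    rw [← h3, IsIso.inv_hom_id_assoc]
  rw [h4]
  infer_instance

/-- For `c` of degree zero: the preimage of `D(c)` under the structure map is `D₊(c)`. -/
theorem toSpecZero_preimage_basicOpen (c : ℬ 0) :
    Proj.toSpecZero ℬ ⁻¹ᵁ PrimeSpectrum.basicOpen c = Proj.basicOpen ℬ (c : R) := by
  have hiso := h.isIso_awayι
  have hcz : (c : R) * z ∈ ℬ 1 := by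
    have := SetLike.mul_mem_graded c.2 h.z_mem
    rwa [zero_add] at this
  have h1 : Proj.awayι ℬ z h.z_mem one_pos ⁻¹ᵁ (Proj.toSpecZero ℬ ⁻¹ᵁ PrimeSpectrum.basicOpen c) =
      PrimeSpectrum.basicOpen (fromZeroRingHom ℬ (Submonoid.powers z) c) := by
    rw [← Scheme.Hom.comp_preimage, Proj.awayι_toSpecZero]
    exact specMap_preimage_basicOpen (B := CommRingCat.of (ℬ 0))
      (CommRingCat.ofHom (fromZeroRingHom ℬ (Submonoid.powers z))) c
  have h2 : Proj.awayι ℬ z h.z_mem one_pos ⁻¹ᵁ (Proj.basicOpen ℬ (c : R)) =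
      PrimeSpectrum.basicOpen (fromZeroRingHom ℬ (Submonoid.powers z) c) := by
    have e1 : Proj.basicOpen ℬ (c : R) = Proj.basicOpen ℬ ((c : R) * z) := by
      rw [Proj.basicOpen_mul, h.basicOpen_eq_top, inf_top_eq]
    rw [e1, Proj.awayι_preimage_basicOpen ℬ h.z_mem one_pos hcz one_pos]
    congr 1
    apply HomogeneousLocalization.val_injective
    rw [Away.val_mk]
    change _ = Localization.mk (c : R) 1
    rw [Localization.mk_eq_mk_iff, Localization.r_iff_exists]
    exact ⟨1, by simp [mul_comm]⟩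
  ext y
  obtain ⟨v, rfl⟩ := (Proj.awayι ℬ z h.z_mem one_pos).surjective y
  have e1 := congrArg (fun W : (Spec (CommRingCat.of (Away ℬ z))).Opens => v ∈ W) h1
  have e2 := congrArg (fun W : (Spec (CommRingCat.of (Away ℬ z))).Opens => v ∈ W) h2
  simp only [eq_iff_iff] at e1 e2
  exact e1.trans e2.symm

end IsPolyGr

end Groth.Agent.Lib.Helper63.SymInvRing
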