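import Mathlib
import Groth.Prelude.Def_RelProj4
import Groth.Prelude.Def_Pic
import Groth.Agent.Lib.Helper18.SymQC5
import Groth.Agent.Lib.Helper45.InvBasis
import Groth.Agent.Lib.Helper63.SymInvRing

/-!
# The graded symmetric algebra of an invertible module, locally (helper63)

For `L` invertible on `X` with graded symmetric algebra `𝒮L`, over an affine open `V` on which `L` has a
basis `t`, `𝒮L(V) = Γ(V)[z]` with `z = j t` (`isPolyGr`).  Consequently `Proj(𝒮L) ⟶ X` is an isomorphism.
-/

set_option autoImplicit false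
set_option linter.unusedSectionVars false
universe u

open CategoryTheory CategoryTheory.Limits AlgebraicGeometry TopologicalSpace Opposite
open scoped HomogeneousIdeal

namespace Groth.Agent.Lib.Helper63.SymInv

open Groth.Agent.Lib.Helper63.SymInvRing Groth.Agent.Lib.Helper18.SymQC Groth.Agent.Lib.Helper45
  Groth.Agent.Lib.Helper49

/-- For a module `M` over `R` free on one element `t`, `Sym_R M = R[ι t]`. -/
theorem bijective_eval₂_ι {R M : Type u} [CommRing R] [AddCommGroup M] [Module R M] (t : M)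
    (ht : Function.Bijective (fun r : R => r • t)) :
    Function.Bijective (Polynomial.eval₂RingHom (algebraMap R (SymmetricAlgebra R M))
      (SymmetricAlgebra.ι R M t)) := by
  let e0 : R ≃ₗ[R] M := LinearEquiv.ofBijective
    { toFun := fun r => r • t
      map_add' := fun a b => add_smul a b t
      map_smul' := fun c r => by simp [mul_smul] } ht
  let b : Module.Basis Unit R M := (Module.Basis.singleton Unit R).map e0
  have hb : b () = t := by
    simp [b, e0]
  let e : SymmetricAlgebra R M ≃ₐ[R] Polynomial R :=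
    (SymmetricAlgebra.equivMvPolynomial b).trans (MvPolynomial.uniqueAlgEquiv R Unit)
  have he : e (SymmetricAlgebra.ι R M t) = Polynomial.X := by
    rw [← hb]
    simp [e]
  have h1 : (Polynomial.aeval (SymmetricAlgebra.ι R M t) : Polynomial R →ₐ[R] SymmetricAlgebra R M) =
      (e.symm : Polynomial R →ₐ[R] SymmetricAlgebra R M) := by
    apply Polynomial.algHom_ext
    rw [Polynomial.aeval_X, ← he]
    simp
  have h2 : ⇑(Polynomial.eval₂RingHom (algebraMap R (SymmetricAlgebra R M))
      (SymmetricAlgebra.ι R M t)) = ⇑e.symm := by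
    funext p
    have := congrArg (fun f : Polynomial R →ₐ[R] SymmetricAlgebra R M => f p) h1
    simpa [Polynomial.aeval_def] using this
  rw [h2]
  exact e.symm.bijective

variable {X : Scheme.{u}} (L : X.Modules) (hLq : Coh.IsQCoh L)
  (𝒮L : RelProj.QCGrAlg X) (j : L ⟶ 𝒮L.toModule) (hj : RelProj.IsGrSymAlg L 𝒮L j)

/-- the degree one element attached to a section of `L`. -/
noncomputable def zOf (V : X.Opens) (t : Γ(L, V)) : 𝒮L.presheaf.obj (op V) :=
  toSec 𝒮L.toQCAlg V (j.app V t)

include hLq hj in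
/-- Over an affine open `V` on which `L` has the basis `t`: `𝒮L(V) = Γ(V)[z]`. -/
theorem isPolyGr (V : X.Opens) (hV : IsAffineOpen V) (t : Γ(L, V)) (ht : IsBasisOn L V t) :
    IsPolyGr (𝒮L.deg V hV) (𝒮L.str.app (op V)).hom (zOf L 𝒮L j V t) where
  map_mem r := 𝒮L.str_mem V hV r
  z_mem := hj.2 V hV t
  bij := by
    have : L.IsQuasicoherent := hLq
    have h1 := bijective_liftU L 𝒮L.toQCAlg j hj.1 V hV
    have h2 := bijective_eval₂_ι (R := Γ(X, V)) (M := Γ(L, V)) t (by
      have := ht V le_rfl
      simpa using this)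
    have h3 : (Polynomial.eval₂RingHom (𝒮L.str.app (op V)).hom (zOf L 𝒮L j V t)) =
        (liftU L 𝒮L.toQCAlg j V).comp
          (Polynomial.eval₂RingHom (algebraMap Γ(X, V) (SymmetricAlgebra Γ(X, V) Γ(L, V)))
            (SymmetricAlgebra.ι Γ(X, V) Γ(L, V) t)) := by
      apply Polynomial.ringHom_ext
      · intro r
        simp only [Polynomial.coe_eval₂RingHom, Polynomial.eval₂_C, RingHom.comp_apply]
        exact (liftU_algebraMap L 𝒮L.toQCAlg j V r).symm
      · simp only [Polynomial.coe_eval₂RingHom, Polynomial.eval₂_X, RingHom.comp_apply]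
        exact (liftU_ι L 𝒮L.toQCAlg j V t).symm
    rw [h3]
    exact h1.comp h2

variable {PL : Scheme.{u}} (pL : PL ⟶ X)
  (chartL : ∀ (U : X.Opens) (hU : IsAffineOpen U), (((pL ⁻¹ᵁ U : PL.Opens) : Scheme.{u}) ≅ Proj (𝒮L.deg U hU)))
  (hPL : RelProj.IsRelProj 𝒮L pL chartL)

include hLq hj hPL in
/-- Over an affine open with a basis of `L`, the structure morphism of `Proj(𝒮L)` is an isomorphism. -/
theorem isIso_restrict (V : X.Opens) (hV : IsAffineOpen V) (t : Γ(L, V)) (ht : IsBasisOn L V t) :
    IsIso (pL ∣_ V) := by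
  have h := isPolyGr L hLq 𝒮L j hj V hV t ht
  have h1 : IsIso (Proj.toSpecZero (𝒮L.deg V hV)) := h.isIso_toSpecZero
  have h2 : IsIso (Spec.map (𝒮L.strZero V hV)) := by
    have : IsIso (𝒮L.strZero V hV) := by
      rw [ConcreteCategory.isIso_iff_bijective]
      exact h.bijective_toZero
    infer_instance
  have h3 : pL ∣_ V = (chartL V hV).hom ≫ Proj.toSpecZero (𝒮L.deg V hV) ≫
      Spec.map (𝒮L.strZero V hV) ≫ hV.isoSpec.inv := by
    rw [← cancel_mono V.ι]
    simp only [Category.assoc]
    rw [morphismRestrict_ι, IsAffineOpen.isoSpec_inv_ι]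
    exact (hPL.chart_over V hV).symm
  rw [h3]
  infer_instance

include hLq hj hPL in
/-- **`Proj(⊕ L^{⊗n}) ⟶ X` is an isomorphism for `L` invertible.** -/
theorem isIso_pL (hL : PicF.IsInvertible L) : IsIso pL := by
  have key : ∀ x : X, ∃ V : X.Opens, x ∈ V ∧ IsIso (pL ∣_ V) := by
    intro x
    obtain ⟨V, hxV, t, ht⟩ := exists_isBasisOn_of_isInvertible hL x
    obtain ⟨W, hW, hxW, hWV⟩ := (Opens.isBasis_iff_nbhd.mp X.isBasis_affineOpens) hxV
    exact ⟨W, hxW, isIso_restrict L hLq 𝒮L j hj pL chartL hPL W hW (mres L hWV t) (ht.mono hWV)⟩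
  choose V hxV hV using key
  refine IsZariskiLocalAtTarget.of_iSup_eq_top (P := MorphismProperty.isomorphisms Scheme) V ?_ hV
  rw [eq_top_iff]
  intro x _
  exact Opens.mem_iSup.mpr ⟨x, hxV x⟩

end Groth.Agent.Lib.Helper63.SymInv
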