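import Mathlib
import Groth.Agent.Lib.Helper63.SymInv
import Groth.Agent.Lib.Helper42.ProjQMapAbs
import Groth.Agent.Lib.Helper42.ProjQMapOn
import Groth.Agent.Lib.Helper42.RelProjBasicOpen

/-!
# The open of definition `G(u)` for the graded symmetric algebra of an invertible module (helper63)
-/

set_option autoImplicit false
set_option linter.unusedSectionVars false
universe u

open CategoryTheory CategoryTheory.Limits AlgebraicGeometry TopologicalSpace Opposite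
open scoped HomogeneousIdeal

namespace Groth.Agent.Lib.Helper63.SymInvDom

open Groth.Agent.Lib.Helper63.SymInvRing Groth.Agent.Lib.Helper63.SymInv
  Groth.Agent.Lib.Helper18.SymQC Groth.Agent.Lib.Helper45 Groth.Agent.Lib.Helper49
  Groth.Agent.Lib.Helper42

section QC

variable {S : Scheme.{u}} (𝒮 : RelProj.QCGrAlg S)

/-- Restriction of sections of a quasi-coherent graded algebra. -/
noncomputable abbrev rs {U V : S.Opens} (h : V ≤ U) : 𝒮.presheaf.obj (op U) →+* 𝒮.presheaf.obj (op V) :=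
  (𝒮.presheaf.map (homOfLE h).op).hom

theorem rs_rs {U V W : S.Opens} (h₁ : V ≤ U) (h₂ : W ≤ V) (x : 𝒮.presheaf.obj (op U)) :
    rs 𝒮 h₂ (rs 𝒮 h₁ x) = rs 𝒮 (h₂.trans h₁) x := by
  unfold rs
  rw [← CommRingCat.comp_apply, ← Functor.map_comp]
  rfl

theorem rs_str {U V : S.Opens} (h : V ≤ U) (r : Γ(S, U)) :
    rs 𝒮 h ((𝒮.str.app (op U)).hom r) = (𝒮.str.app (op V)).hom ((S.presheaf.map (homOfLE h).op).hom r) := by
  have := congrArg (fun ψ => ψ.hom r) (𝒮.str.naturality (homOfLE h).op)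
  exact this.symm

/-- A homogeneous section over a basic open is, up to a power of `r`, the restriction of a homogeneous
section of the same degree. -/
theorem exists_homog_lift (U : S.Opens) (hU : IsAffineOpen U) (r : Γ(S, U)) (n : ℕ)
    (b' : 𝒮.presheaf.obj (op (S.basicOpen r))) (hb' : b' ∈ 𝒮.deg (S.basicOpen r) (hU.basicOpen r) n) :
    ∃ (k : ℕ) (b : 𝒮.presheaf.obj (op U)), b ∈ 𝒮.deg U hU n ∧
      rs 𝒮 (S.basicOpen_le r) b = b' * (rs 𝒮 (S.basicOpen_le r) ((𝒮.str.app (op U)).hom r)) ^ k := by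
  classical
  let ψ := 𝒮.res hU (hU.basicOpen r) (S.basicOpen_le r)
  let _inst := (𝒮.presheaf.map (homOfLE (S.basicOpen_le r)).op).hom.toAlgebra
  let c := (𝒮.str.app (op U)).hom r
  have hloc : IsLocalization.Away c (𝒮.presheaf.obj (op (S.basicOpen r))) := 𝒮.isQC U hU r
  obtain ⟨⟨x, s, hs⟩, hxs⟩ := IsLocalization.surj (Submonoid.powers c) b'
  obtain ⟨k, rfl⟩ := (Submonoid.mem_powers_iff _ _).mp hs
  change b' * ψ (c ^ k) = ψ x at hxs
  have hc0 : ψ (c ^ k) ∈ 𝒮.deg (S.basicOpen r) (hU.basicOpen r) 0 := by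
    rw [map_pow]
    exact SetLike.pow_mem_graded _ (ψ.map_mem (𝒮.str_mem U hU r))
  have hbi : b' * ψ (c ^ k) ∈ 𝒮.deg (S.basicOpen r) (hU.basicOpen r) n := by
    simpa only [add_zero] using SetLike.mul_mem_graded (A := 𝒮.deg (S.basicOpen r) (hU.basicOpen r)) hb' hc0
  have hxi : ψ (DirectSum.decompose (𝒮.deg U hU) x n : 𝒮.presheaf.obj (op U)) = b' * ψ (c ^ k) := by
    rw [GradedRingHom.map_directSumDecompose, ← hxs, DirectSum.decompose_of_mem_same _ hbi]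
  refine ⟨k, (DirectSum.decompose (𝒮.deg U hU) x n : 𝒮.presheaf.obj (op U)), SetLike.coe_mem _, ?_⟩
  rw [← map_pow]
  exact hxi

theorem isUnit_rs_str (U : S.Opens) (hU : IsAffineOpen U) (r : Γ(S, U)) :
    IsUnit (rs 𝒮 (S.basicOpen_le r) ((𝒮.str.app (op U)).hom r)) := by
  let _inst := (𝒮.presheaf.map (homOfLE (S.basicOpen_le r)).op).hom.toAlgebra
  have hloc : IsLocalization.Away ((𝒮.str.app (op U)).hom r) (𝒮.presheaf.obj (op (S.basicOpen r))) :=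
    𝒮.isQC U hU r
  exact IsLocalization.Away.algebraMap_isUnit _

/-- Generation of the degree `n` part by one element passes to basic opens. -/
theorem gen_basicOpen (U : S.Opens) (hU : IsAffineOpen U) (r : Γ(S, U)) (n : ℕ)
    (c : 𝒮.presheaf.obj (op U))
    (hc : ((𝒮.deg U hU n : AddSubgroup (𝒮.presheaf.obj (op U))) : Set (𝒮.presheaf.obj (op U))) ⊆
      (Ideal.span {c} : Set (𝒮.presheaf.obj (op U)))) :
    ((𝒮.deg (S.basicOpen r) (hU.basicOpen r) n : AddSubgroup _) : Set (𝒮.presheaf.obj (op (S.basicOpen r)))) ⊆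
      (Ideal.span {rs 𝒮 (S.basicOpen_le r) c} : Set (𝒮.presheaf.obj (op (S.basicOpen r)))) := by
  intro b' hb'
  obtain ⟨k, b, hb, hbb⟩ := exists_homog_lift 𝒮 U hU r n b' hb'
  have h1 : b ∈ Ideal.span {c} := hc hb
  have h2 : rs 𝒮 (S.basicOpen_le r) b ∈ Ideal.span {rs 𝒮 (S.basicOpen_le r) c} := by
    rw [Ideal.mem_span_singleton] at h1 ⊢
    exact map_dvd _ h1
  obtain ⟨v, hv⟩ := (isUnit_rs_str 𝒮 U hU r).pow k
  have h3 : b' = rs 𝒮 (S.basicOpen_le r) b * ↑v⁻¹ := by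
    rw [hbb, ← hv, mul_assoc, Units.mul_inv, mul_one]
  change b' ∈ Ideal.span {rs 𝒮 (S.basicOpen_le r) c}
  rw [h3]
  exact Ideal.mul_mem_right _ _ h2

end QC

section Main

variable {X : Scheme.{u}} (L : X.Modules) (hL : PicF.IsInvertible L) (hLq : Coh.IsQCoh L)
  (𝒮L : RelProj.QCGrAlg X) (j : L ⟶ 𝒮L.toModule) (hj : RelProj.IsGrSymAlg L 𝒮L j)
  {PL : Scheme.{u}} (pL : PL ⟶ X)
  (chartL : ∀ (U : X.Opens) (hU : IsAffineOpen U), (((pL ⁻¹ᵁ U : PL.Opens) : Scheme.{u}) ≅ Proj (𝒮L.deg U hU)))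
  (hPL : RelProj.IsRelProj 𝒮L pL chartL)

theorem zOf_res {V V2 : X.Opens} (h : V2 ≤ V) (t : Γ(L, V)) :
    zOf L 𝒮L j V2 (mres L h t) = rs 𝒮L h (zOf L 𝒮L j V t) := by
  have hnat := j.mapPresheaf.naturality (homOfLE h).op
  exact (congrArg (fun k => k.hom t) hnat)

/-- `σ` generates the degree `n` part of `𝒮L` over the affine open `V`. -/
def GenAt {W : X.Opens} (σ : 𝒮L.presheaf.obj (op W)) (n : ℕ) (V : X.Opens) (hV : IsAffineOpen V)
    (hVW : V ≤ W) : Prop :=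
  ((𝒮L.deg V hV n : AddSubgroup (𝒮L.presheaf.obj (op V))) : Set (𝒮L.presheaf.obj (op V))) ⊆
    (Ideal.span {rs 𝒮L hVW σ} : Set (𝒮L.presheaf.obj (op V)))

/-- `σ` is homogeneous of degree `n` over the affine opens. -/
def HomogOn {W : X.Opens} (σ : 𝒮L.presheaf.obj (op W)) (n : ℕ) : Prop :=
  ∀ (V : X.Opens) (hV : IsAffineOpen V) (hVW : V ≤ W), rs 𝒮L hVW σ ∈ 𝒮L.deg V hV n

variable {𝒮L}

theorem GenAt.basicOpen {W : X.Opens} {σ : 𝒮L.presheaf.obj (op W)} {n : ℕ} {V : X.Opens}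
    {hV : IsAffineOpen V} {hVW : V ≤ W} (h : GenAt 𝒮L σ n V hV hVW) (r : Γ(X, V)) :
    GenAt 𝒮L σ n (X.basicOpen r) (hV.basicOpen r) ((X.basicOpen_le r).trans hVW) := by
  have := gen_basicOpen 𝒮L V hV r n _ h
  rwa [rs_rs] at this

theorem GenAt.congr {W : X.Opens} {σ : 𝒮L.presheaf.obj (op W)} {n : ℕ} {V V' : X.Opens}
    {hV : IsAffineOpen V} {hVW : V ≤ W} (h : GenAt 𝒮L σ n V hV hVW) (e : V = V') :
    GenAt 𝒮L σ n V' (e ▸ hV) (e ▸ hVW) := by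
  subst e
  exact h

variable (𝒮L)

include hLq hj hPL in
/-- Over a good affine open: `(emb_V ≫ pL)⁻¹(D(a)) = D₊(a)`. -/
theorem emb_preimage_basicOpen (V : X.Opens) (hV : IsAffineOpen V) (t : Γ(L, V)) (ht : IsBasisOn L V t)
    (a : Γ(X, V)) :
    (RelProj.emb pL chartL V hV ≫ pL) ⁻¹ᵁ X.basicOpen a =
      Proj.basicOpen (𝒮L.deg V hV) ((𝒮L.str.app (op V)).hom a) := by
  have h := isPolyGr L hLq 𝒮L j hj V hV t ht
  rw [emb_comp_p hPL V hV, Scheme.Hom.comp_preimage, Scheme.Hom.comp_preimage,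
    hV.fromSpec_preimage_basicOpen, specMap_preimage_basicOpen]
  exact h.toSpecZero_preimage_basicOpen ((𝒮L.strZero V hV).hom a)

include hPL in
/-- Points of a chart lying over a basic open come from the chart of the basic open. -/
theorem exists_lift_point (V : X.Opens) (hV : IsAffineOpen V) (g : Γ(X, V))
    (y : Proj (𝒮L.deg V hV)) (hy : (RelProj.emb pL chartL V hV ≫ pL).base y ∈ X.basicOpen g) :
    ∃ y2 : Proj (𝒮L.deg (X.basicOpen g) (hV.basicOpen g)),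
      (Proj.map (𝒮L.res hV (hV.basicOpen g) (X.basicOpen_le g)) (𝒮L.irrelevant_le_map V hV g)).base y2 = y := by
  have h1 : (RelProj.emb pL chartL V hV).base y ∈ pL ⁻¹ᵁ X.basicOpen g := hy
  rw [← opensRange_emb 𝒮L pL chartL (X.basicOpen g) (hV.basicOpen g)] at h1
  obtain ⟨y2, hy2⟩ := h1
  refine ⟨y2, ?_⟩
  have h2 := RelProj.map_res_emb hPL V hV g
  have h3 := congrArg (fun m => m.base y2) h2
  simp only [Scheme.Hom.comp_base, TopCat.coe_comp, Function.comp_apply] at h3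
  rw [hy2] at h3
  exact (RelProj.emb pL chartL V hV).isOpenEmbedding.injective h3

include hPL in
theorem base_mem_of_chart (V' : X.Opens) (hV' : IsAffineOpen V') (y : Proj (𝒮L.deg V' hV')) :
    (RelProj.emb pL chartL V' hV' ≫ pL).base y ∈ V' := by
  have : (RelProj.emb pL chartL V' hV').base y ∈ (RelProj.emb pL chartL V' hV').opensRange := ⟨y, rfl⟩
  rw [opensRange_emb 𝒮L pL chartL V' hV'] at this
  exact this

include hL hLq hj hPL in
/-- If `σ` generates the degree `n` part near the image of `y`, then `σ ∉ y`. -/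
theorem mem_basicOpen_of_genAt {W : X.Opens} (σ : 𝒮L.presheaf.obj (op W)) (n : ℕ) (hσ : HomogOn 𝒮L σ n)
    (V' : X.Opens) (hV' : IsAffineOpen V') (hV'W : V' ≤ W) (y : Proj (𝒮L.deg V' hV'))
    (V : X.Opens) (hV : IsAffineOpen V) (hVW : V ≤ W)
    (hxV : (RelProj.emb pL chartL V' hV' ≫ pL).base y ∈ V) (hgen : GenAt 𝒮L σ n V hV hVW) :
    y ∈ Proj.basicOpen (𝒮L.deg V' hV') (rs 𝒮L hV'W σ) := by
  obtain ⟨x, hx⟩ : ∃ x, x = (RelProj.emb pL chartL V' hV' ≫ pL).base y := ⟨_, rfl⟩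
  rw [← hx] at hxV
  have hxV' : x ∈ V' := hx ▸ base_mem_of_chart 𝒮L pL chartL hPL V' hV' y
  obtain ⟨V0, hxV0, t0, ht0⟩ := exists_isBasisOn_of_isInvertible hL x
  obtain ⟨a, haV0, hxa⟩ := hV.exists_basicOpen_le ⟨x, hxV0⟩ hxV
  have hV1 := hV.basicOpen a
  obtain ⟨f1, g, hfg, hxf⟩ := exists_basicOpen_le_affine_inter hV1 hV' x ⟨hxa, hxV'⟩
  have hgen3 := ((hgen.basicOpen a).basicOpen f1).congr hfg
  have hV2 := hV'.basicOpen g
  have hV2V0 : X.basicOpen g ≤ V0 := hfg ▸ (X.basicOpen_le f1).trans haV0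
  have h2 := isPolyGr L hLq 𝒮L j hj (X.basicOpen g) hV2 (mres L hV2V0 t0) (ht0.mono hV2V0)
  have hV2W : X.basicOpen g ≤ W := (X.basicOpen_le g).trans hV'W
  obtain ⟨a2, ha2⟩ := (h2.mem_iff n _).mp (hσ _ hV2 hV2W)
  have hu : IsUnit a2 := h2.isUnit_of_dvd a2 n (by
    have := hgen3 (h2.pow_mem n)
    change _ ∈ Ideal.span {rs 𝒮L hV2W σ} at this
    rw [Ideal.mem_span_singleton, ha2] at this
    exact this)
  have hxg : x ∈ X.basicOpen g := hfg ▸ hxf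
  obtain ⟨y2, hy2⟩ := exists_lift_point 𝒮L pL chartL hPL V' hV' g y (hx ▸ hxg)
  rw [← hy2]
  change y2 ∈ (Proj.map _ _) ⁻¹ᵁ Proj.basicOpen _ _
  rw [Proj.map_preimage_basicOpen]
  have e1 : (𝒮L.res hV' hV2 (X.basicOpen_le g)) (rs 𝒮L hV'W σ) = rs 𝒮L hV2W σ := rs_rs 𝒮L _ _ σ
  rw [e1, ha2, Proj.mem_basicOpen]
  intro hmem
  rcases y2.isPrime.mem_or_mem hmem with h | h
  · exact y2.isPrime.ne_top (Ideal.eq_top_of_isUnit_mem _ h (hu.map _))
  · have hz := y2.isPrime.mem_of_pow_mem n h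
    have : y2 ∈ Proj.basicOpen (𝒮L.deg (X.basicOpen g) hV2) (zOf L 𝒮L j (X.basicOpen g) (mres L hV2V0 t0)) := by
      rw [h2.basicOpen_eq_top]; trivial
    rw [Proj.mem_basicOpen] at this
    exact this hz

include hLq hj in
/-- Over a good affine open where `σ = a z^n`, `σ` generates the degree `n` part over `D(a)`. -/
theorem genAt_basicOpen_of_eq {W : X.Opens} (σ : 𝒮L.presheaf.obj (op W)) (n : ℕ)
    (V : X.Opens) (hV : IsAffineOpen V) (hVW : V ≤ W) (t : Γ(L, V)) (ht : IsBasisOn L V t)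
    (a : Γ(X, V)) (ha : rs 𝒮L hVW σ = (𝒮L.str.app (op V)).hom a * (zOf L 𝒮L j V t) ^ n) :
    GenAt 𝒮L σ n (X.basicOpen a) (hV.basicOpen a) ((X.basicOpen_le a).trans hVW) := by
  have h32 : X.basicOpen a ≤ V := X.basicOpen_le a
  have h3 := isPolyGr L hLq 𝒮L j hj (X.basicOpen a) (hV.basicOpen a) _ (ht.mono h32)
  have e3 : rs 𝒮L (h32.trans hVW) σ = (𝒮L.str.app (op (X.basicOpen a))).hom
      ((X.presheaf.map (homOfLE h32).op).hom a) *
        (zOf L 𝒮L j (X.basicOpen a) (mres L h32 t)) ^ n := by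
    rw [← rs_rs 𝒮L hVW h32 σ, ha, map_mul, map_pow, rs_str, zOf_res L 𝒮L j h32 t]
  have hu : IsUnit ((X.presheaf.map (homOfLE h32).op).hom a) :=
    RingedSpace.isUnit_res_basicOpen X.toRingedSpace a
  intro b hb
  change b ∈ Ideal.span {rs 𝒮L (h32.trans hVW) σ}
  rw [e3]
  exact h3.mem_span_of_isUnit _ hu n b hb

include hL hLq hj hPL in
/-- If `σ ∉ y`, then `σ` generates the degree `n` part near the image of `y`. -/
theorem exists_genAt_of_mem {W : X.Opens} (σ : 𝒮L.presheaf.obj (op W)) (n : ℕ) (hσ : HomogOn 𝒮L σ n)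
    (V' : X.Opens) (hV' : IsAffineOpen V') (hV'W : V' ≤ W) (y : Proj (𝒮L.deg V' hV'))
    (hy : y ∈ Proj.basicOpen (𝒮L.deg V' hV') (rs 𝒮L hV'W σ)) :
    ∃ (V : X.Opens) (hV : IsAffineOpen V) (hVW : V ≤ W),
      (RelProj.emb pL chartL V' hV' ≫ pL).base y ∈ V ∧ GenAt 𝒮L σ n V hV hVW := by
  obtain ⟨x, hx⟩ : ∃ x, x = (RelProj.emb pL chartL V' hV' ≫ pL).base y := ⟨_, rfl⟩
  rw [← hx]
  have hxV' : x ∈ V' := hx ▸ base_mem_of_chart 𝒮L pL chartL hPL V' hV' y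
  obtain ⟨V0, hxV0, t0, ht0⟩ := exists_isBasisOn_of_isInvertible hL x
  obtain ⟨g, hgV0, hxg⟩ := hV'.exists_basicOpen_le ⟨x, hxV0⟩ hxV'
  have hV2 := hV'.basicOpen g
  have ht2 := ht0.mono hgV0
  have h2 := isPolyGr L hLq 𝒮L j hj (X.basicOpen g) hV2 (mres L hgV0 t0) ht2
  have hV2W : X.basicOpen g ≤ W := (X.basicOpen_le g).trans hV'W
  obtain ⟨a2, ha2⟩ := (h2.mem_iff n _).mp (hσ _ hV2 hV2W)
  obtain ⟨y2, hy2⟩ := exists_lift_point 𝒮L pL chartL hPL V' hV' g y (hx ▸ hxg)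
  -- `y2 ∈ D₊(str a2)`
  have hy2mem : y2 ∈ Proj.basicOpen (𝒮L.deg (X.basicOpen g) hV2) ((𝒮L.str.app (op (X.basicOpen g))).hom a2) := by
    rw [← hy2] at hy
    change y2 ∈ (Proj.map _ _) ⁻¹ᵁ Proj.basicOpen _ _ at hy
    rw [Proj.map_preimage_basicOpen] at hy
    have e1 : (𝒮L.res hV' hV2 (X.basicOpen_le g)) (rs 𝒮L hV'W σ) = rs 𝒮L hV2W σ := rs_rs 𝒮L _ _ σ
    rw [e1, ha2, Proj.basicOpen_mul] at hy
    exact hy.1
  rw [← emb_preimage_basicOpen L hLq 𝒮L j hj pL chartL hPL (X.basicOpen g) hV2 _ ht2 a2] at hy2mem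
  have hx2 : (RelProj.emb pL chartL (X.basicOpen g) hV2 ≫ pL).base y2 = x := by
    have h3 := congrArg (fun m => (m ≫ pL).base y2) (RelProj.map_res_emb hPL V' hV' g)
    simp only [Scheme.Hom.comp_base, TopCat.coe_comp, Function.comp_apply] at h3 hx ⊢
    rw [← h3, hy2, hx]
  have hxa2 : x ∈ X.basicOpen a2 := hx2 ▸ hy2mem
  have hV3 := hV2.basicOpen a2
  have h32 : X.basicOpen a2 ≤ X.basicOpen g := X.basicOpen_le a2
  have ht3 := ht2.mono h32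
  have h3 := isPolyGr L hLq 𝒮L j hj (X.basicOpen a2) hV3 _ ht3
  have hV3W : X.basicOpen a2 ≤ W := h32.trans hV2W
  refine ⟨X.basicOpen a2, hV3, hV3W, hxa2, ?_⟩
  have e3 : rs 𝒮L hV3W σ = (𝒮L.str.app (op (X.basicOpen a2))).hom
      ((X.presheaf.map (homOfLE h32).op).hom a2) *
        (zOf L 𝒮L j (X.basicOpen a2) (mres L h32 (mres L hgV0 t0))) ^ n := by
    rw [← rs_rs 𝒮L hV2W h32 σ, ha2, map_mul, map_pow, rs_str, zOf_res L 𝒮L j h32 (mres L hgV0 t0)]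
  have hu : IsUnit ((X.presheaf.map (homOfLE h32).op).hom a2) :=
    RingedSpace.isUnit_res_basicOpen X.toRingedSpace a2
  intro b hb
  change b ∈ Ideal.span {rs 𝒮L hV3W σ}
  rw [e3]
  exact h3.mem_span_of_isUnit _ hu n b hb

end Main

section Dom

variable {X Y : Scheme.{u}} {q : X ⟶ Y} {𝒮 : RelProj.QCGrAlg Y} {𝒮L : RelProj.QCGrAlg X}
  (u : RelProj.QGrHom q 𝒮 𝒮L)

theorem u_appLE_map {U : Y.Opens} {U' U'' : X.Opens} (hle : U' ≤ q ⁻¹ᵁ U) (i : U'' ≤ U')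
    (x : 𝒮.presheaf.obj (op U)) :
    rs 𝒮L i ((u.appLE U U' hle).hom x) = (u.appLE U U'' (i.trans hle)).hom x :=
  congrArg (fun φ => φ.hom x) (u.toQHom.appLE_map hle i)

theorem u_map_appLE {U V : Y.Opens} {U' : X.Opens} (i : V ≤ U) (hle : U' ≤ q ⁻¹ᵁ V)
    (x : 𝒮.presheaf.obj (op U)) :
    (u.appLE V U' hle).hom (rs 𝒮 i x) = (u.appLE U U' (hle.trans (q.preimage_mono i))).hom x :=
  congrArg (fun φ => φ.hom x) (u.toQHom.map_appLE i hle)

theorem u_str_appLE (U : Y.Opens) (U' : X.Opens) (hle : U' ≤ q ⁻¹ᵁ U) (r : Γ(Y, U)) :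
    (u.appLE U U' hle).hom ((𝒮.str.app (op U)).hom r) =
      (𝒮L.str.app (op U')).hom ((q.appLE U U' hle).hom r) :=
  congrArg (fun φ => φ.hom r) (u.toQHom.str_appLE U U' hle)

/-- the image of a global section of `𝒮` in `𝒮L` -/
noncomputable def sig (s : 𝒮.presheaf.obj (op ⊤)) : 𝒮L.presheaf.obj (op (q ⁻¹ᵁ ⊤)) := (u.app ⊤).hom s

theorem rs_sig (s : 𝒮.presheaf.obj (op ⊤)) (V : X.Opens) (hVW : V ≤ q ⁻¹ᵁ ⊤) :
    rs 𝒮L hVW (sig u s) = (u.appLE ⊤ V hVW).hom s := rfl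

theorem homogOn_sig (hY : IsAffineOpen (⊤ : Y.Opens)) (n : ℕ) (s : 𝒮.presheaf.obj (op ⊤))
    (hs : s ∈ 𝒮.deg ⊤ hY n) : HomogOn 𝒮L (sig u s) n :=
  fun V hV hVW => u.map_mem ⊤ hY V hV hVW hs

variable (L : X.Modules) (hL : PicF.IsInvertible L) (hLq : Coh.IsQCoh L)
  (j : L ⟶ 𝒮L.toModule) (hj : RelProj.IsGrSymAlg L 𝒮L j)
  {PL : Scheme.{u}} (pL : PL ⟶ X)
  (chartL : ∀ (U : X.Opens) (hU : IsAffineOpen U), (((pL ⁻¹ᵁ U : PL.Opens) : Scheme.{u}) ≅ Proj (𝒮L.deg U hU)))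
  (hPL : RelProj.IsRelProj 𝒮L pL chartL)

include hL hLq hj hPL in
/-- One half of the description of `G(u)`: where some global `s` of positive degree generates. -/
theorem mem_domQ_of_genAt (hY : IsAffineOpen (⊤ : Y.Opens)) (w : PL) (n : ℕ) (hn : 0 < n)
    (s : 𝒮.presheaf.obj (op ⊤)) (hs : s ∈ 𝒮.deg ⊤ hY n)
    (V : X.Opens) (hV : IsAffineOpen V) (hVW : V ≤ q ⁻¹ᵁ ⊤) (hwV : pL.base w ∈ V)
    (hgen : GenAt 𝒮L (sig u s) n V hV hVW) : w ∈ RelProj.domQ u pL chartL := by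
  have hw : w ∈ (RelProj.emb pL chartL V hV).opensRange := by
    rw [opensRange_emb 𝒮L pL chartL V hV]; exact hwV
  obtain ⟨y, rfl⟩ := hw
  have hy := mem_basicOpen_of_genAt L hL hLq 𝒮L j hj pL chartL hPL (sig u s) n
    (homogOn_sig u hY n s hs) V hV hVW y V hV hVW hwV hgen
  rw [rs_sig, Proj.mem_basicOpen] at hy
  have hdom : y ∈ RelCone.domOpen (u.gradedAt ⊤ hY V hV hVW) :=
    (RelCone.mem_domOpen _ _).mpr ⟨s, HomogeneousIdeal.mem_irrelevant_of_mem _ hn hs, hy⟩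
  unfold RelProj.domQ
  exact Opens.mem_iSup.mpr ⟨⟨(⟨⊤, hY⟩, ⟨V, hV⟩), hVW⟩, ⟨y, hdom, rfl⟩⟩

include hL hLq hj hPL in
/-- The other half: every point of `G(u)` lies over the locus where some global `s` of positive degree
generates (`Y` affine). -/
theorem exists_genAt_of_mem_domQ (hY : IsAffineOpen (⊤ : Y.Opens)) (w : PL)
    (hw : w ∈ RelProj.domQ u pL chartL) :
    ∃ (n : ℕ) (_ : 0 < n) (s : 𝒮.presheaf.obj (op ⊤)) (_ : s ∈ 𝒮.deg ⊤ hY n)
      (V : X.Opens) (hV : IsAffineOpen V) (hVW : V ≤ q ⁻¹ᵁ ⊤), pL.base w ∈ V ∧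
        GenAt 𝒮L (sig u s) n V hV hVW := by
  unfold RelProj.domQ at hw
  obtain ⟨⟨⟨⟨U, hU⟩, ⟨U', hU'⟩⟩, hle⟩, y, hy, rfl⟩ := Opens.mem_iSup.mp hw
  change U' ≤ q ⁻¹ᵁ U at hle
  change y ∈ RelCone.domOpen (u.gradedAt U hU U' hU' hle) at hy
  obtain ⟨d, hd, f, hf, hyf⟩ := exists_mem_basicOpen_of_mem_domOpen _ y hy
  obtain ⟨x, hx⟩ : ∃ x, x = (RelProj.emb pL chartL U' hU' ≫ pL).base y := ⟨_, rfl⟩
  have hxU' : x ∈ U' := hx ▸ base_mem_of_chart 𝒮L pL chartL hPL U' hU' y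
  have hqxU : q.base x ∈ U := hle hxU'
  obtain ⟨r, hrU, hqxr⟩ := hY.exists_basicOpen_le ⟨q.base x, hqxU⟩ (Opens.mem_top _)
  have hDr := hY.basicOpen r
  have hf1 : rs 𝒮 hrU f ∈ 𝒮.deg (Y.basicOpen r) hDr d := 𝒮.map_mem hU hDr hrU hf
  obtain ⟨k, s, hs, hsf⟩ := exists_homog_lift 𝒮 ⊤ hY r d _ hf1
  -- the basic open of `U'` over `D(r)`
  have hU'top : U' ≤ q ⁻¹ᵁ ⊤ := le_top.trans (Scheme.Hom.preimage_top q).ge
  obtain ⟨g, hg⟩ : ∃ g : Γ(X, U'), g = (q.appLE ⊤ U' hU'top).hom r := ⟨_, rfl⟩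
  have hgopen : X.basicOpen g = U' ⊓ q ⁻¹ᵁ (Y.basicOpen r) := by
    rw [hg]; exact Scheme.basicOpen_appLE q U' ⊤ hU'top r
  have hxg : x ∈ X.basicOpen g := by
    rw [hgopen]; exact ⟨hxU', hqxr⟩
  have hV2 := hU'.basicOpen g
  have hV2U' : X.basicOpen g ≤ U' := X.basicOpen_le g
  have hV2r : X.basicOpen g ≤ q ⁻¹ᵁ (Y.basicOpen r) := by
    rw [hgopen]; exact inf_le_right
  have hV2top : X.basicOpen g ≤ q ⁻¹ᵁ ⊤ := hV2U'.trans hU'top
  obtain ⟨y2, hy2⟩ := exists_lift_point 𝒮L pL chartL hPL U' hU' g y (hx ▸ hxg)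
  -- compute `u s` over `V2`
  have e1 : (u.appLE ⊤ (X.basicOpen g) hV2top).hom s =
      rs 𝒮L hV2U' ((u.appLE U U' hle).hom f) *
        ((𝒮L.str.app (op (X.basicOpen g))).hom ((q.appLE ⊤ (X.basicOpen g) hV2top).hom r)) ^ k := by
    have h1 := u_map_appLE u (Y.basicOpen_le r) hV2r s
    rw [hsf, map_mul, map_pow, u_map_appLE, u_map_appLE, u_str_appLE] at h1
    rw [← h1, u_appLE_map]
  have hunit : IsUnit ((q.appLE ⊤ (X.basicOpen g) hV2top).hom r) := by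
    have h1 : (q.appLE ⊤ (X.basicOpen g) hV2top).hom r = (X.presheaf.map (homOfLE hV2U').op).hom g := by
      have h0 := congrArg (fun φ => φ.hom r) (q.appLE_map hU'top (homOfLE hV2U').op)
      calc (q.appLE ⊤ (X.basicOpen g) hV2top).hom r
          = (X.presheaf.map (homOfLE hV2U').op).hom ((q.appLE ⊤ U' hU'top).hom r) := h0.symm
        _ = _ := by rw [← hg]
    rw [h1]
    exact RingedSpace.isUnit_res_basicOpen X.toRingedSpace g
  have hy2mem : y2 ∈ Proj.basicOpen (𝒮L.deg (X.basicOpen g) hV2) (rs 𝒮L hV2top (sig u s)) := by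
    rw [rs_sig, e1, Proj.basicOpen_mul]
    constructor
    · rw [← hy2] at hyf
      exact hyf
    · change y2 ∈ Proj.basicOpen _ _
      rw [Proj.mem_basicOpen]
      intro hmem
      exact y2.isPrime.ne_top (Ideal.eq_top_of_isUnit_mem _ hmem ((hunit.map _).pow k))
  obtain ⟨V, hV, hVW, hxV, hgen⟩ := exists_genAt_of_mem L hL hLq 𝒮L j hj pL chartL hPL (sig u s) d
    (homogOn_sig u hY d s hs) (X.basicOpen g) hV2 hV2top y2 hy2mem
  refine ⟨d, hd, s, hs, V, hV, hVW, ?_, hgen⟩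
  have h3 : ((Proj.map _ _ ≫ RelProj.emb pL chartL U' hU') ≫ pL).base y2 =
      (RelProj.emb pL chartL (X.basicOpen g) hV2 ≫ pL).base y2 :=
    congrArg (fun m => (m ≫ pL).base y2) (RelProj.map_res_emb hPL U' hU' g)
  have h4 : pL.base ((RelProj.emb pL chartL U' hU').base y) =
      (RelProj.emb pL chartL (X.basicOpen g) hV2 ≫ pL).base y2 := by
    rw [← hy2]; exact h3
  change pL.base ((RelProj.emb pL chartL U' hU').base y) ∈ V
  rw [h4]
  exact hxV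

end Dom

end Groth.Agent.Lib.Helper63.SymInvDom
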