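import Mathlib
import Groth.Agent.Lib.Helper63.SymInvDom

/-!
# `G(ψ)` for a filtered colimit of graded algebras (EGA II 3.7.7) (helper63)
-/

set_option autoImplicit false
set_option linter.unusedSectionVars false
universe u

open CategoryTheory CategoryTheory.Limits AlgebraicGeometry TopologicalSpace Opposite
open HomogeneousLocalization
open scoped HomogeneousIdeal

namespace Groth.Agent.Lib.Helper63.SymInvColim

open Groth.Agent.Lib.Helper63.SymInvRing Groth.Agent.Lib.Helper63.SymInv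
  Groth.Agent.Lib.Helper63.SymInvDom
  Groth.Agent.Lib.Helper42

variable {X Y : Scheme.{u}} {q : X ⟶ Y} {𝒮L : RelProj.QCGrAlg X}
  {PL : Scheme.{u}} (pL : PL ⟶ X)
  (chartL : ∀ (U : X.Opens) (hU : IsAffineOpen U), (((pL ⁻¹ᵁ U : PL.Opens) : Scheme.{u}) ≅ Proj (𝒮L.deg U hU)))

/-- membership in `G(u)` -/
theorem mem_domQ_iff {𝒮 : RelProj.QCGrAlg Y} (u : RelProj.QGrHom q 𝒮 𝒮L) (w : PL) :
    w ∈ RelProj.domQ u pL chartL ↔
      ∃ (U : Y.Opens) (hU : IsAffineOpen U) (U' : X.Opens) (hU' : IsAffineOpen U') (hle : U' ≤ q ⁻¹ᵁ U)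
        (y : Proj (𝒮L.deg U' hU')) (d : ℕ) (_ : 0 < d) (f : 𝒮.presheaf.obj (op U)) (_ : f ∈ 𝒮.deg U hU d),
        (RelProj.emb pL chartL U' hU').base y = w ∧
          y ∈ Proj.basicOpen (𝒮L.deg U' hU') ((u.appLE U U' hle).hom f) := by
  constructor
  · intro hw
    unfold RelProj.domQ at hw
    obtain ⟨⟨⟨⟨U, hU⟩, ⟨U', hU'⟩⟩, hle⟩, y, hy, rfl⟩ := Opens.mem_iSup.mp hw
    change U' ≤ q ⁻¹ᵁ U at hle
    change y ∈ RelCone.domOpen (u.gradedAt U hU U' hU' hle) at hy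
    obtain ⟨d, hd, f, hf, hyf⟩ := exists_mem_basicOpen_of_mem_domOpen _ y hy
    exact ⟨U, hU, U', hU', hle, y, d, hd, f, hf, rfl, hyf⟩
  · rintro ⟨U, hU, U', hU', hle, y, d, hd, f, hf, rfl, hyf⟩
    rw [Proj.mem_basicOpen] at hyf
    have hdom : y ∈ RelCone.domOpen (u.gradedAt U hU U' hU' hle) :=
      (RelCone.mem_domOpen _ _).mpr ⟨f, HomogeneousIdeal.mem_irrelevant_of_mem _ hd hf, hyf⟩
    unfold RelProj.domQ
    exact Opens.mem_iSup.mpr ⟨⟨(⟨U, hU⟩, ⟨U', hU'⟩), hle⟩, ⟨y, hdom, rfl⟩⟩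

/-- `G` is monotone along graded homomorphisms of the source algebra. -/
theorem domQ_mono {𝒮₁ 𝒮₂ : RelProj.QCGrAlg Y} (u₁ : RelProj.QGrHom q 𝒮₁ 𝒮L) (u₂ : RelProj.QGrHom q 𝒮₂ 𝒮L)
    (τ : 𝒮₁.toQCAlg ⟶ 𝒮₂.toQCAlg) (hτ : RelProj.IsGradedHom τ)
    (h12 : ∀ U : Y.Opens, u₁.app U = τ.hom.app (op U) ≫ u₂.app U) :
    RelProj.domQ u₁ pL chartL ≤ RelProj.domQ u₂ pL chartL := by
  intro w hw
  rw [mem_domQ_iff] at hw ⊢
  obtain ⟨U, hU, U', hU', hle, y, d, hd, f, hf, hyw, hyf⟩ := hw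
  refine ⟨U, hU, U', hU', hle, y, d, hd, (τ.hom.app (op U)).hom f, hτ U hU d f hf, hyw, ?_⟩
  have e : (u₂.appLE U U' hle).hom ((τ.hom.app (op U)).hom f) = (u₁.appLE U U' hle).hom f := by
    change (𝒮L.presheaf.map (homOfLE hle).op).hom ((u₂.app U).hom ((τ.hom.app (op U)).hom f)) =
      (𝒮L.presheaf.map (homOfLE hle).op).hom ((u₁.app U).hom f)
    rw [h12 U]
    rfl
  rw [e]
  exact hyf

section colim

variable {𝒮 : RelProj.QCGrAlg Y} (u : RelProj.QGrHom q 𝒮 𝒮L)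
  (Λ : Type u) [Preorder Λ] [IsDirected Λ (· ≤ ·)] [Nonempty Λ]
  (𝒮i : Λ → RelProj.QCGrAlg Y) (φ : ∀ i, (𝒮i i).toQCAlg ⟶ 𝒮.toQCAlg) (hφ : ∀ i, RelProj.IsGradedHom (φ i))
  (hsurj : ∀ (U : Y.Opens), IsAffineOpen U → ∀ x : 𝒮.presheaf.obj (op U),
    ∃ (i : Λ) (y : (𝒮i i).presheaf.obj (op U)), ((φ i).hom.app (op U)).hom y = x)
  (ui : ∀ i, RelProj.QGrHom q (𝒮i i) 𝒮L) (hui : ∀ i (U : Y.Opens), (ui i).app U = (φ i).hom.app (op U) ≫ u.app U)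

include hφ hsurj hui in
theorem exists_mem_domQ (w : PL) (hw : w ∈ RelProj.domQ u pL chartL) :
    ∃ i, w ∈ RelProj.domQ (ui i) pL chartL := by
  classical
  rw [mem_domQ_iff] at hw
  obtain ⟨U, hU, U', hU', hle, y, d, hd, f, hf, hyw, hyf⟩ := hw
  obtain ⟨i, g, hg⟩ := hsurj U hU f
  refine ⟨i, ?_⟩
  rw [mem_domQ_iff]
  let ψ := RelProj.gradedHomAt (φ i) (hφ i) U hU
  have hgd : ψ (DirectSum.decompose ((𝒮i i).deg U hU) g d : (𝒮i i).presheaf.obj (op U)) = f := by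
    rw [GradedRingHom.map_directSumDecompose]
    change ((DirectSum.decompose (𝒮.deg U hU) (((φ i).hom.app (op U)).hom g) d : _) : 𝒮.presheaf.obj (op U)) = f
    rw [hg, DirectSum.decompose_of_mem_same _ hf]
  refine ⟨U, hU, U', hU', hle, y, d, hd, (DirectSum.decompose ((𝒮i i).deg U hU) g d : _),
    SetLike.coe_mem _, hyw, ?_⟩
  have e : ((ui i).appLE U U' hle).hom (DirectSum.decompose ((𝒮i i).deg U hU) g d : (𝒮i i).presheaf.obj (op U)) =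
      (u.appLE U U' hle).hom f := by
    change (𝒮L.presheaf.map (homOfLE hle).op).hom (((ui i).app U).hom _) =
      (𝒮L.presheaf.map (homOfLE hle).op).hom ((u.app U).hom f)
    rw [hui i U, ← hgd]
    rfl
  rw [e]
  exact hyf

end colim

end Groth.Agent.Lib.Helper63.SymInvColim
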