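import Mathlib
import Groth.Agent.Lib.Helper63.PullO1Key
import Groth.Agent.Lib.Helper63.PullGlue
import Groth.Agent.Lib.Helper63.SymInvColim
import Groth.Agent.Lib.Helper42.RelTwistTensor
import Groth.Agent.Lib.Helper42.ProjQMapTop
import Groth.Agent.Lib.Helper42.GenDegOneIrr

/-!
# The pullback of `O(1)` along `Proj(u)` (helper63)

For a graded `g`-morphism `u : 𝒮 → 𝒮'` with `𝒮` generated in degree one and `h = Proj(u) : P' ⟶ P` everywhere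
defined, `h^* O_P(1) ≅ O_{P'}(1)`.
-/

set_option autoImplicit false
universe u
open CategoryTheory CategoryTheory.Limits AlgebraicGeometry Opposite TopologicalSpace
open HomogeneousLocalization
open scoped HomogeneousIdeal
noncomputable section

namespace Groth.Agent.Lib.Helper63.PullO1

open Groth.Agent.Lib.Helper45 Groth.Agent.Lib.Helper49 Groth.Agent.Lib.Helper42
  Groth.Agent.Lib.Helper42.RelTilde Groth.Agent.Lib.Helper42.RelTwistBasis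
  Groth.Agent.Lib.Helper42.RelTwistFrac Groth.Agent.Lib.Helper42.RelTwistTensor
  Groth.Agent.Lib.Helper63.AwaySection Groth.Agent.Lib.Helper63.PullO1Key

section alg
variable {R : Type u} [CommRing R] (S : Submonoid R)

theorem mk_eq_of_mul (a₁ a₂ : R) (h1 h1' : (1 : R) ∈ S) (h2 : a₂ ∈ S) (v : Localization S)
    (hv : Localization.mk a₁ ⟨1, h1⟩ = v * Localization.mk a₂ ⟨1, h1'⟩) :
    v = Localization.mk a₁ ⟨a₂, h2⟩ := by
  have e1 : Localization.mk a₂ (⟨1, h1'⟩ : S) * Localization.mk 1 (⟨a₂, h2⟩ : S) = 1 := by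
    rw [Localization.mk_mul]
    have : Localization.mk (a₂ * 1) ((⟨1, h1'⟩ : S) * ⟨a₂, h2⟩) = Localization.mk (a₂ : R) (⟨a₂, h2⟩ : S) := by
      rw [Localization.mk_eq_mk_iff, Localization.r_iff_exists]
      exact ⟨1, by simp⟩
    rw [this]
    exact Localization.mk_self (⟨a₂, h2⟩ : S)
  calc v = v * (Localization.mk a₂ (⟨1, h1'⟩ : S) * Localization.mk 1 (⟨a₂, h2⟩ : S)) := by
        rw [e1, mul_one]
    _ = Localization.mk a₁ ⟨1, h1⟩ * Localization.mk 1 (⟨a₂, h2⟩ : S) := by rw [hv, mul_assoc]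
    _ = Localization.mk a₁ ⟨a₂, h2⟩ := by
        rw [Localization.mk_mul, Localization.mk_eq_mk_iff, Localization.r_iff_exists]
        exact ⟨1, by simp⟩

theorem mk_mul_mk_one (a₁ a₂ : R) (h1 h1' : (1 : R) ∈ S) (h2 : a₂ ∈ S) :
    Localization.mk a₁ (⟨a₂, h2⟩ : S) * Localization.mk a₂ ⟨1, h1'⟩ = Localization.mk a₁ ⟨1, h1⟩ := by
  rw [Localization.mk_mul, Localization.mk_eq_mk_iff, Localization.r_iff_exists]
  exact ⟨1, by simp; ring⟩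

end alg

variable {Y Y' P P' : Scheme.{u}} {g : Y' ⟶ Y} {𝒮 : RelProj.QCGrAlg Y} {𝒮' : RelProj.QCGrAlg Y'}
  {u : RelProj.QGrHom g 𝒮 𝒮'} {p : P ⟶ Y}
  {chart : ∀ (U : Y.Opens) (hU : IsAffineOpen U), (((p ⁻¹ᵁ U : P.Opens) : Scheme.{u}) ≅ Proj (𝒮.deg U hU))}
  {p' : P' ⟶ Y'}
  {chart' : ∀ (U : Y'.Opens) (hU : IsAffineOpen U), (((p' ⁻¹ᵁ U : P'.Opens) : Scheme.{u}) ≅ Proj (𝒮'.deg U hU))}
  {h : P' ⟶ P}

theorem hh_charts (hh : RelProj.IsProjQMap u p chart p' chart' h) (k : QIdx g 𝒮) :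
    k.src u p' chart' ≫ h = k.rho u p chart :=
  hh.2 k.U k.hU k.U' k.hU' k.hle k.d k.hd k.f k.hf

/-- `Proj(u)` lies over `g` -/
theorem comp_p (hP : RelProj.IsRelProj 𝒮 p chart) (hP' : RelProj.IsRelProj 𝒮' p' chart')
    (hh : RelProj.IsProjQMap u p chart p' chart' h) : h ≫ p = p' ≫ g := by
  have h1 := isProjQMapOn_comp_p u hP hP' ((RelProj.domQ u p' chart').ι ≫ h)
    (isProjQMapOn_of_isProjQMap u p chart p' chart' h hh _)
  have : IsIso (RelProj.domQ u p' chart').ι := isIso_ι_of_eq_top _ hh.1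
  rw [Category.assoc] at h1
  exact (cancel_epi _).mp h1

theorem FReads_congr_den {U : Y.Opens} {hU : IsAffineOpen U} {W : P.Opens} {c : Γ(P, W)}
    {a b b' : 𝒮.presheaf.obj (op U)} (hc : FReads chart U hU W c a b) (e : b = b') :
    FReads chart U hU W c a b' := by
  subst e; exact hc

/-- **pair lemma**: `h^#` of a function reading `a / f` reads `u a / u f` -/
theorem FReads_pull (hh : ∀ k : QIdx g 𝒮, k.src u p' chart' ≫ h = k.rho u p chart) (k : QIdx g 𝒮)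
    (a : 𝒮.presheaf.obj (op k.U)) (ha : a ∈ 𝒮.deg k.U k.hU k.d)
    {W₀ : P.Opens} (hW₀ : W₀ ≤ VD p chart k.U k.hU k.f) (c : Γ(P, W₀))
    (hc : FReads chart k.U k.hU W₀ c a k.f)
    {W' : P'.Opens} (hW' : W' ≤ VD p' chart' k.U' k.hU' (k.psi u k.f)) (hle : W' ≤ h ⁻¹ᵁ W₀) :
    FReads chart' k.U' k.hU' W' ((h.appLE W₀ W' hle).hom c) (k.psi u a) (k.psi u k.f) := by
  have ha1 : a ∈ 𝒮.deg k.U k.hU (1 • k.d) := by rwa [one_smul]
  have hc' : c = fres hW₀ (Fsec k.U k.hU k.f (Away.mk (𝒮.deg k.U k.hU) k.hf 1 a ha1)) :=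
    eq_fres_Fsec k.U k.hU k.hf 1 a ha1 hW₀ c (FReads_congr_den hc (pow_one _).symm)
  have h1 : (h.appLE W₀ W' hle).hom c =
      fres hW' (Fsec k.U' k.hU' (k.psi u k.f)
        (Away.map (k.psi u) k.f (Away.mk (𝒮.deg k.U k.hU) k.hf 1 a ha1))) := by
    rw [← appLE_Fsec hh k, hc']
    have e1 : P.presheaf.map (homOfLE hW₀).op ≫ h.appLE W₀ W' hle =
        h.appLE (VD p chart k.U k.hU k.f) W' (hle.trans (h.preimage_mono hW₀)) :=
      Scheme.Hom.map_appLE _ _ _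
    have e2 : h.appLE (VD p chart k.U k.hU k.f) (VD p' chart' k.U' k.hU' (k.psi u k.f))
        (VD_le_preimage hh k) ≫ P'.presheaf.map (homOfLE hW').op =
        h.appLE (VD p chart k.U k.hU k.f) W' (hle.trans (h.preimage_mono hW₀)) :=
      Scheme.Hom.appLE_map _ _ _
    exact congrArg (fun φ => φ.hom (Fsec k.U k.hU k.f (Away.mk (𝒮.deg k.U k.hU) k.hf 1 a ha1)))
      (e1.trans e2.symm)
  rw [h1, Away.map_mk]
  exact FReads_congr_den ((Fsec_reads k.U' k.hU' (Graded.map_mem (k.psi u) k.hf) 1 (k.psi u a) _).fres hW')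
    (pow_one _)

/-- index of the cover: an affine pair and a degree-one element -/
structure JIdx (g : Y' ⟶ Y) (𝒮 : RelProj.QCGrAlg Y) where
  U : Y.Opens
  hU : IsAffineOpen U
  U' : Y'.Opens
  hU' : IsAffineOpen U'
  hle : U' ≤ g ⁻¹ᵁ U
  e : 𝒮.presheaf.obj (op U)
  he : e ∈ 𝒮.deg U hU 1

/-- the chart index of `j` -/
def JIdx.toQ (j : JIdx g 𝒮) : QIdx g 𝒮 := ⟨j.U, j.hU, j.U', j.hU', j.hle, 1, one_pos, j.e, j.he⟩

theorem exists_mem_VJ' (hgen : 𝒮.IsGenDegOne) (hdom : RelProj.domQ u p' chart' = ⊤) (x' : P') :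
    ∃ j : JIdx g 𝒮, x' ∈ VD p' chart' j.U' j.hU' (u.gradedAt j.U j.hU j.U' j.hU' j.hle j.e) := by
  have hx : x' ∈ RelProj.domQ u p' chart' := by rw [hdom]; trivial
  obtain ⟨U, hU, U', hU', hle, y, d, hd, f, hf, rfl, hyf⟩ :=
    (SymInvColim.mem_domQ_iff p' chart' u x').mp hx
  rw [Proj.mem_basicOpen] at hyf
  by_contra hall
  push Not at hall
  apply hyf
  have hfspan : f ∈ Ideal.span (𝒮.deg U hU 1 : Set (𝒮.presheaf.obj (op U))) :=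
    irrelevant_le_span_degOne (hgen U hU) (HomogeneousIdeal.mem_irrelevant_of_mem _ hd hf)
  have hsub : Ideal.span (𝒮.deg U hU 1 : Set (𝒮.presheaf.obj (op U))) ≤
      Ideal.comap (u.appLE U U' hle).hom y.asHomogeneousIdeal.toIdeal := by
    rw [Ideal.span_le]
    intro e he
    by_contra hne
    exact hall ⟨U, hU, U', hU', hle, e, he⟩ ((emb_mem_VD_iff U' hU' _ y).mpr hne)
  exact hsub hfspan

theorem one_notMem {A σ : Type u} [CommRing A] [SetLike σ A] [AddSubgroupClass σ A] {𝒜 : ℕ → σ} [GradedRing 𝒜]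
    (y : ProjectiveSpectrum 𝒜) : (1 : A) ∉ y.asHomogeneousIdeal := fun h1 =>
  y.isPrime.ne_top ((Ideal.eq_top_iff_one _).mpr h1)

section basis
variable {L : P.Modules}
  {lam : ∀ (U : Y.Opens) (hU : IsAffineOpen U),
      L ⟶ (Scheme.Modules.pushforward (RelProj.emb p chart U hU)).obj (GrTwist.twist (𝒮.deg U hU) 1)}

/-- the standard basis `e / 1` of `O(1)` on `emb(D₊(e))` -/
theorem exists_basis_one (hL : RelProj.IsRelTwist 𝒮 p chart 1 L lam) (U : Y.Opens) (hU : IsAffineOpen U)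
    (e : 𝒮.presheaf.obj (op U)) (he : e ∈ 𝒮.deg U hU 1) :
    ∃ ε : Γ(L, VD p chart U hU e), IsBasisOn L (VD p chart U hU e) ε ∧
      ReadsFrac lam U hU (VD p chart U hU e) ε e 1 :=
  exists_basis_readsFrac hL U hU he (SetLike.GradedOne.one_mem) (by norm_num) _ (VD_le U hU e)
    (fun y hy => (emb_mem_VD_iff U hU e y).mp hy) (fun y _ => one_notMem y)

end basis

section compat
variable {L : P.Modules}
  {lam : ∀ (U : Y.Opens) (hU : IsAffineOpen U),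
      L ⟶ (Scheme.Modules.pushforward (RelProj.emb p chart U hU)).obj (GrTwist.twist (𝒮.deg U hU) 1)}
  {L' : P'.Modules}
  {lam' : ∀ (U : Y'.Opens) (hU : IsAffineOpen U),
      L' ⟶ (Scheme.Modules.pushforward (RelProj.emb p' chart' U hU)).obj (GrTwist.twist (𝒮'.deg U hU) 1)}

theorem res_res {U V W : Y'.Opens} (hU : IsAffineOpen U) (hV : IsAffineOpen V) (hW : IsAffineOpen W)
    (i : V ≤ U) (i' : W ≤ V) (x : 𝒮'.presheaf.obj (op U)) :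
    𝒮'.res hV hW i' (𝒮'.res hU hV i x) = 𝒮'.res hU hW (i'.trans i) x := by
  change (𝒮'.presheaf.map (homOfLE i').op).hom ((𝒮'.presheaf.map (homOfLE i).op).hom x) =
    (𝒮'.presheaf.map (homOfLE (i'.trans i)).op).hom x
  rw [← CommRingCat.comp_apply, ← Functor.map_comp]
  rfl

theorem compat_pair (hP : RelProj.IsRelProj 𝒮 p chart) (hP' : RelProj.IsRelProj 𝒮' p' chart')
    (hh : RelProj.IsProjQMap u p chart p' chart' h)
    (hL : RelProj.IsRelTwist 𝒮 p chart 1 L lam) (hL' : RelProj.IsRelTwist 𝒮' p' chart' 1 L' lam')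
    (j₁ j₂ : JIdx g 𝒮)
    (ε₁ : Γ(L, VD p chart j₁.U j₁.hU j₁.e)) (hε₁ : ReadsFrac lam j₁.U j₁.hU _ ε₁ j₁.e 1)
    (ε₂ : Γ(L, VD p chart j₂.U j₂.hU j₂.e)) (hε₂ : ReadsFrac lam j₂.U j₂.hU _ ε₂ j₂.e 1)
    (σ₁ : Γ(L', VD p' chart' j₁.U' j₁.hU' (u.gradedAt j₁.U j₁.hU j₁.U' j₁.hU' j₁.hle j₁.e)))
    (hσ₁ : ReadsFrac lam' j₁.U' j₁.hU' _ σ₁ (u.gradedAt j₁.U j₁.hU j₁.U' j₁.hU' j₁.hle j₁.e) 1)
    (σ₂ : Γ(L', VD p' chart' j₂.U' j₂.hU' (u.gradedAt j₂.U j₂.hU j₂.U' j₂.hU' j₂.hle j₂.e)))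
    (hσ₂ : ReadsFrac lam' j₂.U' j₂.hU' _ σ₂ (u.gradedAt j₂.U j₂.hU j₂.U' j₂.hU' j₂.hle j₂.e) 1)
    (hleV : VD p' chart' j₁.U' j₁.hU' (u.gradedAt j₁.U j₁.hU j₁.U' j₁.hU' j₁.hle j₁.e) ⊓
        VD p' chart' j₂.U' j₂.hU' (u.gradedAt j₂.U j₂.hU j₂.U' j₂.hU' j₂.hle j₂.e) ≤
      h ⁻¹ᵁ (VD p chart j₁.U j₁.hU j₁.e ⊓ VD p chart j₂.U j₂.hU j₂.e))
    (c₀ : Γ(P, VD p chart j₁.U j₁.hU j₁.e ⊓ VD p chart j₂.U j₂.hU j₂.e))
    (hc₀ : mres L inf_le_left ε₁ = c₀ • mres L inf_le_right ε₂) :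
    mres L' inf_le_left σ₁ = (h.appLE _ _ hleV).hom c₀ • mres L' inf_le_right σ₂ := by
  have hhc := hh_charts hh
  have hcomp := comp_p hP hP' hh
  refine ModLocal.section_ext L' fun x' hx' => ?_
  -- the base points
  have hx'1 : x' ∈ p' ⁻¹ᵁ j₁.U' := VD_le _ _ _ hx'.1
  have hx'2 : x' ∈ p' ⁻¹ᵁ j₂.U' := VD_le _ _ _ hx'.2
  have hs1 : g.base (p'.base x') ∈ j₁.U := j₁.hle hx'1
  have hs2 : g.base (p'.base x') ∈ j₂.U := j₂.hle hx'2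
  obtain ⟨r₁, r₂, hr, hsr⟩ := exists_basicOpen_le_affine_inter j₁.hU j₂.hU (g.base (p'.base x')) ⟨hs1, hs2⟩
  obtain ⟨D, hDdef⟩ : ∃ D : Y.Opens, D = Y.basicOpen r₁ := ⟨_, rfl⟩
  have hD : IsAffineOpen D := hDdef ▸ j₁.hU.basicOpen r₁
  have hD1 : D ≤ j₁.U := hDdef ▸ Y.basicOpen_le r₁
  have hD2e : D = Y.basicOpen r₂ := hDdef.trans hr
  have hD2 : D ≤ j₂.U := hD2e ▸ Y.basicOpen_le r₂
  have hsD : g.base (p'.base x') ∈ D := hDdef ▸ hsr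
  obtain ⟨r'₁, r'₂, hr', hsr'⟩ := exists_basicOpen_le_affine_inter j₁.hU' j₂.hU' (p'.base x') ⟨hx'1, hx'2⟩
  obtain ⟨D'', hD''def⟩ : ∃ D'' : Y'.Opens, D'' = Y'.basicOpen r'₁ := ⟨_, rfl⟩
  have hD'' : IsAffineOpen D'' := hD''def ▸ j₁.hU'.basicOpen r'₁
  have hD''1 : D'' ≤ j₁.U' := hD''def ▸ Y'.basicOpen_le r'₁
  have hD''2e : D'' = Y'.basicOpen r'₂ := hD''def.trans hr'
  have hD''2 : D'' ≤ j₂.U' := hD''2e ▸ Y'.basicOpen_le r'₂
  have hsD'' : p'.base x' ∈ D'' := hD''def ▸ hsr'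
  obtain ⟨t, ht, hst⟩ := hD''.exists_basicOpen_le (V := g ⁻¹ᵁ D) ⟨p'.base x', hsD⟩ hsD''
  obtain ⟨D', hD'def⟩ : ∃ D' : Y'.Opens, D' = Y'.basicOpen t := ⟨_, rfl⟩
  have hD' : IsAffineOpen D' := hD'def ▸ hD''.basicOpen t
  have hD'D'' : D' ≤ D'' := hD'def ▸ Y'.basicOpen_le t
  have hD'D : D' ≤ g ⁻¹ᵁ D := hD'def ▸ ht
  have hsD' : p'.base x' ∈ D' := hD'def ▸ hst
  -- the elements on the small charts
  obtain ⟨a₁, ha₁def⟩ : ∃ a₁, a₁ = 𝒮.res j₁.hU hD hD1 j₁.e := ⟨_, rfl⟩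
  obtain ⟨a₂, ha₂def⟩ : ∃ a₂, a₂ = 𝒮.res j₂.hU hD hD2 j₂.e := ⟨_, rfl⟩
  have ha₁ : a₁ ∈ 𝒮.deg D hD 1 := ha₁def ▸ (𝒮.res j₁.hU hD hD1).map_mem j₁.he
  have ha₂ : a₂ ∈ 𝒮.deg D hD 1 := ha₂def ▸ (𝒮.res j₂.hU hD hD2).map_mem j₂.he
  -- readings on the chart over `D`
  have hε₁D : ReadsFrac lam D hD _ ε₁ a₁ 1 :=
    (hε₁.restrict hP hL r₁ D hD hDdef hD1).congr_elems ha₁def.symm (map_one _)
  have hε₂D : ReadsFrac lam D hD _ ε₂ a₂ 1 :=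
    (hε₂.restrict hP hL r₂ D hD hD2e hD2).congr_elems ha₂def.symm (map_one _)
  -- readings on the chart over `D'`
  have hψ₁ : 𝒮'.res hD'' hD' hD'D'' (𝒮'.res j₁.hU' hD'' hD''1
      (u.gradedAt j₁.U j₁.hU j₁.U' j₁.hU' j₁.hle j₁.e)) = u.gradedAt D hD D' hD' hD'D a₁ := by
    rw [res_res, ha₁def]
    exact res_gradedAt u j₁.hU j₁.hU' j₁.hle hD hD' hD'D hD1 (hD'D''.trans hD''1) j₁.e
  have hψ₂ : 𝒮'.res hD'' hD' hD'D'' (𝒮'.res j₂.hU' hD'' hD''2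
      (u.gradedAt j₂.U j₂.hU j₂.U' j₂.hU' j₂.hle j₂.e)) = u.gradedAt D hD D' hD' hD'D a₂ := by
    rw [res_res, ha₂def]
    exact res_gradedAt u j₂.hU j₂.hU' j₂.hle hD hD' hD'D hD2 (hD'D''.trans hD''2) j₂.e
  have hσ₁D' : ReadsFrac lam' D' hD' _ σ₁ (u.gradedAt D hD D' hD' hD'D a₁) 1 :=
    ((hσ₁.restrict hP' hL' r'₁ D'' hD'' hD''def hD''1).restrict hP' hL' t D' hD' hD'def hD'D'').congr_elems
      hψ₁ ((congrArg _ (map_one _)).trans (map_one _))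
  have hσ₂D' : ReadsFrac lam' D' hD' _ σ₂ (u.gradedAt D hD D' hD' hD'D a₂) 1 :=
    ((hσ₂.restrict hP' hL' r'₂ D'' hD'' hD''2e hD''2).restrict hP' hL' t D' hD' hD'def hD'D'').congr_elems
      hψ₂ ((congrArg _ (map_one _)).trans (map_one _))
  -- nonvanishing on the small charts
  have hnv₂ : ∀ y : ProjectiveSpectrum (𝒮.deg D hD),
      (RelProj.emb p chart D hD).base y ∈ VD p chart j₂.U j₂.hU j₂.e → a₂ ∉ y.asHomogeneousIdeal := by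
    intro y hy
    rw [ha₂def]
    exact notMem_res_of hP r₂ D hD hD2e hD2 (fun z hz => (emb_mem_VD_iff j₂.U j₂.hU j₂.e z).mp hz) y hy
  have hnv₂' : ∀ y' : ProjectiveSpectrum (𝒮'.deg D' hD'),
      (RelProj.emb p' chart' D' hD').base y' ∈
        VD p' chart' j₂.U' j₂.hU' (u.gradedAt j₂.U j₂.hU j₂.U' j₂.hU' j₂.hle j₂.e) →
      u.gradedAt D hD D' hD' hD'D a₂ ∉ y'.asHomogeneousIdeal := by
    intro y' hy'
    rw [← hψ₂]
    refine notMem_res_of hP' t D' hD' hD'def hD'D'' ?_ y' hy'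
    exact notMem_res_of hP' r'₂ D'' hD'' hD''2e hD''2 (fun z hz => (emb_mem_VD_iff _ _ _ z).mp hz)
  -- the opens
  obtain ⟨W₀, hW₀def⟩ : ∃ W₀ : P.Opens,
      W₀ = (VD p chart j₁.U j₁.hU j₁.e ⊓ VD p chart j₂.U j₂.hU j₂.e) ⊓ p ⁻¹ᵁ D := ⟨_, rfl⟩
  have hW₀V : W₀ ≤ VD p chart j₁.U j₁.hU j₁.e ⊓ VD p chart j₂.U j₂.hU j₂.e := hW₀def ▸ inf_le_left
  have hW₀D : W₀ ≤ p ⁻¹ᵁ D := hW₀def ▸ inf_le_right
  have hW₀VD : W₀ ≤ VD p chart D hD a₂ := by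
    intro z hz
    obtain ⟨y, rfl⟩ := exists_emb_eq (chart := chart) D hD (hW₀D hz)
    exact (emb_mem_VD_iff D hD a₂ y).mpr (hnv₂ y (hW₀V hz).2)
  -- the coefficient reads `a₁ / a₂`
  have hc₁ : FReads chart D hD W₀ (fres hW₀V c₀) a₁ a₂ := by
    intro y hy hb
    have hrel : mres L (hW₀V.trans inf_le_left) ε₁ =
        fres hW₀V c₀ • mres L (hW₀V.trans inf_le_right) ε₂ := by
      have := congrArg (mres L hW₀V) hc₀
      rwa [mres_mres, mres_smul, mres_mres] at this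
    have e1 := (hε₁D.mres (hW₀V.trans inf_le_left)).coef_eq (hε₂D.mres (hW₀V.trans inf_le_right))
      (fres hW₀V c₀) hrel y hy (one_notMem y) (one_notMem y)
    exact mk_eq_of_mul _ a₁ a₂ _ _ hb _ e1
  obtain ⟨W', hW'def⟩ : ∃ W' : P'.Opens,
      W' = (VD p' chart' j₁.U' j₁.hU' (u.gradedAt j₁.U j₁.hU j₁.U' j₁.hU' j₁.hle j₁.e) ⊓
        VD p' chart' j₂.U' j₂.hU' (u.gradedAt j₂.U j₂.hU j₂.U' j₂.hU' j₂.hle j₂.e)) ⊓ p' ⁻¹ᵁ D' := ⟨_, rfl⟩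
  have hW'V : W' ≤ VD p' chart' j₁.U' j₁.hU' (u.gradedAt j₁.U j₁.hU j₁.U' j₁.hU' j₁.hle j₁.e) ⊓
        VD p' chart' j₂.U' j₂.hU' (u.gradedAt j₂.U j₂.hU j₂.U' j₂.hU' j₂.hle j₂.e) := hW'def ▸ inf_le_left
  have hW'D : W' ≤ p' ⁻¹ᵁ D' := hW'def ▸ inf_le_right
  have hx'W' : x' ∈ W' := by rw [hW'def]; exact ⟨hx', hsD'⟩
  have hW'VD : W' ≤ VD p' chart' D' hD' (u.gradedAt D hD D' hD' hD'D a₂) := by
    intro z hz
    obtain ⟨y, rfl⟩ := exists_emb_eq (chart := chart') D' hD' (hW'D hz)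
    exact (emb_mem_VD_iff D' hD' _ y).mpr (hnv₂' y (hW'V hz).2)
  have hW'le : W' ≤ h ⁻¹ᵁ W₀ := by
    intro z hz
    rw [hW₀def]
    refine ⟨hleV (hW'V hz), ?_⟩
    change p.base (h.base z) ∈ D
    have h1 : p.base (h.base z) = g.base (p'.base z) := congrArg (fun m => m.base z) hcomp
    rw [h1]
    exact hD'D (hW'D hz)
  -- pull back the reading
  have hpull : FReads chart' D' hD' W' ((h.appLE W₀ W' hW'le).hom (fres hW₀V c₀))
      (u.gradedAt D hD D' hD' hD'D a₁) (u.gradedAt D hD D' hD' hD'D a₂) :=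
    FReads_pull hhc ⟨D, hD, D', hD', hD'D, 1, one_pos, a₂, ha₂⟩ a₁ ha₁ hW₀VD (fres hW₀V c₀) hc₁
      hW'VD hW'le
  refine ⟨W', hW'V, hx'W', ?_⟩
  change mres L' hW'V (mres L' inf_le_left σ₁) =
    mres L' hW'V ((h.appLE _ _ hleV).hom c₀ • mres L' inf_le_right σ₂)
  rw [mres_smul, mres_mres, mres_mres, PullGlue.fres_appLE h hleV hW'le hW₀V hW'V c₀]
  refine ReadsFrac.unique hL' (U := D') (hU := hD') hW'D (fun y _ => one_notMem y)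
    (hσ₁D'.mres (hW'V.trans inf_le_left)) ?_
  intro y hy hvy
  rw [val_lam_smul, (hσ₂D'.mres (hW'V.trans inf_le_right)) y hy hvy]
  have e3 := hpull y hy (hnv₂' y (hW'V hy).2)
  refine (congrArg (fun v => v * Localization.mk ((u.gradedAt D hD D' hD' hD'D) a₂)
    (⟨1, hvy⟩ : y.asHomogeneousIdeal.toIdeal.primeCompl)) e3).trans ?_
  exact mk_mul_mk_one _ _ _ _ _ _

/-- **`Proj(u)^* O_P(1) ≅ O_{P'}(1)`** for `𝒮` generated in degree one and `Proj(u)` everywhere defined -/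
theorem nonempty_pullback_iso (hP : RelProj.IsRelProj 𝒮 p chart) (hP' : RelProj.IsRelProj 𝒮' p' chart')
    (hgen : 𝒮.IsGenDegOne) (hh : RelProj.IsProjQMap u p chart p' chart' h)
    (hL : RelProj.IsRelTwist 𝒮 p chart 1 L lam) (hL' : RelProj.IsRelTwist 𝒮' p' chart' 1 L' lam') :
    Nonempty ((Scheme.Modules.pullback h).obj L ≅ L') := by
  choose ε hεb hεr using fun j : JIdx g 𝒮 => exists_basis_one hL j.U j.hU j.e j.he
  choose σ hσb hσr using fun j : JIdx g 𝒮 => exists_basis_one hL' j.U' j.hU'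
    (u.gradedAt j.U j.hU j.U' j.hU' j.hle j.e) ((u.gradedAt j.U j.hU j.U' j.hU' j.hle).map_mem j.he)
  have hV' : ∀ j : JIdx g 𝒮, VD p' chart' j.U' j.hU' (u.gradedAt j.U j.hU j.U' j.hU' j.hle j.e) ≤
      h ⁻¹ᵁ VD p chart j.U j.hU j.e := fun j => VD_le_preimage (hh_charts hh) j.toQ
  refine PullGlue.nonempty_pullback_iso_of_local_bases h L L' (fun j : JIdx g 𝒮 => VD p chart j.U j.hU j.e)
    (fun j : JIdx g 𝒮 => VD p' chart' j.U' j.hU' (u.gradedAt j.U j.hU j.U' j.hU' j.hle j.e)) hV'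
    (exists_mem_VJ' hgen hh.1) ε hεb σ hσb ?_
  intro j₁ j₂ c hc
  exact compat_pair hP hP' hh hL hL' j₁ j₂ (ε j₁) (hεr j₁) (ε j₂) (hεr j₂) (σ j₁) (hσr j₁) (σ j₂) (hσr j₂)
    _ c hc

end compat

end Groth.Agent.Lib.Helper63.PullO1
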