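import Mathlib

/-!
# Basic opens of `Proj` at homogeneous elements of positive degree (helper63)
-/

set_option autoImplicit false
universe u

open HomogeneousLocalization AlgebraicGeometry CategoryTheory TopologicalSpace
open scoped HomogeneousIdeal

namespace Groth.Agent.Lib.Helper63.ProjBasis

variable {A σ : Type u} [CommRing A] [SetLike σ A] [AddSubgroupClass σ A] (𝒜 : ℕ → σ) [GradedRing 𝒜]

/-- The `D₊(s)`, `s` homogeneous of positive degree, form a basis of `Proj 𝒜`. -/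
theorem exists_homog_basicOpen (O : (Proj 𝒜).Opens) (z : Proj 𝒜) (hz : z ∈ O) :
    ∃ (n : ℕ) (_ : 0 < n) (s : A) (_ : s ∈ 𝒜 n), z ∈ Proj.basicOpen 𝒜 s ∧ Proj.basicOpen 𝒜 s ≤ O := by
  classical
  obtain ⟨_, ⟨a, rfl⟩, hza, haO⟩ := (Opens.isBasis_iff_nbhd.mp (Proj.isBasis_basicOpen 𝒜)) hz
  rw [Proj.basicOpen_eq_iSup_proj] at hza
  obtain ⟨i, hi⟩ := Opens.mem_iSup.mp hza
  have hirr := z.not_irrelevant_le
  rw [HomogeneousIdeal.irrelevant_le] at hirr
  push Not at hirr
  obtain ⟨n, hn, hnle⟩ := hirr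
  obtain ⟨b, hb, hbz⟩ := SetLike.not_le_iff_exists.mp hnle
  refine ⟨i + n, by omega, GradedRing.proj 𝒜 i a * b, ?_, ?_, ?_⟩
  · exact SetLike.mul_mem_graded (SetLike.coe_mem _) hb
  · rw [Proj.basicOpen_mul]
    exact ⟨hi, hbz⟩
  · rw [Proj.basicOpen_mul]
    refine le_trans inf_le_left (le_trans ?_ haO)
    rw [Proj.basicOpen_eq_iSup_proj 𝒜 a]
    exact le_iSup (fun i => Proj.basicOpen 𝒜 (GradedRing.proj 𝒜 i a)) i

/-- `D₊(s)` is nonempty when `s` is homogeneous of positive degree and not nilpotent. -/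
theorem exists_mem_basicOpen_of_not_isNilpotent {n : ℕ} (hn : 0 < n) (s : A) (hs : s ∈ 𝒜 n)
    (hnil : ¬ IsNilpotent s) : ∃ z : Proj 𝒜, z ∈ Proj.basicOpen 𝒜 s := by
  have hnt : Nontrivial (Away 𝒜 s) := by
    by_contra hcon
    rw [not_nontrivial_iff_subsingleton] at hcon
    have h1 : (1 : Away 𝒜 s) = 0 := Subsingleton.elim _ _
    have h2 := congrArg HomogeneousLocalization.val h1
    rw [HomogeneousLocalization.val_one, HomogeneousLocalization.val_zero] at h2
    have h3 : (algebraMap A (Localization (Submonoid.powers s))) 1 =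
        (algebraMap A (Localization (Submonoid.powers s))) 0 := by
      rw [map_one, map_zero]; exact h2
    obtain ⟨⟨_, k, rfl⟩, hk⟩ := (IsLocalization.eq_iff_exists (Submonoid.powers s) _).mp h3
    apply hnil
    exact ⟨k, by simpa using hk⟩
  obtain ⟨v⟩ : Nonempty (PrimeSpectrum (Away 𝒜 s)) := inferInstance
  refine ⟨(Proj.awayι 𝒜 s hs hn).base v, ?_⟩
  rw [← Proj.opensRange_awayι 𝒜 s hs hn]
  exact ⟨v, rfl⟩

end Groth.Agent.Lib.Helper63.ProjBasis
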