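import Mathlib
import Groth.Agent.Lib.Helper63.SymInvDom
import Groth.Agent.Lib.Helper42.ProjQGlue

/-!
# The morphism `r_{L,ψ} : G(ψ) ⟶ Proj(𝒮)` for an invertible module: preimages of `D₊(f)` (helper63)
-/

set_option autoImplicit false
set_option linter.unusedSectionVars false
universe u

open CategoryTheory CategoryTheory.Limits AlgebraicGeometry TopologicalSpace Opposite
open HomogeneousLocalization
open scoped HomogeneousIdeal

namespace Groth.Agent.Lib.Helper63.SymInvMap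

open Groth.Agent.Lib.Helper63.SymInvRing Groth.Agent.Lib.Helper63.SymInv
  Groth.Agent.Lib.Helper63.SymInvDom
  Groth.Agent.Lib.Helper18.SymQC Groth.Agent.Lib.Helper45 Groth.Agent.Lib.Helper49
  Groth.Agent.Lib.Helper42

variable {X Y P : Scheme.{u}} {q : X ⟶ Y} {𝒮 : RelProj.QCGrAlg Y} {𝒮L : RelProj.QCGrAlg X}
  (u : RelProj.QGrHom q 𝒮 𝒮L)
  (L : X.Modules) (hL : PicF.IsInvertible L) (hLq : Coh.IsQCoh L)
  (j : L ⟶ 𝒮L.toModule) (hj : RelProj.IsGrSymAlg L 𝒮L j)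
  (p : P ⟶ Y) (chart : ∀ (U : Y.Opens) (hU : IsAffineOpen U), (((p ⁻¹ᵁ U : P.Opens) : Scheme.{u}) ≅ Proj (𝒮.deg U hU)))
  (hP : RelProj.IsRelProj 𝒮 p chart)
  {PL : Scheme.{u}} (pL : PL ⟶ X)
  (chartL : ∀ (U : X.Opens) (hU : IsAffineOpen U), (((pL ⁻¹ᵁ U : PL.Opens) : Scheme.{u}) ≅ Proj (𝒮L.deg U hU)))
  (hPL : RelProj.IsRelProj 𝒮L pL chartL)
  (r : ((RelProj.domQ u pL chartL : PL.Opens) : Scheme.{u}) ⟶ P)
  (hr : RelProj.IsProjQMapOn u p chart pL chartL (RelProj.domQ u pL chartL) r)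

theorem resTop_top (f : 𝒮.presheaf.obj (op ⊤)) : resTop 𝒮 f ⊤ = f := by
  unfold resTop
  have : (homOfLE (le_top : (⊤ : Y.Opens) ≤ ⊤)).op = 𝟙 (op ⊤) := rfl
  rw [this, 𝒮.presheaf.map_id]
  rfl

include hL hLq hj hP hPL hr in
/-- A point of `G(u)` mapped into `D₊(f)` lies over the locus where `ψ♭(f)` generates. -/
theorem exists_genAt_of_mem_preimage (hY : IsAffineOpen (⊤ : Y.Opens)) (d : ℕ) (hd : 0 < d)
    (f : 𝒮.presheaf.obj (op ⊤)) (hf : f ∈ 𝒮.deg ⊤ hY d)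
    (w' : ((RelProj.domQ u pL chartL : PL.Opens) : Scheme.{u}))
    (hw' : r.base w' ∈ (RelProj.emb p chart ⊤ hY) ''ᵁ Proj.basicOpen (𝒮.deg ⊤ hY) f) :
    ∃ (V : X.Opens) (hV : IsAffineOpen V) (hVW : V ≤ q ⁻¹ᵁ ⊤),
      pL.base ((RelProj.domQ u pL chartL).ι.base w') ∈ V ∧ GenAt 𝒮L (sig u f) d V hV hVW := by
  obtain ⟨k, v, rfl⟩ := exists_lft_eq u pL chartL w'
  have hrk := (isProjQMapOn_iff u p chart pL chartL r).mp hr k
  have h1 : r.base ((k.lft u pL chartL).base v) = (k.rho u p chart).base v :=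
    congrArg (fun m => m.base v) hrk
  rw [h1] at hw'
  -- the point `z` of `Proj 𝒮(U)`
  obtain ⟨z, hz⟩ : ∃ z, z = (Proj.awayι (𝒮.deg k.U k.hU) k.f k.hf k.hd).base
      ((Spec.map (CommRingCat.ofHom (Away.map (k.psi u) k.f))).base v) := ⟨_, rfl⟩
  have hrho : (k.rho u p chart).base v = (RelProj.emb p chart k.U k.hU).base z := by
    rw [hz]; rfl
  rw [hrho] at hw'
  have hpiece : (RelProj.emb p chart k.U k.hU).base z ∈ piece 𝒮 p chart f k.U k.hU := by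
    rw [← xf_inf_preimage hP f k.U k.hU]
    refine ⟨?_, ?_⟩
    · have h2 : (RelProj.emb p chart k.U k.hU).base z ∈ piece 𝒮 p chart f ⊤ hY := by
        unfold piece
        rw [resTop_top]
        exact hw'
      exact (le_iSup (fun U : Y.affineOpens => piece 𝒮 p chart f U.1 U.2) ⟨⊤, hY⟩) h2
    · rw [← opensRange_emb 𝒮 p chart k.U k.hU]
      exact ⟨z, rfl⟩
  have hzmem : z ∈ Proj.basicOpen (𝒮.deg k.U k.hU) (resTop 𝒮 f k.U) := by
    obtain ⟨z', hz', hzz'⟩ := hpiece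
    have := (RelProj.emb p chart k.U k.hU).isOpenEmbedding.injective hzz'
    rw [← this]
    exact hz'
  have hfU : resTop 𝒮 f k.U ∈ 𝒮.deg k.U k.hU d := 𝒮.map_mem hY k.hU le_top hf
  rw [hz, awayι_mem_basicOpen_iff (k.psi u) k.hd hd k.hf hfU v] at hzmem
  -- the point `y` of `Proj 𝒮L(U')`
  have hU'top : k.U' ≤ q ⁻¹ᵁ ⊤ := le_top.trans (Scheme.Hom.preimage_top q).ge
  have e1 : (k.psi u) (resTop 𝒮 f k.U) = rs 𝒮L hU'top (sig u f) := by
    rw [rs_sig]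
    exact u_map_appLE u (le_top : k.U ≤ ⊤) k.hle f
  rw [e1] at hzmem
  obtain ⟨V, hV, hVW, hxV, hgen⟩ := exists_genAt_of_mem L hL hLq 𝒮L j hj pL chartL hPL (sig u f) d
    (homogOn_sig u hY d f hf) k.U' k.hU' hU'top _ hzmem
  refine ⟨V, hV, hVW, ?_, hgen⟩
  change pL.base ((k.lft u pL chartL).base v).1 ∈ V
  rw [QIdx.lft_apply]
  exact hxV

include hL hLq hj hPL hr in
/-- Conversely, over the locus where `ψ♭(f)` generates, `r` is defined and maps into `D₊(f)`. -/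
theorem exists_mem_preimage_of_genAt (hY : IsAffineOpen (⊤ : Y.Opens)) (d : ℕ) (hd : 0 < d)
    (f : 𝒮.presheaf.obj (op ⊤)) (hf : f ∈ 𝒮.deg ⊤ hY d) (w : PL)
    (V : X.Opens) (hV : IsAffineOpen V) (hVW : V ≤ q ⁻¹ᵁ ⊤) (hwV : pL.base w ∈ V)
    (hgen : GenAt 𝒮L (sig u f) d V hV hVW) :
    ∃ w' : ((RelProj.domQ u pL chartL : PL.Opens) : Scheme.{u}),
      (RelProj.domQ u pL chartL).ι.base w' = w ∧
        r.base w' ∈ (RelProj.emb p chart ⊤ hY) ''ᵁ Proj.basicOpen (𝒮.deg ⊤ hY) f := by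
  have hw : w ∈ (RelProj.emb pL chartL V hV).opensRange := by
    rw [opensRange_emb 𝒮L pL chartL V hV]; exact hwV
  obtain ⟨y, rfl⟩ := hw
  have hy := mem_basicOpen_of_genAt L hL hLq 𝒮L j hj pL chartL hPL (sig u f) d
    (homogOn_sig u hY d f hf) V hV hVW y V hV hVW hwV hgen
  rw [rs_sig] at hy
  let k : QIdx q 𝒮 := ⟨⊤, hY, V, hV, hVW, d, hd, f, hf⟩
  have hy' : y ∈ (Proj.awayι (𝒮L.deg V hV) (k.psi u k.f) (Graded.map_mem (k.psi u) k.hf) k.hd).opensRange := by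
    rw [Proj.opensRange_awayι]
    exact hy
  obtain ⟨v, rfl⟩ := hy'
  refine ⟨(k.lft u pL chartL).base v, ?_, ?_⟩
  · change ((k.lft u pL chartL).base v).1 = _
    rw [QIdx.lft_apply]
  · have hrk := (isProjQMapOn_iff u p chart pL chartL r).mp hr k
    have h1 : r.base ((k.lft u pL chartL).base v) = (k.rho u p chart).base v :=
      congrArg (fun m => m.base v) hrk
    rw [h1]
    refine ⟨(Proj.awayι (𝒮.deg ⊤ hY) f hf hd).base
      ((Spec.map (CommRingCat.ofHom (Away.map (k.psi u) k.f))).base v), ?_, rfl⟩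
    have : (Proj.awayι (𝒮.deg ⊤ hY) f hf hd).base
        ((Spec.map (CommRingCat.ofHom (Away.map (k.psi u) k.f))).base v) ∈
          (Proj.awayι (𝒮.deg ⊤ hY) f hf hd).opensRange := ⟨_, rfl⟩
    rw [Proj.opensRange_awayι] at this
    exact this

end Groth.Agent.Lib.Helper63.SymInvMap
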