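import Mathlib
import Groth.Agent.Lib.Helper63.SymInvMap

/-!
# `r_{L,ψ}` and `D₊(f)` for `f` over an arbitrary affine open of the base (helper63)
-/

set_option autoImplicit false
set_option linter.unusedSectionVars false
universe u

open CategoryTheory CategoryTheory.Limits AlgebraicGeometry TopologicalSpace Opposite
open HomogeneousLocalization
open scoped HomogeneousIdeal

namespace Groth.Agent.Lib.Helper63.SymInvMapGen

open Groth.Agent.Lib.Helper63.SymInvRing Groth.Agent.Lib.Helper63.SymInv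
  Groth.Agent.Lib.Helper63.SymInvDom
  Groth.Agent.Lib.Helper18.SymQC Groth.Agent.Lib.Helper45 Groth.Agent.Lib.Helper49
  Groth.Agent.Lib.Helper42

variable {X Y P : Scheme.{u}} {q : X ⟶ Y} {𝒮 : RelProj.QCGrAlg Y} {𝒮L : RelProj.QCGrAlg X}
  (u : RelProj.QGrHom q 𝒮 𝒮L)
  (L : X.Modules) (hL : PicF.IsInvertible L) (hLq : Coh.IsQCoh L)
  (j : L ⟶ 𝒮L.toModule) (hj : RelProj.IsGrSymAlg L 𝒮L j)
  (p : P ⟶ Y) (chart : ∀ (U : Y.Opens) (hU : IsAffineOpen U), (((p ⁻¹ᵁ U : P.Opens) : Scheme.{u}) ≅ Proj (𝒮.deg U hU)))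
  (hP : RelProj.IsRelProj 𝒮 p chart)
  {PL : Scheme.{u}} (pL : PL ⟶ X)
  (chartL : ∀ (U : X.Opens) (hU : IsAffineOpen U), (((pL ⁻¹ᵁ U : PL.Opens) : Scheme.{u}) ≅ Proj (𝒮L.deg U hU)))
  (hPL : RelProj.IsRelProj 𝒮L pL chartL)
  (r : ((RelProj.domQ u pL chartL : PL.Opens) : Scheme.{u}) ⟶ P)
  (hr : RelProj.IsProjQMapOn u p chart pL chartL (RelProj.domQ u pL chartL) r)

/-- the image of a section of `𝒮` over `U` in `𝒮L(q⁻¹ U)` -/
noncomputable def sigU (U : Y.Opens) (s : 𝒮.presheaf.obj (op U)) : 𝒮L.presheaf.obj (op (q ⁻¹ᵁ U)) :=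
  (u.app U).hom s

theorem rs_sigU (U : Y.Opens) (s : 𝒮.presheaf.obj (op U)) (V : X.Opens) (hVW : V ≤ q ⁻¹ᵁ U) :
    rs 𝒮L hVW (sigU u U s) = (u.appLE U V hVW).hom s := rfl

theorem homogOn_sigU (U : Y.Opens) (hU : IsAffineOpen U) (n : ℕ) (s : 𝒮.presheaf.obj (op U))
    (hs : s ∈ 𝒮.deg U hU n) : HomogOn 𝒮L (sigU u U s) n :=
  fun V hV hVW => u.map_mem U hU V hV hVW hs

include hPL in
/-- Every point of `G(u)` over an affine open `U` of the base lies in a standard chart whose base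
affine is a basic open of `U`. -/
theorem exists_chart_basicOpen (U : Y.Opens) (hU : IsAffineOpen U)
    (w' : ((RelProj.domQ u pL chartL : PL.Opens) : Scheme.{u}))
    (hw' : q.base (pL.base ((RelProj.domQ u pL chartL).ι.base w')) ∈ U) :
    ∃ (a : Γ(Y, U)) (U' : X.Opens) (hU' : IsAffineOpen U') (hle : U' ≤ q ⁻¹ᵁ (Y.basicOpen a))
      (d : ℕ) (hd : 0 < d) (f : 𝒮.presheaf.obj (op (Y.basicOpen a)))
      (hf : f ∈ 𝒮.deg (Y.basicOpen a) (hU.basicOpen a) d)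
      (v : Spec (CommRingCat.of (Away (𝒮L.deg U' hU')
        (u.gradedAt (Y.basicOpen a) (hU.basicOpen a) U' hU' hle f)))),
      ((⟨Y.basicOpen a, hU.basicOpen a, U', hU', hle, d, hd, f, hf⟩ : QIdx q 𝒮).lft u pL chartL).base v = w' := by
  obtain ⟨k₁, v₁, hv₁⟩ := exists_lft_eq u pL chartL w'
  have hx1 : pL.base w'.1 ∈ k₁.U' := by
    have : w'.1 ∈ pL ⁻¹ᵁ k₁.U' := by
      rw [← opensRange_emb 𝒮L pL chartL k₁.U' k₁.hU', ← hv₁, QIdx.lft_apply]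
      exact ⟨_, rfl⟩
    exact this
  have hqx1 : q.base (pL.base w'.1) ∈ k₁.U := k₁.hle hx1
  obtain ⟨a₁, a, ha, hya⟩ := exists_basicOpen_le_affine_inter k₁.hU hU
    (q.base (pL.base w'.1)) ⟨hqx1, hw'⟩
  obtain ⟨c₁, hc₁def⟩ : ∃ c₁ : Γ(X, k₁.U'), c₁ = (q.appLE k₁.U k₁.U' k₁.hle).hom a₁ := ⟨_, rfl⟩
  have hc₁ : X.basicOpen c₁ = k₁.U' ⊓ q ⁻¹ᵁ Y.basicOpen a₁ := by
    rw [hc₁def, Scheme.basicOpen_appLE]
  have hle₃ : X.basicOpen c₁ ≤ q ⁻¹ᵁ Y.basicOpen a := by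
    rw [hc₁, ← ha]; exact inf_le_right
  have hxc : pL.base w'.1 ∈ X.basicOpen c₁ := by rw [hc₁]; exact ⟨hx1, hya⟩
  have i₁ : Y.basicOpen a ≤ k₁.U := ha ▸ Y.basicOpen_le a₁
  have hU₃ : IsAffineOpen (Y.basicOpen a) := hU.basicOpen a
  have hU₃' : IsAffineOpen (X.basicOpen c₁) := k₁.hU'.basicOpen c₁
  have hm₁ : 𝒮.res k₁.hU hU₃ i₁ k₁.f ∈ 𝒮.deg _ hU₃ k₁.d := Graded.map_mem _ k₁.hf
  have hx₃ : w'.1 ∈ pL ⁻¹ᵁ X.basicOpen c₁ := hxc
  rw [← opensRange_emb 𝒮L pL chartL _ hU₃'] at hx₃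
  obtain ⟨w₃, hw₃⟩ := hx₃
  have hw₃' : (RelProj.emb pL chartL (X.basicOpen c₁) hU₃').base w₃ = w'.1 := hw₃
  have h1 := mem_basicOpen_of_refine u hPL k₁ c₁ _ hU₃ _ hU₃' hle₃ rfl i₁ v₁ w₃
    (by rw [hv₁]; exact hw₃')
  rw [← Proj.opensRange_awayι _ _ (Graded.map_mem _ hm₁) k₁.hd] at h1
  obtain ⟨v₃, hv₃⟩ := h1
  refine ⟨a, X.basicOpen c₁, hU₃', hle₃, k₁.d, k₁.hd, 𝒮.res k₁.hU hU₃ i₁ k₁.f, hm₁, v₃, Subtype.ext ?_⟩
  rw [QIdx.lft_apply, ← hw₃']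
  exact congrArg _ hv₃

include hL hLq hj hP hPL hr in
/-- A point of `G(u)` mapped into `D₊(f) ⊆ Proj 𝒮(U)` lies over the locus where `ψ♭(f)` generates. -/
theorem exists_genAt_of_mem_preimage (U : Y.Opens) (hU : IsAffineOpen U) (d : ℕ) (hd : 0 < d)
    (f : 𝒮.presheaf.obj (op U)) (hf : f ∈ 𝒮.deg U hU d)
    (w' : ((RelProj.domQ u pL chartL : PL.Opens) : Scheme.{u}))
    (hw' : r.base w' ∈ (RelProj.emb p chart U hU) ''ᵁ Proj.basicOpen (𝒮.deg U hU) f) :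
    ∃ (V : X.Opens) (hV : IsAffineOpen V) (hVW : V ≤ q ⁻¹ᵁ U),
      pL.base ((RelProj.domQ u pL chartL).ι.base w') ∈ V ∧ GenAt 𝒮L (sigU u U f) d V hV hVW := by
  -- the point lies over `U`
  have hqU : q.base (pL.base ((RelProj.domQ u pL chartL).ι.base w')) ∈ U := by
    have h1 := congrArg (fun m => m.base w') (isProjQMapOn_comp_p u hP hPL r hr)
    have h2 : p.base (r.base w') = q.base (pL.base ((RelProj.domQ u pL chartL).ι.base w')) := h1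
    rw [← h2]
    obtain ⟨z₀, _, hz₀⟩ := hw'
    have : r.base w' ∈ (RelProj.emb p chart U hU).opensRange := ⟨z₀, hz₀⟩
    rw [opensRange_emb 𝒮 p chart U hU] at this
    exact this
  obtain ⟨a, U', hU', hle, d₁, hd₁, f₁, hf₁, v, hv⟩ := exists_chart_basicOpen u pL chartL hPL U hU w' hqU
  have hrk := (isProjQMapOn_iff u p chart pL chartL r).mp hr
    ⟨Y.basicOpen a, hU.basicOpen a, U', hU', hle, d₁, hd₁, f₁, hf₁⟩
  have h1 : r.base ((QIdx.lft u pL chartL ⟨Y.basicOpen a, hU.basicOpen a, U', hU', hle, d₁, hd₁, f₁, hf₁⟩).base v) =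
      (QIdx.rho u p chart ⟨Y.basicOpen a, hU.basicOpen a, U', hU', hle, d₁, hd₁, f₁, hf₁⟩).base v :=
    congrArg (fun m => m.base v) hrk
  rw [← hv, h1] at hw'
  -- the point `z` of `Proj 𝒮(D(a))`
  obtain ⟨z, hz⟩ : ∃ z, z = (Proj.awayι (𝒮.deg (Y.basicOpen a) (hU.basicOpen a)) f₁ hf₁ hd₁).base
      ((Spec.map (CommRingCat.ofHom (Away.map (u.gradedAt (Y.basicOpen a) (hU.basicOpen a) U' hU' hle) f₁))).base v) :=
    ⟨_, rfl⟩
  have hrho : (QIdx.rho u p chart ⟨Y.basicOpen a, hU.basicOpen a, U', hU', hle, d₁, hd₁, f₁, hf₁⟩).base v =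
      (RelProj.emb p chart (Y.basicOpen a) (hU.basicOpen a)).base z := by
    rw [hz]; rfl
  rw [hrho] at hw'
  have h2 := congrArg (fun m => m.base z) (RelProj.map_res_emb hP U hU a)
  have h3 : (RelProj.emb p chart U hU).base
      ((Proj.map (𝒮.res hU (hU.basicOpen a) (Y.basicOpen_le a)) (𝒮.irrelevant_le_map U hU a)).base z) =
      (RelProj.emb p chart (Y.basicOpen a) (hU.basicOpen a)).base z := h2
  rw [← h3] at hw'
  obtain ⟨z₀, hz₀, hzz₀⟩ := hw'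
  have h4 := (RelProj.emb p chart U hU).isOpenEmbedding.injective hzz₀
  rw [h4] at hz₀
  have hzmem : z ∈ Proj.basicOpen (𝒮.deg (Y.basicOpen a) (hU.basicOpen a))
      (𝒮.res hU (hU.basicOpen a) (Y.basicOpen_le a) f) := hz₀
  have hfU : 𝒮.res hU (hU.basicOpen a) (Y.basicOpen_le a) f ∈ 𝒮.deg (Y.basicOpen a) (hU.basicOpen a) d :=
    Graded.map_mem _ hf
  rw [hz, awayι_mem_basicOpen_iff (u.gradedAt (Y.basicOpen a) (hU.basicOpen a) U' hU' hle) hd₁ hd hf₁ hfU v]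
    at hzmem
  have hU'W : U' ≤ q ⁻¹ᵁ U := hle.trans (q.preimage_mono (Y.basicOpen_le a))
  have e1 : (u.gradedAt (Y.basicOpen a) (hU.basicOpen a) U' hU' hle)
      (𝒮.res hU (hU.basicOpen a) (Y.basicOpen_le a) f) = rs 𝒮L hU'W (sigU u U f) := by
    rw [rs_sigU]
    exact u_map_appLE u (Y.basicOpen_le a) hle f
  rw [e1] at hzmem
  obtain ⟨V, hV, hVW, hxV, hgen⟩ := exists_genAt_of_mem L hL hLq 𝒮L j hj pL chartL hPL (sigU u U f) d
    (homogOn_sigU u U hU d f hf) U' hU' hU'W _ hzmem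
  refine ⟨V, hV, hVW, ?_, hgen⟩
  rw [← hv]
  change pL.base ((QIdx.lft u pL chartL ⟨Y.basicOpen a, hU.basicOpen a, U', hU', hle, d₁, hd₁, f₁, hf₁⟩).base v).1 ∈ V
  rw [QIdx.lft_apply]
  exact hxV

include hL hLq hj hPL hr in
/-- Conversely, over the locus where `ψ♭(f)` generates, `r` is defined and maps into `D₊(f)`. -/
theorem exists_mem_preimage_of_genAt (U : Y.Opens) (hU : IsAffineOpen U) (d : ℕ) (hd : 0 < d)
    (f : 𝒮.presheaf.obj (op U)) (hf : f ∈ 𝒮.deg U hU d) (w : PL)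
    (V : X.Opens) (hV : IsAffineOpen V) (hVW : V ≤ q ⁻¹ᵁ U) (hwV : pL.base w ∈ V)
    (hgen : GenAt 𝒮L (sigU u U f) d V hV hVW) :
    ∃ w' : ((RelProj.domQ u pL chartL : PL.Opens) : Scheme.{u}),
      (RelProj.domQ u pL chartL).ι.base w' = w ∧
        r.base w' ∈ (RelProj.emb p chart U hU) ''ᵁ Proj.basicOpen (𝒮.deg U hU) f := by
  have hw : w ∈ (RelProj.emb pL chartL V hV).opensRange := by
    rw [opensRange_emb 𝒮L pL chartL V hV]; exact hwV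
  obtain ⟨y, rfl⟩ := hw
  have hy := mem_basicOpen_of_genAt L hL hLq 𝒮L j hj pL chartL hPL (sigU u U f) d
    (homogOn_sigU u U hU d f hf) V hV hVW y V hV hVW hwV hgen
  rw [rs_sigU] at hy
  let k : QIdx q 𝒮 := ⟨U, hU, V, hV, hVW, d, hd, f, hf⟩
  have hy' : y ∈ (Proj.awayι (𝒮L.deg V hV) (k.psi u k.f) (Graded.map_mem (k.psi u) k.hf) k.hd).opensRange := by
    rw [Proj.opensRange_awayι]
    exact hy
  obtain ⟨v, rfl⟩ := hy'
  refine ⟨(k.lft u pL chartL).base v, ?_, ?_⟩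
  · change ((k.lft u pL chartL).base v).1 = _
    rw [QIdx.lft_apply]
  · have hrk := (isProjQMapOn_iff u p chart pL chartL r).mp hr k
    have h1 : r.base ((k.lft u pL chartL).base v) = (k.rho u p chart).base v :=
      congrArg (fun m => m.base v) hrk
    rw [h1]
    refine ⟨(Proj.awayι (𝒮.deg U hU) f hf hd).base
      ((Spec.map (CommRingCat.ofHom (Away.map (k.psi u) k.f))).base v), ?_, rfl⟩
    have : (Proj.awayι (𝒮.deg U hU) f hf hd).base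
        ((Spec.map (CommRingCat.ofHom (Away.map (k.psi u) k.f))).base v) ∈
          (Proj.awayι (𝒮.deg U hU) f hf hd).opensRange := ⟨_, rfl⟩
    rw [Proj.opensRange_awayι] at this
    exact this

end Groth.Agent.Lib.Helper63.SymInvMapGen
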