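import Mathlib
import Groth.Agent.Lib.Helper63.SymInvMapGen
import Groth.Agent.Lib.Helper63.ProjBasis
import Groth.Agent.Lib.Helper63.ImmLocal
import Groth.Agent.Lib.Helper63.AwayMapCrit

/-!
# Immersion criterion for `r_{L,ψ} : G(ψ) ⟶ Proj(𝒮)` over a general base (helper63)
-/

set_option autoImplicit false
set_option linter.unusedSectionVars false
universe u

open CategoryTheory CategoryTheory.Limits AlgebraicGeometry TopologicalSpace Opposite
open HomogeneousLocalization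
open scoped HomogeneousIdeal

namespace Groth.Agent.Lib.Helper63.SymInvImmGen

open Groth.Agent.Lib.Helper63.SymInvRing Groth.Agent.Lib.Helper63.SymInv
  Groth.Agent.Lib.Helper63.SymInvDom Groth.Agent.Lib.Helper63.SymInvMapGen
  Groth.Agent.Lib.Helper63.ProjBasis Groth.Agent.Lib.Helper63.ImmLocal
  Groth.Agent.Lib.Helper18.SymQC Groth.Agent.Lib.Helper45 Groth.Agent.Lib.Helper49
  Groth.Agent.Lib.Helper42

variable {X Y P : Scheme.{u}} {q : X ⟶ Y} {𝒮 : RelProj.QCGrAlg Y} {𝒮L : RelProj.QCGrAlg X}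
  (u : RelProj.QGrHom q 𝒮 𝒮L)
  (L : X.Modules) (hL : PicF.IsInvertible L) (hLq : Coh.IsQCoh L)
  (j : L ⟶ 𝒮L.toModule) (hj : RelProj.IsGrSymAlg L 𝒮L j)
  (p : P ⟶ Y) (chart : ∀ (U : Y.Opens) (hU : IsAffineOpen U), (((p ⁻¹ᵁ U : P.Opens) : Scheme.{u}) ≅ Proj (𝒮.deg U hU)))
  (hP : RelProj.IsRelProj 𝒮 p chart)
  {PL : Scheme.{u}} (pL : PL ⟶ X)
  (chartL : ∀ (U : X.Opens) (hU : IsAffineOpen U), (((pL ⁻¹ᵁ U : PL.Opens) : Scheme.{u}) ≅ Proj (𝒮L.deg U hU)))
  (hPL : RelProj.IsRelProj 𝒮L pL chartL)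
  (r : ((RelProj.domQ u pL chartL : PL.Opens) : Scheme.{u}) ⟶ P)
  (hr : RelProj.IsProjQMapOn u p chart pL chartL (RelProj.domQ u pL chartL) r)

/-- the open where the section `σ` of `𝒮L` over `W` generates the degree `n` part -/
def Xσ {W : X.Opens} (σ : 𝒮L.presheaf.obj (op W)) (n : ℕ) : X.Opens :=
  ⨆ V : {V : X.affineOpens // ∃ hVW : (V : X.Opens) ≤ W, GenAt 𝒮L σ n V.1 V.2 hVW}, (V.1.1 : X.Opens)

theorem mem_Xσ_iff {W : X.Opens} (σ : 𝒮L.presheaf.obj (op W)) (n : ℕ) (x : X) :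
    x ∈ Xσ σ n ↔ ∃ (V : X.Opens) (hV : IsAffineOpen V) (hVW : V ≤ W), x ∈ V ∧ GenAt 𝒮L σ n V hV hVW := by
  constructor
  · intro hx
    obtain ⟨⟨⟨V, hV⟩, hVW, hgen⟩, hxV⟩ := Opens.mem_iSup.mp hx
    exact ⟨V, hV, hVW, hxV, hgen⟩
  · rintro ⟨V, hV, hVW, hxV, hgen⟩
    exact Opens.mem_iSup.mpr ⟨⟨⟨V, hV⟩, hVW, hgen⟩, hxV⟩

theorem Xσ_le {W : X.Opens} (σ : 𝒮L.presheaf.obj (op W)) (n : ℕ) : Xσ σ n ≤ W := by
  intro x hx
  obtain ⟨V, hV, hVW, hxV, -⟩ := (mem_Xσ_iff σ n x).mp hx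
  exact hVW hxV

/-- the open `D₊(s)` of `P`, for `s` a section over the affine open `U` -/
noncomputable def OsU (U : Y.Opens) (hU : IsAffineOpen U) (s : 𝒮.presheaf.obj (op U)) : P.Opens :=
  (RelProj.emb p chart U hU) ''ᵁ Proj.basicOpen (𝒮.deg U hU) s

/-- the functions on `V` which are fractions `ψ♭(s')/ψ♭(s)^m` -/
def FracSet (U : Y.Opens) (hU : IsAffineOpen U) (n : ℕ) (s : 𝒮.presheaf.obj (op U))
    (V : X.Opens) (hVU : V ≤ q ⁻¹ᵁ U) : Set (X.presheaf.obj (op V)) :=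
  {t | ∃ (m : ℕ) (_ : 0 < m) (s' : 𝒮.presheaf.obj (op U)) (_ : s' ∈ 𝒮.deg U hU (m * n)),
    (𝒮L.str.app (op V)).hom t * ((u.appLE U V hVU).hom s) ^ m = (u.appLE U V hVU).hom s'}

section local_

variable (U : Y.Opens) (hU : IsAffineOpen U) (n : ℕ) (hn : 0 < n) (s : 𝒮.presheaf.obj (op U))
  (hs : s ∈ 𝒮.deg U hU n)

include hL hLq hj hP hPL hr hn hs in
theorem mem_preimage_iff (w' : ((RelProj.domQ u pL chartL : PL.Opens) : Scheme.{u})) :
    r.base w' ∈ OsU p chart U hU s ↔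
      pL.base ((RelProj.domQ u pL chartL).ι.base w') ∈ Xσ (sigU u U s) n := by
  rw [mem_Xσ_iff]
  constructor
  · intro hw
    exact exists_genAt_of_mem_preimage u L hL hLq j hj p chart hP pL chartL hPL r hr U hU n hn s hs w' hw
  · rintro ⟨V, hV, hVW, hxV, hgen⟩
    obtain ⟨w'', hw''1, hw''2⟩ := exists_mem_preimage_of_genAt u L hL hLq j hj p chart pL chartL hPL r hr
      U hU n hn s hs _ V hV hVW hxV hgen
    have : w'' = w' := Subtype.ext hw''1
    rw [← this]
    exact hw''2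

include hL hLq hj hPL hr hn hs in
/-- every point of `X_f` is the image of a point of `G(ψ)` mapped into `D₊(s)` -/
theorem exists_mem_of_mem_Xσ (x : X) (hx : x ∈ Xσ (sigU u U s) n) :
    ∃ w' : ((RelProj.domQ u pL chartL : PL.Opens) : Scheme.{u}),
      pL.base ((RelProj.domQ u pL chartL).ι.base w') = x ∧ r.base w' ∈ OsU p chart U hU s := by
  obtain ⟨V, hV, hVW, hxV, hgen⟩ := (mem_Xσ_iff _ n x).mp hx
  have hisoL := isIso_pL L hLq 𝒮L j hj pL chartL hPL hL
  obtain ⟨w, rfl⟩ := pL.surjective x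
  obtain ⟨w'', hw''1, hw''2⟩ := exists_mem_preimage_of_genAt u L hL hLq j hj p chart pL chartL hPL r hr
    U hU n hn s hs w V hV hVW hxV hgen
  exact ⟨w'', congrArg _ hw''1, hw''2⟩

include hn hs in
theorem isAffineOpen_OsU : IsAffineOpen (OsU p chart U hU s) := by
  have e : OsU p chart U hU s =
      (Proj.awayι (𝒮.deg U hU) s hs hn ≫ RelProj.emb p chart U hU).opensRange := by
    rw [Scheme.Hom.opensRange_comp, Proj.opensRange_awayι]
    rfl
  rw [e]
  exact isAffineOpen_opensRange _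

include hL hLq hj hP hPL hr hs hn in
/-- If `r` is a closed immersion over `D₊(s)`, then `X_f` is affine. -/
theorem isAffineOpen_Xσ (h : IsClosedImmersion (r ∣_ OsU p chart U hU s)) :
    IsAffineOpen (Xσ (sigU u U s) n) := by
  have hOs : IsAffine (OsU p chart U hU s).toScheme := isAffineOpen_OsU p chart U hU n hn s hs
  have hA : IsAffineOpen (r ⁻¹ᵁ OsU p chart U hU s) := by
    change IsAffine _
    exact isAffine_of_isAffineHom (r ∣_ OsU p chart U hU s)
  have hisoL := isIso_pL L hLq 𝒮L j hj pL chartL hPL hL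
  have himg := hA.image_of_isOpenImmersion ((RelProj.domQ u pL chartL).ι ≫ pL)
  have e : ((RelProj.domQ u pL chartL).ι ≫ pL) ''ᵁ (r ⁻¹ᵁ OsU p chart U hU s) = Xσ (sigU u U s) n := by
    ext x
    constructor
    · rintro ⟨w', hw', rfl⟩
      exact (mem_preimage_iff u L hL hLq j hj p chart hP pL chartL hPL r hr U hU n hn s hs w').mp hw'
    · intro hx
      obtain ⟨w', hw'1, hw'2⟩ := exists_mem_of_mem_Xσ u L hL hLq j hj p chart pL chartL hPL r hr U hU n hn
        s hs x hx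
      exact ⟨w', hw'2, hw'1⟩
  rw [← e]
  exact himg

variable (hV : IsAffineOpen (Xσ (sigU u U s) n))

/-- the chart index attached to `s` and the affine open `X_f` -/
noncomputable abbrev kOf : QIdx q 𝒮 := ⟨U, hU, Xσ (sigU u U s) n, hV, Xσ_le _ _, n, hn, s, hs⟩

include hL hLq hj hPL hU hs in
theorem all_mem_basicOpen (y : Proj (𝒮L.deg (Xσ (sigU u U s) n) hV)) :
    y ∈ Proj.basicOpen (𝒮L.deg (Xσ (sigU u U s) n) hV)
      ((u.appLE U (Xσ (sigU u U s) n) (Xσ_le _ _)).hom s) := by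
  have hx := base_mem_of_chart 𝒮L pL chartL hPL (Xσ (sigU u U s) n) hV y
  obtain ⟨V₁, hV₁, hV₁W, hxV₁, hgen⟩ := (mem_Xσ_iff _ n _).mp hx
  exact mem_basicOpen_of_genAt L hL hLq 𝒮L j hj pL chartL hPL (sigU u U s) n
    (homogOn_sigU u U hU n s hs) (Xσ (sigU u U s) n) hV (Xσ_le _ _) y V₁ hV₁ hV₁W hxV₁ hgen

include hL hLq hj hP hPL hr in
theorem range_lft :
    Set.range ((kOf u U hU n hn s hs hV).lft u pL chartL).base =
      ((r ⁻¹ᵁ OsU p chart U hU s : Opens _) : Set _) := by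
  have hrk := (isProjQMapOn_iff u p chart pL chartL r).mp hr (kOf u U hU n hn s hs hV)
  ext w'
  constructor
  · rintro ⟨v, rfl⟩
    have h1 : r.base (((kOf u U hU n hn s hs hV).lft u pL chartL).base v) =
        ((kOf u U hU n hn s hs hV).rho u p chart).base v := congrArg (fun m => m.base v) hrk
    change r.base _ ∈ OsU p chart U hU s
    rw [h1]
    refine ⟨(Proj.awayι (𝒮.deg U hU) s hs hn).base
      ((Spec.map (CommRingCat.ofHom (Away.map ((kOf u U hU n hn s hs hV).psi u) s))).base v), ?_, rfl⟩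
    have : (Proj.awayι (𝒮.deg U hU) s hs hn).base
        ((Spec.map (CommRingCat.ofHom (Away.map ((kOf u U hU n hn s hs hV).psi u) s))).base v) ∈
          (Proj.awayι (𝒮.deg U hU) s hs hn).opensRange := ⟨_, rfl⟩
    rw [Proj.opensRange_awayι] at this
    exact this
  · intro hw
    have hw1 : r.base w' ∈ OsU p chart U hU s := hw
    rw [mem_preimage_iff u L hL hLq j hj p chart hP pL chartL hPL r hr U hU n hn s hs w'] at hw1
    have hw2 : (RelProj.domQ u pL chartL).ι.base w' ∈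
        (RelProj.emb pL chartL (Xσ (sigU u U s) n) hV).opensRange := by
      rw [opensRange_emb 𝒮L pL chartL (Xσ (sigU u U s) n) hV]; exact hw1
    obtain ⟨y, hy⟩ := hw2
    have hy2 := all_mem_basicOpen u L hL hLq j hj pL chartL hPL U hU n s hs hV y
    have hy3 : y ∈ (Proj.awayι (𝒮L.deg (Xσ (sigU u U s) n) hV) ((kOf u U hU n hn s hs hV).psi u s)
        (Graded.map_mem ((kOf u U hU n hn s hs hV).psi u) hs) hn).opensRange := by
      rw [Proj.opensRange_awayι]
      exact hy2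
    obtain ⟨v, hv⟩ := hy3
    refine ⟨v, Subtype.ext ?_⟩
    rw [QIdx.lft_apply]
    exact (congrArg (RelProj.emb pL chartL (Xσ (sigU u U s) n) hV).base hv).trans hy

theorem range_tgt :
    Set.range ((kOf u U hU n hn s hs hV).tgt p chart).base = (OsU p chart U hU s : Set P) := by
  ext z
  constructor
  · rintro ⟨v, rfl⟩
    refine ⟨(Proj.awayι (𝒮.deg U hU) s hs hn).base v, ?_, rfl⟩
    have : (Proj.awayι (𝒮.deg U hU) s hs hn).base v ∈ (Proj.awayι (𝒮.deg U hU) s hs hn).opensRange :=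
      ⟨_, rfl⟩
    rw [Proj.opensRange_awayι] at this
    exact this
  · rintro ⟨z₀, hz₀, rfl⟩
    have hz₁ : z₀ ∈ Proj.basicOpen (𝒮.deg U hU) s := hz₀
    rw [← Proj.opensRange_awayι (𝒮.deg U hU) s hs hn] at hz₁
    obtain ⟨v, hv⟩ := hz₁
    refine ⟨v, ?_⟩
    change (RelProj.emb p chart U hU).base ((Proj.awayι (𝒮.deg U hU) s hs hn).base v) = _
    rw [hv]
    rfl

include hL hLq hj hP hPL hr in
/-- Over `D₊(s)`, `r` is conjugate to `Spec` of `Away.map`. -/
theorem restrict_iff_specMap (Q : MorphismProperty Scheme.{u}) [Q.RespectsIso] :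
    Q (r ∣_ OsU p chart U hU s) ↔
      Q (Spec.map (CommRingCat.ofHom (Away.map ((kOf u U hU n hn s hs hV).psi u) s))) := by
  have hrk := (isProjQMapOn_iff u p chart pL chartL r).mp hr (kOf u U hU n hn s hs hV)
  exact restrict_iff Q r (OsU p chart U hU s) ((kOf u U hU n hn s hs hV).lft u pL chartL)
    ((kOf u U hU n hn s hs hV).tgt p chart) _
    (range_lft u L hL hLq j hj p chart hP pL chartL hPL r hr U hU n hn s hs hV)
    (range_tgt u p chart U hU n hn s hs hV) hrk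

include hL hLq hj hPL hU hs hn in
/-- every degree-zero fraction with denominator a power of `ψ♭(s)` is a function on `X_f`. -/
theorem gamma_surjective
    (x : Away (𝒮L.deg (Xσ (sigU u U s) n) hV) ((u.appLE U (Xσ (sigU u U s) n) (Xσ_le _ _)).hom s)) :
    ∃ t : Γ(X, Xσ (sigU u U s) n), x.val =
      algebraMap _ (Localization (Submonoid.powers ((u.appLE U (Xσ (sigU u U s) n) (Xσ_le _ _)).hom s)))
        ((𝒮L.str.app (op (Xσ (sigU u U s) n))).hom t) := by
  have hf : (u.appLE U (Xσ (sigU u U s) n) (Xσ_le _ _)).hom s ∈ 𝒮L.deg (Xσ (sigU u U s) n) hV n :=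
    u.map_mem U hU (Xσ (sigU u U s) n) hV _ hs
  have hisoL := isIso_pL L hLq 𝒮L j hj pL chartL hPL hL
  have h1 : IsIso (pL ∣_ (Xσ (sigU u U s) n)) := inferInstance
  have h3 : pL ∣_ (Xσ (sigU u U s) n) = (chartL (Xσ (sigU u U s) n) hV).hom ≫
      Proj.toSpecZero (𝒮L.deg (Xσ (sigU u U s) n) hV) ≫
      Spec.map (𝒮L.strZero (Xσ (sigU u U s) n) hV) ≫ hV.isoSpec.inv := by
    rw [← cancel_mono (Xσ (sigU u U s) n).ι]
    simp only [Category.assoc]
    rw [morphismRestrict_ι, IsAffineOpen.isoSpec_inv_ι]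
    exact (hPL.chart_over (Xσ (sigU u U s) n) hV).symm
  have h4 : IsIso (Proj.toSpecZero (𝒮L.deg (Xσ (sigU u U s) n) hV) ≫
      Spec.map (𝒮L.strZero (Xσ (sigU u U s) n) hV)) := by
    have e : Proj.toSpecZero (𝒮L.deg (Xσ (sigU u U s) n) hV) ≫
        Spec.map (𝒮L.strZero (Xσ (sigU u U s) n) hV) =
        (chartL (Xσ (sigU u U s) n) hV).inv ≫ (pL ∣_ (Xσ (sigU u U s) n)) ≫ hV.isoSpec.hom := by
      rw [h3]
      simp
    rw [e]
    infer_instance
  have h5 : IsIso (Proj.awayι (𝒮L.deg (Xσ (sigU u U s) n) hV) _ hf hn) := by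
    apply isIso_of_isOpenImmersion_of_opensRange_eq_top
    rw [Proj.opensRange_awayι, eq_top_iff]
    intro y _
    exact all_mem_basicOpen u L hL hLq j hj pL chartL hPL U hU n s hs hV y
  have h6 := Proj.awayι_toSpecZero (𝒮L.deg (Xσ (sigU u U s) n) hV) _ hf hn
  have h7 : IsIso (Spec.map (𝒮L.strZero (Xσ (sigU u U s) n) hV ≫ CommRingCat.ofHom
      (fromZeroRingHom (𝒮L.deg (Xσ (sigU u U s) n) hV)
        (Submonoid.powers ((u.appLE U (Xσ (sigU u U s) n) (Xσ_le _ _)).hom s))))) := by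
    rw [Spec.map_comp, ← h6, Category.assoc]
    infer_instance
  have h8 := (isIso_SpecMap_iff.mp h7).2
  obtain ⟨t, ht⟩ := h8 x
  refine ⟨t, ?_⟩
  rw [← ht]
  rfl

include hL hLq hj hP hPL hr hn hs hV in
/-- `r` is a closed immersion over `D₊(s)` iff every function on `X_f` is a fraction. -/
theorem isClosedImmersion_iff :
    IsClosedImmersion (r ∣_ OsU p chart U hU s) ↔
      ∀ t : X.presheaf.obj (op (Xσ (sigU u U s) n)),
        t ∈ FracSet u U hU n s (Xσ (sigU u U s) n) (Xσ_le _ _) := by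
  rw [restrict_iff_specMap u L hL hLq j hj p chart hP pL chartL hPL r hr U hU n hn s hs hV
    (Q := @IsClosedImmersion), isClosedImmersion_SpecMap_iff]
  constructor
  · intro hsurj t
    exact AwayMapCrit.of_surjective ((kOf u U hU n hn s hs hV).psi u) s hs
      (𝒮L.str.app (op (Xσ (sigU u U s) n))).hom (fun t => 𝒮L.str_mem _ hV t) hsurj t
  · intro H
    exact AwayMapCrit.surjective_of ((kOf u U hU n hn s hs hV).psi u) s hs
      (𝒮L.str.app (op (Xσ (sigU u U s) n))).hom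
      (gamma_surjective u L hL hLq j hj pL chartL hPL U hU n hn s hs hV) H

end local_

end Groth.Agent.Lib.Helper63.SymInvImmGen
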