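import Mathlib
import Groth.Agent.Lib.Helper63.SymInvMap
import Groth.Agent.Lib.Helper63.ProjBasis

/-!
# Dominance criterion for `r_{L,ψ} : G(ψ) ⟶ Proj(𝒮)` (EGA II 3.7.4) (helper63)
-/

set_option autoImplicit false
set_option linter.unusedSectionVars false
universe u

open CategoryTheory CategoryTheory.Limits AlgebraicGeometry TopologicalSpace Opposite
open HomogeneousLocalization
open scoped HomogeneousIdeal

namespace Groth.Agent.Lib.Helper63.SymInvDominant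

open Groth.Agent.Lib.Helper63.SymInvRing Groth.Agent.Lib.Helper63.SymInv
  Groth.Agent.Lib.Helper63.SymInvDom Groth.Agent.Lib.Helper63.SymInvMap
  Groth.Agent.Lib.Helper63.ProjBasis
  Groth.Agent.Lib.Helper18.SymQC Groth.Agent.Lib.Helper45 Groth.Agent.Lib.Helper49
  Groth.Agent.Lib.Helper42

variable {X Y P : Scheme.{u}} {q : X ⟶ Y} {𝒮 : RelProj.QCGrAlg Y} {𝒮L : RelProj.QCGrAlg X}
  (u : RelProj.QGrHom q 𝒮 𝒮L)
  (L : X.Modules) (hL : PicF.IsInvertible L) (hLq : Coh.IsQCoh L)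
  (j : L ⟶ 𝒮L.toModule) (hj : RelProj.IsGrSymAlg L 𝒮L j)
  (p : P ⟶ Y) (chart : ∀ (U : Y.Opens) (hU : IsAffineOpen U), (((p ⁻¹ᵁ U : P.Opens) : Scheme.{u}) ≅ Proj (𝒮.deg U hU)))
  (hP : RelProj.IsRelProj 𝒮 p chart)
  {PL : Scheme.{u}} (pL : PL ⟶ X)
  (chartL : ∀ (U : X.Opens) (hU : IsAffineOpen U), (((pL ⁻¹ᵁ U : PL.Opens) : Scheme.{u}) ≅ Proj (𝒮L.deg U hU)))
  (hPL : RelProj.IsRelProj 𝒮L pL chartL)
  (r : ((RelProj.domQ u pL chartL : PL.Opens) : Scheme.{u}) ⟶ P)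
  (hr : RelProj.IsProjQMapOn u p chart pL chartL (RelProj.domQ u pL chartL) r)

include hL hLq hj hP hPL hr in
theorem nilpotent_of_dominant (hY : IsAffineOpen (⊤ : Y.Opens)) (hdom : IsDominant r)
    (n : ℕ) (hn : 0 < n) (s : 𝒮.presheaf.obj (op ⊤)) (hs : s ∈ 𝒮.deg ⊤ hY n)
    (hloc : ∀ x : X, ∃ (V : X.Opens) (_ : IsAffineOpen V), x ∈ V ∧
      IsNilpotent ((u.appLE ⊤ V (le_top.trans (Scheme.Hom.preimage_top q).ge)).hom s)) :
    IsNilpotent s := by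
  by_contra hnil
  obtain ⟨z, hz⟩ := exists_mem_basicOpen_of_not_isNilpotent (𝒮.deg ⊤ hY) hn s hs hnil
  obtain ⟨_, hO, ⟨w', rfl⟩⟩ := hdom.denseRange.inter_open_nonempty
    (((RelProj.emb p chart ⊤ hY) ''ᵁ Proj.basicOpen (𝒮.deg ⊤ hY) s : P.Opens) : Set P)
    ((RelProj.emb p chart ⊤ hY) ''ᵁ Proj.basicOpen (𝒮.deg ⊤ hY) s).isOpen
    ⟨(RelProj.emb p chart ⊤ hY).base z, z, hz, rfl⟩
  obtain ⟨V, hV, hVW, hxV, hgen⟩ := exists_genAt_of_mem_preimage u L hL hLq j hj p chart hP pL chartL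
    hPL r hr hY n hn s hs w' hO
  obtain ⟨V', hV', hxV', hnilV'⟩ := hloc (pL.base ((RelProj.domQ u pL chartL).ι.base w'))
  have hw : (RelProj.domQ u pL chartL).ι.base w' ∈ (RelProj.emb pL chartL V' hV').opensRange := by
    rw [opensRange_emb 𝒮L pL chartL V' hV']; exact hxV'
  obtain ⟨y, hy⟩ := hw
  have hV'top : V' ≤ q ⁻¹ᵁ ⊤ := le_top.trans (Scheme.Hom.preimage_top q).ge
  have hxV2 : (RelProj.emb pL chartL V' hV' ≫ pL).base y ∈ V := by
    change pL.base ((RelProj.emb pL chartL V' hV').base y) ∈ V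
    rw [hy]; exact hxV
  have hmem := mem_basicOpen_of_genAt L hL hLq 𝒮L j hj pL chartL hPL (sig u s) n
    (homogOn_sig u hY n s hs) V' hV' hV'top y V hV hVW hxV2 hgen
  rw [rs_sig, Proj.mem_basicOpen] at hmem
  obtain ⟨k, hk⟩ := hnilV'
  apply hmem
  apply y.isPrime.mem_of_pow_mem k
  rw [hk]
  exact zero_mem _

include hL hLq hj hP hPL hr in
theorem dominant_of_nilpotent (hY : IsAffineOpen (⊤ : Y.Opens))
    (H : ∀ (n : ℕ), 0 < n → ∀ s ∈ 𝒮.deg ⊤ hY n,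
      (∀ x : X, ∃ (V : X.Opens) (_ : IsAffineOpen V), x ∈ V ∧
        IsNilpotent ((u.appLE ⊤ V (le_top.trans (Scheme.Hom.preimage_top q).ge)).hom s)) →
          IsNilpotent s) : IsDominant r := by
  refine ⟨?_⟩
  rw [DenseRange, dense_iff_inter_open]
  rintro O hO ⟨pt, hpt⟩
  have hptr : pt ∈ (RelProj.emb p chart ⊤ hY).opensRange := by
    rw [opensRange_emb 𝒮 p chart ⊤ hY]; trivial
  obtain ⟨z, rfl⟩ := hptr
  obtain ⟨n, hn, s, hs, hzs, hsO⟩ := exists_homog_basicOpen (𝒮.deg ⊤ hY)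
    ((RelProj.emb p chart ⊤ hY) ⁻¹ᵁ ⟨O, hO⟩) z hpt
  have hnil : ¬ IsNilpotent s := by
    intro hnil
    rw [Proj.mem_basicOpen] at hzs
    obtain ⟨k, hk⟩ := hnil
    exact hzs (z.isPrime.mem_of_pow_mem k (hk ▸ zero_mem _))
  have hnot := mt (H n hn s hs) hnil
  push Not at hnot
  obtain ⟨x, hx⟩ := hnot
  obtain ⟨V0, hxV0, t0, ht0⟩ := exists_isBasisOn_of_isInvertible hL x
  obtain ⟨V, hV, hxV, hVV0⟩ := (Opens.isBasis_iff_nbhd.mp X.isBasis_affineOpens) hxV0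
  have hV : IsAffineOpen V := hV
  have ht := ht0.mono hVV0
  have h := isPolyGr L hLq 𝒮L j hj V hV (mres L hVV0 t0) ht
  have hVtop : V ≤ q ⁻¹ᵁ ⊤ := le_top.trans (Scheme.Hom.preimage_top q).ge
  obtain ⟨a, ha⟩ := (h.mem_iff n _).mp (homogOn_sig u hY n s hs V hV hVtop)
  have hna : ¬ IsNilpotent a := by
    intro hnila
    apply hx V hV hxV
    change IsNilpotent (rs 𝒮L hVtop (sig u s))
    rw [ha]
    exact Commute.isNilpotent_mul_right (Commute.all _ _) (hnila.map _)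
  obtain ⟨x', hx'⟩ : ∃ x' : X, x' ∈ X.basicOpen a := by
    have hne : PrimeSpectrum.basicOpen a ≠ ⊥ := fun hbot =>
      hna ((PrimeSpectrum.basicOpen_eq_bot_iff a).mp hbot)
    obtain ⟨v, hv⟩ := (Opens.ne_bot_iff_nonempty _).mp hne
    refine ⟨hV.fromSpec.base v, ?_⟩
    have : v ∈ hV.fromSpec ⁻¹ᵁ X.basicOpen a := by
      rw [hV.fromSpec_preimage_basicOpen a]; exact hv
    exact this
  have hgen := genAt_basicOpen_of_eq L hLq 𝒮L j hj (sig u s) n V hV hVtop _ ht a ha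
  have := isIso_pL L hLq 𝒮L j hj pL chartL hPL hL
  obtain ⟨w, hw⟩ := pL.surjective x'
  obtain ⟨w', hw'1, hw'2⟩ := exists_mem_preimage_of_genAt u L hL hLq j hj p chart pL chartL hPL r hr
    hY n hn s hs w (X.basicOpen a) (hV.basicOpen a) ((X.basicOpen_le a).trans hVtop)
    (hw ▸ hx') hgen
  obtain ⟨z', hz', hzz'⟩ := hw'2
  refine ⟨r.base w', ?_, ⟨w', rfl⟩⟩
  rw [← hzz']
  exact hsO hz'

end Groth.Agent.Lib.Helper63.SymInvDominant
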