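import Mathlib
import Groth.Agent.Lib.Helper63.SymInvMap
import Groth.Agent.Lib.Helper63.ProjBasis
import Groth.Agent.Lib.Helper63.ImmLocal
import Groth.Agent.Lib.Helper63.AwayMapCrit

/-!
# Immersion criteria for `r_{L,ψ} : G(ψ) ⟶ Proj(𝒮)` (EGA II 3.7.5), local part (helper63)
-/

set_option autoImplicit false
set_option linter.unusedSectionVars false
universe u

open CategoryTheory CategoryTheory.Limits AlgebraicGeometry TopologicalSpace Opposite
open HomogeneousLocalization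
open scoped HomogeneousIdeal

namespace Groth.Agent.Lib.Helper63.SymInvImm

open Groth.Agent.Lib.Helper63.SymInvRing Groth.Agent.Lib.Helper63.SymInv
  Groth.Agent.Lib.Helper63.SymInvDom Groth.Agent.Lib.Helper63.SymInvMap
  Groth.Agent.Lib.Helper63.ProjBasis Groth.Agent.Lib.Helper63.ImmLocal
  Groth.Agent.Lib.Helper18.SymQC Groth.Agent.Lib.Helper45 Groth.Agent.Lib.Helper49
  Groth.Agent.Lib.Helper42

variable {X Y P : Scheme.{u}} {q : X ⟶ Y} {𝒮 : RelProj.QCGrAlg Y} {𝒮L : RelProj.QCGrAlg X}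
  (u : RelProj.QGrHom q 𝒮 𝒮L)
  (L : X.Modules) (hL : PicF.IsInvertible L) (hLq : Coh.IsQCoh L)
  (j : L ⟶ 𝒮L.toModule) (hj : RelProj.IsGrSymAlg L 𝒮L j)
  (p : P ⟶ Y) (chart : ∀ (U : Y.Opens) (hU : IsAffineOpen U), (((p ⁻¹ᵁ U : P.Opens) : Scheme.{u}) ≅ Proj (𝒮.deg U hU)))
  (hP : RelProj.IsRelProj 𝒮 p chart)
  {PL : Scheme.{u}} (pL : PL ⟶ X)
  (chartL : ∀ (U : X.Opens) (hU : IsAffineOpen U), (((pL ⁻¹ᵁ U : PL.Opens) : Scheme.{u}) ≅ Proj (𝒮L.deg U hU)))
  (hPL : RelProj.IsRelProj 𝒮L pL chartL)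
  (r : ((RelProj.domQ u pL chartL : PL.Opens) : Scheme.{u}) ⟶ P)
  (hr : RelProj.IsProjQMapOn u p chart pL chartL (RelProj.domQ u pL chartL) r)
  (hY : IsAffineOpen (⊤ : Y.Opens))

/-- the open `X_f`, `f = ψ♭(s)`, in the form of the statements -/
def Xf (n : ℕ) (s : 𝒮.presheaf.obj (op ⊤)) : X.Opens :=
  ⨆ V : {V : X.affineOpens //
    ((𝒮L.deg V.1 V.2 n : AddSubgroup (𝒮L.presheaf.obj (op (V.1 : X.Opens)))) : Set (𝒮L.presheaf.obj (op (V.1 : X.Opens)))) ⊆
      (Ideal.span {(u.appLE ⊤ (V.1 : X.Opens) (le_top.trans (Scheme.Hom.preimage_top q).ge)).hom s} : Set (𝒮L.presheaf.obj (op (V.1 : X.Opens))))},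
    (V.1.1 : X.Opens)

theorem le_top' (V : X.Opens) : V ≤ q ⁻¹ᵁ ⊤ := le_top.trans (Scheme.Hom.preimage_top q).ge

theorem mem_Xf_iff (n : ℕ) (s : 𝒮.presheaf.obj (op ⊤)) (x : X) :
    x ∈ Xf u n s ↔ ∃ (V : X.Opens) (hV : IsAffineOpen V) (hVW : V ≤ q ⁻¹ᵁ ⊤),
      x ∈ V ∧ GenAt 𝒮L (sig u s) n V hV hVW := by
  constructor
  · intro hx
    obtain ⟨⟨⟨V, hV⟩, hgen⟩, hxV⟩ := Opens.mem_iSup.mp hx
    exact ⟨V, hV, le_top' V, hxV, hgen⟩
  · rintro ⟨V, hV, hVW, hxV, hgen⟩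
    exact Opens.mem_iSup.mpr ⟨⟨⟨V, hV⟩, hgen⟩, hxV⟩

/-- the open `D₊(s)` of `P` -/
noncomputable def Os (s : 𝒮.presheaf.obj (op ⊤)) : P.Opens :=
  (RelProj.emb p chart ⊤ hY) ''ᵁ Proj.basicOpen (𝒮.deg ⊤ hY) s

include hL hLq hj hP hPL hr in
theorem mem_preimage_iff (n : ℕ) (hn : 0 < n) (s : 𝒮.presheaf.obj (op ⊤)) (hs : s ∈ 𝒮.deg ⊤ hY n)
    (w' : ((RelProj.domQ u pL chartL : PL.Opens) : Scheme.{u})) :
    r.base w' ∈ Os p chart hY s ↔ pL.base ((RelProj.domQ u pL chartL).ι.base w') ∈ Xf u n s := by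
  rw [mem_Xf_iff]
  constructor
  · intro hw
    exact exists_genAt_of_mem_preimage u L hL hLq j hj p chart hP pL chartL hPL r hr hY n hn s hs w' hw
  · rintro ⟨V, hV, hVW, hxV, hgen⟩
    obtain ⟨w'', hw''1, hw''2⟩ := exists_mem_preimage_of_genAt u L hL hLq j hj p chart pL chartL hPL r hr
      hY n hn s hs _ V hV hVW hxV hgen
    have : w'' = w' := Subtype.ext hw''1
    rw [← this]
    exact hw''2

include hL hLq hj hPL in
theorem domQ_eq_top_of_cover {ι : Type*} (n : ι → ℕ) (s : ι → 𝒮.presheaf.obj (op ⊤))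
    (hns : ∀ a, 0 < n a ∧ s a ∈ 𝒮.deg ⊤ hY (n a)) (hcov : (⨆ a, Xf u (n a) (s a)) = ⊤) :
    RelProj.domQ u pL chartL = ⊤ := by
  rw [eq_top_iff]
  intro w _
  have hx : pL.base w ∈ ⨆ a, Xf u (n a) (s a) := by rw [hcov]; exact Opens.mem_top _
  obtain ⟨a, ha⟩ := Opens.mem_iSup.mp hx
  obtain ⟨V, hV, hVW, hxV, hgen⟩ := (mem_Xf_iff u (n a) (s a) _).mp ha
  exact mem_domQ_of_genAt u L hL hLq j hj pL chartL hPL hY w (n a) (hns a).1 (s a) (hns a).2 V hV hVW hxV hgen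

section affine

variable (n : ℕ) (hn : 0 < n) (s : 𝒮.presheaf.obj (op ⊤)) (hs : s ∈ 𝒮.deg ⊤ hY n)
  (hV : IsAffineOpen (Xf u n s))

/-- the chart index attached to `s` and the affine open `X_f` -/
abbrev kOf : QIdx q 𝒮 := ⟨⊤, hY, Xf u n s, hV, le_top' _, n, hn, s, hs⟩

include hL hLq hj hPL hY hs in
theorem all_mem_basicOpen (y : Proj (𝒮L.deg (Xf u n s) hV)) :
    y ∈ Proj.basicOpen (𝒮L.deg (Xf u n s) hV) ((u.appLE ⊤ (Xf u n s) (le_top' _)).hom s) := by
  have hx := base_mem_of_chart 𝒮L pL chartL hPL (Xf u n s) hV y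
  obtain ⟨V₁, hV₁, hV₁W, hxV₁, hgen⟩ := (mem_Xf_iff u n s _).mp hx
  exact mem_basicOpen_of_genAt L hL hLq 𝒮L j hj pL chartL hPL (sig u s) n
    (homogOn_sig u hY n s hs) (Xf u n s) hV (le_top' _) y V₁ hV₁ hV₁W hxV₁ hgen

include hL hLq hj hP hPL hr in
theorem range_lft :
    Set.range ((kOf u hY n hn s hs hV).lft u pL chartL).base =
      ((r ⁻¹ᵁ Os p chart hY s : Opens _) : Set _) := by
  have hrk := (isProjQMapOn_iff u p chart pL chartL r).mp hr (kOf u hY n hn s hs hV)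
  ext w'
  constructor
  · rintro ⟨v, rfl⟩
    have h1 : r.base (((kOf u hY n hn s hs hV).lft u pL chartL).base v) =
        ((kOf u hY n hn s hs hV).rho u p chart).base v := congrArg (fun m => m.base v) hrk
    change r.base _ ∈ Os p chart hY s
    rw [h1]
    refine ⟨(Proj.awayι (𝒮.deg ⊤ hY) s hs hn).base
      ((Spec.map (CommRingCat.ofHom (Away.map ((kOf u hY n hn s hs hV).psi u) s))).base v), ?_, rfl⟩
    have : (Proj.awayι (𝒮.deg ⊤ hY) s hs hn).base
        ((Spec.map (CommRingCat.ofHom (Away.map ((kOf u hY n hn s hs hV).psi u) s))).base v) ∈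
          (Proj.awayι (𝒮.deg ⊤ hY) s hs hn).opensRange := ⟨_, rfl⟩
    rw [Proj.opensRange_awayι] at this
    exact this
  · intro hw
    have hw1 : r.base w' ∈ Os p chart hY s := hw
    rw [mem_preimage_iff u L hL hLq j hj p chart hP pL chartL hPL r hr hY n hn s hs w'] at hw1
    have hw2 : (RelProj.domQ u pL chartL).ι.base w' ∈ (RelProj.emb pL chartL (Xf u n s) hV).opensRange := by
      rw [opensRange_emb 𝒮L pL chartL (Xf u n s) hV]; exact hw1
    obtain ⟨y, hy⟩ := hw2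
    have hy2 := all_mem_basicOpen u L hL hLq j hj pL chartL hPL hY n s hs hV y
    have hy3 : y ∈ (Proj.awayι (𝒮L.deg (Xf u n s) hV) ((kOf u hY n hn s hs hV).psi u s)
        (Graded.map_mem ((kOf u hY n hn s hs hV).psi u) hs) hn).opensRange := by
      rw [Proj.opensRange_awayι]
      exact hy2
    obtain ⟨v, hv⟩ := hy3
    refine ⟨v, Subtype.ext ?_⟩
    rw [QIdx.lft_apply]
    exact (congrArg (RelProj.emb pL chartL (Xf u n s) hV).base hv).trans hy

theorem range_tgt :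
    Set.range ((kOf u hY n hn s hs hV).tgt p chart).base = (Os p chart hY s : Set P) := by
  ext z
  constructor
  · rintro ⟨v, rfl⟩
    refine ⟨(Proj.awayι (𝒮.deg ⊤ hY) s hs hn).base v, ?_, rfl⟩
    have : (Proj.awayι (𝒮.deg ⊤ hY) s hs hn).base v ∈ (Proj.awayι (𝒮.deg ⊤ hY) s hs hn).opensRange :=
      ⟨_, rfl⟩
    rw [Proj.opensRange_awayι] at this
    exact this
  · rintro ⟨z₀, hz₀, rfl⟩
    have hz₁ : z₀ ∈ Proj.basicOpen (𝒮.deg ⊤ hY) s := hz₀
    rw [← Proj.opensRange_awayι (𝒮.deg ⊤ hY) s hs hn] at hz₁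
    obtain ⟨v, hv⟩ := hz₁
    refine ⟨v, ?_⟩
    change (RelProj.emb p chart ⊤ hY).base ((Proj.awayι (𝒮.deg ⊤ hY) s hs hn).base v) = _
    rw [hv]
    rfl

include hL hLq hj hP hPL hr in
/-- Over `D₊(s)`, `r` is conjugate to `Spec` of `Away.map`. -/
theorem restrict_iff_specMap (Q : MorphismProperty Scheme.{u}) [Q.RespectsIso] :
    Q (r ∣_ Os p chart hY s) ↔
      Q (Spec.map (CommRingCat.ofHom (Away.map ((kOf u hY n hn s hs hV).psi u) s))) := by
  have hrk := (isProjQMapOn_iff u p chart pL chartL r).mp hr (kOf u hY n hn s hs hV)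
  exact restrict_iff Q r (Os p chart hY s) ((kOf u hY n hn s hs hV).lft u pL chartL)
    ((kOf u hY n hn s hs hV).tgt p chart) _
    (range_lft u L hL hLq j hj p chart hP pL chartL hPL r hr hY n hn s hs hV)
    (range_tgt u p chart hY n hn s hs hV) hrk

include hL hLq hj hPL hY hs hn in
/-- every degree-zero fraction with denominator a power of `ψ♭(s)` is a function on `X_f`. -/
theorem gamma_surjective
    (x : Away (𝒮L.deg (Xf u n s) hV) ((u.appLE ⊤ (Xf u n s) (le_top' _)).hom s)) :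
    ∃ t : Γ(X, Xf u n s), x.val =
      algebraMap _ (Localization (Submonoid.powers ((u.appLE ⊤ (Xf u n s) (le_top' _)).hom s)))
        ((𝒮L.str.app (op (Xf u n s))).hom t) := by
  have hf : (u.appLE ⊤ (Xf u n s) (le_top' _)).hom s ∈ 𝒮L.deg (Xf u n s) hV n :=
    u.map_mem ⊤ hY (Xf u n s) hV _ hs
  have hisoL := isIso_pL L hLq 𝒮L j hj pL chartL hPL hL
  have h1 : IsIso (pL ∣_ (Xf u n s)) := inferInstance
  have h3 : pL ∣_ (Xf u n s) = (chartL (Xf u n s) hV).hom ≫ Proj.toSpecZero (𝒮L.deg (Xf u n s) hV) ≫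
      Spec.map (𝒮L.strZero (Xf u n s) hV) ≫ hV.isoSpec.inv := by
    rw [← cancel_mono (Xf u n s).ι]
    simp only [Category.assoc]
    rw [morphismRestrict_ι, IsAffineOpen.isoSpec_inv_ι]
    exact (hPL.chart_over (Xf u n s) hV).symm
  have h4 : IsIso (Proj.toSpecZero (𝒮L.deg (Xf u n s) hV) ≫ Spec.map (𝒮L.strZero (Xf u n s) hV)) := by
    have e : Proj.toSpecZero (𝒮L.deg (Xf u n s) hV) ≫ Spec.map (𝒮L.strZero (Xf u n s) hV) =
        (chartL (Xf u n s) hV).inv ≫ (pL ∣_ (Xf u n s)) ≫ hV.isoSpec.hom := by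
      rw [h3]
      simp
    rw [e]
    infer_instance
  have h5 : IsIso (Proj.awayι (𝒮L.deg (Xf u n s) hV) _ hf hn) := by
    apply isIso_of_isOpenImmersion_of_opensRange_eq_top
    rw [Proj.opensRange_awayι, eq_top_iff]
    intro y _
    exact all_mem_basicOpen u L hL hLq j hj pL chartL hPL hY n s hs hV y
  have h6 := Proj.awayι_toSpecZero (𝒮L.deg (Xf u n s) hV) _ hf hn
  have h7 : IsIso (Spec.map (𝒮L.strZero (Xf u n s) hV ≫ CommRingCat.ofHom
      (fromZeroRingHom (𝒮L.deg (Xf u n s) hV)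
        (Submonoid.powers ((u.appLE ⊤ (Xf u n s) (le_top' _)).hom s))))) := by
    rw [Spec.map_comp, ← h6, Category.assoc]
    infer_instance
  have h8 := (isIso_SpecMap_iff.mp h7).2
  obtain ⟨t, ht⟩ := h8 x
  refine ⟨t, ?_⟩
  rw [← ht]
  rfl

include hL hLq hj hP hPL hr hn hs hV in
/-- `r` is a closed immersion over `D₊(s)` iff condition (iii) holds for `s`. -/
theorem isClosedImmersion_iff :
    IsClosedImmersion (r ∣_ Os p chart hY s) ↔
      ∀ t : X.presheaf.obj (op (Xf u n s)), ∃ (m : ℕ) (_ : 0 < m) (s' : 𝒮.presheaf.obj (op ⊤))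
        (_ : s' ∈ 𝒮.deg ⊤ hY (m * n)),
        (𝒮L.str.app (op (Xf u n s))).hom t * ((u.appLE ⊤ (Xf u n s) (le_top' _)).hom s) ^ m =
          (u.appLE ⊤ (Xf u n s) (le_top' _)).hom s' := by
  rw [restrict_iff_specMap u L hL hLq j hj p chart hP pL chartL hPL r hr hY n hn s hs hV
    (Q := @IsClosedImmersion), isClosedImmersion_SpecMap_iff]
  constructor
  · intro hsurj t
    exact AwayMapCrit.of_surjective ((kOf u hY n hn s hs hV).psi u) s hs
      (𝒮L.str.app (op (Xf u n s))).hom (fun t => 𝒮L.str_mem _ hV t) hsurj t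
  · intro H
    exact AwayMapCrit.surjective_of ((kOf u hY n hn s hs hV).psi u) s hs
      (𝒮L.str.app (op (Xf u n s))).hom
      (gamma_surjective u L hL hLq j hj pL chartL hPL hY n hn s hs hV) H

include hL hLq hj hP hPL hr hn hs hV in
/-- `r` is an isomorphism over `D₊(s)` iff conditions (iii) and (iv) hold for `s`. -/
theorem isIso_iff :
    IsIso (r ∣_ Os p chart hY s) ↔
      (∀ t : X.presheaf.obj (op (Xf u n s)), ∃ (m : ℕ) (_ : 0 < m) (s' : 𝒮.presheaf.obj (op ⊤))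
        (_ : s' ∈ 𝒮.deg ⊤ hY (m * n)),
        (𝒮L.str.app (op (Xf u n s))).hom t * ((u.appLE ⊤ (Xf u n s) (le_top' _)).hom s) ^ m =
          (u.appLE ⊤ (Xf u n s) (le_top' _)).hom s') ∧
      (∀ (m : ℕ), 0 < m → ∀ s' ∈ 𝒮.deg ⊤ hY (m * n),
        (u.appLE ⊤ (Xf u n s) (le_top' _)).hom s' = 0 → ∃ (k : ℕ), 0 < k ∧ s ^ k * s' = 0) := by
  rw [← MorphismProperty.isomorphisms.iff,
    restrict_iff_specMap u L hL hLq j hj p chart hP pL chartL hPL r hr hY n hn s hs hV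
      (Q := MorphismProperty.isomorphisms Scheme), MorphismProperty.isomorphisms.iff,
    isIso_SpecMap_iff, Function.Bijective, and_comm]
  refine and_congr ?_ ?_
  · constructor
    · intro hsurj t
      exact AwayMapCrit.of_surjective ((kOf u hY n hn s hs hV).psi u) s hs
        (𝒮L.str.app (op (Xf u n s))).hom (fun t => 𝒮L.str_mem _ hV t) hsurj t
    · intro H
      exact AwayMapCrit.surjective_of ((kOf u hY n hn s hs hV).psi u) s hs
        (𝒮L.str.app (op (Xf u n s))).hom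
        (gamma_surjective u L hL hLq j hj pL chartL hPL hY n hn s hs hV) H
  · exact AwayMapCrit.injective_iff ((kOf u hY n hn s hs hV).psi u) s hs

end affine

section converse

variable (n : ℕ) (hn : 0 < n) (s : 𝒮.presheaf.obj (op ⊤)) (hs : s ∈ 𝒮.deg ⊤ hY n)

include hs hn in
theorem isAffineOpen_Os : IsAffineOpen (Os p chart hY s) := by
  have e : Os p chart hY s =
      (Proj.awayι (𝒮.deg ⊤ hY) s hs hn ≫ RelProj.emb p chart ⊤ hY).opensRange := by
    rw [Scheme.Hom.opensRange_comp, Proj.opensRange_awayι]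
    rfl
  rw [e]
  exact isAffineOpen_opensRange _

include hL hLq hj hP hPL hr hs hn in
/-- If `r` is everywhere defined and a closed immersion over `D₊(s)`, then `X_f` is affine. -/
theorem isAffineOpen_Xf (hdom : RelProj.domQ u pL chartL = ⊤)
    (h : IsClosedImmersion (r ∣_ Os p chart hY s)) : IsAffineOpen (Xf u n s) := by
  have hOs : IsAffine (Os p chart hY s).toScheme := isAffineOpen_Os p chart hY n hn s hs
  have hA : IsAffineOpen (r ⁻¹ᵁ Os p chart hY s) := by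
    change IsAffine _
    exact isAffine_of_isAffineHom (r ∣_ Os p chart hY s)
  have hisoL := isIso_pL L hLq 𝒮L j hj pL chartL hPL hL
  have hι : IsIso (RelProj.domQ u pL chartL).ι := by
    apply isIso_of_isOpenImmersion_of_opensRange_eq_top
    rw [Scheme.Opens.opensRange_ι, hdom]
  have himg := hA.image_of_isOpenImmersion ((RelProj.domQ u pL chartL).ι ≫ pL)
  have e : ((RelProj.domQ u pL chartL).ι ≫ pL) ''ᵁ (r ⁻¹ᵁ Os p chart hY s) = Xf u n s := by
    ext x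
    constructor
    · rintro ⟨w', hw', rfl⟩
      exact (mem_preimage_iff u L hL hLq j hj p chart hP pL chartL hPL r hr hY n hn s hs w').mp hw'
    · intro hx
      obtain ⟨w', rfl⟩ := ((RelProj.domQ u pL chartL).ι ≫ pL).surjective x
      exact ⟨w', (mem_preimage_iff u L hL hLq j hj p chart hP pL chartL hPL r hr hY n hn s hs w').mpr hx,
        rfl⟩
  rw [← e]
  exact himg

end converse

end Groth.Agent.Lib.Helper63.SymInvImm
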