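import Mathlib
import Groth.Agent.Lib.Helper63.SymInvImm
import Groth.Agent.Lib.Helper63.SymInvDominant

/-!
# `r_{L,ψ}` is quasi-compact and dominant for `S = Γ_*(L)` (EGA II 4.5.2 a)) (helper63)
-/

set_option autoImplicit false
set_option linter.unusedSectionVars false
universe u

open CategoryTheory CategoryTheory.Limits AlgebraicGeometry TopologicalSpace Opposite
open HomogeneousLocalization
open scoped HomogeneousIdeal

namespace Groth.Agent.Lib.Helper63.SymInvQC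

open Groth.Agent.Lib.Helper63.SymInvRing Groth.Agent.Lib.Helper63.SymInv
  Groth.Agent.Lib.Helper63.SymInvDom Groth.Agent.Lib.Helper63.SymInvMap
  Groth.Agent.Lib.Helper63.ProjBasis Groth.Agent.Lib.Helper63.ImmLocal
  Groth.Agent.Lib.Helper63.SymInvImm Groth.Agent.Lib.Helper63.SymInvDominant
  Groth.Agent.Lib.Helper18.SymQC Groth.Agent.Lib.Helper45 Groth.Agent.Lib.Helper49
  Groth.Agent.Lib.Helper42

section general

variable {X : Scheme.{u}} (L : X.Modules) (hL : PicF.IsInvertible L) (hLq : Coh.IsQCoh L)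
  (𝒮L : RelProj.QCGrAlg X) (j : L ⟶ 𝒮L.toModule) (hj : RelProj.IsGrSymAlg L 𝒮L j)

include hLq hj in
/-- On a good affine open where `σ = a z^n`, generation of the degree `n` part by `σ` near `x`
forces `a(x) ≠ 0`. -/
theorem mem_basicOpen_of_genAt_of_eq {W : X.Opens} (σ : 𝒮L.presheaf.obj (op W)) (n : ℕ)
    (V : X.Opens) (hV : IsAffineOpen V) (hVW : V ≤ W) (t : Γ(L, V)) (ht : IsBasisOn L V t)
    (a : Γ(X, V)) (ha : rs 𝒮L hVW σ = (𝒮L.str.app (op V)).hom a * (zOf L 𝒮L j V t) ^ n)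
    (x : X) (hxV : x ∈ V) (V₁ : X.Opens) (hV₁ : IsAffineOpen V₁) (hV₁W : V₁ ≤ W) (hxV₁ : x ∈ V₁)
    (hgen : GenAt 𝒮L σ n V₁ hV₁ hV₁W) : x ∈ X.basicOpen a := by
  obtain ⟨f1, g, hfg, hxf⟩ := exists_basicOpen_le_affine_inter hV₁ hV x ⟨hxV₁, hxV⟩
  have hgen3 := (hgen.basicOpen f1).congr hfg
  have hV2 := hV.basicOpen g
  have h32 : X.basicOpen g ≤ V := X.basicOpen_le g
  have h2 := isPolyGr L hLq 𝒮L j hj (X.basicOpen g) hV2 (mres L h32 t) (ht.mono h32)
  have hV2W : X.basicOpen g ≤ W := h32.trans hVW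
  have e3 : rs 𝒮L hV2W σ = (𝒮L.str.app (op (X.basicOpen g))).hom
      ((X.presheaf.map (homOfLE h32).op).hom a) *
        (zOf L 𝒮L j (X.basicOpen g) (mres L h32 t)) ^ n := by
    rw [← rs_rs 𝒮L hVW h32 σ, ha, map_mul, map_pow, rs_str, zOf_res L 𝒮L j h32 t]
  have hu : IsUnit ((X.presheaf.map (homOfLE h32).op).hom a) := h2.isUnit_of_dvd _ n (by
    have := hgen3 (h2.pow_mem n)
    change _ ∈ Ideal.span {rs 𝒮L hV2W σ} at this
    rw [Ideal.mem_span_singleton, e3] at this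
    exact this)
  have hxg : x ∈ X.basicOpen g := hfg ▸ hxf
  have h5 : X.basicOpen ((X.presheaf.map (homOfLE h32).op).hom a) = X.basicOpen g ⊓ X.basicOpen a :=
    Scheme.basicOpen_res X a (homOfLE h32).op
  rw [X.basicOpen_of_isUnit hu] at h5
  have : x ∈ X.basicOpen g ⊓ X.basicOpen a := h5 ▸ hxg
  exact this.2

end general

variable {X Y P : Scheme.{u}} {q : X ⟶ Y} {𝒮 : RelProj.QCGrAlg Y} {𝒮L : RelProj.QCGrAlg X}
  (u : RelProj.QGrHom q 𝒮 𝒮L)
  (L : X.Modules) (hL : PicF.IsInvertible L) (hLq : Coh.IsQCoh L)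
  (j : L ⟶ 𝒮L.toModule) (hj : RelProj.IsGrSymAlg L 𝒮L j)
  (p : P ⟶ Y) (chart : ∀ (U : Y.Opens) (hU : IsAffineOpen U), (((p ⁻¹ᵁ U : P.Opens) : Scheme.{u}) ≅ Proj (𝒮.deg U hU)))
  (hP : RelProj.IsRelProj 𝒮 p chart)
  {PL : Scheme.{u}} (pL : PL ⟶ X)
  (chartL : ∀ (U : X.Opens) (hU : IsAffineOpen U), (((pL ⁻¹ᵁ U : PL.Opens) : Scheme.{u}) ≅ Proj (𝒮L.deg U hU)))
  (hPL : RelProj.IsRelProj 𝒮L pL chartL)
  (r : ((RelProj.domQ u pL chartL : PL.Opens) : Scheme.{u}) ⟶ P)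
  (hr : RelProj.IsProjQMapOn u p chart pL chartL (RelProj.domQ u pL chartL) r)
  (hY : IsAffineOpen (⊤ : Y.Opens))

include hL hLq hj hY in
/-- `X_f` is quasi-compact when `X` is. -/
theorem isCompact_Xf [CompactSpace X] (n : ℕ) (s : 𝒮.presheaf.obj (op ⊤)) (hs : s ∈ 𝒮.deg ⊤ hY n) :
    IsCompact ((Xf u n s : X.Opens) : Set X) := by
  -- local data at each point
  have key : ∀ x : X, ∃ (V : X.Opens) (_ : IsAffineOpen V) (a : Γ(X, V)), x ∈ V ∧
      ((Xf u n s : X.Opens) : Set X) ∩ V = X.basicOpen a := by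
    intro x
    obtain ⟨V0, hxV0, t0, ht0⟩ := exists_isBasisOn_of_isInvertible hL x
    obtain ⟨V, hV, hxV, hVV0⟩ := (Opens.isBasis_iff_nbhd.mp X.isBasis_affineOpens) hxV0
    have hV : IsAffineOpen V := hV
    have ht := ht0.mono hVV0
    have h := isPolyGr L hLq 𝒮L j hj V hV (mres L hVV0 t0) ht
    have hVtop : V ≤ q ⁻¹ᵁ ⊤ := le_top' V
    obtain ⟨a, ha⟩ := (h.mem_iff n _).mp (homogOn_sig u hY n s hs V hV hVtop)
    refine ⟨V, hV, a, hxV, ?_⟩
    ext y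
    constructor
    · rintro ⟨hy1, hy2⟩
      obtain ⟨V₁, hV₁, hV₁W, hyV₁, hgen⟩ := (mem_Xf_iff u n s y).mp hy1
      exact mem_basicOpen_of_genAt_of_eq L hLq 𝒮L j hj (sig u s) n V hV hVtop _ ht a ha y hy2 V₁ hV₁ hV₁W
        hyV₁ hgen
    · intro hy
      have hgen := genAt_basicOpen_of_eq L hLq 𝒮L j hj (sig u s) n V hV hVtop _ ht a ha
      exact ⟨(mem_Xf_iff u n s y).mpr ⟨X.basicOpen a, hV.basicOpen a, _, hy, hgen⟩, X.basicOpen_le a hy⟩
  choose V hV a hxV hVa using key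
  obtain ⟨F, hF⟩ := isCompact_univ.elim_finite_subcover (fun x => ((V x : X.Opens) : Set X))
    (fun x => (V x).isOpen) (fun x _ => Set.mem_iUnion.mpr ⟨x, hxV x⟩)
  have hXf : ((Xf u n s : X.Opens) : Set X) = ⋃ x ∈ F, ((X.basicOpen (a x) : X.Opens) : Set X) := by
    ext y
    constructor
    · intro hy
      obtain ⟨x, hxF, hyx⟩ := Set.mem_iUnion₂.mp (hF (Set.mem_univ y))
      have : y ∈ ((Xf u n s : X.Opens) : Set X) ∩ V x := ⟨hy, hyx⟩
      rw [hVa x] at this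
      exact Set.mem_iUnion₂.mpr ⟨x, hxF, this⟩
    · intro hy
      obtain ⟨x, hxF, hyx⟩ := Set.mem_iUnion₂.mp hy
      have : y ∈ ((Xf u n s : X.Opens) : Set X) ∩ V x := by rw [hVa x]; exact hyx
      exact this.1
  rw [hXf]
  exact F.isCompact_biUnion fun x _ => ((hV x).basicOpen (a x)).isCompact

include hL hLq hj hP hPL hr hY in
/-- EGA II 4.5.2 a): `r` is quasi-compact when everywhere defined and `X` is quasi-compact. -/
theorem quasiCompact_r [CompactSpace X] (htop : RelProj.domQ u pL chartL = ⊤) : QuasiCompact r := by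
  have hisoL := isIso_pL L hLq 𝒮L j hj pL chartL hPL hL
  have hι : IsIso (RelProj.domQ u pL chartL).ι := by
    apply isIso_of_isOpenImmersion_of_opensRange_eq_top
    rw [Scheme.Opens.opensRange_ι, htop]
  refine HasAffineProperty.of_iSup_eq_top (P := @QuasiCompact)
    (ι := Σ' (n : ℕ) (_ : 0 < n) (s : 𝒮.presheaf.obj (op ⊤)), s ∈ 𝒮.deg ⊤ hY n)
    (fun a => ⟨Os p chart hY a.2.2.1, isAffineOpen_Os p chart hY a.1 a.2.1 a.2.2.1 a.2.2.2⟩) ?_ ?_
  · rw [eq_top_iff]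
    intro pt _
    have hpt : pt ∈ (RelProj.emb p chart ⊤ hY).opensRange := by
      rw [opensRange_emb 𝒮 p chart ⊤ hY]; exact Opens.mem_top _
    obtain ⟨z, rfl⟩ := hpt
    obtain ⟨n, hn, s, hs, hzs, -⟩ := exists_homog_basicOpen (𝒮.deg ⊤ hY) ⊤ z (Opens.mem_top z)
    exact Opens.mem_iSup.mpr ⟨⟨n, hn, s, hs⟩, ⟨z, hzs, rfl⟩⟩
  · rintro ⟨n, hn, s, hs⟩
    change CompactSpace ↥(r ⁻¹ᵁ Os p chart hY s)
    have hc := isCompact_Xf u L hL hLq j hj hY n s hs
    have e : (r ⁻¹ᵁ Os p chart hY s).1 =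
        ((RelProj.domQ u pL chartL).ι ≫ pL).homeomorph ⁻¹' ((Xf u n s : X.Opens) : Set X) := by
      ext w'
      exact mem_preimage_iff u L hL hLq j hj p chart hP pL chartL hPL r hr hY n hn s hs w'
    have hc' : IsCompact (r ⁻¹ᵁ Os p chart hY s).1 := by
      rw [e]
      exact (((RelProj.domQ u pL chartL).ι ≫ pL).homeomorph.isCompact_preimage).mpr hc
    exact isCompact_iff_compactSpace.mp hc'

include hL hLq hj hP hPL hr hY in
/-- EGA II 4.5.2 a): `r` is dominant when `u` is injective on global sections and `X` is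
quasi-compact. -/
theorem dominant_r [CompactSpace X] (hinj : Function.Injective (u.app ⊤).hom) : IsDominant r := by
  refine dominant_of_nilpotent u L hL hLq j hj p chart hP pL chartL hPL r hr hY ?_
  intro n hn s hs hloc
  choose V hV hxV hnil using hloc
  choose k hk using hnil
  obtain ⟨F, hF⟩ := isCompact_univ.elim_finite_subcover (fun x => ((V x : X.Opens) : Set X))
    (fun x => (V x).isOpen) (fun x _ => Set.mem_iUnion.mpr ⟨x, hxV x⟩)
  refine ⟨F.sup k, ?_⟩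
  apply hinj
  rw [map_zero]
  -- the section vanishes on the cover
  let 𝒢 : TopCat.Sheaf CommRingCat X := ⟨𝒮L.presheaf, 𝒮L.isSheaf⟩
  refine TopCat.Sheaf.eq_of_locally_eq' 𝒢 (fun x : F => V x.1) (q ⁻¹ᵁ ⊤)
    (fun x => homOfLE (le_top' (V x.1))) ?_ _ _ ?_
  · intro y _
    obtain ⟨x, hxF, hyx⟩ := Set.mem_iUnion₂.mp (hF (Set.mem_univ y))
    exact Opens.mem_iSup.mpr ⟨⟨x, hxF⟩, hyx⟩
  · rintro ⟨x, hxF⟩
    have h1 : (𝒮L.presheaf.map (homOfLE (le_top' (V x))).op).hom ((u.app ⊤).hom (s ^ F.sup k)) =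
        ((u.appLE ⊤ (V x) (le_top' _)).hom s) ^ F.sup k := by
      rw [map_pow, map_pow]
      rfl
    have h2 : ((u.appLE ⊤ (V x) (le_top' _)).hom s) ^ F.sup k = 0 :=
      pow_eq_zero_of_le (Finset.le_sup hxF) (hk x)
    have h3 : (𝒮L.presheaf.map (homOfLE (le_top' (V x))).op).hom (0 : 𝒮L.presheaf.obj (op (q ⁻¹ᵁ ⊤))) = 0 :=
      map_zero _
    exact (h1.trans h2).trans h3.symm

end Groth.Agent.Lib.Helper63.SymInvQC
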