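import Mathlib
import Groth.Agent.Lib.Helper63.SymInvImmGen
import Groth.Agent.Lib.Helper63.SymInvQC

/-!
# Local structure of sections of `𝒮L = ⊕ L^{⊗ n}` (helper63)

Sheaf-theoretic helpers (`rs_ext`, `rs_glue`), locality of homogeneity (`homogOn_of_local`), the
description `X_σ ∩ V = D(a)` over a chart where `σ = a z^n`, and the change of basis `z_{ct} = c z_t`.
-/

set_option autoImplicit false
set_option linter.unusedSectionVars false
universe u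

open CategoryTheory CategoryTheory.Limits AlgebraicGeometry TopologicalSpace Opposite
open scoped HomogeneousIdeal

namespace Groth.Agent.Lib.Helper63.SymInvLocal

open Groth.Agent.Lib.Helper63.SymInvRing Groth.Agent.Lib.Helper63.SymInv
  Groth.Agent.Lib.Helper63.SymInvDom Groth.Agent.Lib.Helper63.SymInvImmGen
  Groth.Agent.Lib.Helper18.SymQC Groth.Agent.Lib.Helper45 Groth.Agent.Lib.Helper49

section QC

variable {S : Scheme.{u}} (𝒮 : RelProj.QCGrAlg S)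

/-- sections of `𝒮` agreeing on an open cover are equal. -/
theorem rs_ext {W : S.Opens} {κ : Type*} (V : κ → S.Opens) (hV : ∀ k, V k ≤ W)
    (hcov : W ≤ ⨆ k, V k) (x x' : 𝒮.presheaf.obj (op W))
    (h : ∀ k, rs 𝒮 (hV k) x = rs 𝒮 (hV k) x') : x = x' :=
  TopCat.Sheaf.eq_of_locally_eq' ⟨𝒮.presheaf, 𝒮.isSheaf⟩ V W (fun k => homOfLE (hV k)) hcov x x' h

/-- gluing of sections of `𝒮`. -/
theorem rs_glue {W : S.Opens} {κ : Type*} (V : κ → S.Opens) (hV : ∀ k, V k ≤ W)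
    (hcov : W ≤ ⨆ k, V k) (t : ∀ k, 𝒮.presheaf.obj (op (V k)))
    (hcompat : ∀ k k', rs 𝒮 (inf_le_left : V k ⊓ V k' ≤ V k) (t k) =
      rs 𝒮 (inf_le_right : V k ⊓ V k' ≤ V k') (t k')) :
    ∃ x : 𝒮.presheaf.obj (op W), ∀ k, rs 𝒮 (hV k) x = t k := by
  obtain ⟨x, hx, -⟩ := TopCat.Sheaf.existsUnique_gluing' ⟨𝒮.presheaf, 𝒮.isSheaf⟩ V W
    (fun k => homOfLE (hV k)) hcov t (fun k k' => hcompat k k')
  exact ⟨x, hx⟩

/-- a section over an affine open which is locally homogeneous of degree `n` is homogeneous of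
degree `n`. -/
theorem mem_deg_of_local (V : S.Opens) (hV : IsAffineOpen V) (n : ℕ) (y : 𝒮.presheaf.obj (op V))
    (h : ∀ x ∈ V, ∃ (V' : S.Opens) (hV' : IsAffineOpen V') (hle : V' ≤ V), x ∈ V' ∧
      rs 𝒮 hle y ∈ 𝒮.deg V' hV' n) : y ∈ 𝒮.deg V hV n := by
  classical
  choose V' hV' hle hx hmem using h
  have hzero : ∀ e, e ≠ n → ((DirectSum.decompose (𝒮.deg V hV) y e : 𝒮.deg V hV e) :
      𝒮.presheaf.obj (op V)) = 0 := by
    intro e hen
    refine rs_ext 𝒮 (fun x : V => V' x.1 x.2) (fun x => hle x.1 x.2) ?_ _ _ ?_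
    · intro x hxV
      exact Opens.mem_iSup.mpr ⟨⟨x, hxV⟩, hx x hxV⟩
    · rintro ⟨x, hxV⟩
      have h1 := GradedRingHom.map_directSumDecompose _ _ (𝒮.res hV (hV' x hxV) (hle x hxV)) (x := y) (i := e)
      rw [map_zero]
      change 𝒮.res hV (hV' x hxV) (hle x hxV) _ = 0
      rw [h1]
      exact DirectSum.decompose_of_mem_ne (𝒮.deg (V' x hxV) (hV' x hxV)) (hmem x hxV) (Ne.symm hen)
  have hsum := DirectSum.sum_support_decompose (𝒮.deg V hV) y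
  rw [← hsum]
  refine AddSubgroup.sum_mem _ fun e _ => ?_
  by_cases hen : e = n
  · subst hen
    exact SetLike.coe_mem _
  · rw [hzero e hen]
    exact zero_mem _

end QC

variable {X : Scheme.{u}} (L : X.Modules) (hL : PicF.IsInvertible L) (hLq : Coh.IsQCoh L)
  (𝒮L : RelProj.QCGrAlg X) (j : L ⟶ 𝒮L.toModule) (hj : RelProj.IsGrSymAlg L 𝒮L j)

/-- homogeneity may be checked locally. -/
theorem homogOn_of_local {W : X.Opens} (σ : 𝒮L.presheaf.obj (op W)) (n : ℕ)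
    (h : ∀ x ∈ W, ∃ (V : X.Opens) (hV : IsAffineOpen V) (hVW : V ≤ W), x ∈ V ∧
      rs 𝒮L hVW σ ∈ 𝒮L.deg V hV n) : HomogOn 𝒮L σ n := by
  intro V' hV' hV'W
  refine mem_deg_of_local 𝒮L V' hV' n _ ?_
  intro x hxV'
  obtain ⟨V, hV, hVW, hxV, hmem⟩ := h x (hV'W hxV')
  obtain ⟨V'', hV'', hxV'', hle⟩ := (Opens.isBasis_iff_nbhd.mp X.isBasis_affineOpens)
    (show x ∈ V ⊓ V' from ⟨hxV, hxV'⟩)
  have hV'' : IsAffineOpen V'' := hV''
  refine ⟨V'', hV'', hle.trans inf_le_right, hxV'', ?_⟩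
  rw [rs_rs]
  have := 𝒮L.map_mem hV hV'' (hle.trans inf_le_left) hmem
  change rs 𝒮L _ (rs 𝒮L hVW σ) ∈ _ at this
  rwa [rs_rs] at this

theorem HomogOn.rs {W W' : X.Opens} {σ : 𝒮L.presheaf.obj (op W)} {n : ℕ} (hσ : HomogOn 𝒮L σ n)
    (h : W' ≤ W) : HomogOn 𝒮L (SymInvDom.rs 𝒮L h σ) n := by
  intro V hV hVW
  rw [rs_rs]
  exact hσ V hV (hVW.trans h)

theorem HomogOn.mul {W : X.Opens} {σ τ : 𝒮L.presheaf.obj (op W)} {n m : ℕ} (hσ : HomogOn 𝒮L σ n)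
    (hτ : HomogOn 𝒮L τ m) : HomogOn 𝒮L (σ * τ) (n + m) := by
  intro V hV hVW
  rw [map_mul]
  exact SetLike.mul_mem_graded (hσ V hV hVW) (hτ V hV hVW)

theorem HomogOn.pow {W : X.Opens} {σ : 𝒮L.presheaf.obj (op W)} {n : ℕ} (hσ : HomogOn 𝒮L σ n)
    (k : ℕ) : HomogOn 𝒮L (σ ^ k) (k * n) := by
  intro V hV hVW
  rw [map_pow]
  have := SetLike.pow_mem_graded k (hσ V hV hVW)
  rwa [smul_eq_mul] at this

/-- change of basis: `z_{c t} = c z_t`. -/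
theorem zOf_smul (V : X.Opens) (c : Γ(X, V)) (t : Γ(L, V)) :
    zOf L 𝒮L j V (c • t) = (𝒮L.str.app (op V)).hom c * zOf L 𝒮L j V t := by
  unfold zOf
  rw [← toSec_smul]
  congr 1
  exact Scheme.Modules.Hom.app_smul j c t

include hLq hj in
/-- Over a chart where `σ = a z^n`: `X_σ ∩ V = D(a)`. -/
theorem Xσ_inf_chart {W : X.Opens} (σ : 𝒮L.presheaf.obj (op W)) (n : ℕ)
    (V : X.Opens) (hV : IsAffineOpen V) (hVW : V ≤ W) (t : Γ(L, V)) (ht : IsBasisOn L V t)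
    (a : Γ(X, V)) (ha : rs 𝒮L hVW σ = (𝒮L.str.app (op V)).hom a * (zOf L 𝒮L j V t) ^ n) :
    Xσ σ n ⊓ V = X.basicOpen a := by
  ext y
  constructor
  · rintro ⟨hy1, hy2⟩
    obtain ⟨V₁, hV₁, hV₁W, hyV₁, hgen⟩ := (mem_Xσ_iff σ n y).mp hy1
    exact SymInvQC.mem_basicOpen_of_genAt_of_eq L hLq 𝒮L j hj σ n V hV hVW _ ht a ha y hy2 V₁ hV₁
      hV₁W hyV₁ hgen
  · intro hy
    have hgen := genAt_basicOpen_of_eq L hLq 𝒮L j hj σ n V hV hVW _ ht a ha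
    exact ⟨(mem_Xσ_iff σ n y).mpr ⟨X.basicOpen a, hV.basicOpen a, _, hy, hgen⟩, X.basicOpen_le a hy⟩

end Groth.Agent.Lib.Helper63.SymInvLocal
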