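import Mathlib
import Groth.Agent.Lib.Helper63.PullO1
import Groth.Agent.Lib.Helper63.SymInvDom
import Groth.Agent.Lib.Helper63.SymInvLocal

/-!
# `O(1)` on `P(L) = Proj(Sym L)` is the pullback of `L`, for `L` invertible (helper63)
-/

set_option autoImplicit false
universe u
open CategoryTheory CategoryTheory.Limits AlgebraicGeometry Opposite TopologicalSpace
open HomogeneousLocalization
open scoped HomogeneousIdeal
noncomputable section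

namespace Groth.Agent.Lib.Helper63.O1SymInv

open Groth.Agent.Lib.Helper45 Groth.Agent.Lib.Helper49 Groth.Agent.Lib.Helper42
  Groth.Agent.Lib.Helper42.RelTilde Groth.Agent.Lib.Helper42.RelTwistBasis
  Groth.Agent.Lib.Helper42.RelTwistFrac Groth.Agent.Lib.Helper42.RelTwistTensor
  Groth.Agent.Lib.Helper63.AwaySection Groth.Agent.Lib.Helper63.PullO1Key Groth.Agent.Lib.Helper63.PullO1
  Groth.Agent.Lib.Helper63.SymInvRing Groth.Agent.Lib.Helper63.SymInv Groth.Agent.Lib.Helper63.SymInvDom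

section general

theorem fromSpec_appLE_top {X : Scheme.{u}} {U : X.Opens} (hU : IsAffineOpen U) :
    hU.fromSpec.appLE U ⊤ hU.fromSpec_preimage_self.ge = (Scheme.ΓSpecIso Γ(X, U)).inv := by
  unfold Scheme.Hom.appLE
  rw [hU.fromSpec_app_self, Category.assoc, ← Functor.map_comp]
  have : (eqToHom hU.fromSpec_preimage_self).op ≫ (homOfLE hU.fromSpec_preimage_self.ge).op = 𝟙 _ := rfl
  rw [this, CategoryTheory.Functor.map_id, Category.comp_id]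

variable {Y P : Scheme.{u}} {𝒮 : RelProj.QCGrAlg Y} {p : P ⟶ Y}
  {chart : ∀ (U : Y.Opens) (hU : IsAffineOpen U), (((p ⁻¹ᵁ U : P.Opens) : Scheme.{u}) ≅ Proj (𝒮.deg U hU))}

theorem fromZero_strZero_eq (U : Y.Opens) (hU : IsAffineOpen U) {b : 𝒮.presheaf.obj (op U)} {d : ℕ}
    (hb : b ∈ 𝒮.deg U hU d) (c : Γ(Y, U)) :
    fromZeroRingHom (𝒮.deg U hU) (Submonoid.powers b) ((𝒮.strZero U hU).hom c) =
      Away.mk (𝒮.deg U hU) hb 0 ((𝒮.str.app (op U)).hom c)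
        (by rw [zero_smul]; exact 𝒮.str_mem U hU c) := by
  apply HomogeneousLocalization.val_injective
  rw [Away.val_mk]
  change Localization.mk _ _ = _
  congr 1
  exact Subtype.ext (pow_zero b).symm

/-- the pullback to `emb(D₊(b))` of a function on the base is the function attached to `c / 1` -/
theorem appLE_p_eq_Fsec (hP : RelProj.IsRelProj 𝒮 p chart) (U : Y.Opens) (hU : IsAffineOpen U)
    {b : 𝒮.presheaf.obj (op U)} {d : ℕ} (hb : b ∈ 𝒮.deg U hU d) (hd : 0 < d) (c : Γ(Y, U)) :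
    (p.appLE U (VD p chart U hU b) (VD_le U hU b)).hom c =
      Fsec U hU b (Away.mk (𝒮.deg U hU) hb 0 ((𝒮.str.app (op U)).hom c)
        (by rw [zero_smul]; exact 𝒮.str_mem U hU c)) := by
  apply appLE_top_injective (Proj.awayι (𝒮.deg U hU) b hb hd ≫ RelProj.emb p chart U hU)
    (VD p chart U hU b) (VD_le_opensRange U hU hb hd) (tgt_preimage_VD U hU hb hd)
  rw [Fsec_tgt U hU hb hd]
  have h1 := Scheme.Hom.appLE_comp_appLE (Proj.awayι (𝒮.deg U hU) b hb hd ≫ RelProj.emb p chart U hU) p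
    U (VD p chart U hU b) ⊤ (VD_le U hU b) (tgt_preimage_VD U hU hb hd)
  have h2 := congrArg (fun φ => φ.hom c) h1
  refine Eq.trans h2 ?_
  have h3 : (Proj.awayι (𝒮.deg U hU) b hb hd ≫ RelProj.emb p chart U hU) ≫ p =
      Spec.map (𝒮.strZero U hU ≫
        CommRingCat.ofHom (fromZeroRingHom (𝒮.deg U hU) (Submonoid.powers b))) ≫ hU.fromSpec := by
    rw [Category.assoc, awayι_emb_comp_p hP U hU hd b hb, Spec.map_comp, Category.assoc]
  rw [appLE_congr_hom h3]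
  have h4 := Scheme.Hom.appLE_comp_appLE (Spec.map (𝒮.strZero U hU ≫
        CommRingCat.ofHom (fromZeroRingHom (𝒮.deg U hU) (Submonoid.powers b)))) hU.fromSpec
    U ⊤ ⊤ hU.fromSpec_preimage_self.ge le_top
  have h5 := congrArg (fun φ => φ.hom c) h4
  refine Eq.trans h5.symm ?_
  rw [fromSpec_appLE_top, appLE_top_top]
  have h6 := congrArg (fun φ => φ.hom c) (Scheme.ΓSpecIso_inv_naturality (𝒮.strZero U hU ≫
        CommRingCat.ofHom (fromZeroRingHom (𝒮.deg U hU) (Submonoid.powers b))))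
  refine h6.symm.trans ?_
  exact congrArg (fun z => (Scheme.ΓSpecIso (CommRingCat.of (Away (𝒮.deg U hU) b))).inv.hom z)
    (fromZero_strZero_eq U hU hb c)

/-- the pullback of a function `c` on the base reads `c / 1` -/
theorem FReads_appLE_p (hP : RelProj.IsRelProj 𝒮 p chart) (U : Y.Opens) (hU : IsAffineOpen U)
    {b : 𝒮.presheaf.obj (op U)} {d : ℕ} (hb : b ∈ 𝒮.deg U hU d) (hd : 0 < d) (c : Γ(Y, U))
    {W : P.Opens} (hW : W ≤ VD p chart U hU b) :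
    FReads chart U hU W ((p.appLE U W (hW.trans (VD_le U hU b))).hom c) ((𝒮.str.app (op U)).hom c) 1 := by
  have h1 : (p.appLE U W (hW.trans (VD_le U hU b))).hom c =
      fres hW ((p.appLE U (VD p chart U hU b) (VD_le U hU b)).hom c) :=
    (congrArg (fun φ => φ.hom c) (Scheme.Hom.appLE_map p (VD_le U hU b) (homOfLE hW).op)).symm
  rw [h1, appLE_p_eq_Fsec hP U hU hb hd c]
  exact FReads_congr_den ((Fsec_reads U hU hb 0 _ _).fres hW) (pow_zero b)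

end general

section main
variable {Y : Scheme.{u}} (L : Y.Modules) (hLq : Coh.IsQCoh L) (hL : PicF.IsInvertible L)
  (𝒮L : RelProj.QCGrAlg Y) (j : L ⟶ 𝒮L.toModule) (hj : RelProj.IsGrSymAlg L 𝒮L j)
  {PL : Scheme.{u}} (pL : PL ⟶ Y)
  (chartL : ∀ (U : Y.Opens) (hU : IsAffineOpen U), (((pL ⁻¹ᵁ U : PL.Opens) : Scheme.{u}) ≅ Proj (𝒮L.deg U hU)))
  (hPL : RelProj.IsRelProj 𝒮L pL chartL)
  {O1 : PL.Modules}
  {lam : ∀ (U : Y.Opens) (hU : IsAffineOpen U),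
      O1 ⟶ (Scheme.Modules.pushforward (RelProj.emb pL chartL U hU)).obj (GrTwist.twist (𝒮L.deg U hU) 1)}

/-- index of the cover: an affine open with a basis of `L` -/
structure KIdx where
  U : Y.Opens
  hU : IsAffineOpen U
  t : Γ(L, U)
  ht : IsBasisOn L U t

include hLq hL hj in
theorem exists_mem_VK (x : PL) :
    ∃ k : KIdx L, x ∈ VD pL chartL k.U k.hU (zOf L 𝒮L j k.U k.t) := by
  obtain ⟨V, hxV, t, ht⟩ := exists_isBasisOn_of_isInvertible hL (pL.base x)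
  obtain ⟨W, hW, hxW, hWV⟩ := (Opens.isBasis_iff_nbhd.mp Y.isBasis_affineOpens) hxV
  refine ⟨⟨W, hW, mres L hWV t, ht.mono hWV⟩, ?_⟩
  obtain ⟨y, rfl⟩ := exists_emb_eq (chart := chartL) W hW hxW
  refine (emb_mem_VD_iff W hW _ y).mpr ?_
  have hpoly := isPolyGr L hLq 𝒮L j hj W hW (mres L hWV t) (ht.mono hWV)
  have hy : y ∈ Proj.basicOpen (𝒮L.deg W hW) (zOf L 𝒮L j W (mres L hWV t)) := by
    rw [hpoly.basicOpen_eq_top]; trivial
  exact (Proj.mem_basicOpen _ _ _).mp hy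

include hj hPL in
theorem compat_K (hO1 : RelProj.IsRelTwist 𝒮L pL chartL 1 O1 lam) (k₁ k₂ : KIdx L)
    (m₁ : Γ(O1, VD pL chartL k₁.U k₁.hU (zOf L 𝒮L j k₁.U k₁.t)))
    (hm₁ : ReadsFrac lam k₁.U k₁.hU _ m₁ (zOf L 𝒮L j k₁.U k₁.t) 1)
    (m₂ : Γ(O1, VD pL chartL k₂.U k₂.hU (zOf L 𝒮L j k₂.U k₂.t)))
    (hm₂ : ReadsFrac lam k₂.U k₂.hU _ m₂ (zOf L 𝒮L j k₂.U k₂.t) 1)
    (hleV : VD pL chartL k₁.U k₁.hU (zOf L 𝒮L j k₁.U k₁.t) ⊓ VD pL chartL k₂.U k₂.hU (zOf L 𝒮L j k₂.U k₂.t) ≤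
      pL ⁻¹ᵁ (k₁.U ⊓ k₂.U))
    (c : Γ(Y, k₁.U ⊓ k₂.U)) (hc : mres L inf_le_left k₁.t = c • mres L inf_le_right k₂.t) :
    mres O1 inf_le_left m₁ = (pL.appLE _ _ hleV).hom c • mres O1 inf_le_right m₂ := by
  refine ModLocal.section_ext O1 fun x' hx' => ?_
  have hx'1 : x' ∈ pL ⁻¹ᵁ k₁.U := VD_le _ _ _ hx'.1
  have hx'2 : x' ∈ pL ⁻¹ᵁ k₂.U := VD_le _ _ _ hx'.2
  obtain ⟨r₁, r₂, hr, hsr⟩ := exists_basicOpen_le_affine_inter k₁.hU k₂.hU (pL.base x') ⟨hx'1, hx'2⟩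
  obtain ⟨D, hDdef⟩ : ∃ D : Y.Opens, D = Y.basicOpen r₁ := ⟨_, rfl⟩
  have hD : IsAffineOpen D := hDdef ▸ k₁.hU.basicOpen r₁
  have hD1 : D ≤ k₁.U := hDdef ▸ Y.basicOpen_le r₁
  have hD2e : D = Y.basicOpen r₂ := hDdef.trans hr
  have hD2 : D ≤ k₂.U := hD2e ▸ Y.basicOpen_le r₂
  have hsD : pL.base x' ∈ D := hDdef ▸ hsr
  have hD12 : D ≤ k₁.U ⊓ k₂.U := le_inf hD1 hD2
  obtain ⟨a₁, ha₁def⟩ : ∃ a₁, a₁ = 𝒮L.res k₁.hU hD hD1 (zOf L 𝒮L j k₁.U k₁.t) := ⟨_, rfl⟩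
  obtain ⟨a₂, ha₂def⟩ : ∃ a₂, a₂ = 𝒮L.res k₂.hU hD hD2 (zOf L 𝒮L j k₂.U k₂.t) := ⟨_, rfl⟩
  have ha₂ : a₂ ∈ 𝒮L.deg D hD 1 := ha₂def ▸ (𝒮L.res k₂.hU hD hD2).map_mem (hj.2 k₂.U k₂.hU k₂.t)
  have hm₁D : ReadsFrac lam D hD _ m₁ a₁ 1 :=
    (hm₁.restrict hPL hO1 r₁ D hD hDdef hD1).congr_elems ha₁def.symm (map_one _)
  have hm₂D : ReadsFrac lam D hD _ m₂ a₂ 1 :=
    (hm₂.restrict hPL hO1 r₂ D hD hD2e hD2).congr_elems ha₂def.symm (map_one _)
  have hrel : a₁ = (𝒮L.str.app (op D)).hom (fres hD12 c) * a₂ := by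
    have e1 : a₁ = zOf L 𝒮L j D (mres L hD1 k₁.t) := by rw [ha₁def, zOf_res]; rfl
    have e2 : a₂ = zOf L 𝒮L j D (mres L hD2 k₂.t) := by rw [ha₂def, zOf_res]; rfl
    have e3 : mres L hD1 k₁.t = fres hD12 c • mres L hD2 k₂.t := by
      have := congrArg (mres L hD12) hc
      rwa [mres_mres, mres_smul, mres_mres] at this
    rw [e1, e3, SymInvLocal.zOf_smul, ← e2]
  have hnv₂ : ∀ y : ProjectiveSpectrum (𝒮L.deg D hD),
      (RelProj.emb pL chartL D hD).base y ∈ VD pL chartL k₂.U k₂.hU (zOf L 𝒮L j k₂.U k₂.t) →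
        a₂ ∉ y.asHomogeneousIdeal := by
    intro y hy
    rw [ha₂def]
    exact notMem_res_of hPL r₂ D hD hD2e hD2 (fun z hz => (emb_mem_VD_iff k₂.U k₂.hU _ z).mp hz) y hy
  obtain ⟨W', hW'def⟩ : ∃ W' : PL.Opens,
      W' = (VD pL chartL k₁.U k₁.hU (zOf L 𝒮L j k₁.U k₁.t) ⊓
        VD pL chartL k₂.U k₂.hU (zOf L 𝒮L j k₂.U k₂.t)) ⊓ pL ⁻¹ᵁ D := ⟨_, rfl⟩
  have hW'V : W' ≤ VD pL chartL k₁.U k₁.hU (zOf L 𝒮L j k₁.U k₁.t) ⊓
        VD pL chartL k₂.U k₂.hU (zOf L 𝒮L j k₂.U k₂.t) := hW'def ▸ inf_le_left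
  have hW'D : W' ≤ pL ⁻¹ᵁ D := hW'def ▸ inf_le_right
  have hx'W' : x' ∈ W' := by rw [hW'def]; exact ⟨hx', hsD⟩
  have hW'VD : W' ≤ VD pL chartL D hD a₂ := by
    intro z hz
    obtain ⟨y, rfl⟩ := exists_emb_eq (chart := chartL) D hD (hW'D hz)
    exact (emb_mem_VD_iff D hD a₂ y).mpr (hnv₂ y (hW'V hz).2)
  refine ⟨W', hW'V, hx'W', ?_⟩
  change mres O1 hW'V (mres O1 inf_le_left m₁) =
    mres O1 hW'V ((pL.appLE _ _ hleV).hom c • mres O1 inf_le_right m₂)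
  rw [mres_smul, mres_mres, mres_mres, PullGlue.fres_appLE pL hleV hW'D hD12 hW'V c]
  have hread := FReads_appLE_p hPL D hD ha₂ one_pos (fres hD12 c) hW'VD
  refine ReadsFrac.unique hO1 (U := D) (hU := hD) hW'D (fun y _ => one_notMem y)
    (hm₁D.mres (hW'V.trans inf_le_left)) ?_
  intro y hy hvy
  rw [val_lam_smul, (hm₂D.mres (hW'V.trans inf_le_right)) y hy hvy]
  have e3 := hread y hy hvy
  refine (congrArg (fun v => v * Localization.mk a₂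
    (⟨1, hvy⟩ : y.asHomogeneousIdeal.toIdeal.primeCompl)) e3).trans ?_
  rw [Localization.mk_mul, hrel, Localization.mk_eq_mk_iff, Localization.r_iff_exists]
  exact ⟨1, by simp⟩

include hLq hL hj hPL in
/-- **`O_{P(L)}(1) ≅ pL^* L`** for `L` invertible -/
theorem nonempty_pullback_iso (hO1 : RelProj.IsRelTwist 𝒮L pL chartL 1 O1 lam) :
    Nonempty ((Scheme.Modules.pullback pL).obj L ≅ O1) := by
  choose m hmb hmr using fun k : KIdx L => exists_basis_one hO1 k.U k.hU (zOf L 𝒮L j k.U k.t)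
    (hj.2 k.U k.hU k.t)
  refine PullGlue.nonempty_pullback_iso_of_local_bases pL L O1 (fun k : KIdx L => k.U)
    (fun k : KIdx L => VD pL chartL k.U k.hU (zOf L 𝒮L j k.U k.t)) (fun k => VD_le k.U k.hU _)
    (exists_mem_VK L hLq hL 𝒮L j hj pL chartL) (fun k => k.t) (fun k => k.ht) m hmb ?_
  intro k₁ k₂ c hc
  exact compat_K L 𝒮L j hj pL chartL hPL hO1 k₁ k₂ (m k₁) (hmr k₁) (m k₂) (hmr k₂) _ c hc

end main

end Groth.Agent.Lib.Helper63.O1SymInv
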