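import Mathlib

set_option autoImplicit false

namespace Groth.Agent.Lib.Helper63.PSChain

open PowerSeries MvPowerSeries

variable {R : Type*} [CommRing R] {τ : Type*}

/-- Coefficients of large powers vanish on any finite set of exponents. -/
theorem exists_forall_coeff_pow_eq_zero {G : MvPowerSeries τ R} (hG : PowerSeries.HasSubst G)
    (E : Finset (τ →₀ ℕ)) : ∃ m : ℕ, ∀ d, m ≤ d → ∀ e ∈ E, MvPowerSeries.coeff e (G ^ d) = 0 := by
  classical
  have hfin : ∀ e : τ →₀ ℕ, {d : ℕ | MvPowerSeries.coeff e (G ^ d) ≠ 0}.Finite := by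
    intro e
    have := PowerSeries.coeff_subst_finite hG (PowerSeries.mk fun _ => (1 : R)) e
    rw [Function.HasFiniteSupport] at this
    refine this.subset fun d hd => ?_
    simpa [Function.mem_support] using hd
  have hfin' : (⋃ e ∈ E, {d : ℕ | MvPowerSeries.coeff e (G ^ d) ≠ 0}).Finite :=
    Set.Finite.biUnion E.finite_toSet fun e _ => hfin e
  obtain ⟨m, hm⟩ := hfin'.bddAbove
  refine ⟨m + 1, fun d hd e he => ?_⟩
  by_contra hne
  have : d ∈ ⋃ e ∈ E, {d : ℕ | MvPowerSeries.coeff e (G ^ d) ≠ 0} := by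
    simp only [Set.mem_iUnion]
    exact ⟨e, he, hne⟩
  have := hm this
  omega

/-- chain rule for polynomials -/
theorem pderiv_subst_coe (i : τ) (p : Polynomial R) {G : MvPowerSeries τ R}
    (hG : PowerSeries.HasSubst G) :
    pderiv R i ((p : R⟦X⟧).subst G) = (d⁄dX R (p : R⟦X⟧)).subst G * pderiv R i G := by
  simp [PowerSeries.subst_coe hG, derivative_coe, Derivation.comp_aeval_eq (a := G) (pderiv R i) p,
    smul_eq_mul]

/-- chain rule -/
theorem pderiv_subst (i : τ) (F : R⟦X⟧) {G : MvPowerSeries τ R} (hG : PowerSeries.HasSubst G) :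
    pderiv R i (F.subst G) = (d⁄dX R F).subst G * pderiv R i G := by
  classical
  ext n
  obtain ⟨m, hm⟩ := exists_forall_coeff_pow_eq_zero hG
    (insert (n + Finsupp.single i 1) ((Finset.HasAntidiagonal.antidiagonal n).image Prod.fst))
  have key : MvPowerSeries.coeff (n + Finsupp.single i 1) (F.subst G) =
      MvPowerSeries.coeff (n + Finsupp.single i 1) ((↑(trunc (m + 1) F) : R⟦X⟧).subst G) := by
    rw [PowerSeries.coeff_subst hG, PowerSeries.coeff_subst hG]
    refine finsum_congr fun d => ?_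
    obtain hd | hd := lt_or_ge d m
    · rw [coeff_coe_trunc_of_lt (by omega)]
    · simp [hm d hd _ (Finset.mem_insert_self _ _)]
  rw [MvPowerSeries.coeff_pderiv, key, ← MvPowerSeries.coeff_pderiv, pderiv_subst_coe _ _ hG,
    MvPowerSeries.coeff_mul, MvPowerSeries.coeff_mul]
  refine Finset.sum_congr rfl fun ab hab => ?_
  congr 1
  have hmem : ab.1 ∈ insert (n + Finsupp.single i 1) ((Finset.HasAntidiagonal.antidiagonal n).image Prod.fst) :=
    Finset.mem_insert_of_mem (Finset.mem_image_of_mem _ hab)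
  rw [PowerSeries.coeff_subst hG, PowerSeries.coeff_subst hG]
  refine finsum_congr fun d => ?_
  obtain hd | hd := lt_or_ge d m
  · simp only [coeff_derivative, Polynomial.coeff_coe, PowerSeries.coeff_trunc]
    rw [if_pos (by omega)]
  · simp [hm d hd _ hmem]

end Groth.Agent.Lib.Helper63.PSChain
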