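import Mathlib

/-!
# Corepresentability of `Q ↦ Hom_{k[[z]]}(R, Q[[z]])` (helper63)

For a `k[[z]]`-algebra `R` generated by a set `S`, the `k`-algebra
`P = k[q_{s,α} : s ∈ S, α]/J` (with `J` generated by the `z`-coefficients of the relations among the
generic power series `∑_α q_{s,α} z^α`) corepresents `Q ↦ Hom_{k[[z]]-alg}(R, Q[[z]])`.
-/

set_option autoImplicit false
set_option linter.unusedSectionVars false

namespace Groth.Agent.Lib.Helper63.PSCorep

open MvPowerSeries

universe u

section mapAlg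

variable {k : Type*} [CommRing k] {σ : Type*} {A B : Type*} [CommRing A] [CommRing B]
  [Algebra k A] [Algebra k B]

/-- the coefficientwise map as a `k[[z]]`-algebra homomorphism -/
noncomputable def mapAlg (g : A →ₐ[k] B) :
    MvPowerSeries σ A →ₐ[MvPowerSeries σ k] MvPowerSeries σ B where
  toRingHom := MvPowerSeries.map (g : A →+* B)
  commutes' c := by
    change MvPowerSeries.map (g : A →+* B) (MvPowerSeries.map (algebraMap k A) c) =
      MvPowerSeries.map (algebraMap k B) c
    ext α
    simp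

theorem mapAlg_apply (g : A →ₐ[k] B) (f : MvPowerSeries σ A) :
    mapAlg (σ := σ) g f = MvPowerSeries.map (g : A →+* B) f := rfl

theorem coeff_mapAlg (g : A →ₐ[k] B) (f : MvPowerSeries σ A) (α : σ →₀ ℕ) :
    coeff α (mapAlg (σ := σ) g f) = g (coeff α f) := by
  rw [mapAlg_apply, coeff_map]
  rfl

end mapAlg

section construction

variable (k : Type u) [CommRing k] (n : ℕ) {R : Type u} [CommRing R]
  [Algebra (MvPowerSeries (Fin n) k) R] (S : Set R)

/-- the polynomial ring on the coefficients of the generic power series -/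
abbrev P0 : Type u := MvPolynomial (↥S × (Fin n →₀ ℕ)) k

/-- the generic power series attached to a generator -/
noncomputable def gen (s : ↥S) : MvPowerSeries (Fin n) (P0 k n S) :=
  fun α => MvPolynomial.X (s, α)

theorem coeff_gen (s : ↥S) (α : Fin n →₀ ℕ) :
    coeff α (gen k n S s) = MvPolynomial.X (s, α) := rfl

/-- the generic map from the polynomial ring on `S` -/
noncomputable def u0 : MvPolynomial ↥S (MvPowerSeries (Fin n) k) →ₐ[MvPowerSeries (Fin n) k]
    MvPowerSeries (Fin n) (P0 k n S) :=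
  MvPolynomial.aeval (gen k n S)

/-- the presentation of `R` -/
noncomputable def proj : MvPolynomial ↥S (MvPowerSeries (Fin n) k) →ₐ[MvPowerSeries (Fin n) k] R :=
  MvPolynomial.aeval (fun s : ↥S => (s : R))

theorem proj_surjective (hS : Algebra.adjoin (MvPowerSeries (Fin n) k) S = ⊤) :
    Function.Surjective (proj k n S) := by
  rw [← AlgHom.range_eq_top]
  change (MvPolynomial.aeval (fun s : ↥S => (s : R))).range = ⊤
  rw [← Algebra.adjoin_range_eq_range_aeval, Subtype.range_coe, hS]

/-- the ideal of relations -/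
noncomputable def J : Ideal (P0 k n S) :=
  Ideal.span {p | ∃ r ∈ RingHom.ker (proj k n S).toRingHom, ∃ α : Fin n →₀ ℕ,
    p = coeff α (u0 k n S r)}

/-- the corepresenting algebra -/
abbrev P : Type u := P0 k n S ⧸ J k n S

/-- the generic map, modulo the relations -/
noncomputable def ut : MvPolynomial ↥S (MvPowerSeries (Fin n) k) →ₐ[MvPowerSeries (Fin n) k]
    MvPowerSeries (Fin n) (P k n S) :=
  (mapAlg (Ideal.Quotient.mkₐ k (J k n S))).comp (u0 k n S)

theorem coeff_ut (r : MvPolynomial ↥S (MvPowerSeries (Fin n) k)) (α : Fin n →₀ ℕ) :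
    coeff α (ut k n S r) = Ideal.Quotient.mk (J k n S) (coeff α (u0 k n S r)) := by
  change coeff α (mapAlg (Ideal.Quotient.mkₐ k (J k n S)) (u0 k n S r)) = _
  rw [coeff_mapAlg]
  rfl

theorem ker_le : RingHom.ker (proj k n S).toRingHom ≤ RingHom.ker (ut k n S).toRingHom := by
  intro r hr
  rw [RingHom.mem_ker]
  change ut k n S r = 0
  ext α
  rw [coeff_ut, map_zero, Ideal.Quotient.eq_zero_iff_mem]
  exact Ideal.subset_span ⟨r, hr, α, rfl⟩

/-- the universal map -/
noncomputable def uu (hS : Algebra.adjoin (MvPowerSeries (Fin n) k) S = ⊤) :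
    R →ₐ[MvPowerSeries (Fin n) k] MvPowerSeries (Fin n) (P k n S) :=
  AlgHom.liftOfSurjective (proj k n S) (proj_surjective k n S hS) (ut k n S) (ker_le k n S)

theorem uu_proj (hS : Algebra.adjoin (MvPowerSeries (Fin n) k) S = ⊤)
    (r : MvPolynomial ↥S (MvPowerSeries (Fin n) k)) :
    uu k n S hS (proj k n S r) = ut k n S r :=
  AlgHom.liftOfSurjective_apply _ _ _ _ r

theorem proj_X (s : ↥S) : proj k n S (MvPolynomial.X s) = (s : R) := by
  change MvPolynomial.aeval (fun s : ↥S => (s : R)) (MvPolynomial.X s) = _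
  rw [MvPolynomial.aeval_X]

theorem u0_X (s : ↥S) : u0 k n S (MvPolynomial.X s) = gen k n S s := by
  change MvPolynomial.aeval (gen k n S) (MvPolynomial.X s) = _
  rw [MvPolynomial.aeval_X]

theorem coeff_uu (hS : Algebra.adjoin (MvPowerSeries (Fin n) k) S = ⊤) (s : ↥S)
    (α : Fin n →₀ ℕ) :
    coeff α (uu k n S hS (s : R)) = Ideal.Quotient.mk (J k n S) (MvPolynomial.X (s, α)) := by
  rw [← proj_X k n S s, uu_proj, coeff_ut, u0_X, coeff_gen]

variable {k n S}

/-- the classifying map on the polynomial ring -/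
noncomputable def g0 {Q : Type u} [CommRing Q] [Algebra k Q]
    (f : R →ₐ[MvPowerSeries (Fin n) k] MvPowerSeries (Fin n) Q) : P0 k n S →ₐ[k] Q :=
  MvPolynomial.aeval (fun i : ↥S × (Fin n →₀ ℕ) => coeff i.2 (f (i.1 : R)))

theorem g0_X {Q : Type u} [CommRing Q] [Algebra k Q]
    (f : R →ₐ[MvPowerSeries (Fin n) k] MvPowerSeries (Fin n) Q) (s : ↥S) (α : Fin n →₀ ℕ) :
    g0 (S := S) f (MvPolynomial.X (s, α)) = coeff α (f (s : R)) := by
  change MvPolynomial.aeval _ (MvPolynomial.X (s, α)) = _
  rw [MvPolynomial.aeval_X]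

theorem mapAlg_g0_comp {Q : Type u} [CommRing Q] [Algebra k Q]
    (f : R →ₐ[MvPowerSeries (Fin n) k] MvPowerSeries (Fin n) Q) :
    (mapAlg (g0 (S := S) f)).comp (u0 k n S) = f.comp (proj k n S) := by
  apply MvPolynomial.algHom_ext
  intro s
  rw [AlgHom.comp_apply, AlgHom.comp_apply, u0_X, proj_X]
  ext α
  rw [coeff_mapAlg, coeff_gen, g0_X]

theorem J_le_ker {Q : Type u} [CommRing Q] [Algebra k Q]
    (f : R →ₐ[MvPowerSeries (Fin n) k] MvPowerSeries (Fin n) Q) :
    ∀ a ∈ J k n S, g0 (S := S) f a = 0 := by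
  intro a ha
  have hle : J k n S ≤ RingHom.ker (g0 (S := S) f).toRingHom := by
    unfold J
    rw [Ideal.span_le]
    rintro p ⟨r, hr, α, rfl⟩
    change g0 (S := S) f (coeff α (u0 k n S r)) = 0
    rw [← coeff_mapAlg]
    have h1 : mapAlg (g0 (S := S) f) (u0 k n S r) = f (proj k n S r) := by
      have := congrArg (fun φ => φ r) (mapAlg_g0_comp (S := S) f)
      exact this
    have h2 : proj k n S r = 0 := hr
    rw [h1, h2, map_zero, map_zero]
  exact hle ha

/-- the classifying map -/
noncomputable def gg {Q : Type u} [CommRing Q] [Algebra k Q]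
    (f : R →ₐ[MvPowerSeries (Fin n) k] MvPowerSeries (Fin n) Q) : P k n S →ₐ[k] Q :=
  Ideal.Quotient.liftₐ (J k n S) (g0 (S := S) f) (J_le_ker f)

theorem gg_mk {Q : Type u} [CommRing Q] [Algebra k Q]
    (f : R →ₐ[MvPowerSeries (Fin n) k] MvPowerSeries (Fin n) Q) (a : P0 k n S) :
    gg (S := S) f (Ideal.Quotient.mk (J k n S) a) = g0 (S := S) f a := by
  rfl

theorem exists_corep (hS : Algebra.adjoin (MvPowerSeries (Fin n) k) S = ⊤) :
    ∃ (P : Type u) (_ : CommRing P) (_ : Algebra k P)
      (u : R →ₐ[MvPowerSeries (Fin n) k] MvPowerSeries (Fin n) P),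
      (∀ (Q : Type u) [CommRing Q] [Algebra k Q]
          (f : R →ₐ[MvPowerSeries (Fin n) k] MvPowerSeries (Fin n) Q),
          ∃! g : P →ₐ[k] Q,
            (MvPowerSeries.map (σ := Fin n) (g : P →+* Q)).comp (u : R →+* MvPowerSeries (Fin n) P) =
              (f : R →+* MvPowerSeries (Fin n) Q)) ∧
      (S.Countable → ∃ t : Set P, t.Countable ∧ Algebra.adjoin k t = ⊤) := by
  refine ⟨P k n S, inferInstance, inferInstance, uu k n S hS, ?_, ?_⟩
  · intro Q _ _ f
    refine ⟨gg (S := S) f, ?_, ?_⟩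
    · -- existence
      apply RingHom.ext
      intro x
      obtain ⟨r, rfl⟩ := proj_surjective k n S hS x
      rw [RingHom.comp_apply]
      change MvPowerSeries.map _ (uu k n S hS (proj k n S r)) = f (proj k n S r)
      rw [uu_proj]
      have h1 : mapAlg (g0 (S := S) f) (u0 k n S r) = f (proj k n S r) := by
        have := congrArg (fun φ => φ r) (mapAlg_g0_comp (S := S) f)
        exact this
      rw [← h1]
      ext α
      rw [coeff_map, coeff_ut, coeff_mapAlg]
      exact gg_mk f _
    · -- uniqueness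
      intro g' hg'
      apply Ideal.Quotient.algHom_ext
      apply MvPolynomial.algHom_ext
      rintro ⟨s, α⟩
      change g' (Ideal.Quotient.mk (J k n S) (MvPolynomial.X (s, α))) =
        gg (S := S) f (Ideal.Quotient.mk (J k n S) (MvPolynomial.X (s, α)))
      rw [gg_mk, g0_X, ← coeff_uu k n S hS s α]
      have h2 := congrArg (fun φ => φ (s : R)) hg'
      have h3 : MvPowerSeries.map (g' : P k n S →+* Q) (uu k n S hS (s : R)) = f (s : R) := h2
      rw [← h3, coeff_map]
      rfl
  · intro hSc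
    refine ⟨Set.range (fun i : ↥S × (Fin n →₀ ℕ) =>
      Ideal.Quotient.mk (J k n S) (MvPolynomial.X i)), ?_, ?_⟩
    · have : Countable ↥S := hSc.to_subtype
      exact Set.countable_range _
    · have h1 : Set.range (fun i : ↥S × (Fin n →₀ ℕ) =>
          Ideal.Quotient.mk (J k n S) (MvPolynomial.X i)) =
          (Ideal.Quotient.mkₐ k (J k n S)) '' (Set.range (MvPolynomial.X :
            ↥S × (Fin n →₀ ℕ) → P0 k n S)) := by
        rw [← Set.range_comp]
        rfl
      rw [h1, ← AlgHom.map_adjoin, MvPolynomial.adjoin_range_X, Algebra.map_top,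
        AlgHom.range_eq_top]
      exact Ideal.Quotient.mkₐ_surjective k (J k n S)

end construction

end Groth.Agent.Lib.Helper63.PSCorep
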