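import Groth.Agent.Lib.Helper63.PSChain

set_option autoImplicit false

namespace Groth.Agent.Lib.Helper63.PSChain

open PowerSeries MvPowerSeries

variable {R : Type} [CommRing R]

/-- evaluation hom commutes with one-variable substitution -/
theorem mvsubst_subst {ρ : Fin 2 → PowerSeries R} (hρ : MvPowerSeries.HasSubst ρ)
    {A : MvPowerSeries (Fin 2) R} (hA : PowerSeries.HasSubst A) (P : PowerSeries R) :
    MvPowerSeries.subst ρ (P.subst A) = P.subst (MvPowerSeries.subst ρ A : PowerSeries R) := by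
  rw [PowerSeries.subst_def, PowerSeries.subst_def]
  exact MvPowerSeries.subst_comp_subst_apply (R := R) hA.const hρ P

theorem subst_zero' (P : PowerSeries R) :
    P.subst (0 : PowerSeries R) = PowerSeries.C (PowerSeries.constantCoeff P) := by
  have := PowerSeries.subst_zero_eq_C_constantCoeff (R := R) (S := R) (τ := Unit) (f := P)
  rw [this]
  simp
  rfl

theorem main (F : PowerSeries R)
    (h0 : PowerSeries.constantCoeff F = 1) (ha : IsUnit (PowerSeries.coeff 1 F))
    (hFE : PowerSeries.subst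
        (MvPowerSeries.X (0 : Fin 2) + MvPowerSeries.X 1 * PowerSeries.subst (MvPowerSeries.X (0 : Fin 2)) F :
          MvPowerSeries (Fin 2) R) F =
      PowerSeries.subst (MvPowerSeries.X (0 : Fin 2)) F * PowerSeries.subst (MvPowerSeries.X (1 : Fin 2)) F) :
    F = 1 + PowerSeries.C (PowerSeries.coeff 1 F) * PowerSeries.X := by
  set a := PowerSeries.coeff 1 F with hadef
  set F' := d⁄dX R F with hF'def
  have hF'0 : PowerSeries.constantCoeff F' = a := by
    rw [← PowerSeries.coeff_zero_eq_constantCoeff_apply, hF'def, PowerSeries.coeff_derivative]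
    simp [hadef]
  have hX₀ : PowerSeries.HasSubst (MvPowerSeries.X (0 : Fin 2) : MvPowerSeries (Fin 2) R) :=
    PowerSeries.HasSubst.X 0
  have hX₁ : PowerSeries.HasSubst (MvPowerSeries.X (1 : Fin 2) : MvPowerSeries (Fin 2) R) :=
    PowerSeries.HasSubst.X 1
  set X₀ : MvPowerSeries (Fin 2) R := MvPowerSeries.X 0 with hX₀def
  set X₁ : MvPowerSeries (Fin 2) R := MvPowerSeries.X 1 with hX₁def
  set H₀ := F.subst X₀ with hH₀
  set H₁ := F.subst X₁ with hH₁
  have hG : PowerSeries.HasSubst (X₀ + X₁ * H₀) := hX₀.add (hX₁.mul_left)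
  -- derivatives of the basic pieces
  have d00 : pderiv R (0 : Fin 2) X₀ = 1 := MvPowerSeries.pderiv_X_self
  have d11 : pderiv R (1 : Fin 2) X₁ = 1 := MvPowerSeries.pderiv_X_self
  have d01 : pderiv R (0 : Fin 2) X₁ = 0 := MvPowerSeries.pderiv_X_of_ne (by decide)
  have d10 : pderiv R (1 : Fin 2) X₀ = 0 := MvPowerSeries.pderiv_X_of_ne (by decide)
  have d0H₀ : pderiv R (0 : Fin 2) H₀ = F'.subst X₀ := by
    rw [hH₀, pderiv_subst _ _ hX₀, d00, mul_one]
  have d1H₀ : pderiv R (1 : Fin 2) H₀ = 0 := by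
    rw [hH₀, pderiv_subst _ _ hX₀, d10, mul_zero]
  have d0H₁ : pderiv R (0 : Fin 2) H₁ = 0 := by
    rw [hH₁, pderiv_subst _ _ hX₁, d01, mul_zero]
  have d1H₁ : pderiv R (1 : Fin 2) H₁ = F'.subst X₁ := by
    rw [hH₁, pderiv_subst _ _ hX₁, d11, mul_one]
  -- differentiate the functional equation
  have E1 : F'.subst (X₀ + X₁ * H₀) * H₀ = H₀ * F'.subst X₁ := by
    have := congrArg (pderiv R (1 : Fin 2)) hFE
    rw [pderiv_subst _ _ hG, map_add, Derivation.leibniz, Derivation.leibniz, d10, d11, d1H₀, d1H₁] at this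
    simpa using this
  have E2 : F'.subst (X₀ + X₁ * H₀) * (1 + X₁ * F'.subst X₀) = H₁ * F'.subst X₀ := by
    have := congrArg (pderiv R (0 : Fin 2)) hFE
    rw [pderiv_subst _ _ hG, map_add, Derivation.leibniz, Derivation.leibniz, d00, d01, d0H₀, d0H₁] at this
    simpa using this
  -- evaluation at X₁ = 0
  have hρ₁ : MvPowerSeries.HasSubst (![PowerSeries.X, 0] : Fin 2 → PowerSeries R) :=
    MvPowerSeries.hasSubst_of_constantCoeff_zero (by
      intro s; fin_cases s
      · exact PowerSeries.constantCoeff_X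
      · exact map_zero _)
  have hρ₀ : MvPowerSeries.HasSubst (![0, PowerSeries.X] : Fin 2 → PowerSeries R) :=
    MvPowerSeries.hasSubst_of_constantCoeff_zero (by
      intro s; fin_cases s
      · exact map_zero _
      · exact PowerSeries.constantCoeff_X)
  have e1X₀ : MvPowerSeries.subst (![PowerSeries.X, 0] : Fin 2 → PowerSeries R) X₀ = PowerSeries.X := by
    rw [hX₀def, MvPowerSeries.subst_X hρ₁]; rfl
  have e1X₁ : MvPowerSeries.subst (![PowerSeries.X, 0] : Fin 2 → PowerSeries R) X₁ = 0 := by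
    rw [hX₁def, MvPowerSeries.subst_X hρ₁]; rfl
  have e0X₀ : MvPowerSeries.subst (![0, PowerSeries.X] : Fin 2 → PowerSeries R) X₀ = 0 := by
    rw [hX₀def, MvPowerSeries.subst_X hρ₀]; rfl
  have e0X₁ : MvPowerSeries.subst (![0, PowerSeries.X] : Fin 2 → PowerSeries R) X₁ = PowerSeries.X := by
    rw [hX₁def, MvPowerSeries.subst_X hρ₀]; rfl
  have e1H₀ : MvPowerSeries.subst (![PowerSeries.X, 0] : Fin 2 → PowerSeries R) H₀ = F := by
    rw [hH₀, mvsubst_subst hρ₁ hX₀, e1X₀, PowerSeries.X_subst]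
  have e0H₀ : MvPowerSeries.subst (![0, PowerSeries.X] : Fin 2 → PowerSeries R) H₀ = 1 := by
    rw [hH₀, mvsubst_subst hρ₀ hX₀, e0X₀, subst_zero', h0, map_one]
  have e0H₁ : MvPowerSeries.subst (![0, PowerSeries.X] : Fin 2 → PowerSeries R) H₁ = F := by
    rw [hH₁, mvsubst_subst hρ₀ hX₁, e0X₁, PowerSeries.X_subst]
  have e1G : MvPowerSeries.subst (![PowerSeries.X, 0] : Fin 2 → PowerSeries R) (X₀ + X₁ * H₀) =
      PowerSeries.X := by
    rw [MvPowerSeries.subst_add hρ₁, MvPowerSeries.subst_mul hρ₁, e1X₀, e1X₁, zero_mul, add_zero]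
  have e0G : MvPowerSeries.subst (![0, PowerSeries.X] : Fin 2 → PowerSeries R) (X₀ + X₁ * H₀) =
      PowerSeries.X := by
    rw [MvPowerSeries.subst_add hρ₀, MvPowerSeries.subst_mul hρ₀, e0X₀, e0X₁, e0H₀, mul_one, zero_add]
  have A1 : F' * F = F * PowerSeries.C a := by
    have := congrArg (MvPowerSeries.subst (![PowerSeries.X, 0] : Fin 2 → PowerSeries R)) E1
    rw [MvPowerSeries.subst_mul hρ₁, MvPowerSeries.subst_mul hρ₁, mvsubst_subst hρ₁ hG, e1G, e1H₀,
      mvsubst_subst hρ₁ hX₁, e1X₁, subst_zero', PowerSeries.X_subst, hF'0] at this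
    exact this
  have A2 : F' * (1 + PowerSeries.X * PowerSeries.C a) = F * PowerSeries.C a := by
    have := congrArg (MvPowerSeries.subst (![0, PowerSeries.X] : Fin 2 → PowerSeries R)) E2
    have e0one : MvPowerSeries.subst (![0, PowerSeries.X] : Fin 2 → PowerSeries R)
        (1 : MvPowerSeries (Fin 2) R) = 1 := by
      rw [← MvPowerSeries.coe_substAlgHom hρ₀, map_one]
    rw [MvPowerSeries.subst_mul hρ₀, MvPowerSeries.subst_mul hρ₀, MvPowerSeries.subst_add hρ₀,
      MvPowerSeries.subst_mul hρ₀, mvsubst_subst hρ₀ hG, e0G, e0H₁, e0X₁,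
      mvsubst_subst hρ₀ hX₀, e0X₀, subst_zero', PowerSeries.X_subst, hF'0, e0one] at this
    exact this
  -- algebra
  have hFu : IsUnit F := by
    rw [PowerSeries.isUnit_iff_constantCoeff, h0]; exact isUnit_one
  have hCu : IsUnit (PowerSeries.C a : PowerSeries R) := by
    rw [PowerSeries.isUnit_iff_constantCoeff]; simpa using ha
  have hF'eq : F' = PowerSeries.C a := by
    rw [mul_comm F _] at A1
    exact hFu.mul_left_inj.mp A1
  rw [hF'eq, mul_comm F _] at A2
  have := hCu.mul_right_inj.mp A2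
  rw [← this]; ring

end Groth.Agent.Lib.Helper63.PSChain
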