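import Mathlib

/-!
# Wedge and contraction operators on the exterior powers of a finite free module `σ → A`
-/

universe u
open ExteriorAlgebra

namespace Groth.Agent.Lib.Helper63.Poincare

variable {A : Type u} [CommRing A] {σ : Type u} [Fintype σ] [DecidableEq σ]

/-- the standard basis vector -/
def e (A : Type u) [CommRing A] {σ : Type u} [DecidableEq σ] (i : σ) : σ → A := Pi.single i 1

/-- the coordinate form -/
def pr (A : Type u) [CommRing A] {σ : Type u} (i : σ) : Module.Dual A (σ → A) := LinearMap.proj i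

lemma pr_e (i j : σ) : pr A i (e A j) = if i = j then 1 else 0 := by
  simp only [pr, e, LinearMap.proj_apply, Pi.single_apply]

lemma sum_smul_e (a : σ → A) : ∑ j, a j • e A j = a := by
  ext i
  simp [e, Finset.sum_apply, Pi.single_apply]

/-- contraction lowers the degree -/
lemma contractLeft_mem (d : Module.Dual A (σ → A)) :
    ∀ (n : ℕ) (x : ExteriorAlgebra A (σ → A)), x ∈ ⋀[A]^(n + 1) (σ → A) →
      CliffordAlgebra.contractLeft d x ∈ ⋀[A]^n (σ → A) := by
  intro n
  induction n with
  | zero =>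
    intro x hx
    rw [ExteriorAlgebra.exteriorPower, zero_add, pow_one] at hx
    obtain ⟨a, rfl⟩ := hx
    rw [ExteriorAlgebra.exteriorPower, pow_zero]
    change CliffordAlgebra.contractLeft d (CliffordAlgebra.ι _ a) ∈ _
    rw [CliffordAlgebra.contractLeft_ι, Submodule.mem_one]
    exact ⟨d a, rfl⟩
  | succ n ih =>
    intro x hx
    rw [ExteriorAlgebra.exteriorPower, pow_succ'] at hx
    induction hx using Submodule.mul_induction_on' with
    | mem_mul_mem u hu v hv =>
      obtain ⟨a, rfl⟩ := hu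
      change CliffordAlgebra.contractLeft d (CliffordAlgebra.ι _ a * v) ∈ _
      rw [CliffordAlgebra.contractLeft_ι_mul]
      refine Submodule.sub_mem _ (Submodule.smul_mem _ _ hv) ?_
      have h1 := ih v hv
      rw [ExteriorAlgebra.exteriorPower, pow_succ']
      exact Submodule.mul_mem_mul ⟨a, rfl⟩ h1
    | add x hx y hy ihx ihy =>
      rw [map_add]
      exact Submodule.add_mem _ ihx ihy

lemma ι_mul_mem (a : σ → A) (n : ℕ) (x : ExteriorAlgebra A (σ → A)) (hx : x ∈ ⋀[A]^n (σ → A)) :
    ι A a * x ∈ ⋀[A]^(n + 1) (σ → A) := by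
  rw [ExteriorAlgebra.exteriorPower, pow_succ']
  exact Submodule.mul_mem_mul ⟨a, rfl⟩ hx

/-- wedge with `e_j` : `⋀^n → ⋀^(n+1)` -/
noncomputable def L (j : σ) (n : ℕ) : ↥(⋀[A]^n (σ → A)) →ₗ[A] ↥(⋀[A]^(n + 1) (σ → A)) :=
  LinearMap.codRestrict _ ((LinearMap.mulLeft A (ι A (e A j))).comp (Submodule.subtype _))
    (fun x => ι_mul_mem _ n x.1 x.2)

/-- contraction with the `i`-th coordinate : `⋀^(n+1) → ⋀^n` -/
noncomputable def C (i : σ) (n : ℕ) : ↥(⋀[A]^(n + 1) (σ → A)) →ₗ[A] ↥(⋀[A]^n (σ → A)) :=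
  LinearMap.codRestrict _ ((CliffordAlgebra.contractLeft (pr A i)).comp (Submodule.subtype _))
    (fun x => contractLeft_mem _ n x.1 x.2)

@[simp] lemma L_coe (j : σ) (n : ℕ) (x : ↥(⋀[A]^n (σ → A))) :
    ((L j n x : ↥(⋀[A]^(n + 1) (σ → A))) : ExteriorAlgebra A (σ → A)) = ι A (e A j) * x.1 := rfl

@[simp] lemma C_coe (i : σ) (n : ℕ) (x : ↥(⋀[A]^(n + 1) (σ → A))) :
    ((C i n x : ↥(⋀[A]^n (σ → A))) : ExteriorAlgebra A (σ → A)) =
      CliffordAlgebra.contractLeft (pr A i) x.1 := rfl

/-- the anticommutation relation -/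
theorem C_L (i j : σ) (n : ℕ) (x : ↥(⋀[A]^(n + 1) (σ → A))) :
    C i (n + 1) (L j (n + 1) x) = (if i = j then x else 0) - L j n (C i n x) := by
  apply Subtype.ext
  rw [C_coe, L_coe, Submodule.coe_sub, L_coe, C_coe]
  change CliffordAlgebra.contractLeft (pr A i) (CliffordAlgebra.ι _ (e A j) * x.1) = _
  rw [CliffordAlgebra.contractLeft_ι_mul, pr_e]
  split_ifs with h
  · rw [one_smul]
  · rw [zero_smul]
    rfl

/-- the number operator in the exterior algebra -/
lemma number_aux (n : ℕ) : ∀ (x : ExteriorAlgebra A (σ → A)), x ∈ ⋀[A]^n (σ → A) →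
    ∑ j, ι A (e A j) * CliffordAlgebra.contractLeft (pr A j) x = (n : A) • x := by
  induction n with
  | zero =>
    intro x hx
    rw [ExteriorAlgebra.exteriorPower, pow_zero, Submodule.mem_one] at hx
    obtain ⟨a, rfl⟩ := hx
    simp only [Nat.cast_zero, zero_smul]
    refine Finset.sum_eq_zero (fun j _ => ?_)
    have : CliffordAlgebra.contractLeft (pr A j) ((algebraMap A (ExteriorAlgebra A (σ → A))) a) = 0 :=
      CliffordAlgebra.contractLeft_algebraMap _ _ a
    change _ * CliffordAlgebra.contractLeft (pr A j) ((algebraMap A (ExteriorAlgebra A (σ → A))) a) = 0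
    rw [this, mul_zero]
  | succ n ih =>
    intro x hx
    rw [ExteriorAlgebra.exteriorPower, pow_succ'] at hx
    induction hx using Submodule.mul_induction_on' with
    | mem_mul_mem u hu v hv =>
      obtain ⟨a, rfl⟩ := hu
      have h1 : ∀ j, ι A (e A j) * CliffordAlgebra.contractLeft (pr A j) (ι A a * v) =
          a j • (ι A (e A j) * v) + ι A a * (ι A (e A j) * CliffordAlgebra.contractLeft (pr A j) v) := by
        intro j
        change _ * CliffordAlgebra.contractLeft (pr A j) (CliffordAlgebra.ι _ a * v) = _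
        rw [CliffordAlgebra.contractLeft_ι_mul, mul_sub, mul_smul_comm]
        have h2 : ι A (e A j) * (ι A a * CliffordAlgebra.contractLeft (pr A j) v) =
            - (ι A a * (ι A (e A j) * CliffordAlgebra.contractLeft (pr A j) v)) := by
          rw [← mul_assoc, ← mul_assoc, ← neg_mul]
          congr 1
          rw [eq_neg_iff_add_eq_zero]
          exact ExteriorAlgebra.ι_add_mul_swap _ _
        change pr A j a • _ - ι A (e A j) * (ι A a * _) = _
        rw [h2, sub_neg_eq_add]
        rfl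
      rw [Finset.sum_congr rfl (fun j _ => h1 j), Finset.sum_add_distrib, ← Finset.mul_sum, ih v hv]
      have h3 : ∑ j, a j • (ι A (e A j) * v) = ι A a * v := by
        conv_rhs => rw [← sum_smul_e a, map_sum, Finset.sum_mul]
        refine Finset.sum_congr rfl (fun j _ => ?_)
        rw [map_smul, smul_mul_assoc]
      rw [h3, mul_smul_comm, Nat.cast_succ, add_smul, one_smul, add_comm]
    | add x hx y hy ihx ihy =>
      simp only [map_add, mul_add, Finset.sum_add_distrib, ihx, ihy, smul_add]

theorem number (n : ℕ) (x : ↥(⋀[A]^(n + 1) (σ → A))) :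
    ∑ j, L j n (C j n x) = ((n + 1 : ℕ) : A) • x := by
  apply Subtype.ext
  rw [AddSubmonoidClass.coe_finsetSum, Submodule.coe_smul]
  simp only [L_coe, C_coe]
  exact number_aux (n + 1) x.1 x.2

end Groth.Agent.Lib.Helper63.Poincare
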