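import Mathlib
import Groth.Agent.Lib.Helper63.Poincare1

/-!
# Coefficientwise operators on differential forms with coefficients in a `k`-algebra `A`
-/

universe u
open ExteriorAlgebra

namespace Groth.Agent.Lib.Helper63.Poincare

variable {k A : Type u} [CommRing k] [CommRing A] [Algebra k A]
  {σ : Type u} [Fintype σ] [LinearOrder σ]

/-- the standard basis of `⋀^n (σ → A)` -/
noncomputable def Bn (A : Type u) [CommRing A] (σ : Type u) [Fintype σ] [LinearOrder σ] (n : ℕ) :
    Module.Basis (Set.powersetCard σ n) A ↥(⋀[A]^n (σ → A)) :=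
  (Pi.basisFun A σ).exteriorPower n

/-- the coefficientwise extension of a `k`-linear operator on `A` -/
noncomputable def tilde (T : A →ₗ[k] A) (n : ℕ) :
    ↥(⋀[A]^n (σ → A)) →ₗ[k] ↥(⋀[A]^n (σ → A)) :=
  ((Bn A σ n).repr.symm.toLinearMap.restrictScalars k) ∘ₗ (Finsupp.mapRange.linearMap T) ∘ₗ
    ((Bn A σ n).repr.toLinearMap.restrictScalars k)

lemma repr_tilde (T : A →ₗ[k] A) (n : ℕ) (ω : ↥(⋀[A]^n (σ → A))) (I : Set.powersetCard σ n) :
    (Bn A σ n).repr (tilde T n ω) I = T ((Bn A σ n).repr ω I) := by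
  simp [tilde]

lemma tilde_ext {n : ℕ} {ω ω' : ↥(⋀[A]^n (σ → A))}
    (h : ∀ I, (Bn A σ n).repr ω I = (Bn A σ n).repr ω' I) : ω = ω' :=
  (Bn A σ n).repr.injective (Finsupp.ext h)

lemma tilde_comp (T T' : A →ₗ[k] A) (n : ℕ) (ω : ↥(⋀[A]^n (σ → A))) :
    tilde (T ∘ₗ T') n ω = tilde T n (tilde T' n ω) :=
  tilde_ext (fun I => by simp only [repr_tilde, LinearMap.comp_apply])

lemma tilde_add (T T' : A →ₗ[k] A) (n : ℕ) (ω : ↥(⋀[A]^n (σ → A))) :
    tilde (T + T') n ω = tilde T n ω + tilde T' n ω :=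
  tilde_ext (fun I => by simp only [repr_tilde, LinearMap.add_apply, map_add, Finsupp.add_apply])

lemma tilde_sum {ι : Type*} (s : Finset ι) (T : ι → A →ₗ[k] A) (n : ℕ) (ω : ↥(⋀[A]^n (σ → A))) :
    tilde (∑ i ∈ s, T i) n ω = ∑ i ∈ s, tilde (T i) n ω :=
  tilde_ext (fun I => by
    simp only [repr_tilde, LinearMap.sum_apply, map_sum, Finsupp.finsetSum_apply])

lemma tilde_id (n : ℕ) (ω : ↥(⋀[A]^n (σ → A))) : tilde (LinearMap.id : A →ₗ[k] A) n ω = ω :=
  tilde_ext (fun I => by simp only [repr_tilde, LinearMap.id_apply])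

lemma tilde_mulLeft (f : A) (n : ℕ) (ω : ↥(⋀[A]^n (σ → A))) :
    tilde (LinearMap.mulLeft k f) n ω = f • ω :=
  tilde_ext (fun I => by
    simp only [repr_tilde, LinearMap.mulLeft_apply, map_smul, Finsupp.smul_apply, smul_eq_mul])

lemma tilde_natCast_smul (m : ℕ) (T : A →ₗ[k] A) (n : ℕ) (ω : ↥(⋀[A]^n (σ → A))) :
    tilde ((m : k) • T) n ω = (m : A) • tilde T n ω :=
  tilde_ext (fun I => by
    simp only [repr_tilde, LinearMap.smul_apply, map_smul, Finsupp.smul_apply, smul_eq_mul]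
    rw [Nat.cast_smul_eq_nsmul, nsmul_eq_mul])

/-- flat forms: `k`-combinations of wedges of basis vectors -/
noncomputable def Fl (k : Type u) [CommRing k] (A : Type u) [CommRing A] [Algebra k A]
    (σ : Type u) [Fintype σ] [LinearOrder σ] (n : ℕ) : Submodule k ↥(⋀[A]^n (σ → A)) :=
  Submodule.span k (Set.range fun v : Fin n → σ => exteriorPower.ιMulti A n (fun r => e A (v r)))

lemma repr_wedge (n : ℕ) (v : Fin n → σ) (I : Set.powersetCard σ n) :
    ∃ c : k, (Bn A σ n).repr (exteriorPower.ιMulti A n (fun r => e A (v r))) I = algebraMap k A c := by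
  refine ⟨(Matrix.of fun i j : Fin n =>
    if Set.powersetCard.ofFinEmbEquiv.symm I j = v i then (1 : k) else 0).det, ?_⟩
  rw [Bn, exteriorPower.basis_repr_apply, exteriorPower.ιMultiDual_apply_ιMulti, RingHom.map_det]
  congr 1
  ext i j
  simp only [Matrix.of_apply, RingHom.mapMatrix_apply, Matrix.map_apply, Module.Basis.coord_apply,
    Pi.basisFun_repr, e, Pi.single_apply]
  split_ifs <;> simp

lemma repr_flat {n : ℕ} {ω : ↥(⋀[A]^n (σ → A))} (hω : ω ∈ Fl k A σ n) (I : Set.powersetCard σ n) :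
    ∃ c : k, (Bn A σ n).repr ω I = algebraMap k A c := by
  induction hω using Submodule.span_induction with
  | mem x hx =>
    obtain ⟨v, rfl⟩ := hx
    exact repr_wedge n v I
  | zero => exact ⟨0, by simp⟩
  | add x y _ _ hx hy =>
    obtain ⟨c, hc⟩ := hx
    obtain ⟨c', hc'⟩ := hy
    exact ⟨c + c', by rw [map_add, Finsupp.add_apply, hc, hc', map_add]⟩
  | smul r x _ hx =>
    obtain ⟨c, hc⟩ := hx
    refine ⟨r * c, ?_⟩
    rw [← algebraMap_smul A r x, map_smul, Finsupp.smul_apply, hc, smul_eq_mul, map_mul]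

lemma tilde_smul_flat (T : A →ₗ[k] A) {n : ℕ} {lam : ↥(⋀[A]^n (σ → A))} (hl : lam ∈ Fl k A σ n)
    (f : A) : tilde T n (f • lam) = T f • lam := by
  apply tilde_ext
  intro I
  obtain ⟨c, hc⟩ := repr_flat hl I
  rw [repr_tilde, map_smul, map_smul, Finsupp.smul_apply, Finsupp.smul_apply, hc, smul_eq_mul,
    smul_eq_mul, mul_comm, ← Algebra.smul_def, map_smul, Algebra.smul_def, mul_comm]

lemma basis_mem_Fl (n : ℕ) (I : Set.powersetCard σ n) : Bn A σ n I ∈ Fl k A σ n := by
  apply Submodule.subset_span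
  refine ⟨fun r => Set.powersetCard.ofFinEmbEquiv.symm I r, ?_⟩
  rw [Bn, exteriorPower.basis_apply, exteriorPower.ιMulti_family]
  have : (fun r => e A (Set.powersetCard.ofFinEmbEquiv.symm I r)) =
      (⇑(Pi.basisFun A σ) ∘ ⇑(Set.powersetCard.ofFinEmbEquiv.symm I)) := by
    funext r
    simp only [Function.comp_apply, Pi.basisFun_apply, e]
  exact congrArg (exteriorPower.ιMulti A n) this

lemma tilde_smul_basis (T : A →ₗ[k] A) (n : ℕ) (I : Set.powersetCard σ n) (f : A) :
    tilde T n (f • Bn A σ n I) = T f • Bn A σ n I :=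
  tilde_smul_flat T (basis_mem_Fl n I) f

/-- an `A`-linear map preserving flat forms commutes with coefficientwise operators -/
theorem tilde_comm (T : A →ₗ[k] A) {n m : ℕ} (U : ↥(⋀[A]^n (σ → A)) →ₗ[A] ↥(⋀[A]^m (σ → A)))
    (hU : ∀ I, U (Bn A σ n I) ∈ Fl k A σ m) (ω : ↥(⋀[A]^n (σ → A))) :
    tilde T m (U ω) = U (tilde T n ω) := by
  obtain ⟨l, rfl⟩ := (Bn A σ n).repr.symm.surjective ω
  induction l using Finsupp.induction_linear with
  | zero => simp
  | add f g hf hg => simp only [map_add, hf, hg]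
  | single I f =>
    rw [Module.Basis.repr_symm_single, map_smul, tilde_smul_flat T (hU I), tilde_smul_basis, map_smul]

/-- additive maps agreeing on `f • b_I` agree -/
theorem eq_of_basis {N : Type*} [AddCommGroup N] {n : ℕ} (F G : ↥(⋀[A]^n (σ → A)) →+ N)
    (h : ∀ (I : Set.powersetCard σ n) (f : A), F (f • Bn A σ n I) = G (f • Bn A σ n I))
    (ω : ↥(⋀[A]^n (σ → A))) : F ω = G ω := by
  obtain ⟨l, rfl⟩ := (Bn A σ n).repr.symm.surjective ω
  induction l using Finsupp.induction_linear with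
  | zero => simp
  | add f g hf hg => simp only [map_add, hf, hg]
  | single I f =>
    rw [Module.Basis.repr_symm_single]
    exact h I f

end Groth.Agent.Lib.Helper63.Poincare
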