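import Mathlib
import Groth.Agent.Lib.Helper63.Poincare1
import Groth.Agent.Lib.Helper63.Poincare2

/-!
# Wedge and contraction preserve flat forms; the Cartan homotopy formula
-/

universe u
open ExteriorAlgebra

namespace Groth.Agent.Lib.Helper63.Poincare

variable {k A : Type u} [CommRing k] [CommRing A] [Algebra k A]
  {σ : Type u} [Fintype σ] [LinearOrder σ]

lemma L_wedge (j : σ) (n : ℕ) (v : Fin n → σ) :
    L j n (exteriorPower.ιMulti A n (fun r => e A (v r))) =
      exteriorPower.ιMulti A (n + 1) (fun r => e A ((Fin.cons j v : Fin (n + 1) → σ) r)) := by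
  apply Subtype.ext
  rw [L_coe, exteriorPower.ιMulti_apply_coe, exteriorPower.ιMulti_apply_coe,
    ExteriorAlgebra.ιMulti_succ_apply]
  rfl

lemma L_mem_Fl (j : σ) (n : ℕ) {lam : ↥(⋀[A]^n (σ → A))} (hl : lam ∈ Fl k A σ n) :
    L j n lam ∈ Fl k A σ (n + 1) := by
  induction hl using Submodule.span_induction with
  | mem x hx =>
    obtain ⟨v, rfl⟩ := hx
    rw [L_wedge]
    exact Submodule.subset_span ⟨_, rfl⟩
  | zero => rw [map_zero]; exact Submodule.zero_mem _
  | add x y _ _ hx hy => rw [map_add]; exact Submodule.add_mem _ hx hy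
  | smul r x _ hx =>
    rw [← algebraMap_smul A r x, map_smul, algebraMap_smul]
    exact Submodule.smul_mem _ _ hx

lemma wedge_succ (n : ℕ) (v : Fin (n + 1) → σ) :
    exteriorPower.ιMulti A (n + 1) (fun r => e A (v r)) =
      L (v 0) n (exteriorPower.ιMulti A n (fun r => e A (Fin.tail v r))) := by
  rw [L_wedge]
  congr 1
  funext r
  rw [Fin.cons_self_tail]

lemma C_wedge_mem_Fl (i : σ) : ∀ (n : ℕ) (v : Fin (n + 1) → σ),
    C i n (exteriorPower.ιMulti A (n + 1) (fun r => e A (v r))) ∈ Fl k A σ n := by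
  intro n
  induction n with
  | zero =>
    intro v
    have h1 : C i 0 (exteriorPower.ιMulti A (0 + 1) (fun r => e A (v r))) =
        (if i = v 0 then (1 : k) else 0) • exteriorPower.ιMulti A 0 (fun r => e A (Fin.elim0 r)) := by
      apply Subtype.ext
      rw [C_coe, exteriorPower.ιMulti_apply_coe, ExteriorAlgebra.ιMulti_succ_apply,
        ExteriorAlgebra.ιMulti_zero_apply, mul_one, Submodule.coe_smul_of_tower,
        exteriorPower.ιMulti_apply_coe, ExteriorAlgebra.ιMulti_zero_apply]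
      change CliffordAlgebra.contractLeft (pr A i) (CliffordAlgebra.ι _ (e A (v 0))) = _
      rw [CliffordAlgebra.contractLeft_ι, pr_e]
      split_ifs <;> simp
    rw [h1]
    exact Submodule.smul_mem _ _ (Submodule.subset_span ⟨_, rfl⟩)
  | succ n ih =>
    intro v
    rw [wedge_succ (n + 1) v, C_L]
    refine Submodule.sub_mem _ ?_ (L_mem_Fl _ _ (ih _))
    split_ifs
    · exact Submodule.subset_span ⟨_, rfl⟩
    · exact Submodule.zero_mem _

lemma C_mem_Fl (i : σ) (n : ℕ) {lam : ↥(⋀[A]^(n + 1) (σ → A))} (hl : lam ∈ Fl k A σ (n + 1)) :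
    C i n lam ∈ Fl k A σ n := by
  induction hl using Submodule.span_induction with
  | mem x hx =>
    obtain ⟨v, rfl⟩ := hx
    exact C_wedge_mem_Fl i n v
  | zero => rw [map_zero]; exact Submodule.zero_mem _
  | add x y _ _ hx hy => rw [map_add]; exact Submodule.add_mem _ hx hy
  | smul r x _ hx =>
    rw [← algebraMap_smul A r x, map_smul, algebraMap_smul]
    exact Submodule.smul_mem _ _ hx

lemma tilde_L (T : A →ₗ[k] A) (j : σ) (n : ℕ) (ω : ↥(⋀[A]^n (σ → A))) :
    tilde T (n + 1) (L j n ω) = L j n (tilde T n ω) :=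
  tilde_comm T (L j n) (fun I => L_mem_Fl j n (basis_mem_Fl n I)) ω

lemma tilde_C (T : A →ₗ[k] A) (i : σ) (n : ℕ) (ω : ↥(⋀[A]^(n + 1) (σ → A))) :
    tilde T n (C i n ω) = C i n (tilde T (n + 1) ω) :=
  tilde_comm T (C i n) (fun I => C_mem_Fl i n (basis_mem_Fl (n + 1) I)) ω

section Cartan

variable (x : σ → A) (D : σ → A →ₗ[k] A)

/-- the exterior derivative built from the coefficientwise partial derivatives -/
noncomputable def extD (n : ℕ) : ↥(⋀[A]^n (σ → A)) →ₗ[k] ↥(⋀[A]^(n + 1) (σ → A)) :=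
  ∑ j, ((L j n).restrictScalars k) ∘ₗ tilde (D j) n

/-- contraction with the Euler vector field -/
noncomputable def iota (n : ℕ) : ↥(⋀[A]^(n + 1) (σ → A)) →ₗ[A] ↥(⋀[A]^n (σ → A)) :=
  ∑ i, x i • C i n

/-- the Euler operator on `A` -/
noncomputable def euler : A →ₗ[k] A := ∑ i, LinearMap.mulLeft k (x i) ∘ₗ D i

lemma extD_apply (n : ℕ) (ω : ↥(⋀[A]^n (σ → A))) :
    extD D n ω = ∑ j, L j n (tilde (D j) n ω) := by
  simp [extD, LinearMap.sum_apply]

lemma iota_apply (n : ℕ) (ω : ↥(⋀[A]^(n + 1) (σ → A))) :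
    iota x n ω = ∑ i, x i • C i n ω := by
  simp [iota, LinearMap.sum_apply]

variable (hD : ∀ (i j : σ) (f : A), D j (x i * f) = (if i = j then f else 0) + x i * D j f)

include hD in
lemma nabla_smul_x (i j : σ) (n : ℕ) (η : ↥(⋀[A]^n (σ → A))) :
    tilde (D j) n (x i • η) = (if i = j then η else 0) + x i • tilde (D j) n η := by
  have h1 : D j ∘ₗ LinearMap.mulLeft k (x i) =
      (if i = j then LinearMap.id else 0) + LinearMap.mulLeft k (x i) ∘ₗ D j := by
    ext f
    simp only [LinearMap.comp_apply, LinearMap.mulLeft_apply, LinearMap.add_apply, hD]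
    split_ifs <;> simp
  have h2 := tilde_comp (D j) (LinearMap.mulLeft k (x i)) n η
  rw [tilde_mulLeft] at h2
  rw [← h2, h1, tilde_add, tilde_comp, tilde_mulLeft]
  congr 1
  split_ifs
  · exact tilde_id n η
  · apply tilde_ext
    intro I
    simp [repr_tilde]

include hD in
/-- Cartan's formula `d ι_E + ι_E d = E + (p+1)` on `(p+1)`-forms. -/
theorem cartan (p : ℕ) (ω : ↥(⋀[A]^(p + 1) (σ → A))) :
    extD D p (iota x p ω) + iota x (p + 1) (extD D (p + 1) ω) =
      tilde (euler x D) (p + 1) ω + ((p + 1 : ℕ) : A) • ω := by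
  have h1 : extD D p (iota x p ω) =
      ∑ j, L j p (C j p ω) + ∑ j, ∑ i, x i • L j p (C i p (tilde (D j) (p + 1) ω)) := by
    rw [extD_apply, ← Finset.sum_add_distrib]
    refine Finset.sum_congr rfl (fun j _ => ?_)
    rw [iota_apply, map_sum, map_sum]
    have : ∀ i, L j p (tilde (D j) p (x i • C i p ω)) =
        (if i = j then L j p (C i p ω) else 0) + x i • L j p (C i p (tilde (D j) (p + 1) ω)) := by
      intro i
      rw [nabla_smul_x x D hD, map_add, map_smul, tilde_C]
      congr 1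
      split_ifs <;> simp
    rw [Finset.sum_congr rfl (fun i _ => this i), Finset.sum_add_distrib]
    congr 1
    rw [Finset.sum_ite_eq' Finset.univ j]
    simp
  have h2 : iota x (p + 1) (extD D (p + 1) ω) =
      ∑ i, x i • tilde (D i) (p + 1) ω - ∑ j, ∑ i, x i • L j p (C i p (tilde (D j) (p + 1) ω)) := by
    rw [iota_apply, extD_apply]
    have : ∀ i, x i • C i (p + 1) (∑ j, L j (p + 1) (tilde (D j) (p + 1) ω)) =
        x i • tilde (D i) (p + 1) ω - ∑ j, x i • L j p (C i p (tilde (D j) (p + 1) ω)) := by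
      intro i
      rw [map_sum, Finset.sum_congr rfl (fun j _ => C_L i j p _), Finset.sum_sub_distrib,
        Finset.sum_ite_eq Finset.univ i, smul_sub, Finset.smul_sum]
      simp
    rw [Finset.sum_congr rfl (fun i _ => this i), Finset.sum_sub_distrib, Finset.sum_comm]
  rw [h1, h2, number]
  have h3 : tilde (euler x D) (p + 1) ω = ∑ i, x i • tilde (D i) (p + 1) ω := by
    rw [euler, tilde_sum]
    refine Finset.sum_congr rfl (fun i _ => ?_)
    rw [tilde_comp, tilde_mulLeft]
  rw [h3]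
  abel

end Cartan

end Groth.Agent.Lib.Helper63.Poincare
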