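import Mathlib
import Groth.Agent.Lib.Helper63.Poincare1
import Groth.Agent.Lib.Helper63.Poincare2
import Groth.Agent.Lib.Helper63.Poincare3

/-!
# The formal Poincaré lemma: homotopy operator
-/

universe u
open ExteriorAlgebra

namespace Groth.Agent.Lib.Helper63.Poincare

section abstract

variable {k A : Type u} [CommRing k] [CommRing A] [Algebra k A]
  {σ : Type u} [Fintype σ] [LinearOrder σ]
  (x : σ → A) (D : σ → A →ₗ[k] A)
  (hD : ∀ (i j : σ) (f : A), D j (x i * f) = (if i = j then f else 0) + x i * D j f)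
  (S : ℕ → A →ₗ[k] A)
  (hS1 : ∀ m : ℕ, 1 ≤ m → euler x D ∘ₗ S m + (m : k) • S m = LinearMap.id)
  (hS2 : ∀ (m : ℕ) (j : σ), D j ∘ₗ S m = S (m + 1) ∘ₗ D j)

include hS2 in
lemma extD_tilde_S (m n : ℕ) (ω : ↥(⋀[A]^n (σ → A))) :
    extD D n (tilde (S m) n ω) = tilde (S (m + 1)) (n + 1) (extD D n ω) := by
  rw [extD_apply, extD_apply, map_sum]
  refine Finset.sum_congr rfl (fun j _ => ?_)
  rw [tilde_L, ← tilde_comp, ← tilde_comp, hS2]

include hD hS1 hS2 in
/-- closed forms of positive degree are exact -/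
theorem exact_of_closed (p : ℕ) (ω : ↥(⋀[A]^(p + 1) (σ → A))) (hω : extD D (p + 1) ω = 0) :
    extD D p (iota x p (tilde (S (p + 1)) (p + 1) ω)) = ω := by
  have h1 : extD D (p + 1) (tilde (S (p + 1)) (p + 1) ω) = 0 := by
    rw [extD_tilde_S D S hS2, hω, map_zero]
  have h2 := cartan x D hD p (tilde (S (p + 1)) (p + 1) ω)
  rw [h1, map_zero, add_zero] at h2
  rw [h2, ← tilde_comp, ← tilde_natCast_smul, ← tilde_add, hS1 (p + 1) (Nat.succ_pos p), tilde_id]

end abstract

section concrete

variable {k : Type u} [Field k] [CharZero k] {σ : Type u} [Fintype σ] [LinearOrder σ]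

open MvPowerSeries

/-- divide the coefficient of `x^d` by `|d| + m` -/
noncomputable def Sop (k : Type u) [Field k] (σ : Type u) (m : ℕ) :
    MvPowerSeries σ k →ₗ[k] MvPowerSeries σ k where
  toFun f := fun d => coeff d f * ((d.degree + m : ℕ) : k)⁻¹
  map_add' f g := by
    funext d
    change coeff d (f + g) * _ = coeff d f * _ + coeff d g * _
    rw [map_add, add_mul]
  map_smul' r f := by
    funext d
    change coeff d (r • f) * _ = r • (coeff d f * _)
    rw [map_smul, smul_eq_mul, smul_eq_mul, mul_assoc]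

lemma coeff_Sop (m : ℕ) (f : MvPowerSeries σ k) (d : σ →₀ ℕ) :
    coeff d (Sop k σ m f) = coeff d f * ((d.degree + m : ℕ) : k)⁻¹ := rfl

/-- the partial derivatives as `k`-linear maps -/
noncomputable def Dop (k : Type u) [Field k] (σ : Type u) (j : σ) :
    MvPowerSeries σ k →ₗ[k] MvPowerSeries σ k := (pderiv k j).toLinearMap

lemma Dop_apply (j : σ) (f : MvPowerSeries σ k) : Dop k σ j f = pderiv k j f := rfl

lemma hD_concrete (i j : σ) (f : MvPowerSeries σ k) :
    Dop k σ j ((X i : MvPowerSeries σ k) * f) = (if i = j then f else 0) + X i * Dop k σ j f := by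
  rw [Dop_apply, Dop_apply, Derivation.leibniz, pderiv_X, smul_eq_mul, smul_eq_mul, add_comm]
  congr 1
  by_cases h : i = j
  · subst h
    simp
  · rw [if_neg h, Pi.single_apply, if_neg h, mul_zero]

lemma coeff_X_mul_pderiv (i : σ) (g : MvPowerSeries σ k) (d : σ →₀ ℕ) :
    coeff d ((X i : MvPowerSeries σ k) * pderiv k i g) = (d i : k) * coeff d g := by
  rw [X_def, coeff_monomial_mul]
  split_ifs with h
  · have hi : 1 ≤ d i := by
      have := h i
      simpa using this
    rw [one_mul, coeff_pderiv, tsub_add_cancel_of_le h, mul_comm]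
    congr 1
    have : ((d - Finsupp.single i 1 : σ →₀ ℕ) i : ℕ) + 1 = d i := by
      rw [Finsupp.tsub_apply, Finsupp.single_eq_same]
      omega
    exact_mod_cast this
  · have hi : d i = 0 := by
      by_contra hne
      apply h
      intro s
      by_cases hs : s = i
      · subst hs
        simp only [Finsupp.single_eq_same]
        omega
      · rw [Finsupp.single_eq_of_ne hs]
        exact Nat.zero_le _
    rw [hi, Nat.cast_zero, zero_mul]

lemma coeff_euler (g : MvPowerSeries σ k) (d : σ →₀ ℕ) :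
    coeff d (euler (fun i => (X i : MvPowerSeries σ k)) (Dop k σ) g) =
      (d.degree : k) * coeff d g := by
  rw [euler, LinearMap.sum_apply, map_sum]
  simp only [LinearMap.comp_apply, LinearMap.mulLeft_apply, Dop_apply, coeff_X_mul_pderiv]
  rw [← Finset.sum_mul, Finsupp.degree_eq_sum, Nat.cast_sum]

lemma hS1_concrete (m : ℕ) (hm : 1 ≤ m) :
    euler (fun i => (X i : MvPowerSeries σ k)) (Dop k σ) ∘ₗ Sop k σ m + (m : k) • Sop k σ m =
      LinearMap.id := by
  ext f d
  simp only [LinearMap.add_apply, LinearMap.comp_apply, LinearMap.smul_apply, LinearMap.id_apply,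
    map_add, coeff_euler, map_smul, coeff_Sop, smul_eq_mul]
  have hne : ((d.degree + m : ℕ) : k) ≠ 0 := by
    have : d.degree + m ≠ 0 := by omega
    exact_mod_cast this
  rw [← add_mul, ← mul_assoc, mul_comm _ (coeff d f), mul_assoc]
  have : ((d.degree : k) + (m : k)) = ((d.degree + m : ℕ) : k) := by push_cast; ring
  rw [this, mul_inv_cancel₀ hne, mul_one]

lemma hS2_concrete (m : ℕ) (j : σ) :
    Dop k σ j ∘ₗ Sop k σ m = Sop k σ (m + 1) ∘ₗ Dop k σ j := by
  ext f d
  simp only [LinearMap.comp_apply, Dop_apply, coeff_pderiv, coeff_Sop]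
  have : (d + Finsupp.single j 1).degree + m = d.degree + (m + 1) := by
    rw [map_add, Finsupp.degree_single]
    ring
  rw [this]
  ring

end concrete

end Groth.Agent.Lib.Helper63.Poincare
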