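import Mathlib
import Groth.Prelude.Def_DeRham
import Groth.Agent.Lib.Helper63.Poincare1
import Groth.Agent.Lib.Helper63.Poincare2
import Groth.Agent.Lib.Helper63.Poincare3
import Groth.Agent.Lib.Helper63.Poincare4

/-!
# The formal Poincaré lemma: identification of the de Rham differential
-/

universe u
open ExteriorAlgebra

namespace Groth.Agent.Lib.Helper63.Poincare

variable {k : Type u} [Field k] [CharZero k] {σ : Type u} [Fintype σ] [LinearOrder σ]

open MvPowerSeries

lemma delta_X (δ : Derivation k (MvPowerSeries σ k) (σ → MvPowerSeries σ k))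
    (hδ : ∀ (f : MvPowerSeries σ k) (i : σ), δ f i = MvPowerSeries.pderiv k i f) (s : σ) :
    δ (X s) = e (MvPowerSeries σ k) s := by
  funext j
  rw [hδ, pderiv_X, e, Pi.single_apply, Pi.single_apply]
  by_cases h : j = s
  · subst h; simp
  · rw [if_neg (Ne.symm h), if_neg h]

lemma delta_eq_sum (δ : Derivation k (MvPowerSeries σ k) (σ → MvPowerSeries σ k))
    (hδ : ∀ (f : MvPowerSeries σ k) (i : σ), δ f i = MvPowerSeries.pderiv k i f)
    (f : MvPowerSeries σ k) :
    δ f = ∑ j, Dop k σ j f • e (MvPowerSeries σ k) j := by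
  rw [← sum_smul_e (δ f)]
  refine Finset.sum_congr rfl (fun j _ => ?_)
  rw [hδ, Dop_apply]

theorem d_eq_extD (δ : Derivation k (MvPowerSeries σ k) (σ → MvPowerSeries σ k))
    (hδ : ∀ (f : MvPowerSeries σ k) (i : σ), δ f i = MvPowerSeries.pderiv k i f)
    (d : ∀ p : ℕ, ↥(⋀[MvPowerSeries σ k]^p (σ → MvPowerSeries σ k)) →ₗ[k]
      ↥(⋀[MvPowerSeries σ k]^(p + 1) (σ → MvPowerSeries σ k)))
    (hd : DeRham.IsRule δ d) (p : ℕ)
    (ω : ↥(⋀[MvPowerSeries σ k]^p (σ → MvPowerSeries σ k))) :
    d p ω = extD (Dop k σ) p ω := by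
  refine eq_of_basis (d p).toAddMonoidHom (extD (Dop k σ) p).toAddMonoidHom ?_ ω
  intro I f
  change d p (f • Bn _ σ p I) = extD (Dop k σ) p (f • Bn _ σ p I)
  have hB : Bn (MvPowerSeries σ k) σ p I =
      exteriorPower.ιMulti (MvPowerSeries σ k) p
        (fun r => e (MvPowerSeries σ k) (Set.powersetCard.ofFinEmbEquiv.symm I r)) := by
    rw [Bn, exteriorPower.basis_apply, exteriorPower.ιMulti_family]
    refine congrArg (exteriorPower.ιMulti (MvPowerSeries σ k) p) ?_
    funext r
    simp only [Function.comp_apply, Pi.basisFun_apply, e]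
  have hgen : f • Bn (MvPowerSeries σ k) σ p I =
      DeRham.gen δ p f (fun r => X (Set.powersetCard.ofFinEmbEquiv.symm I r)) := by
    rw [DeRham.gen, hB]
    congr 2
    funext r
    rw [delta_X δ hδ]
  rw [hgen, hd p f, ← hgen, extD_apply]
  have h1 : ∀ j, L j p (tilde (Dop k σ j) p (f • Bn (MvPowerSeries σ k) σ p I)) =
      Dop k σ j f • L j p (Bn (MvPowerSeries σ k) σ p I) := by
    intro j
    rw [tilde_smul_basis, map_smul]
  rw [Finset.sum_congr rfl (fun j _ => h1 j)]
  apply Subtype.ext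
  rw [exteriorPower.ιMulti_apply_coe, ExteriorAlgebra.ιMulti_succ_apply,
    AddSubmonoidClass.coe_finsetSum]
  simp only [Submodule.coe_smul, L_coe, hB, exteriorPower.ιMulti_apply_coe]
  have h2 : (Fin.cons (δ f) (fun i => δ (X (Set.powersetCard.ofFinEmbEquiv.symm I i))) :
      Fin (p + 1) → σ → MvPowerSeries σ k) 0 = δ f := rfl
  have h3 : Matrix.vecTail (Fin.cons (δ f) (fun i => δ (X (Set.powersetCard.ofFinEmbEquiv.symm I i))) :
      Fin (p + 1) → σ → MvPowerSeries σ k) =
      fun r => e (MvPowerSeries σ k) (Set.powersetCard.ofFinEmbEquiv.symm I r) := by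
    funext r
    simp only [Matrix.vecTail, Function.comp_apply, Fin.cons_succ]
    rw [delta_X δ hδ]
  rw [h2, h3, delta_eq_sum δ hδ f, map_sum, Finset.sum_mul]
  refine Finset.sum_congr rfl (fun j _ => ?_)
  rw [map_smul, smul_mul_assoc]

end Groth.Agent.Lib.Helper63.Poincare
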