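import Mathlib

/-!
# `Proj` of a surjective graded ring hom with nil kernel is bijective on points.
-/

universe u
open HomogeneousIdeal AlgebraicGeometry

namespace Groth.Agent.Lib.Helper63.ProjBij

variable {A C σ τ : Type*} [CommRing A] [SetLike σ A] [AddSubgroupClass σ A]
  [CommRing C] [SetLike τ C] [AddSubgroupClass τ C]
  {𝒜 : ℕ → σ} {𝒞 : ℕ → τ} [GradedRing 𝒜] [GradedRing 𝒞]

theorem comap_bijective (ρ : 𝒞 →+*ᵍ 𝒜) (hsurj : Function.Surjective ρ)
    (hnil : ∀ x : C, ρ x = 0 → IsNilpotent x) (hirr : 𝒜₊ ≤ 𝒞₊.map ρ) :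
    Function.Bijective (ProjectiveSpectrum.comap ρ hirr) := by
  constructor
  · intro p p' h
    have h1 : (ProjectiveSpectrum.comap ρ hirr p).asHomogeneousIdeal =
        (ProjectiveSpectrum.comap ρ hirr p').asHomogeneousIdeal := by rw [h]
    apply ProjectiveSpectrum.ext
    apply HomogeneousIdeal.ext
    ext a
    obtain ⟨c, rfl⟩ := hsurj a
    have h2 : ∀ r : ProjectiveSpectrum 𝒜, ρ c ∈ r.asHomogeneousIdeal.toIdeal ↔
        c ∈ (ProjectiveSpectrum.comap ρ hirr r).asHomogeneousIdeal.toIdeal := fun r => Iff.rfl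
    rw [h2 p, h2 p', h1]
  · intro q
    have hker : RingHom.ker ρ.toRingHom ≤ q.asHomogeneousIdeal.toIdeal := by
      intro x hx
      obtain ⟨n, hn⟩ := hnil x hx
      exact q.isPrime.mem_of_pow_mem n (hn ▸ Ideal.zero_mem _)
    have hsurj' : Function.Surjective ρ.toRingHom := hsurj
    have hprime : ((q.asHomogeneousIdeal.map ρ).toIdeal).IsPrime := by
      rw [HomogeneousIdeal.toIdeal_map]
      exact Ideal.map_isPrime_of_surjective (f := ρ) hsurj hker
    have hcomap : (q.asHomogeneousIdeal.map ρ).toIdeal.comap ρ.toRingHom =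
        q.asHomogeneousIdeal.toIdeal := by
      rw [HomogeneousIdeal.toIdeal_map]
      ext x
      rw [Ideal.mem_comap]
      change ρ x ∈ Ideal.map ρ q.asHomogeneousIdeal.toIdeal ↔ _
      rw [Ideal.mem_map_iff_of_surjective ρ hsurj]
      constructor
      · rintro ⟨c, hc, hcx⟩
        have : x - c ∈ q.asHomogeneousIdeal.toIdeal := by
          apply hker
          rw [RingHom.mem_ker]
          change ρ (x - c) = 0
          rw [map_sub, hcx, sub_self]
        have := Ideal.add_mem _ this hc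
        rwa [sub_add_cancel] at this
      · intro hx
        exact ⟨x, hx, rfl⟩
    refine ⟨⟨q.asHomogeneousIdeal.map ρ, hprime, ?_⟩, ?_⟩
    · intro hle
      apply q.not_irrelevant_le
      intro c hc
      have h1 : ρ c ∈ (𝒜₊ : HomogeneousIdeal 𝒜).toIdeal := by
        have hc' : GradedRing.proj 𝒞 0 c = 0 := hc
        change GradedRing.proj 𝒜 0 (ρ c) = 0
        rw [GradedRing.proj_apply] at hc' ⊢
        rw [← ρ.map_directSumDecompose, hc', map_zero]
      have h2 : ρ c ∈ (q.asHomogeneousIdeal.map ρ).toIdeal := hle h1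
      have h3 : c ∈ (q.asHomogeneousIdeal.map ρ).toIdeal.comap ρ.toRingHom := h2
      rw [hcomap] at h3
      exact h3
    · apply ProjectiveSpectrum.ext
      apply HomogeneousIdeal.ext
      exact hcomap

end Groth.Agent.Lib.Helper63.ProjBij
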