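import Mathlib
import Groth.Agent.Lib.Helper42.RelTwistTensor
import Groth.Agent.Lib.Helper42.RelTwistExists
import Groth.Agent.Lib.Helper42.RelTwistBasis
import Groth.Agent.Lib.Helper11.AmpleLocal
import Groth.Agent.Lib.Helper11.RestrictTensor
import Groth.Agent.Lib.Helper11.GenLocusBasis
import Groth.Agent.Lib.Helper17.UPGlue

/-!
# `O_P(1)` is ample relative to `p : Proj(𝒮) → Y` when `𝒮` is generated by `𝒮_1` (helper63)
-/

set_option autoImplicit false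
set_option linter.unusedSectionVars false
universe u

open CategoryTheory CategoryTheory.Limits AlgebraicGeometry TopologicalSpace Opposite
open scoped HomogeneousIdeal

namespace Groth.Agent.Lib.Helper63.RelTwistAmple

open Groth.Agent.Lib.Helper45 Groth.Agent.Lib.Helper49
  Groth.Agent.Lib.Helper11.GenLocus Groth.Agent.Lib.Helper17.UPGlue
  Groth.Agent.Lib.Helper42.RelTilde Groth.Agent.Lib.Helper42.RelTwistBasis
  Groth.Agent.Lib.Helper42

section general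
variable {X : Scheme.{u}}

/-- A section `t` of `L` over `W` whose basis locus inside `W` is the open `G` gives a section of `L|_W`
with locus of generation `G`. -/
theorem exists_section_restrict (L : X.Modules) (W : X.Opens) (t : Γ(L, W)) (G : X.Opens) (hG : G ≤ W)
    (key : ∀ (W' : X.Opens) (hW' : W' ≤ W), IsBasisOn L W' (mres L hW' t) ↔ W' ≤ G) :
    ∃ s : Coh.structureModule (W : Scheme.{u}) ⟶ L.restrict W.ι,
      W.ι ''ᵁ (CohB1.genLocus _ s) = G := by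
  have hW' : W.ι ''ᵁ ⊤ ≤ W := (Scheme.Opens.ι_image_top W).le
  obtain ⟨τ₀, hτ₀⟩ : ∃ τ₀ : Γ(L.restrict W.ι, ⊤),
      ofRes W ⊤ τ₀ = mres L hW' t := ⟨mres L hW' t, rfl⟩
  obtain ⟨s', hs'⟩ : ∃ s' : Coh.structureModule (W : Scheme.{u}) ⟶ L.restrict W.ι,
      s' = homOfSection _ τ₀ := ⟨_, rfl⟩
  have hsec : sec s' ⊤ = τ₀ := by
    rw [hs', sec_homOfSection]
    exact mres_self _ τ₀
  have key' : ∀ V' : (W : Scheme.{u}).Opens,
      V' ≤ CohB1.genLocus _ s' ↔ W.ι ''ᵁ V' ≤ G := by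
    intro V'
    have hV'W : W.ι ''ᵁ V' ≤ W := (W.ι.image_le_opensRange V').trans (le_of_eq W.opensRange_ι)
    rw [le_genLocus_iff_isBasisOn, ← key (W.ι ''ᵁ V') hV'W]
    have e : ofRes W V' (sec s' V') = mres L hV'W t := by
      rw [ofRes_sec, hsec, hτ₀, mres_mres]
    constructor
    · intro hb
      have := isBasisOn_of_restrict W.ι V' (ofRes W V' (sec s' V')) hb
      exact isBasisOn_congr_section e this
    · intro hb
      have hb' := isBasisOn_congr_section e.symm hb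
      exact isBasisOn_restrict' W.ι V' (ofRes W V' (sec s' V')) hb'
  refine ⟨s', ?_⟩
  apply le_antisymm
  · exact (key' _).mp le_rfl
  · have e2 : W.ι ''ᵁ (W.ι ⁻¹ᵁ G) = G := by
      rw [W.ι.image_preimage_eq_opensRange_inf, W.opensRange_ι, inf_eq_right.mpr hG]
    have h3 : W.ι ⁻¹ᵁ G ≤ CohB1.genLocus _ s' := (key' _).mpr (le_of_eq e2)
    exact (le_of_eq e2.symm).trans (W.ι.image_mono h3)

end general

section rel
variable {Y P : Scheme.{u}} {𝒮 : RelProj.QCGrAlg Y} {p : P ⟶ Y}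
  {chart : ∀ (U : Y.Opens) (hU : IsAffineOpen U), (((p ⁻¹ᵁ U : P.Opens) : Scheme.{u}) ≅ Proj (𝒮.deg U hU))}
  {L : P.Modules}
  {lam : ∀ (U : Y.Opens) (hU : IsAffineOpen U),
      L ⟶ (Scheme.Modules.pushforward (RelProj.emb p chart U hU)).obj (GrTwist.twist (𝒮.deg U hU) (1 : ℤ))}

/-- the section of `O_P(1)` over `p⁻¹V` reading `g / 1`, `g` of degree one over the affine `V`: its basis locus
is `D₊(g)`. -/
theorem exists_section_reading (hgen : 𝒮.IsGenDegOne) (hL : RelProj.IsRelTwist 𝒮 p chart 1 L lam)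
    (V : Y.Opens) (hV : IsAffineOpen V) (g : 𝒮.presheaf.obj (op V)) (hg : g ∈ 𝒮.deg V hV 1) :
    ∃ t : Γ(L, p ⁻¹ᵁ V), ∀ (W' : P.Opens) (hW' : W' ≤ p ⁻¹ᵁ V),
      IsBasisOn L W' (mres L hW' t) ↔
        W' ≤ (RelProj.emb p chart V hV) ''ᵁ (Proj.basicOpen (𝒮.deg V hV) g) := by
  have h1mem : (1 : 𝒮.presheaf.obj (op V)) ∈ 𝒮.deg V hV 0 := SetLike.GradedOne.one_mem
  have h1not : ∀ z : (RelProj.emb p chart V hV ⁻¹ᵁ (p ⁻¹ᵁ V) : (Proj (𝒮.deg V hV)).Opens),
      (1 : 𝒮.presheaf.obj (op V)) ∉ z.1.asHomogeneousIdeal :=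
    fun z h1z => z.1.isPrime.ne_top ((Ideal.eq_top_iff_one _).mpr h1z)
  have hab : ((1 : ℕ) : ℤ) = ((0 : ℕ) : ℤ) + 1 := by simp
  obtain ⟨t, ht⟩ := (hL.bijective V hV (p ⁻¹ᵁ V) le_rfl).surjective
    (TwistTrivA.fracN (𝒮.deg V hV) (1 : ℤ) hg h1mem hab _ h1not)
  have hval : ∀ (y : ProjectiveSpectrum (𝒮.deg V hV)) (hy : (RelProj.emb p chart V hV).base y ∈ p ⁻¹ᵁ V),
      GrTwist.val (V := RelProj.emb p chart V hV ⁻¹ᵁ (p ⁻¹ᵁ V)) ((lam V hV).app _ t) ⟨y, hy⟩ =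
        Localization.mk g 1 := by
    intro y hy
    rw [ht]
    rfl
  refine ⟨t, fun W' hW' => ⟨fun hb => ?_, fun hle => ?_⟩⟩
  · intro x hx
    obtain ⟨y, rfl⟩ := exists_emb_eq (chart := chart) V hV (hW' hx)
    obtain ⟨g', hg'1, hg'y⟩ := exists_degOne_notMem (𝒮.deg V hV) (hgen V hV) y
    obtain ⟨t', ht'⟩ := (hL.bijective V hV (p ⁻¹ᵁ V) le_rfl).surjective
      (TwistTrivA.fracN (𝒮.deg V hV) (1 : ℤ) hg'1 h1mem hab _ h1not)
    obtain ⟨r, hr⟩ := hb.exists_eq_smul (mres L hW' t')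
    have h2 := congrArg (fun t => GrTwist.val (V := RelProj.emb p chart V hV ⁻¹ᵁ W')
      ((lam V hV).app _ t) ⟨y, hx⟩) hr
    simp only at h2
    rw [val_lam_smul, val_lam_mres, val_lam_mres, hval y (hW' hx), ht'] at h2
    have h4 : GrTwist.val (V := RelProj.emb p chart V hV ⁻¹ᵁ (p ⁻¹ᵁ V))
        (TwistTrivA.fracN (𝒮.deg V hV) (1 : ℤ) hg'1 h1mem hab _ h1not) ⟨y, hW' hx⟩ =
        Localization.mk g' 1 := rfl
    rw [h4] at h2
    have hgy : g ∉ y.asHomogeneousIdeal := notMem_of_mul_mk_eq y hg'y _ h2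
    exact ⟨y, (ProjectiveSpectrum.mem_basicOpen _ _ _).mpr hgy, rfl⟩
  · refine isBasisOn_of_val hL V hV hg h1mem hab W' hW' ?_ ?_ _ ?_
    · intro y hy
      obtain ⟨y', hy', e⟩ := hle hy
      have : y' = y := (RelProj.emb p chart V hV).isOpenEmbedding.injective e
      subst this
      exact (ProjectiveSpectrum.mem_basicOpen _ _ _).mp hy'
    · intro y hy h1y
      exact y.isPrime.ne_top ((Ideal.eq_top_iff_one _).mpr h1y)
    · intro y hy
      rw [val_lam_mres]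
      exact hval y (hW' hy)

/-- `O_P(1)` restricted to the preimage of an affine open is ample, for `𝒮` generated in degree one and `p`
quasi-compact. -/
theorem isAmple_restrict_twistOne (hgen : 𝒮.IsGenDegOne) (hL : RelProj.IsRelTwist 𝒮 p chart 1 L lam)
    [QuasiCompact p] (V : Y.Opens) (hV : IsAffineOpen V) :
    CohB1.IsAmple (L.restrict (p ⁻¹ᵁ V).ι) := by
  refine ⟨isInvertible_restrict' _ (isInvertible_of_isRelTwist hgen hL),
    isCompact_iff_compactSpace.mp (p.isCompact_preimage hV.isCompact), ?_⟩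
  rintro ⟨x, hx⟩
  obtain ⟨y, rfl⟩ := exists_emb_eq (chart := chart) V hV hx
  obtain ⟨g, hg1, hgy⟩ := exists_degOne_notMem (𝒮.deg V hV) (hgen V hV) y
  obtain ⟨t, ht⟩ := exists_section_reading hgen hL V hV g hg1
  have hG : (RelProj.emb p chart V hV) ''ᵁ (Proj.basicOpen (𝒮.deg V hV) g) ≤ p ⁻¹ᵁ V :=
    ((RelProj.emb p chart V hV).image_le_opensRange _).trans (le_of_eq (opensRange_emb V hV))
  obtain ⟨s, hs⟩ := exists_section_restrict L (p ⁻¹ᵁ V) t _ hG ht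
  obtain ⟨s', hs'⟩ := exists_tensorPow_one_genLocus_eq s
  refine ⟨0, s', ?_, ?_⟩
  · rw [hs']
    have hmem : (RelProj.emb p chart V hV).base y ∈ (p ⁻¹ᵁ V).ι ''ᵁ (CohB1.genLocus _ s) := by
      rw [hs]
      exact ⟨y, (ProjectiveSpectrum.mem_basicOpen _ _ _).mpr hgy, rfl⟩
    obtain ⟨z, hz, hzx⟩ := hmem
    have : z = ⟨_, hx⟩ := Subtype.ext hzx
    rw [← this]
    exact hz
  · rw [hs', Scheme.Hom.isAffineOpen_iff_of_isOpenImmersion (p ⁻¹ᵁ V).ι |>.symm, hs]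
    exact (Proj.isAffineOpen_basicOpen (𝒮.deg V hV) g hg1 one_pos).image_of_isOpenImmersion _

/-- `O_P(1)` is ample relative to `p`. -/
theorem isRelAmple_twistOne (hgen : 𝒮.IsGenDegOne) (hL : RelProj.IsRelTwist 𝒮 p chart 1 L lam)
    [QuasiCompact p] : RelAmple.IsRelAmple p L :=
  ⟨inferInstance, fun V => isAmple_restrict_twistOne hgen hL V.1 V.2⟩

end rel

section pow
open Groth.Agent.Lib.Helper42.RelTwistTensor Groth.Agent.Lib.Helper42.RelTwistExists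

variable {Y P : Scheme.{u}} {𝒮 : RelProj.QCGrAlg Y} {p : P ⟶ Y}
  {chart : ∀ (U : Y.Opens) (hU : IsAffineOpen U), (((p ⁻¹ᵁ U : P.Opens) : Scheme.{u}) ≅ Proj (𝒮.deg U hU))}

theorem nonempty_tensor_iso' (hP : RelProj.IsRelProj 𝒮 p chart) (hgen : 𝒮.IsGenDegOne)
    {N₁ N₂ N₃ : ℤ} {L₁ L₂ L₃ : P.Modules}
    {lam₁ : ∀ (U : Y.Opens) (hU : IsAffineOpen U),
      L₁ ⟶ (Scheme.Modules.pushforward (RelProj.emb p chart U hU)).obj (GrTwist.twist (𝒮.deg U hU) N₁)}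
    {lam₂ : ∀ (U : Y.Opens) (hU : IsAffineOpen U),
      L₂ ⟶ (Scheme.Modules.pushforward (RelProj.emb p chart U hU)).obj (GrTwist.twist (𝒮.deg U hU) N₂)}
    {lam₃ : ∀ (U : Y.Opens) (hU : IsAffineOpen U),
      L₃ ⟶ (Scheme.Modules.pushforward (RelProj.emb p chart U hU)).obj (GrTwist.twist (𝒮.deg U hU) N₃)}
    (hL₁ : RelProj.IsRelTwist 𝒮 p chart N₁ L₁ lam₁) (hL₂ : RelProj.IsRelTwist 𝒮 p chart N₂ L₂ lam₂)
    (h : N₃ = N₁ + N₂) (hL₃ : RelProj.IsRelTwist 𝒮 p chart N₃ L₃ lam₃) :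
    Nonempty (CohB1.tensorMod L₁ L₂ ≅ L₃) := by
  subst h
  exact nonempty_tensor_iso hP hgen hL₁ hL₂ hL₃

/-- the twisting sheaf `O_P(N)` is unique up to isomorphism (for `𝒮` generated in degree one) -/
theorem nonempty_iso_of_isRelTwist (hP : RelProj.IsRelProj 𝒮 p chart) (hgen : 𝒮.IsGenDegOne)
    {N : ℤ} {L L' : P.Modules}
    {lam : ∀ (U : Y.Opens) (hU : IsAffineOpen U),
      L ⟶ (Scheme.Modules.pushforward (RelProj.emb p chart U hU)).obj (GrTwist.twist (𝒮.deg U hU) N)}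
    {lam' : ∀ (U : Y.Opens) (hU : IsAffineOpen U),
      L' ⟶ (Scheme.Modules.pushforward (RelProj.emb p chart U hU)).obj (GrTwist.twist (𝒮.deg U hU) N)}
    (hL : RelProj.IsRelTwist 𝒮 p chart N L lam) (hL' : RelProj.IsRelTwist 𝒮 p chart N L' lam') :
    Nonempty (L ≅ L') := by
  obtain ⟨M, lamM, hM⟩ := exists_isRelTwist 𝒮 p chart hP 0
  obtain ⟨e1⟩ := nonempty_tensor_iso' hP hgen hM hL (zero_add N).symm hL
  obtain ⟨e2⟩ := nonempty_tensor_iso' hP hgen hM hL (zero_add N).symm hL'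
  exact ⟨e1.symm ≪≫ e2⟩

/-- `O_P(n + 1) ≅ O_P(1)^{⊗ (n + 1)}` -/
theorem nonempty_tensorPow_iso (hP : RelProj.IsRelProj 𝒮 p chart) (hgen : 𝒮.IsGenDegOne)
    {L₁ : P.Modules}
    {lam₁ : ∀ (U : Y.Opens) (hU : IsAffineOpen U),
      L₁ ⟶ (Scheme.Modules.pushforward (RelProj.emb p chart U hU)).obj (GrTwist.twist (𝒮.deg U hU) 1)}
    (hL₁ : RelProj.IsRelTwist 𝒮 p chart 1 L₁ lam₁) (n : ℕ) :
    ∀ (N : ℤ) (_ : N = (n : ℤ) + 1) (L : P.Modules)
      (lam : ∀ (U : Y.Opens) (hU : IsAffineOpen U),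
        L ⟶ (Scheme.Modules.pushforward (RelProj.emb p chart U hU)).obj (GrTwist.twist (𝒮.deg U hU) N)),
      RelProj.IsRelTwist 𝒮 p chart N L lam → Nonempty (CohB1.tensorPow L₁ (n + 1) ≅ L) := by
  induction n with
  | zero =>
    intro N hN L lam hL
    have hN' : N = 1 := by simpa using hN
    subst hN'
    obtain ⟨e⟩ := nonempty_iso_of_isRelTwist hP hgen hL₁ hL
    exact ⟨tensorPowOneIso L₁ ≪≫ e⟩
  | succ n ih =>
    intro N hN L lam hL
    obtain ⟨M, lamM, hM⟩ := exists_isRelTwist 𝒮 p chart hP ((n : ℤ) + 1)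
    obtain ⟨e⟩ := ih _ rfl M lamM hM
    obtain ⟨e'⟩ := nonempty_tensor_iso' hP hgen hM hL₁ (by rw [hN]; push_cast; ring) hL
    exact ⟨tensorModCongr e (Iso.refl L₁) ≪≫ e'⟩

end pow

section counit

/-- epimorphy of the counit of an adjunction is invariant under isomorphism -/
theorem epi_counit_of_iso {C D : Type*} [Category C] [Category D] {F : C ⥤ D} {G : D ⥤ C}
    (adj : F ⊣ G) {M M' : D} (e : M ≅ M') (h : Epi (adj.counit.app M)) : Epi (adj.counit.app M') := by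
  have h1 : adj.counit.app M' = F.map (G.map e.inv) ≫ adj.counit.app M ≫ e.hom := by
    have := adj.counit.naturality e.inv
    simp only [Functor.comp_map, Functor.id_map] at this
    rw [reassoc_of% this, Iso.inv_hom_id, Category.comp_id]
  rw [h1]
  infer_instance

end counit

end Groth.Agent.Lib.Helper63.RelTwistAmple
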