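import Mathlib
import Groth.Agent.Lib.Helper63.RelTwistAmple
import Groth.Agent.Lib.Helper63.ProjBasis
import Groth.Agent.Lib.Helper18.SymQC5
import Groth.Agent.Lib.Helper11.PullbackAmple2

/-!
# Pullbacks of `O_P(1)` along topological embeddings into `Proj(𝒮)` are relatively ample (helper63)
-/

set_option autoImplicit false
set_option linter.unusedSectionVars false
universe u

open CategoryTheory CategoryTheory.Limits AlgebraicGeometry TopologicalSpace Opposite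
open scoped HomogeneousIdeal

namespace Groth.Agent.Lib.Helper63.ProjBundleAmple

open Groth.Agent.Lib.Helper45 Groth.Agent.Lib.Helper49
  Groth.Agent.Lib.Helper11.GenLocus Groth.Agent.Lib.Helper17.UPGlue
  Groth.Agent.Lib.Helper42.RelTilde Groth.Agent.Lib.Helper42.RelTwistBasis
  Groth.Agent.Lib.Helper42 Groth.Agent.Lib.Helper63.RelTwistAmple

section sym
variable {S : Scheme.{u}}

/-- the graded symmetric algebra of a quasi-coherent module is generated in degree one -/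
theorem isGenDegOne_of_isGrSymAlg (E : S.Modules) (hE : Coh.IsQCoh E) (𝒮 : RelProj.QCGrAlg S)
    (j : E ⟶ 𝒮.toModule) (hj : RelProj.IsGrSymAlg E 𝒮 j) : 𝒮.IsGenDegOne := by
  intro U hU
  haveI : E.IsQuasicoherent := hE
  have hbij := Groth.Agent.Lib.Helper18.SymQC.bijective_liftU E 𝒮.toQCAlg j hj.1 U hU
  rw [eq_top_iff]
  intro x _
  obtain ⟨s, rfl⟩ := hbij.2 x
  induction s using SymmetricAlgebra.induction with
  | algebraMap r =>
    rw [Groth.Agent.Lib.Helper18.SymQC.liftU_algebraMap]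
    exact Subring.subset_closure (Or.inl (𝒮.str_mem U hU r))
  | ι m =>
    rw [Groth.Agent.Lib.Helper18.SymQC.liftU_ι]
    exact Subring.subset_closure (Or.inr (hj.2 U hU m))
  | mul a b ha hb => rw [map_mul]; exact Subring.mul_mem _ (ha trivial) (hb trivial)
  | add a b ha hb => rw [map_add]; exact Subring.add_mem _ (ha trivial) (hb trivial)

end sym

section rel
variable {Y P : Scheme.{u}} {𝒮 : RelProj.QCGrAlg Y} {p : P ⟶ Y}
  {chart : ∀ (U : Y.Opens) (hU : IsAffineOpen U), (((p ⁻¹ᵁ U : P.Opens) : Scheme.{u}) ≅ Proj (𝒮.deg U hU))}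

/-- the section of `O_P(n)` over `p⁻¹V` reading `g / 1`, `g` of degree `n` over the affine `V`: its basis locus
is `D₊(g)`. -/
theorem exists_section_reading_deg (hgen : 𝒮.IsGenDegOne) {n : ℕ} {L : P.Modules}
    {lam : ∀ (U : Y.Opens) (hU : IsAffineOpen U),
      L ⟶ (Scheme.Modules.pushforward (RelProj.emb p chart U hU)).obj (GrTwist.twist (𝒮.deg U hU) (n : ℤ))}
    (hL : RelProj.IsRelTwist 𝒮 p chart (n : ℤ) L lam)
    (V : Y.Opens) (hV : IsAffineOpen V) (g : 𝒮.presheaf.obj (op V)) (hg : g ∈ 𝒮.deg V hV n) :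
    ∃ t : Γ(L, p ⁻¹ᵁ V), ∀ (W' : P.Opens) (hW' : W' ≤ p ⁻¹ᵁ V),
      IsBasisOn L W' (mres L hW' t) ↔
        W' ≤ (RelProj.emb p chart V hV) ''ᵁ (Proj.basicOpen (𝒮.deg V hV) g) := by
  have h1mem : (1 : 𝒮.presheaf.obj (op V)) ∈ 𝒮.deg V hV 0 := SetLike.GradedOne.one_mem
  have h1not : ∀ z : (RelProj.emb p chart V hV ⁻¹ᵁ (p ⁻¹ᵁ V) : (Proj (𝒮.deg V hV)).Opens),
      (1 : 𝒮.presheaf.obj (op V)) ∉ z.1.asHomogeneousIdeal :=
    fun z h1z => z.1.isPrime.ne_top ((Ideal.eq_top_iff_one _).mpr h1z)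
  have hab : ((n : ℕ) : ℤ) = ((0 : ℕ) : ℤ) + (n : ℤ) := by simp
  obtain ⟨t, ht⟩ := (hL.bijective V hV (p ⁻¹ᵁ V) le_rfl).surjective
    (TwistTrivA.fracN (𝒮.deg V hV) (n : ℤ) hg h1mem hab _ h1not)
  have hval : ∀ (y : ProjectiveSpectrum (𝒮.deg V hV)) (hy : (RelProj.emb p chart V hV).base y ∈ p ⁻¹ᵁ V),
      GrTwist.val (V := RelProj.emb p chart V hV ⁻¹ᵁ (p ⁻¹ᵁ V)) ((lam V hV).app _ t) ⟨y, hy⟩ =
        Localization.mk g 1 := by
    intro y hy
    rw [ht]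
    rfl
  refine ⟨t, fun W' hW' => ⟨fun hb => ?_, fun hle => ?_⟩⟩
  · intro x hx
    obtain ⟨y, rfl⟩ := exists_emb_eq (chart := chart) V hV (hW' hx)
    obtain ⟨g', hg'1, hg'y⟩ := exists_degOne_notMem (𝒮.deg V hV) (hgen V hV) y
    have hg'n : g' ^ n ∈ 𝒮.deg V hV n := by
      have := SetLike.pow_mem_graded n hg'1
      rwa [smul_eq_mul, mul_one] at this
    have hg'ny : g' ^ n ∉ y.asHomogeneousIdeal := fun hmem => hg'y (y.isPrime.mem_of_pow_mem n hmem)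
    obtain ⟨t', ht'⟩ := (hL.bijective V hV (p ⁻¹ᵁ V) le_rfl).surjective
      (TwistTrivA.fracN (𝒮.deg V hV) (n : ℤ) hg'n h1mem hab _ h1not)
    obtain ⟨r, hr⟩ := hb.exists_eq_smul (mres L hW' t')
    have h2 := congrArg (fun t => GrTwist.val (V := RelProj.emb p chart V hV ⁻¹ᵁ W')
      ((lam V hV).app _ t) ⟨y, hx⟩) hr
    simp only at h2
    rw [val_lam_smul, val_lam_mres, val_lam_mres, hval y (hW' hx), ht'] at h2
    have h4 : GrTwist.val (V := RelProj.emb p chart V hV ⁻¹ᵁ (p ⁻¹ᵁ V))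
        (TwistTrivA.fracN (𝒮.deg V hV) (n : ℤ) hg'n h1mem hab _ h1not) ⟨y, hW' hx⟩ =
        Localization.mk (g' ^ n) 1 := rfl
    rw [h4] at h2
    have hgy : g ∉ y.asHomogeneousIdeal := notMem_of_mul_mk_eq y hg'ny _ h2
    exact ⟨y, (ProjectiveSpectrum.mem_basicOpen _ _ _).mpr hgy, rfl⟩
  · refine isBasisOn_of_val hL V hV hg h1mem hab W' hW' ?_ ?_ _ ?_
    · intro y hy
      obtain ⟨y', hy', e⟩ := hle hy
      have : y' = y := (RelProj.emb p chart V hV).isOpenEmbedding.injective e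
      subst this
      exact (ProjectiveSpectrum.mem_basicOpen _ _ _).mp hy'
    · intro y hy h1y
      exact y.isPrime.ne_top ((Ideal.eq_top_iff_one _).mpr h1y)
    · intro y hy
      rw [val_lam_mres]
      exact hval y (hW' hy)

/-- The loci of generation of the sections of the positive tensor powers of `O_P(1)|_{p⁻¹V}` form a basis of
`p⁻¹V`, for `V` affine and `𝒮` generated in degree one (no quasi-compactness needed). -/
theorem isBasis_genLocus_restrict_twistOne (hP : RelProj.IsRelProj 𝒮 p chart) (hgen : 𝒮.IsGenDegOne)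
    {L₁ : P.Modules}
    {lam₁ : ∀ (U : Y.Opens) (hU : IsAffineOpen U),
      L₁ ⟶ (Scheme.Modules.pushforward (RelProj.emb p chart U hU)).obj (GrTwist.twist (𝒮.deg U hU) 1)}
    (hL₁ : RelProj.IsRelTwist 𝒮 p chart 1 L₁ lam₁) (V : Y.Opens) (hV : IsAffineOpen V) :
    TopologicalSpace.Opens.IsBasis
      {U : ((p ⁻¹ᵁ V : P.Opens) : Scheme.{u}).Opens |
        ∃ (n : ℕ) (s : Coh.structureModule ((p ⁻¹ᵁ V : P.Opens) : Scheme.{u}) ⟶
          CohB1.tensorPow (L₁.restrict (p ⁻¹ᵁ V).ι) (n + 1)), U = CohB1.genLocus _ s} := by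
  rw [Opens.isBasis_iff_nbhd]
  rintro O' ⟨x0, hx0⟩ hx
  obtain ⟨y, rfl⟩ := exists_emb_eq (chart := chart) V hV hx0
  obtain ⟨O, hO⟩ : ∃ O : (Proj (𝒮.deg V hV)).Opens,
      O = (RelProj.emb p chart V hV) ⁻¹ᵁ ((p ⁻¹ᵁ V).ι ''ᵁ O') := ⟨_, rfl⟩
  have hyO : y ∈ O := by
    rw [hO]
    exact ⟨⟨_, hx0⟩, hx, rfl⟩
  obtain ⟨n, hn, s, hs, hys, hsO⟩ :=
    Groth.Agent.Lib.Helper63.ProjBasis.exists_homog_basicOpen (𝒮.deg V hV) O y hyO
  obtain ⟨m, rfl⟩ : ∃ m, n = m + 1 := ⟨n - 1, (Nat.sub_add_cancel hn).symm⟩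
  obtain ⟨Ln, lamn, hLn⟩ :=
    Groth.Agent.Lib.Helper42.RelTwistExists.exists_isRelTwist 𝒮 p chart hP (((m + 1 : ℕ)) : ℤ)
  obtain ⟨t, ht⟩ := exists_section_reading_deg hgen hLn V hV s hs
  have hG : (RelProj.emb p chart V hV) ''ᵁ (Proj.basicOpen (𝒮.deg V hV) s) ≤ p ⁻¹ᵁ V :=
    ((RelProj.emb p chart V hV).image_le_opensRange _).trans (le_of_eq (opensRange_emb V hV))
  obtain ⟨σ, hσ⟩ := exists_section_restrict Ln (p ⁻¹ᵁ V) t _ hG ht
  obtain ⟨e⟩ := nonempty_tensorPow_iso hP hgen hL₁ m _ (Nat.cast_succ m) Ln lamn hLn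
  obtain ⟨E, hE⟩ : ∃ E : Ln.restrict (p ⁻¹ᵁ V).ι ≅ CohB1.tensorPow (L₁.restrict (p ⁻¹ᵁ V).ι) (m + 1),
      E = (Scheme.Modules.restrictFunctor (p ⁻¹ᵁ V).ι).mapIso e.symm ≪≫
        (restrictTensorPowIso (p ⁻¹ᵁ V).ι L₁ (m + 1)).symm := ⟨_, rfl⟩
  have hσ' : CohB1.genLocus _ (σ ≫ E.hom) = CohB1.genLocus _ σ := genLocus_comp_iso σ E
  refine ⟨_, ⟨m, σ ≫ E.hom, rfl⟩, ?_, ?_⟩
  · rw [hσ']
    have hmem : (RelProj.emb p chart V hV).base y ∈ (p ⁻¹ᵁ V).ι ''ᵁ (CohB1.genLocus _ σ) := by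
      rw [hσ]
      exact ⟨y, hys, rfl⟩
    obtain ⟨z, hz, hzx⟩ := hmem
    have : z = ⟨_, hx0⟩ := Subtype.ext hzx
    rw [← this]
    exact hz
  · rw [hσ']
    intro z hz
    have h1 : (p ⁻¹ᵁ V).ι.base z ∈ (p ⁻¹ᵁ V).ι ''ᵁ (CohB1.genLocus _ σ) := ⟨z, hz, rfl⟩
    rw [hσ] at h1
    obtain ⟨y', hy', hy'z⟩ := h1
    have h2 : y' ∈ O := hsO hy'
    rw [hO] at h2
    obtain ⟨z', hz', hz'y⟩ := h2
    have : z' = z := (p ⁻¹ᵁ V).ι.isOpenEmbedding.injective (hz'y.trans hy'z)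
    rw [← this]
    exact hz'

end rel

section pull
open Groth.Agent.Lib.Helper11.PullbackAmple Groth.Agent.Lib.Helper11.PullbackTensor
variable {X X' : Scheme.{u}}

/-- the pullback, along a topological embedding from a quasi-compact scheme, of an invertible module whose
loci of generation form a basis is ample. -/
theorem isAmple_pullback_of_isBasis (j : X' ⟶ X) [CompactSpace X']
    (hj : Topology.IsEmbedding j.base) {L : X.Modules} (hL : PicF.IsInvertible L)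
    (hB : TopologicalSpace.Opens.IsBasis
      {U : X.Opens | ∃ (n : ℕ) (s : Coh.structureModule X ⟶ CohB1.tensorPow L (n + 1)),
        U = CohB1.genLocus _ s}) :
    CohB1.IsAmple ((Scheme.Modules.pullback j).obj L) := by
  have hinv := isInvertible_pullback j hL
  rw [isAmple_iff_isBasis _ hinv, Opens.isBasis_iff_nbhd]
  intro O' x' hx'
  obtain ⟨O, hO, hOO'⟩ := hj.isInducing.isOpen_iff.mp O'.2
  rw [Opens.isBasis_iff_nbhd] at hB
  have hxO : j.base x' ∈ (⟨O, hO⟩ : X.Opens) := by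
    have : x' ∈ j.base ⁻¹' O := by rw [hOO']; exact hx'
    exact this
  obtain ⟨_, ⟨n, s, rfl⟩, hxG, hGO⟩ := hB hxO
  refine ⟨_, ⟨n, pullPowSec j hL (n + 1) s, rfl⟩, ?_, ?_⟩
  · rw [genLocus_pullPowSec]
    exact hxG
  · rw [genLocus_pullPowSec]
    intro y hy
    have h1 : j.base y ∈ O := hGO hy
    have h2 : y ∈ j.base ⁻¹' O := h1
    rw [hOO'] at h2
    exact h2

end pull

section main
open Groth.Agent.Lib.Helper11.PullbackAmple Groth.Agent.Lib.Helper11.PullbackTensor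
  Groth.Agent.Lib.Helper11 Groth.Agent.Lib.Helper11.PullbackBasis
variable {Y P : Scheme.{u}} {𝒮 : RelProj.QCGrAlg Y} {p : P ⟶ Y}
  {chart : ∀ (U : Y.Opens) (hU : IsAffineOpen U), (((p ⁻¹ᵁ U : P.Opens) : Scheme.{u}) ≅ Proj (𝒮.deg U hU))}

/-- EGA II 4.4.4-type statement: the pullback of `O_P(1)` along a topological embedding `g : X → Proj(𝒮)` with
`g ≫ p` quasi-compact is ample relative to `g ≫ p` (for `𝒮` generated in degree one; `p` itself need not be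
quasi-compact). -/
theorem isRelAmple_pullback_twistOne_of_isEmbedding (hP : RelProj.IsRelProj 𝒮 p chart)
    (hgen : 𝒮.IsGenDegOne) {L₁ : P.Modules}
    {lam₁ : ∀ (U : Y.Opens) (hU : IsAffineOpen U),
      L₁ ⟶ (Scheme.Modules.pushforward (RelProj.emb p chart U hU)).obj (GrTwist.twist (𝒮.deg U hU) 1)}
    (hL₁ : RelProj.IsRelTwist 𝒮 p chart 1 L₁ lam₁) {X : Scheme.{u}} (g : X ⟶ P)
    [QuasiCompact (g ≫ p)] (hemb : Topology.IsEmbedding g.base) :
    RelAmple.IsRelAmple (g ≫ p) ((Scheme.Modules.pullback g).obj L₁) := by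
  refine ⟨inferInstance, fun V => ?_⟩
  have hg' : Topology.IsEmbedding (g ∣_ (p ⁻¹ᵁ V.1)).base := by
    rw [morphismRestrict_base]
    exact hemb.restrictPreimage _
  have hc : CompactSpace ↥((g ⁻¹ᵁ (p ⁻¹ᵁ V.1) : X.Opens) : Scheme.{u}) :=
    isCompact_iff_compactSpace.mp ((g ≫ p).isCompact_preimage V.2.isCompact)
  have h1 := isAmple_pullback_of_isBasis (g ∣_ (p ⁻¹ᵁ V.1)) hg'
    (isInvertible_restrict' _ (isInvertible_of_isRelTwist hgen hL₁))
    (isBasis_genLocus_restrict_twistOne hP hgen hL₁ V.1 V.2)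
  exact isAmple_of_iso ((pullbackRestrictNatIso g (p ⁻¹ᵁ V.1)).app L₁) h1

end main

end Groth.Agent.Lib.Helper63.ProjBundleAmple
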