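import Mathlib
import Groth.Agent.Lib.Helper63.AwayDense
import Groth.Agent.Lib.Helper63.ProjBasis

/-!
# Schematic density of a union of basic opens in `Proj` (helper63)
-/

set_option autoImplicit false
universe u

open CategoryTheory CategoryTheory.Limits AlgebraicGeometry TopologicalSpace Opposite
open HomogeneousLocalization

namespace Groth.Agent.Lib.Helper63.ProjDense

open Groth.Agent.Lib.Helper63.AwayDense

theorem app_injective_image_basicOpen {A : Type u} [CommRing A] (𝒜 : ℕ → AddSubgroup A)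
    [GradedRing 𝒜] {Z P : Scheme.{u}} (r : Z ⟶ P) [IsOpenImmersion r] (emb : Proj 𝒜 ⟶ P)
    [IsOpenImmersion emb] {ι : Type*} [Finite ι] (g : ι → A) (d : ι → ℕ)
    (hg : ∀ i, g i ∈ 𝒜 (d i))
    (hrange : ∀ i, emb ''ᵁ Proj.basicOpen 𝒜 (g i) ≤ r.opensRange)
    (hstar : ∀ b : A, (∀ i, ∃ k : ℕ, g i ^ k * b = 0) → b = 0)
    {m : ℕ} (hm : 0 < m) (f : A) (hf : f ∈ 𝒜 m) :
    Function.Injective (r.app (emb ''ᵁ Proj.basicOpen 𝒜 f)).hom := by
  rw [injective_iff_map_eq_zero]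
  intro γ hγ
  have hinjf : Function.Injective (emb.appIso (Proj.basicOpen 𝒜 f)).hom.hom :=
    (ConcreteCategory.bijective_of_isIso (emb.appIso (Proj.basicOpen 𝒜 f)).hom).1
  apply hinjf
  rw [map_zero]
  have hsurj : Function.Surjective (Proj.awayToSection 𝒜 f).hom := by
    have := (Proj.basicOpenIsoAway 𝒜 f hf hm).isIso_hom
    rw [Proj.basicOpenIsoAway_hom] at this
    exact (ConcreteCategory.bijective_of_isIso (Proj.awayToSection 𝒜 f)).2
  obtain ⟨ξ, hξ⟩ := hsurj ((emb.appIso (Proj.basicOpen 𝒜 f)).hom.hom γ)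
  rw [← hξ]
  suffices ξ = 0 by rw [this, map_zero]
  apply away_eq_zero_of_forall_awayMap 𝒜 hf g d hg hstar ξ
  intro i
  have hfg : f * g i ∈ 𝒜 (m + d i) := SetLike.mul_mem_graded hf (hg i)
  have hinj : Function.Injective (Proj.awayToSection 𝒜 (f * g i)).hom := by
    have := (Proj.basicOpenIsoAway 𝒜 (f * g i) hfg (Nat.add_pos_left hm _)).isIso_hom
    rw [Proj.basicOpenIsoAway_hom] at this
    exact (ConcreteCategory.bijective_of_isIso (Proj.awayToSection 𝒜 (f * g i))).1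
  apply hinj
  rw [map_zero]
  have hnat := congrArg (fun φ => φ.hom ξ)
    (Proj.awayMap_awayToSection 𝒜 (f := f) (hg i) (rfl : f * g i = f * g i))
  simp only [CommRingCat.hom_comp, RingHom.coe_comp, Function.comp_apply, CommRingCat.hom_ofHom] at hnat
  rw [hnat, hξ]
  have hle : Proj.basicOpen 𝒜 (f * g i) ≤ Proj.basicOpen 𝒜 f :=
    Proj.basicOpen_mono _ _ _ ⟨_, rfl⟩
  have hnat2 := congrArg (fun φ => φ.hom γ) (emb.appIso_hom_naturality (homOfLE hle).op)
  simp only [CommRingCat.hom_comp, RingHom.coe_comp, Function.comp_apply] at hnat2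
  rw [← hnat2]
  suffices h0 : (P.presheaf.map (emb.opensFunctor.op.map (homOfLE hle).op)).hom γ = 0 by
    exact (congrArg (emb.appIso (Proj.basicOpen 𝒜 (f * g i))).hom.hom h0).trans (map_zero _)
  have hO' : emb ''ᵁ Proj.basicOpen 𝒜 (f * g i) ≤ r.opensRange :=
    (emb.image_mono (Proj.basicOpen_mono _ _ _ ⟨f, mul_comm _ _⟩)).trans (hrange i)
  have hiso : IsIso (r.app (emb ''ᵁ Proj.basicOpen 𝒜 (f * g i))) := r.isIso_app _ hO'
  apply (ConcreteCategory.bijective_of_isIso (r.app (emb ''ᵁ Proj.basicOpen 𝒜 (f * g i)))).1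
  rw [map_zero]
  have hn := congrArg (fun φ => φ.hom γ) (r.naturality (emb.opensFunctor.op.map (homOfLE hle).op))
  simp only [CommRingCat.hom_comp, RingHom.coe_comp, Function.comp_apply] at hn
  rw [hn, hγ, map_zero]

open Groth.Agent.Lib.Helper63.ProjBasis in
/-- An open immersion into a scheme charted by `Proj 𝒜` whose range contains the `D₊(g_i)`, with no
nonzero element killed by powers of all `g_i`, is scheme-theoretically dominant. -/
theorem isSchemeTheoreticallyDominant_of_basicOpens {A : Type u} [CommRing A] (𝒜 : ℕ → AddSubgroup A)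
    [GradedRing 𝒜] {Z P : Scheme.{u}} (r : Z ⟶ P) [IsOpenImmersion r] [QuasiCompact r]
    (emb : Proj 𝒜 ⟶ P) [IsOpenImmersion emb] (hemb : emb.opensRange = ⊤)
    {ι : Type*} [Finite ι] (g : ι → A) (d : ι → ℕ) (hg : ∀ i, g i ∈ 𝒜 (d i))
    (hrange : ∀ i, emb ''ᵁ Proj.basicOpen 𝒜 (g i) ≤ r.opensRange)
    (hstar : ∀ b : A, (∀ i, ∃ k : ℕ, g i ^ k * b = 0) → b = 0) :
    IsSchemeTheoreticallyDominant r := by
  rw [isSchemeTheoreticallyDominant_iff]
  refine Scheme.IdealSheafData.ext_of_iSup_eq_top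
    (ι := Σ' (n : ℕ) (_ : 0 < n) (s : A), s ∈ 𝒜 n)
    (fun k => ⟨emb ''ᵁ Proj.basicOpen 𝒜 k.2.2.1,
      (Proj.isAffineOpen_basicOpen 𝒜 k.2.2.1 k.2.2.2 k.2.1).image_of_isOpenImmersion emb⟩) ?_ ?_
  · rw [eq_top_iff]
    intro pt _
    have hpt : pt ∈ emb.opensRange := by rw [hemb]; exact Opens.mem_top _
    obtain ⟨z, rfl⟩ := hpt
    obtain ⟨n, hn, s, hs, hzs, -⟩ := exists_homog_basicOpen 𝒜 ⊤ z (Opens.mem_top z)
    exact Opens.mem_iSup.mpr ⟨⟨n, hn, s, hs⟩, ⟨z, hzs, rfl⟩⟩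
  · rintro ⟨n, hn, s, hs⟩
    rw [Scheme.Hom.ker_apply, Scheme.IdealSheafData.ideal_bot, Pi.bot_apply]
    exact (RingHom.injective_iff_ker_eq_bot _).mp
      (app_injective_image_basicOpen 𝒜 r emb g d hg hrange hstar hn s hs)

end Groth.Agent.Lib.Helper63.ProjDense
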