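import Mathlib

/-!
# `Proj` of a surjective graded ring hom which is injective in high degrees is an isomorphism
-/

universe u
open HomogeneousIdeal AlgebraicGeometry CategoryTheory HomogeneousLocalization

namespace Groth.Agent.Lib.Helper63.ProjIso

variable {A C σ τ : Type u} [CommRing A] [SetLike σ A] [AddSubgroupClass σ A]
  [CommRing C] [SetLike τ C] [AddSubgroupClass τ C]
  {𝒜 : ℕ → σ} {𝒞 : ℕ → τ} [GradedRing 𝒜] [GradedRing 𝒞]

lemma exists_homogeneous_preimage (ρ : 𝒞 →+*ᵍ 𝒜) (hsurj : Function.Surjective ρ) {n : ℕ} {a : A}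
    (ha : a ∈ 𝒜 n) : ∃ c ∈ 𝒞 n, ρ c = a := by
  obtain ⟨c', rfl⟩ := hsurj a
  refine ⟨(DirectSum.decompose 𝒞 c' n : C), SetLike.coe_mem _, ?_⟩
  rw [ρ.map_directSumDecompose, DirectSum.decompose_of_mem_same _ ha]

theorem away_map_bijective (ρ : 𝒞 →+*ᵍ 𝒜) (hsurj : Function.Surjective ρ) (n₀ : ℕ)
    (hinj : ∀ n, n₀ ≤ n → ∀ x ∈ 𝒞 n, ρ x = 0 → x = 0) {i : ℕ} (hi : 0 < i) {t : C}
    (ht : t ∈ 𝒞 i) : Function.Bijective (Away.map ρ t) := by
  constructor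
  · rw [injective_iff_map_eq_zero]
    intro x hx
    obtain ⟨n, c, hc, rfl⟩ := Away.mk_surjective 𝒞 ht x
    rw [Away.map_mk ρ t ht] at hx
    rw [HomogeneousLocalization.ext_iff_val, Away.val_mk, HomogeneousLocalization.val_zero] at hx ⊢
    rw [Localization.mk_eq_mk', IsLocalization.mk'_eq_zero_iff] at hx ⊢
    obtain ⟨⟨_, k, rfl⟩, hk⟩ := hx
    refine ⟨⟨t ^ (k + n₀), k + n₀, rfl⟩, ?_⟩
    change t ^ (k + n₀) * c = 0
    have hmem : t ^ (k + n₀) * c ∈ 𝒞 ((k + n₀) • i + n • i) :=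
      SetLike.mul_mem_graded (SetLike.pow_mem_graded _ ht) hc
    refine hinj _ ?_ _ hmem ?_
    · have : n₀ ≤ (k + n₀) * i := by nlinarith
      simp only [smul_eq_mul]
      omega
    · have hk' : (ρ t) ^ k * ρ c = 0 := hk
      rw [map_mul, map_pow, pow_add, mul_comm ((ρ t) ^ k), mul_assoc, hk', mul_zero]
  · intro y
    obtain ⟨n, a, ha, rfl⟩ := Away.mk_surjective 𝒜 (Graded.map_mem ρ ht) y
    obtain ⟨c, hc, rfl⟩ := exists_homogeneous_preimage ρ hsurj ha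
    exact ⟨Away.mk 𝒞 ht n c hc, Away.map_mk ρ t ht n c hc⟩

end Groth.Agent.Lib.Helper63.ProjIso

namespace Groth.Agent.Lib.Helper63.ProjIso

variable {A C σ τ : Type u} [CommRing A] [SetLike σ A] [AddSubgroupClass σ A]
  [CommRing C] [SetLike τ C] [AddSubgroupClass τ C]
  {𝒜 : ℕ → σ} {𝒞 : ℕ → τ} [GradedRing 𝒜] [GradedRing 𝒞]

theorem isIso_pullback_snd (ρ : 𝒞 →+*ᵍ 𝒜) (hirr : 𝒜₊ ≤ 𝒞₊.map ρ) (hsurj : Function.Surjective ρ)
    (n₀ : ℕ) (hinj : ∀ n, n₀ ≤ n → ∀ x ∈ 𝒞 n, ρ x = 0 → x = 0) {m : ℕ} (hm : 0 < m) (t : C)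
    (ht : t ∈ 𝒞 m) :
    IsIso (Limits.pullback.snd (Proj.map ρ hirr) (Proj.awayι 𝒞 t ht hm)) := by
  have hpb : IsPullback (Spec.map (CommRingCat.ofHom (Away.map ρ t)))
      (Proj.awayι 𝒜 (ρ t) (Graded.map_mem ρ ht) hm)
      (Proj.awayι 𝒞 t ht hm) (Proj.map ρ hirr) :=
    IsOpenImmersion.isPullback _ _ _ _ (Proj.awayι_comp_map ρ hirr hm _ ht) (by
      rw [Proj.opensRange_awayι, Proj.opensRange_awayι, Proj.map_preimage_basicOpen])
  have hiso : IsIso (Spec.map (CommRingCat.ofHom (Away.map ρ t))) := by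
    rw [isIso_SpecMap_iff]
    exact away_map_bijective ρ hsurj n₀ hinj hm ht
  have h1 : hpb.flip.isoPullback.hom ≫ Limits.pullback.snd (Proj.map ρ hirr) (Proj.awayι 𝒞 t ht hm) =
      Spec.map (CommRingCat.ofHom (Away.map ρ t)) := hpb.flip.isoPullback_hom_snd
  have h2 : Limits.pullback.snd (Proj.map ρ hirr) (Proj.awayι 𝒞 t ht hm) =
      hpb.flip.isoPullback.inv ≫ Spec.map (CommRingCat.ofHom (Away.map ρ t)) := by
    rw [Iso.eq_inv_comp]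
    exact h1
  rw [h2]
  infer_instance

theorem isIso_map (ρ : 𝒞 →+*ᵍ 𝒜) (hirr : 𝒜₊ ≤ 𝒞₊.map ρ) (hsurj : Function.Surjective ρ) (n₀ : ℕ)
    (hinj : ∀ n, n₀ ≤ n → ∀ x ∈ 𝒞 n, ρ x = 0 → x = 0) : IsIso (Proj.map ρ hirr) := by
  rw [← MorphismProperty.isomorphisms.iff]
  refine IsZariskiLocalAtTarget.of_openCover (P := MorphismProperty.isomorphisms Scheme)
    (Proj.affineOpenCover 𝒞).openCover ?_
  rintro ⟨⟨m, hm⟩, t, ht⟩
  rw [MorphismProperty.isomorphisms.iff]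
  exact isIso_pullback_snd ρ hirr hsurj n₀ hinj hm t ht

end Groth.Agent.Lib.Helper63.ProjIso
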