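import Mathlib

/-!
# Projective Nullstellensatz (weak form)

If a homogeneous ideal `I` has empty zero locus in `Proj`, then every homogeneous element of
positive degree lies in the radical of `I`.
-/

universe u
open DirectSum

namespace Groth.Agent.Lib.Helper63.ProjNull

variable {R B : Type u} [CommRing R] [CommRing B] [Algebra R B]
  (ℬ : ℕ → Submodule R B) [GradedAlgebra ℬ]

theorem mem_radical_of_zeroLocus_eq_empty (I : Ideal B) (hI : I.IsHomogeneous ℬ)
    (h : ProjectiveSpectrum.zeroLocus ℬ (I : Set B) = ∅) :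
    ∀ n : ℕ, 0 < n → ∀ b ∈ ℬ n, b ∈ I.radical := by
  intro n hn b hb
  by_contra hnot
  rw [Ideal.radical_eq_sInf, Ideal.mem_sInf] at hnot
  push Not at hnot
  obtain ⟨P, ⟨hIP, hP⟩, hbP⟩ := hnot
  have hcore : (P.homogeneousCore ℬ).toIdeal.IsPrime := hP.homogeneousCore
  have hle : (P.homogeneousCore ℬ).toIdeal ≤ P := Ideal.toIdeal_homogeneousCore_le ℬ P
  have hIcore : I ≤ (P.homogeneousCore ℬ).toIdeal := by
    have : (I.homogeneousCore ℬ).toIdeal = I := hI.toIdeal_homogeneousCore_eq_self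
    rw [← this]
    exact Ideal.homogeneousCore_mono ℬ hIP
  have hbcore : b ∉ (P.homogeneousCore ℬ).toIdeal := fun hb' => hbP (hle hb')
  have hbirr : b ∈ (HomogeneousIdeal.irrelevant ℬ).toIdeal := by
    change GradedRing.proj ℬ 0 b = 0
    rw [GradedRing.proj_apply, DirectSum.decompose_of_mem_ne ℬ hb (by omega)]
  let x : ProjectiveSpectrum ℬ :=
    ⟨P.homogeneousCore ℬ, hcore, fun hirr => hbcore (hirr hbirr)⟩
  have hx : x ∈ ProjectiveSpectrum.zeroLocus ℬ (I : Set B) := by
    rw [ProjectiveSpectrum.mem_zeroLocus]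
    exact hIcore
  rw [h] at hx
  exact hx

end Groth.Agent.Lib.Helper63.ProjNull
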