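import Mathlib
import Groth.Prelude.Def_RelProj

/-!
# The relative homogeneous spectrum is separated over the base (helper63)
-/

set_option autoImplicit false
universe u

open CategoryTheory CategoryTheory.Limits AlgebraicGeometry TopologicalSpace Opposite

namespace Groth.Agent.Lib.Helper63.RelProjSep

variable {S P : Scheme.{u}} (𝒮 : RelProj.QCGrAlg S) (p : P ⟶ S)
  (chart : ∀ (U : S.Opens) (hU : IsAffineOpen U), (((p ⁻¹ᵁ U : P.Opens) : Scheme.{u}) ≅ Proj (𝒮.deg U hU)))

theorem isSeparated_of_isRelProj (hP : RelProj.IsRelProj 𝒮 p chart) : IsSeparated p := by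
  refine IsZariskiLocalAtTarget.of_iSup_eq_top (P := @IsSeparated) (fun U : S.affineOpens => U.1)
    (iSup_affineOpens_eq_top S) ?_
  intro U
  have h1 : IsSeparated ((p ⁻¹ᵁ U.1).ι ≫ p) := by
    rw [← hP.chart_over U.1 U.2]
    have : IsSeparated (Proj.toSpecZero (𝒮.deg U.1 U.2)) := Proj.isSeparated _
    infer_instance
  have h2 : (p ∣_ U.1) ≫ U.1.ι = (p ⁻¹ᵁ U.1).ι ≫ p := morphismRestrict_ι p U.1
  have h3 : IsSeparated ((p ∣_ U.1) ≫ U.1.ι) := h2 ▸ h1
  exact IsSeparated.of_comp (p ∣_ U.1) U.1.ι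

end Groth.Agent.Lib.Helper63.RelProjSep
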