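import Mathlib
import Groth.Agent.S8261
import Groth.Agent.Lib.Helper42.RelTwistInv
import Groth.Agent.Lib.Helper63.RelProjSep

/-!
# `Proj(𝒮) → Y` is universally closed (hence proper) for `𝒮` generated by `𝒮_1` of finite type (helper63)
-/

set_option autoImplicit false
set_option linter.unusedSectionVars false
universe u

open CategoryTheory CategoryTheory.Limits AlgebraicGeometry TopologicalSpace Opposite
open scoped HomogeneousIdeal
open HomogeneousLocalization

namespace Groth.Agent.Lib.Helper63.ProjUnivClosed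

example (O : Type u) [CommRing O] [IsDomain O] [ValuationRing O] : IsIntegrallyClosed O := inferInstance

section ring
variable {R A : Type u} [CommRing R] [CommRing A] (𝒜 : ℕ → AddSubgroup A) [GradedRing 𝒜]
    (φ : R →+* A) (hφ : ∀ r, φ r ∈ 𝒜 0) (φ₀ : R →+* 𝒜 0) (hφ₀ : ∀ r, (φ₀ r : A) = φ r)
    (hgen : Subring.closure ((𝒜 0 : Set A) ∪ (𝒜 1 : Set A)) = ⊤)
    (T : Finset A) (hT1 : ∀ t ∈ T, t ∈ 𝒜 1) (hT : ∀ x ∈ 𝒜 1, ∃ c : A → R, x = ∑ t ∈ T, φ (c t) * t)

include hφ₀ hT1 hT in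
/-- a degree-one fraction `x / f` is a combination of the `t / f`, `t ∈ T`, with coefficients from `R` -/
theorem away_mk_eq_sum {f : A} (hf : f ∈ 𝒜 1) (x : A) (hx : x ∈ 𝒜 1) :
    ∃ c : A → R, Away.mk 𝒜 hf 1 x (by simpa using hx) =
      ∑ t ∈ T.attach, fromZeroRingHom 𝒜 (Submonoid.powers f) (φ₀ (c t.1)) *
        Away.mk 𝒜 hf 1 t.1 (by simpa using hT1 t.1 t.2) := by
  obtain ⟨c, hc⟩ := hT x hx
  refine ⟨c, ?_⟩
  apply (show Function.Injective (algebraMap (Away 𝒜 f) (Localization.Away f)) from val_injective _)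
  rw [map_sum]
  simp only [HomogeneousLocalization.algebraMap_apply]
  have h1 : ∀ t ∈ T.attach, (fromZeroRingHom 𝒜 (Submonoid.powers f) (φ₀ (c t.1)) *
        Away.mk 𝒜 hf 1 t.1 (by simpa using hT1 t.1 t.2)).val =
      Localization.mk (φ (c t.1) * t.1) (⟨f ^ 1, 1, rfl⟩ : Submonoid.powers f) := by
    intro t _
    rw [val_mul, Away.val_mk, fromZeroRingHom]
    simp only [RingHom.coe_mk, MonoidHom.coe_mk, OneHom.coe_mk, val_mk, Localization.mk_mul, hφ₀]
    congr 1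
    exact one_mul _
  rw [Finset.sum_congr rfl h1, ← Localization.mk_sum, Away.val_mk]
  congr 1
  rw [hc, Finset.sum_attach T (fun t => φ (c t) * t)]

include hφ hφ₀ hgen hT1 hT in
theorem existence_comp :
    ValuativeCriterion.Existence (Proj.toSpecZero 𝒜 ≫ Spec.map (CommRingCat.ofHom φ₀)) := by
  classical
  haveI : Algebra.FiniteType (𝒜 0) A := ⟨⟨T, Groth.Agent.S8261.adjoin_eq_top 𝒜 φ hφ hgen T hT⟩⟩
  rintro ⟨O, K, i₁, i₂, w⟩
  obtain ⟨f, hf1, hfy⟩ := Groth.Agent.Lib.Helper42.RelTilde.exists_degOne_notMem 𝒜 hgen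
    (i₁ (IsLocalRing.closedPoint K))
  have hrange : Set.range i₁ ⊆ (Proj.awayι 𝒜 f hf1 Nat.one_pos).opensRange := by
    rw [Proj.opensRange_awayι]
    rintro _ ⟨x, rfl⟩
    obtain rfl := Subsingleton.elim x (IsLocalRing.closedPoint K)
    exact (Proj.mem_basicOpen 𝒜 f _).mpr hfy
  obtain ⟨φK, hφK⟩ : ∃ φK : Spec (.of K) ⟶ Spec (.of (Away 𝒜 f)),
      φK ≫ Proj.awayι 𝒜 f hf1 Nat.one_pos = i₁ :=
    ⟨IsOpenImmersion.lift _ _ hrange, IsOpenImmersion.lift_fac _ _ hrange⟩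
  obtain ⟨ψ, hψ⟩ : ∃ ψ : Away 𝒜 f →+* K, Spec.map (CommRingCat.ofHom ψ) = φK :=
    ⟨(Spec.preimage φK).hom, Spec.map_preimage φK⟩
  obtain ⟨β, hβ⟩ : ∃ β : R →+* O, Spec.map (CommRingCat.ofHom β) = i₂ :=
    ⟨(Spec.preimage i₂).hom, Spec.map_preimage i₂⟩
  have hi₁ : i₁ ≫ Proj.toSpecZero 𝒜 =
      Spec.map (CommRingCat.ofHom (ψ.comp (fromZeroRingHom 𝒜 (Submonoid.powers f)))) := by
    rw [← hφK, Category.assoc, Proj.awayι_toSpecZero, ← hψ, ← Spec.map_comp]
    rfl
  have H : (algebraMap O K).comp β = (ψ.comp (fromZeroRingHom 𝒜 (Submonoid.powers f))).comp φ₀ := by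
    have h1 := w.w
    rw [← Category.assoc, hi₁, ← hβ, ← Spec.map_comp, ← Spec.map_comp] at h1
    have h2 := Spec.map_injective h1
    have h3 := congrArg (fun m => m.hom) h2
    exact h3.symm
  -- the `O`-submodule of `K` spanned by the images of the `t / f`
  obtain ⟨α, hα⟩ : ∃ α : 𝒜 0 →+* K, α = ψ.comp (fromZeroRingHom 𝒜 (Submonoid.powers f)) := ⟨_, rfl⟩
  have Hα : ∀ r : R, α (φ₀ r) = algebraMap O K (β r) := fun r => by
    rw [hα]; exact (DFunLike.congr_fun H r).symm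
  let N : Submodule O K := Submodule.span O
    (Set.range fun t : T => ψ (Away.mk 𝒜 hf1 1 t.1 (by simpa using hT1 t.1 t.2)))
  have hmemN : ∀ (x : A) (hx : x ∈ 𝒜 1), ψ (Away.mk 𝒜 hf1 1 x (by simpa using hx)) ∈ N := by
    intro x hx
    obtain ⟨c, hc⟩ := away_mk_eq_sum 𝒜 φ φ₀ hφ₀ T hT1 hT hf1 x hx
    rw [hc, map_sum]
    refine Submodule.sum_mem _ fun t _ => ?_
    rw [map_mul]
    have h1 : ψ (fromZeroRingHom 𝒜 (Submonoid.powers f) (φ₀ (c t.1))) = algebraMap O K (β (c t.1)) := by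
      rw [← Hα, hα]; rfl
    rw [h1, ← Algebra.smul_def]
    exact Submodule.smul_mem _ _ (Submodule.subset_span ⟨t, rfl⟩)
  have h1N : (1 : K) ∈ N := by
    have := hmemN f hf1
    have e : Away.mk 𝒜 hf1 1 f (by simpa using hf1) = 1 := by
      apply val_injective
      rw [Away.val_mk, val_one]
      have : (⟨f ^ 1, 1, rfl⟩ : Submonoid.powers f) = ⟨f, 1, pow_one f⟩ := Subtype.ext (pow_one f)
      rw [this]
      exact Localization.mk_self (⟨f, 1, pow_one f⟩ : Submonoid.powers f)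
    rwa [e, map_one] at this
  have hN0 : N ≠ ⊥ := by
    intro h0
    rw [h0, Submodule.mem_bot] at h1N
    exact one_ne_zero h1N
  have hNfg : N.FG := Submodule.fg_span (Set.finite_range _)
  have hstab : ∀ (a : 𝒜 0) (n : K), n ∈ N → α a • n ∈ N := by
    intro a n hn
    induction hn using Submodule.span_induction with
    | mem x hx =>
      obtain ⟨t, rfl⟩ := hx
      have hat : (a : A) * t.1 ∈ 𝒜 1 := by
        simpa using SetLike.mul_mem_graded (A := 𝒜) a.2 (hT1 t.1 t.2)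
      have e : fromZeroRingHom 𝒜 (Submonoid.powers f) a *
          Away.mk 𝒜 hf1 1 t.1 (by simpa using hT1 t.1 t.2) =
          Away.mk 𝒜 hf1 1 ((a : A) * t.1) (by simpa using hat) := by
        apply val_injective
        rw [val_mul, Away.val_mk, Away.val_mk, fromZeroRingHom]
        simp only [RingHom.coe_mk, MonoidHom.coe_mk, OneHom.coe_mk, val_mk, Localization.mk_mul]
        congr 1
        exact one_mul _
      rw [smul_eq_mul, hα, RingHom.comp_apply, ← map_mul, e]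
      exact hmemN _ hat
    | zero => rw [smul_zero]; exact N.zero_mem
    | add x y _ _ hx hy => rw [smul_add]; exact N.add_mem hx hy
    | smul r x _ hx =>
      rw [smul_comm]
      exact N.smul_mem r hx
  have hint : ∀ a : 𝒜 0, α a ∈ (algebraMap O K).range := by
    intro a
    have h1 : IsIntegral O (α a) :=
      isIntegral_of_smul_mem_submodule N hN0 hNfg (α a) (fun n hn => hstab a n hn)
    obtain ⟨y, hy⟩ := IsIntegrallyClosed.isIntegral_iff.mp h1
    exact ⟨y, hy⟩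
  let e : O ≃+* (algebraMap O K).range :=
    (AlgEquiv.ofInjective (Algebra.ofId O K) (IsFractionRing.injective _ _)).toRingEquiv
  let γ : 𝒜 0 →+* O := e.symm.toRingHom.comp (α.codRestrict (algebraMap O K).range hint)
  have hγ : (algebraMap O K).comp γ = α := by
    ext x
    exact congr_arg Subtype.val (e.apply_symm_apply _)
  have hγβ : γ.comp φ₀ = β := by
    ext r
    apply IsFractionRing.injective O K
    have := DFunLike.congr_fun hγ (φ₀ r)
    simp only [RingHom.comp_apply] at this ⊢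
    rw [this, Hα]
  have sq : CommSq i₁ (Spec.map (CommRingCat.ofHom (algebraMap O K))) (Proj.toSpecZero 𝒜)
      (Spec.map (CommRingCat.ofHom γ)) := by
    refine ⟨?_⟩
    rw [hi₁, ← Spec.map_comp, ← hα, ← hγ]
    rfl
  obtain ⟨⟨l, hl1, hl2⟩⟩ := Proj.valuativeCriterion_existence 𝒜 ⟨O, K, i₁, Spec.map (CommRingCat.ofHom γ), sq⟩
  refine ⟨⟨l, hl1, ?_⟩⟩
  have h9 : l ≫ Proj.toSpecZero 𝒜 ≫ Spec.map (CommRingCat.ofHom φ₀) = i₂ := by
    rw [← Category.assoc, hl2, ← Spec.map_comp, ← hβ, ← hγβ]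
    rfl
  exact h9

include hφ hφ₀ hgen hT1 hT in
theorem universallyClosed_comp :
    UniversallyClosed (Proj.toSpecZero 𝒜 ≫ Spec.map (CommRingCat.ofHom φ₀)) := by
  have : Algebra.FiniteType (𝒜 0) A := ⟨⟨T, Groth.Agent.S8261.adjoin_eq_top 𝒜 φ hφ hgen T hT⟩⟩
  exact UniversallyClosed.of_valuativeCriterion _ (existence_comp 𝒜 φ hφ φ₀ hφ₀ hgen T hT1 hT)

end ring

section rel
variable {Y P : Scheme.{u}} (𝒮 : RelProj.QCGrAlg Y) (hgen : 𝒮.IsGenDegOne) (hft : 𝒮.IsFTDeg 1) (p : P ⟶ Y)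
    (chart : ∀ (U : Y.Opens) (hU : IsAffineOpen U), (((p ⁻¹ᵁ U : P.Opens) : Scheme.{u}) ≅ Proj (𝒮.deg U hU)))
    (hP : RelProj.IsRelProj 𝒮 p chart)

include hgen hft hP in
/-- `Proj(𝒮) → Y` is universally closed for `𝒮` generated by `𝒮_1` of finite type. -/
theorem universallyClosed_of_isRelProj : UniversallyClosed p := by
  rw [IsZariskiLocalAtTarget.iff_of_iSup_eq_top (P := @UniversallyClosed) _ (iSup_affineOpens_eq_top Y)]
  intro U
  have key : p ∣_ U.1 = (chart U.1 U.2).hom ≫ Proj.toSpecZero (𝒮.deg U.1 U.2) ≫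
      Spec.map (𝒮.strZero U.1 U.2) ≫ U.2.isoSpec.inv := by
    rw [← cancel_mono U.1.ι]
    simp only [Category.assoc, IsAffineOpen.isoSpec_inv_ι]
    rw [hP.chart_over U.1 U.2]
    simp
  rw [key]
  obtain ⟨T, hT1, hT⟩ := hft U.1 U.2
  have h : UniversallyClosed (Proj.toSpecZero (𝒮.deg U.1 U.2) ≫ Spec.map (𝒮.strZero U.1 U.2)) :=
    universallyClosed_comp (𝒮.deg U.1 U.2) (𝒮.str.app (op U.1)).hom (𝒮.str_mem U.1 U.2)
      (𝒮.strZero U.1 U.2).hom (fun r => rfl) (hgen U.1 U.2) T (fun t ht => hT1 ht) hT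
  rw [← Category.assoc, ← Category.assoc, Category.assoc (chart U.1 U.2).hom]
  infer_instance

include hgen hft hP in
/-- `Proj(𝒮) → Y` is proper for `𝒮` generated by `𝒮_1` of finite type. -/
theorem isProper_of_isRelProj : IsProper p :=
  { toIsSeparated := Groth.Agent.Lib.Helper63.RelProjSep.isSeparated_of_isRelProj 𝒮 p chart hP
    toUniversallyClosed := universallyClosed_of_isRelProj 𝒮 hgen hft p chart hP
    toLocallyOfFiniteType := (Groth.Agent.S8261.result 𝒮 hgen hft p chart hP).1 }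

end rel

end Groth.Agent.Lib.Helper63.ProjUnivClosed
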