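import Mathlib

set_option autoImplicit false
universe u

namespace Groth.Agent.Lib.Helper63.RelFP

open TensorProduct

/-- descent of finite presentation along a surjection -/
theorem fp_of_surjective {B C N : Type*} [CommRing B] [CommRing C] [Algebra B C]
    (hs : Function.Surjective (algebraMap B C)) [AddCommGroup N] [Module B N] [Module C N]
    [IsScalarTower B C N] [Module.FinitePresentation B N] : Module.FinitePresentation C N := by
  let f : C ⊗[B] N →ₗ[C] N := LinearMap.liftBaseChange C (LinearMap.id : N →ₗ[B] N)
  have hform : ∀ x : C ⊗[B] N, ∃ n : N, x = (1 : C) ⊗ₜ[B] n := by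
    intro x
    induction x with
    | zero => exact ⟨0, (tmul_zero _ _).symm⟩
    | tmul c n =>
      obtain ⟨b, rfl⟩ := hs c
      refine ⟨b • n, ?_⟩
      rw [← TensorProduct.smul_tmul, Algebra.smul_def, mul_one]
    | add x y hx hy =>
      obtain ⟨n, rfl⟩ := hx
      obtain ⟨n', rfl⟩ := hy
      exact ⟨n + n', (tmul_add _ _ _).symm⟩
  refine Module.finitePresentation_of_surjective f (fun n => ⟨1 ⊗ₜ n, by simp [f]⟩) ?_
  have : LinearMap.ker f = ⊥ := by
    rw [LinearMap.ker_eq_bot']
    intro x hx
    obtain ⟨n, rfl⟩ := hform x
    have : n = 0 := by simpa [f] using hx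
    rw [this, tmul_zero]
  rw [this]
  exact Submodule.fg_bot

/-- ascent of finite presentation along a surjection with finitely generated kernel -/
theorem fp_of_surjective_of_fg_ker {B C N : Type*} [CommRing B] [CommRing C] [Algebra B C]
    (hs : Function.Surjective (algebraMap B C)) (hk : (RingHom.ker (algebraMap B C)).FG)
    [AddCommGroup N] [Module B N] [Module C N]
    [IsScalarTower B C N] [Module.FinitePresentation C N] : Module.FinitePresentation B N := by
  have : Module.FinitePresentation B C := by
    refine Module.finitePresentation_of_surjective (Algebra.linearMap B C) hs ?_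
    have : LinearMap.ker (Algebra.linearMap B C) = RingHom.ker (algebraMap B C) := by
      ext x; simp [RingHom.mem_ker]
    rw [this]; exact hk
  exact Module.FinitePresentation.trans B N C

end Groth.Agent.Lib.Helper63.RelFP
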