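import Mathlib
import Groth.Agent.Lib.Helper63.RelTwistAmple

/-!
# `O_P(d)` on a relative `Proj` is invertible and ample over the affine opens of the base where `Proj 𝒮(V)` is
covered by the `D₊(g)`, `g` of degree `d`  (no generation in degree one)
-/

set_option autoImplicit false
universe u
open CategoryTheory CategoryTheory.Limits AlgebraicGeometry Opposite TopologicalSpace
noncomputable section

namespace Groth.Agent.Lib.Helper63.RelTwistAmpleD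

open Groth.Agent.Lib.Helper45 Groth.Agent.Lib.Helper49
  Groth.Agent.Lib.Helper11.GenLocus Groth.Agent.Lib.Helper17.UPGlue
  Groth.Agent.Lib.Helper42.RelTilde Groth.Agent.Lib.Helper42.RelTwistBasis
  Groth.Agent.Lib.Helper42 Groth.Agent.Lib.Helper63.RelTwistAmple

variable {Y P : Scheme.{u}} {𝒮 : RelProj.QCGrAlg Y} {p : P ⟶ Y}
  {chart : ∀ (U : Y.Opens) (hU : IsAffineOpen U), (((p ⁻¹ᵁ U : P.Opens) : Scheme.{u}) ≅ Proj (𝒮.deg U hU))}
  {d : ℕ} {L : P.Modules}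
  {lam : ∀ (U : Y.Opens) (hU : IsAffineOpen U),
      L ⟶ (Scheme.Modules.pushforward (RelProj.emb p chart U hU)).obj (GrTwist.twist (𝒮.deg U hU) (d : ℤ))}

/-- the covering hypothesis over one affine open `V`: the `D₊(g)`, `g ∈ 𝒮(V)_d`, cover `Proj 𝒮(V)` -/
def CoverD (𝒮 : RelProj.QCGrAlg Y) (d : ℕ) (V : Y.Opens) (hV : IsAffineOpen V) : Prop :=
  ∀ y : ProjectiveSpectrum (𝒮.deg V hV), ∃ g ∈ 𝒮.deg V hV d, g ∉ y.asHomogeneousIdeal

/-- `O_P(d)` is trivial near every point over an affine `V` satisfying the covering hypothesis. -/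
theorem exists_triv_of_coverD (hL : RelProj.IsRelTwist 𝒮 p chart (d : ℤ) L lam)
    (V : Y.Opens) (hV : IsAffineOpen V) (hc : CoverD 𝒮 d V hV) (x : P) (hx : x ∈ p ⁻¹ᵁ V) :
    ∃ W : P.Opens, x ∈ W ∧
      Nonempty (L.restrict W.ι ≅ Coh.structureModule (W : Scheme.{u})) := by
  obtain ⟨y, rfl⟩ := exists_emb_eq (chart := chart) V hV hx
  obtain ⟨f, hfd, hfy⟩ := hc y
  have h1mem : (1 : 𝒮.presheaf.obj (op V)) ∈ 𝒮.deg V hV 0 := SetLike.GradedOne.one_mem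
  let D : (Proj (𝒮.deg V hV)).Opens := Proj.basicOpen (𝒮.deg V hV) f
  have hnotf : ∀ z : ↑D, f ∉ (D.ι.base z).asHomogeneousIdeal := fun z =>
    (Proj.mem_basicOpen (𝒮.deg V hV) f z.1).mp z.2
  have hnot1 : ∀ z : ↑D, (1 : 𝒮.presheaf.obj (op V)) ∉ (D.ι.base z).asHomogeneousIdeal := fun z h1z =>
    (D.ι.base z).isPrime.ne_top ((Ideal.eq_top_iff_one _).mpr h1z)
  obtain ⟨e1⟩ := TwistTrivA.nonempty_restrict_iso (𝒮.deg V hV) (d : ℤ) hfd h1mem (by simp)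
    D.ι hnot1 hnotf
  let j : (D : Scheme.{u}) ⟶ P := D.ι ≫ RelProj.emb p chart V hV
  have e2 : L.restrict j ≅ Coh.structureModule (D : Scheme.{u}) :=
    (Scheme.Modules.restrictFunctorComp D.ι (RelProj.emb p chart V hV)).app L ≪≫
      (Scheme.Modules.restrictFunctor D.ι).mapIso (chartIsoTwist hL V hV) ≪≫ e1
  exact ⟨j.opensRange, ⟨⟨y, hfy⟩, rfl⟩, nonempty_restrict_opensRange_iso j L e2⟩

/-- the section of `O_P(d)` over `p⁻¹V` reading `g / 1`, `g` of degree `d` over the affine `V`: its basis locus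
is `D₊(g)`. -/
theorem exists_section_reading (hL : RelProj.IsRelTwist 𝒮 p chart (d : ℤ) L lam)
    (V : Y.Opens) (hV : IsAffineOpen V) (hc : CoverD 𝒮 d V hV)
    (g : 𝒮.presheaf.obj (op V)) (hg : g ∈ 𝒮.deg V hV d) :
    ∃ t : Γ(L, p ⁻¹ᵁ V), ∀ (W' : P.Opens) (hW' : W' ≤ p ⁻¹ᵁ V),
      IsBasisOn L W' (mres L hW' t) ↔
        W' ≤ (RelProj.emb p chart V hV) ''ᵁ (Proj.basicOpen (𝒮.deg V hV) g) := by
  have h1mem : (1 : 𝒮.presheaf.obj (op V)) ∈ 𝒮.deg V hV 0 := SetLike.GradedOne.one_mem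
  have h1not : ∀ z : (RelProj.emb p chart V hV ⁻¹ᵁ (p ⁻¹ᵁ V) : (Proj (𝒮.deg V hV)).Opens),
      (1 : 𝒮.presheaf.obj (op V)) ∉ z.1.asHomogeneousIdeal :=
    fun z h1z => z.1.isPrime.ne_top ((Ideal.eq_top_iff_one _).mpr h1z)
  have hab : ((d : ℕ) : ℤ) = ((0 : ℕ) : ℤ) + (d : ℤ) := by simp
  obtain ⟨t, ht⟩ := (hL.bijective V hV (p ⁻¹ᵁ V) le_rfl).surjective
    (TwistTrivA.fracN (𝒮.deg V hV) (d : ℤ) hg h1mem hab _ h1not)
  have hval : ∀ (y : ProjectiveSpectrum (𝒮.deg V hV)) (hy : (RelProj.emb p chart V hV).base y ∈ p ⁻¹ᵁ V),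
      GrTwist.val (V := RelProj.emb p chart V hV ⁻¹ᵁ (p ⁻¹ᵁ V)) ((lam V hV).app _ t) ⟨y, hy⟩ =
        Localization.mk g 1 := by
    intro y hy
    rw [ht]
    rfl
  refine ⟨t, fun W' hW' => ⟨fun hb => ?_, fun hle => ?_⟩⟩
  · intro x hx
    obtain ⟨y, rfl⟩ := exists_emb_eq (chart := chart) V hV (hW' hx)
    obtain ⟨g', hg'1, hg'y⟩ := hc y
    obtain ⟨t', ht'⟩ := (hL.bijective V hV (p ⁻¹ᵁ V) le_rfl).surjective
      (TwistTrivA.fracN (𝒮.deg V hV) (d : ℤ) hg'1 h1mem hab _ h1not)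
    obtain ⟨r, hr⟩ := hb.exists_eq_smul (mres L hW' t')
    have h2 := congrArg (fun t => GrTwist.val (V := RelProj.emb p chart V hV ⁻¹ᵁ W')
      ((lam V hV).app _ t) ⟨y, hx⟩) hr
    simp only at h2
    rw [val_lam_smul, val_lam_mres, val_lam_mres, hval y (hW' hx), ht'] at h2
    have h4 : GrTwist.val (V := RelProj.emb p chart V hV ⁻¹ᵁ (p ⁻¹ᵁ V))
        (TwistTrivA.fracN (𝒮.deg V hV) (d : ℤ) hg'1 h1mem hab _ h1not) ⟨y, hW' hx⟩ =
        Localization.mk g' 1 := rfl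
    rw [h4] at h2
    have hgy : g ∉ y.asHomogeneousIdeal := notMem_of_mul_mk_eq y hg'y _ h2
    exact ⟨y, (ProjectiveSpectrum.mem_basicOpen _ _ _).mpr hgy, rfl⟩
  · refine isBasisOn_of_val hL V hV hg h1mem hab W' hW' ?_ ?_ _ ?_
    · intro y hy
      obtain ⟨y', hy', e⟩ := hle hy
      have : y' = y := (RelProj.emb p chart V hV).isOpenEmbedding.injective e
      subst this
      exact (ProjectiveSpectrum.mem_basicOpen _ _ _).mp hy'
    · intro y hy h1y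
      exact y.isPrime.ne_top ((Ideal.eq_top_iff_one _).mpr h1y)
    · intro y hy
      rw [val_lam_mres]
      exact hval y (hW' hy)

/-- `O_P(d)` restricted to the preimage of an affine open satisfying the covering hypothesis is ample. -/
theorem isAmple_restrict_twist (hL : RelProj.IsRelTwist 𝒮 p chart (d : ℤ) L lam) (hd : 0 < d)
    (hinv : PicF.IsInvertible L)
    (V : Y.Opens) (hV : IsAffineOpen V) (hc : CoverD 𝒮 d V hV)
    (hcpt : CompactSpace ↥(p ⁻¹ᵁ V)) :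
    CohB1.IsAmple (L.restrict (p ⁻¹ᵁ V).ι) := by
  refine ⟨isInvertible_restrict' _ hinv, hcpt, ?_⟩
  rintro ⟨x, hx⟩
  obtain ⟨y, rfl⟩ := exists_emb_eq (chart := chart) V hV hx
  obtain ⟨g, hg1, hgy⟩ := hc y
  obtain ⟨t, ht⟩ := exists_section_reading hL V hV hc g hg1
  have hG : (RelProj.emb p chart V hV) ''ᵁ (Proj.basicOpen (𝒮.deg V hV) g) ≤ p ⁻¹ᵁ V :=
    ((RelProj.emb p chart V hV).image_le_opensRange _).trans (le_of_eq (opensRange_emb V hV))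
  obtain ⟨s, hs⟩ := exists_section_restrict L (p ⁻¹ᵁ V) t _ hG ht
  obtain ⟨s', hs'⟩ := exists_tensorPow_one_genLocus_eq s
  refine ⟨0, s', ?_, ?_⟩
  · rw [hs']
    have hmem : (RelProj.emb p chart V hV).base y ∈ (p ⁻¹ᵁ V).ι ''ᵁ (CohB1.genLocus _ s) := by
      rw [hs]
      exact ⟨y, (ProjectiveSpectrum.mem_basicOpen _ _ _).mpr hgy, rfl⟩
    obtain ⟨z, hz, hzx⟩ := hmem
    have : z = ⟨_, hx⟩ := Subtype.ext hzx
    rw [← this]
    exact hz
  · rw [hs', Scheme.Hom.isAffineOpen_iff_of_isOpenImmersion (p ⁻¹ᵁ V).ι |>.symm, hs]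
    exact (Proj.isAffineOpen_basicOpen (𝒮.deg V hV) g hg1 hd).image_of_isOpenImmersion _

end Groth.Agent.Lib.Helper63.RelTwistAmpleD
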