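import Mathlib
import Groth.Prelude.Def_W4c1hurwitzcptBd

/-!
# Lattices in `k⟦x⟧` over `k⟦x^p⟧` (helper63)

Every `k⟦t⟧`-submodule `M` of `RootDisk p k` (`= k⟦x⟧`, `t = x^p`) is spanned by elements `g r`
(`r : Fin p`), each either zero or of `x`-adic order `≡ r mod p`; the nonzero ones are linearly
independent.
-/

set_option autoImplicit false
set_option linter.unusedSectionVars false

namespace Groth.Agent.Lib.Helper63.RootLattice

open W4c1hurwitzcpt PowerSeries

universe u

variable {p : ℕ} [NeZero p] {k : Type u} [Field k]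

lemma val_smul (a : PowerSeries k) (s : RootDisk p k) :
    RootDisk.val (a • s) = PowerSeries.expand p (NeZero.ne p) a * RootDisk.val s := rfl

lemma order_smul (a : PowerSeries k) (s : RootDisk p k) :
    (RootDisk.val (a • s)).order = p • a.order + (RootDisk.val s).order := by
  rw [val_smul, PowerSeries.order_mul, PowerSeries.order_expand]

lemma val_eq_zero (s : RootDisk p k) : RootDisk.val s = 0 ↔ s = 0 :=
  map_eq_zero_iff _ (RootDisk.val (p := p) (k := k)).injective

/-- the `j`-th power of `x` -/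
noncomputable def xpow (p : ℕ) (k : Type u) [Field k] (j : ℕ) : RootDisk p k :=
  (RootDisk.val (p := p) (k := k)).symm (X ^ j)

lemma val_xpow (j : ℕ) : RootDisk.val (xpow p k j) = X ^ j :=
  RingEquiv.apply_symm_apply _ _

theorem decomp (s : RootDisk p k) :
    s = ∑ j : Fin p, (PowerSeries.mk fun n => coeff (p * n + j) (RootDisk.val s)) •
      xpow p k (j : ℕ) := by
  have hp : 0 < p := Nat.pos_of_ne_zero (NeZero.ne p)
  apply (RootDisk.val (p := p) (k := k)).injective
  rw [map_sum]
  ext m
  rw [map_sum]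
  rw [Finset.sum_eq_single (⟨m % p, Nat.mod_lt _ hp⟩ : Fin p)]
  · rw [val_smul, val_xpow, mul_comm, coeff_X_pow_mul', if_pos (Nat.mod_le m p), coeff_expand,
      if_pos (Nat.dvd_sub_mod m), coeff_mk]
    have : p * ((m - m % p) / p) + m % p = m := by
      rw [Nat.mul_div_cancel' (Nat.dvd_sub_mod m)]
      exact Nat.sub_add_cancel (Nat.mod_le m p)
    show _ = coeff (p * ((m - m % p) / p) + m % p) (RootDisk.val s)
    rw [this]
  · intro j _ hj
    rw [val_smul, val_xpow, mul_comm, coeff_X_pow_mul']
    by_cases h1 : (j : ℕ) ≤ m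
    · rw [if_pos h1, coeff_expand]
      by_cases h2 : p ∣ m - j
      · exfalso
        apply hj
        obtain ⟨q, hq⟩ := h2
        have hm : m = j + p * q := by omega
        apply Fin.ext
        show (j : ℕ) = m % p
        rw [hm, Nat.add_mul_mod_self_left, Nat.mod_eq_of_lt j.2]
      · rw [if_neg h2]
    · rw [if_neg h1]
  · intro h
    exact absurd (Finset.mem_univ _) h

instance instFinite : Module.Finite (PowerSeries k) (RootDisk p k) := by
  refine Module.Finite.of_surjective
    (Fintype.linearCombination (PowerSeries k) (fun j : Fin p => xpow p k (j : ℕ))) ?_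
  intro s
  refine ⟨fun j => PowerSeries.mk fun n => coeff (p * n + j) (RootDisk.val s), ?_⟩
  rw [Fintype.linearCombination_apply]
  exact (decomp s).symm

theorem mem_of_approx (N : Submodule (PowerSeries k) (RootDisk p k)) (m : RootDisk p k)
    (h : ∀ n : ℕ, ∃ y ∈ N, ((p * n : ℕ) : ℕ∞) ≤ (RootDisk.val (m - y)).order) : m ∈ N := by
  have hne : Ideal.span {(X : PowerSeries k)} ≠ ⊤ := by
    rw [Ne, Ideal.span_singleton_eq_top]
    exact (PowerSeries.X_prime (R := k)).not_isUnit
  have hK := Ideal.iInf_pow_smul_eq_bot_of_isLocalRing (R := PowerSeries k)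
    (M := RootDisk p k ⧸ N) (Ideal.span {X}) hne
  have hm : N.mkQ m ∈ ⨅ i, (Ideal.span {(X : PowerSeries k)}) ^ i •
      (⊤ : Submodule (PowerSeries k) (RootDisk p k ⧸ N)) := by
    rw [Submodule.mem_iInf]
    intro n
    obtain ⟨y, hy, hord⟩ := h n
    have hdvd : X ^ (p * n) ∣ RootDisk.val (m - y) := by
      rw [X_pow_dvd_iff]
      intro i hi
      exact coeff_of_lt_order _ (lt_of_lt_of_le (by exact_mod_cast hi) hord)
    obtain ⟨s', hs'⟩ := hdvd
    have h1 : m - y = (X ^ n : PowerSeries k) • ((RootDisk.val (p := p) (k := k)).symm s') := by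
      apply (RootDisk.val (p := p) (k := k)).injective
      rw [val_smul, map_pow, expand_X, ← pow_mul, RingEquiv.apply_symm_apply, hs']
    have h2 : N.mkQ m = (X ^ n : PowerSeries k) •
        N.mkQ ((RootDisk.val (p := p) (k := k)).symm s') := by
      rw [← map_smul, ← h1, map_sub]
      have : N.mkQ y = 0 := (Submodule.Quotient.mk_eq_zero N).mpr hy
      rw [this, sub_zero]
    rw [h2]
    exact Submodule.smul_mem_smul (Ideal.pow_mem_pow (Ideal.mem_span_singleton_self _) n)
      Submodule.mem_top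
  rw [hK] at hm
  exact (Submodule.Quotient.mk_eq_zero N).mp ((Submodule.mem_bot _).mp hm)

lemma order_eq_coe {f : PowerSeries k} (hf : f ≠ 0) : f.order = (f.order.toNat : ℕ∞) :=
  (coe_toNat_order hf).symm

theorem exists_gens (M : Submodule (PowerSeries k) (RootDisk p k)) :
    ∃ g : Fin p → RootDisk p k,
      (∀ r, g r ∈ M) ∧ (∀ r, g r ≠ 0 → (RootDisk.val (g r)).order.toNat % p = r) ∧
      Submodule.span (PowerSeries k) (Set.range g) = M := by
  classical
  have hp : 0 < p := Nat.pos_of_ne_zero (NeZero.ne p)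
  have key : ∀ r : Fin p, ∃ gr : RootDisk p k, gr ∈ M ∧
      (gr ≠ 0 → (RootDisk.val gr).order.toNat % p = r) ∧
      (∀ m ∈ M, m ≠ 0 → (RootDisk.val m).order.toNat % p = r →
        gr ≠ 0 ∧ (RootDisk.val gr).order.toNat ≤ (RootDisk.val m).order.toNat) := by
    intro r
    by_cases hE : ∃ n : ℕ, ∃ m ∈ M, m ≠ 0 ∧ (RootDisk.val m).order.toNat = n ∧ n % p = r
    · obtain ⟨m0, hm0M, hm0ne, hord, hmod⟩ := Nat.find_spec hE
      refine ⟨m0, hm0M, fun _ => ?_, fun m hm hmne hmr => ⟨hm0ne, ?_⟩⟩
      · rw [hord]; exact hmod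
      · rw [hord]
        exact Nat.find_min' hE ⟨m, hm, hmne, rfl, hmr⟩
    · refine ⟨0, M.zero_mem, fun h => absurd rfl h, fun m hm hmne hmr => ?_⟩
      exact absurd ⟨_, m, hm, hmne, rfl, hmr⟩ hE
  choose g hgM hgmod hgmin using key
  have hle : Submodule.span (PowerSeries k) (Set.range g) ≤ M := by
    rw [Submodule.span_le]
    rintro _ ⟨r, rfl⟩
    exact hgM r
  have happrox : ∀ m ∈ M, ∀ n : ℕ, ∃ y ∈ Submodule.span (PowerSeries k) (Set.range g),
      (n : ℕ∞) ≤ (RootDisk.val (m - y)).order := by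
    intro m hm n
    induction n with
    | zero => exact ⟨0, Submodule.zero_mem _, by simp⟩
    | succ n ih =>
      obtain ⟨y, hy, hord⟩ := ih
      by_cases hlt : ((n + 1 : ℕ) : ℕ∞) ≤ (RootDisk.val (m - y)).order
      · exact ⟨y, hy, hlt⟩
      obtain ⟨d, hd⟩ : ∃ d, d = m - y := ⟨_, rfl⟩
      rw [← hd] at hlt hord
      have hdM : d ∈ M := by rw [hd]; exact M.sub_mem hm (hle hy)
      have hdne : d ≠ 0 := by
        intro h0
        apply hlt
        rw [h0, map_zero, order_zero]
        exact le_top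
      have hvdne : RootDisk.val d ≠ 0 := fun h => hdne ((val_eq_zero d).mp h)
      have hordn : (RootDisk.val d).order.toNat = n := by
        rw [order_eq_coe hvdne] at hlt hord
        have h1 : n ≤ (RootDisk.val d).order.toNat := by exact_mod_cast hord
        have h2 : ¬ n + 1 ≤ (RootDisk.val d).order.toNat := fun h => hlt (by exact_mod_cast h)
        omega
      obtain ⟨r, hr⟩ : ∃ r : Fin p, r = ⟨n % p, Nat.mod_lt _ hp⟩ := ⟨_, rfl⟩
      have hnr : n % p = r := by rw [hr]
      obtain ⟨hgne, hgle⟩ := hgmin r d hdM hdne (by rw [hordn]; exact hnr)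
      have hvgne : RootDisk.val (g r) ≠ 0 := fun h => hgne ((val_eq_zero _).mp h)
      obtain ⟨er, her⟩ : ∃ er, er = (RootDisk.val (g r)).order.toNat := ⟨_, rfl⟩
      rw [hordn, ← her] at hgle
      have hermod : er % p = n % p := by rw [her, hgmod r hgne, hnr]
      obtain ⟨e, he⟩ : p ∣ n - er :=
        Nat.dvd_of_mod_eq_zero (Nat.sub_mod_eq_zero_of_mod_eq hermod.symm)
      have hcg : coeff er (RootDisk.val (g r)) ≠ 0 := by rw [her]; exact coeff_order hvgne
      obtain ⟨c, hc⟩ : ∃ c, c = coeff n (RootDisk.val d) / coeff er (RootDisk.val (g r)) :=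
        ⟨_, rfl⟩
      refine ⟨y + (C c * X ^ e : PowerSeries k) • g r,
        Submodule.add_mem _ hy (Submodule.smul_mem _ _ (Submodule.subset_span ⟨r, rfl⟩)), ?_⟩
      have hval : RootDisk.val (m - (y + (C c * X ^ e : PowerSeries k) • g r)) =
          RootDisk.val d - C c * (X ^ (p * e) * RootDisk.val (g r)) := by
        have : m - (y + (C c * X ^ e : PowerSeries k) • g r) =
            d - (C c * X ^ e : PowerSeries k) • g r := by rw [hd]; abel
        rw [this, map_sub, val_smul, map_mul, map_pow, expand_X, ← pow_mul, mul_assoc]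
        congr 2
        exact expand_C p (NeZero.ne p) c
      rw [hval]
      refine nat_le_order _ (n + 1) (fun i hi => ?_)
      rw [map_sub, coeff_C_mul, coeff_X_pow_mul']
      by_cases hin : i = n
      · rw [hin, if_pos (by omega : p * e ≤ n)]
        have : n - p * e = er := by omega
        rw [this, hc, div_mul_cancel₀ _ hcg, sub_self]
      · have hilt : i < n := by omega
        have h1 : coeff i (RootDisk.val d) = 0 :=
          coeff_of_lt_order_toNat i (by rw [hordn]; exact hilt)
        rw [h1]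
        by_cases h2 : p * e ≤ i
        · rw [if_pos h2]
          have h3 : coeff (i - p * e) (RootDisk.val (g r)) = 0 :=
            coeff_of_lt_order_toNat _ (by rw [← her]; omega)
          rw [h3, mul_zero, sub_zero]
        · rw [if_neg h2, mul_zero, sub_zero]
  refine ⟨g, hgM, hgmod, le_antisymm hle (fun m hm => ?_)⟩
  exact mem_of_approx _ m (fun n => happrox m hm (p * n))

theorem indep (g : Fin p → RootDisk p k)
    (hg : ∀ r, g r ≠ 0 → (RootDisk.val (g r)).order.toNat % p = r)
    (a : Fin p → PowerSeries k) (h : ∑ r, a r • g r = 0) : ∀ r, a r = 0 ∨ g r = 0 := by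
  classical
  by_contra hcon
  push Not at hcon
  obtain ⟨r1, hr1a, hr1g⟩ := hcon
  obtain ⟨Z, hZ⟩ : ∃ Z : Finset (Fin p), Z = Finset.univ.filter (fun r => a r ≠ 0 ∧ g r ≠ 0) :=
    ⟨_, rfl⟩
  have hZmem : ∀ r, r ∈ Z ↔ a r ≠ 0 ∧ g r ≠ 0 := by
    intro r; rw [hZ]; simp
  have hZne : Z.Nonempty := ⟨r1, (hZmem r1).mpr ⟨hr1a, hr1g⟩⟩
  obtain ⟨w, hw⟩ : ∃ w : Fin p → ℕ, w = fun r => (RootDisk.val (a r • g r)).order.toNat :=
    ⟨_, rfl⟩
  have hwZ : ∀ r ∈ Z, RootDisk.val (a r • g r) ≠ 0 ∧ w r % p = r := by
    intro r hr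
    obtain ⟨har, hgr⟩ := (hZmem r).mp hr
    have hvg : RootDisk.val (g r) ≠ 0 := fun h => hgr ((val_eq_zero _).mp h)
    have h1 : (RootDisk.val (a r • g r)).order =
        ((p * (a r).order.toNat + (RootDisk.val (g r)).order.toNat : ℕ) : ℕ∞) := by
      rw [order_smul, order_eq_coe har, order_eq_coe hvg]
      push_cast
      simp
    constructor
    · intro h0
      rw [h0, order_zero] at h1
      exact ENat.top_ne_natCast _ h1
    · rw [hw]
      show (RootDisk.val (a r • g r)).order.toNat % p = r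
      rw [h1, ENat.toNat_natCast, Nat.mul_add_mod]
      exact hg r hgr
  obtain ⟨r0, hr0Z, hmin⟩ := Finset.exists_min_image Z w hZne
  have h2 := congrArg (fun s => coeff (w r0) (RootDisk.val s)) h
  simp only [map_sum, map_zero] at h2
  rw [Finset.sum_eq_single r0] at h2
  · have h3 : coeff (w r0) (RootDisk.val (a r0 • g r0)) ≠ 0 := by
      rw [hw]
      exact coeff_order (hwZ r0 hr0Z).1
    exact h3 h2
  · intro r _ hr
    by_cases hrZ : r ∈ Z
    · have h4 : w r0 ≤ w r := hmin r hrZ
      have h5 : w r0 ≠ w r := by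
        intro heq
        apply hr
        apply Fin.ext
        rw [← (hwZ r hrZ).2, ← (hwZ r0 hr0Z).2, heq]
      apply coeff_of_lt_order_toNat
      have : w r = (RootDisk.val (a r • g r)).order.toNat := by rw [hw]
      omega
    · rw [hZmem] at hrZ
      have : a r • g r = 0 := by
        by_cases har : a r = 0
        · rw [har, zero_smul]
        · have : g r = 0 := by
            by_contra hgr
            exact hrZ ⟨har, hgr⟩
          rw [this, smul_zero]
      rw [this, map_zero, map_zero]
  · intro h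
    exact absurd (Finset.mem_univ _) h

end Groth.Agent.Lib.Helper63.RootLattice
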