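import Mathlib
import Groth.Agent.Lib.Helper63.SNat

/-!
# `S♮`: the projection `S♮ → S`, finite type and Noetherian transfer.
-/

universe u
open Polynomial DirectSum

set_option linter.unusedSectionVars false
set_option linter.unusedVariables false

namespace Groth.Agent.Lib.Helper63.SNat

section proj

variable {R A B : Type u} [CommRing R] [CommRing A] [Algebra R A]
  (𝒜 : ℕ → Submodule R A) [GradedAlgebra 𝒜] [CommRing B] [Algebra R B]
  (ℬ : ℕ → Submodule R B) [GradedAlgebra ℬ]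
  (φ : B →ₐ[R] Polynomial A)

/-- `Σ a_n X^n ↦ Σ (a_n)_n`. -/
noncomputable def ρ : A[X] →ₗ[R] A := Polynomial.lsum (fun n => GradedAlgebra.proj 𝒜 n)

lemma ρ_monomial (n : ℕ) (a : A) : ρ 𝒜 (Polynomial.monomial n a) = GradedAlgebra.proj 𝒜 n a := by
  simp [ρ, Polynomial.lsum_apply, Polynomial.sum_monomial_index]

/-- the projection `B → A` as a linear map -/
noncomputable def πlin : B →ₗ[R] A := (ρ 𝒜).comp φ.toLinearMap

lemma πlin_apply (b : B) : πlin 𝒜 φ b = ρ 𝒜 (φ b) := rfl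

variable (hφ : Function.Injective φ)
  (hdeg : ∀ n : ℕ, Submodule.map φ.toLinearMap (ℬ n) =
    Submodule.map ((Polynomial.monomial n : A →ₗ[A] Polynomial A).restrictScalars R)
      (⨆ (m : ℕ) (_ : n ≤ m), 𝒜 m))

include hφ hdeg

lemma exists_of_mem_ℬ {n : ℕ} {b : B} (hb : b ∈ ℬ n) :
    ∃ a ∈ F 𝒜 n, φ b = Polynomial.monomial n a := by
  rw [ℬ_eq_Φ 𝒜 ℬ φ hφ hdeg n] at hb
  exact (mem_Φ φ).mp hb

lemma πlin_mul (b b' : B) : πlin 𝒜 φ (b * b') = πlin 𝒜 φ b * πlin 𝒜 φ b' := by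
  classical
  induction b using DirectSum.Decomposition.inductionOn ℬ with
  | zero => simp
  | add x y hx hy => rw [add_mul, map_add, map_add, hx, hy, add_mul]
  | homogeneous x =>
    rename_i n
    induction b' using DirectSum.Decomposition.inductionOn ℬ with
    | zero => simp
    | add y z hy hz => rw [mul_add, map_add, map_add, hy, hz, mul_add]
    | homogeneous y =>
      rename_i m
      obtain ⟨a, ha, hxa⟩ := exists_of_mem_ℬ 𝒜 ℬ φ hφ hdeg x.2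
      obtain ⟨a', ha', hya⟩ := exists_of_mem_ℬ 𝒜 ℬ φ hφ hdeg y.2
      rw [πlin_apply, πlin_apply, πlin_apply, map_mul, hxa, hya, Polynomial.monomial_mul_monomial,
        ρ_monomial, ρ_monomial, ρ_monomial, proj_mul_of_mem_F 𝒜 ha ha']

lemma πlin_one : πlin 𝒜 φ 1 = 1 := by
  rw [πlin_apply, map_one]
  have : (1 : A[X]) = Polynomial.monomial 0 1 := rfl
  rw [this, ρ_monomial, proj_of_mem 𝒜 SetLike.GradedOne.one_mem]

/-- the projection `B → A` as a ring hom -/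
noncomputable def π : B →+* A where
  toFun := πlin 𝒜 φ
  map_one' := πlin_one 𝒜 ℬ φ hφ hdeg
  map_mul' := πlin_mul 𝒜 ℬ φ hφ hdeg
  map_zero' := map_zero _
  map_add' := map_add _

lemma π_apply (b : B) : π 𝒜 ℬ φ hφ hdeg b = ρ 𝒜 (φ b) := rfl

lemma π_of_eq {n : ℕ} {b : B} {a : A} (h : φ b = Polynomial.monomial n a) :
    π 𝒜 ℬ φ hφ hdeg b = GradedAlgebra.proj 𝒜 n a := by
  rw [π_apply, h, ρ_monomial]

lemma π_surjective : Function.Surjective (π 𝒜 ℬ φ hφ hdeg) := by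
  classical
  intro a
  induction a using DirectSum.Decomposition.inductionOn 𝒜 with
  | zero => exact ⟨0, map_zero _⟩
  | add x y hx hy =>
    obtain ⟨bx, rfl⟩ := hx
    obtain ⟨by', rfl⟩ := hy
    exact ⟨bx + by', map_add _ _ _⟩
  | homogeneous x =>
    rename_i n
    obtain ⟨b, hb, hbx⟩ := exists_of_mem_F 𝒜 ℬ φ hφ hdeg (le_F 𝒜 le_rfl x.2)
    exact ⟨b, by rw [π_of_eq 𝒜 ℬ φ hφ hdeg hbx, proj_of_mem 𝒜 x.2]⟩

lemma π_mem_zero {b : B} (hb : b ∈ ℬ 0) : π 𝒜 ℬ φ hφ hdeg b ∈ 𝒜 0 := by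
  obtain ⟨a, ha, h⟩ := exists_of_mem_ℬ 𝒜 ℬ φ hφ hdeg hb
  rw [π_of_eq 𝒜 ℬ φ hφ hdeg h]
  exact proj_mem 𝒜 0 a

end proj

end Groth.Agent.Lib.Helper63.SNat
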