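import Mathlib
import Groth.Agent.Lib.Helper63.SNat2

/-!
# `S♮`: finite type transfer.
-/

universe u
open Polynomial DirectSum

set_option linter.unusedSectionVars false
set_option linter.unusedVariables false

namespace Groth.Agent.Lib.Helper63.SNat

section ft

variable {R A B : Type u} [CommRing R] [CommRing A] [Algebra R A]
  (𝒜 : ℕ → Submodule R A) [GradedAlgebra 𝒜] [CommRing B] [Algebra R B]
  (ℬ : ℕ → Submodule R B) [GradedAlgebra ℬ]
  (φ : B →ₐ[R] Polynomial A)
  (hφ : Function.Injective φ)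
  (hdeg : ∀ n : ℕ, Submodule.map φ.toLinearMap (ℬ n) =
    Submodule.map ((Polynomial.monomial n : A →ₗ[A] Polynomial A).restrictScalars R)
      (⨆ (m : ℕ) (_ : n ≤ m), 𝒜 m))

include hφ hdeg

theorem finiteType_of_finiteType_natural (h : Algebra.FiniteType (ℬ 0) B) :
    Algebra.FiniteType (𝒜 0) A := by
  classical
  obtain ⟨s, hs⟩ := h.out
  refine ⟨⟨s.image (π 𝒜 ℬ φ hφ hdeg), ?_⟩⟩
  rw [eq_top_iff]
  intro a hat
  clear hat
  obtain ⟨b, rfl⟩ := π_surjective 𝒜 ℬ φ hφ hdeg a
  have hb : b ∈ Algebra.adjoin (ℬ 0) (s : Set B) := by rw [hs]; trivial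
  induction hb using Algebra.adjoin_induction with
  | mem x hx =>
    apply Algebra.subset_adjoin
    rw [Finset.coe_image]
    exact ⟨x, hx, rfl⟩
  | algebraMap r =>
    have h0 : π 𝒜 ℬ φ hφ hdeg (algebraMap (ℬ 0) B r) ∈ 𝒜 0 := π_mem_zero 𝒜 ℬ φ hφ hdeg r.2
    exact Subalgebra.algebraMap_mem _ (⟨_, h0⟩ : 𝒜 0)
  | add x y _ _ hx hy => rw [map_add]; exact add_mem hx hy
  | mul x y _ _ hx hy => rw [map_mul]; exact mul_mem hx hy

/-- a choice of preimage of `a X^n`. -/
noncomputable def βfun (n : ℕ) (a : A) : B :=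
  open Classical in
  if h : a ∈ F 𝒜 n then Classical.choose (exists_of_mem_F 𝒜 ℬ φ hφ hdeg h) else 0

lemma βfun_spec {n : ℕ} {a : A} (h : a ∈ F 𝒜 n) :
    βfun 𝒜 ℬ φ hφ hdeg n a ∈ ℬ n ∧ φ (βfun 𝒜 ℬ φ hφ hdeg n a) = Polynomial.monomial n a := by
  unfold βfun
  rw [dif_pos h]
  exact Classical.choose_spec (exists_of_mem_F 𝒜 ℬ φ hφ hdeg h)

theorem finiteType_natural_of_finiteType (h : Algebra.FiniteType (𝒜 0) A) :
    Algebra.FiniteType (ℬ 0) B := by
  classical
  obtain ⟨s, hs, hs'⟩ := GradedAlgebra.exists_finset_adjoin_eq_top_and_homogeneous_ne_zero 𝒜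
  choose! d hd0 hd using hs'
  set D := s.sup d with hD
  set G : Finset B := (s ×ˢ Finset.range (D + 1)).image
    (fun p => βfun 𝒜 ℬ φ hφ hdeg p.2 p.1) with hG
  set T := Algebra.adjoin (ℬ 0) (G : Set B) with hT
  -- the predicate `Q n a`
  let Q : ℕ → A → Prop := fun n a => ∃ b ∈ T, φ b = Polynomial.monomial n a
  have Q_zero : ∀ n, Q n 0 := fun n => ⟨0, zero_mem _, by simp⟩
  have Q_add : ∀ n a a', Q n a → Q n a' → Q n (a + a') := by
    rintro n a a' ⟨b, hb, h1⟩ ⟨b', hb', h2⟩
    exact ⟨b + b', add_mem hb hb', by rw [map_add, h1, h2, map_add]⟩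
  have Q_mul : ∀ n m a a', Q n a → Q m a' → Q (n + m) (a * a') := by
    rintro n m a a' ⟨b, hb, h1⟩ ⟨b', hb', h2⟩
    exact ⟨b * b', mul_mem hb hb', by rw [map_mul, h1, h2, Polynomial.monomial_mul_monomial]⟩
  have Q_sum : ∀ n {ι : Type} (t : Finset ι) (f : ι → A), (∀ i ∈ t, Q n (f i)) →
      Q n (∑ i ∈ t, f i) := by
    intro n ι t f hf
    induction t using Finset.induction_on with
    | empty => simpa using Q_zero n
    | insert i t hi ih =>
      rw [Finset.sum_insert hi]
      exact Q_add n _ _ (hf i (Finset.mem_insert_self i t))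
        (ih fun j hj => hf j (Finset.mem_insert_of_mem hj))
  have Q0 : ∀ a, Q 0 a := by
    intro a
    obtain ⟨b, hb, hba⟩ := exists_of_mem_F 𝒜 ℬ φ hφ hdeg (n := 0) (a := a) (by rw [F_zero]; trivial)
    exact ⟨b, Subalgebra.algebraMap_mem T (⟨b, hb⟩ : ℬ 0), hba⟩
  have Qgen : ∀ x ∈ s, ∀ n, n ≤ d x → Q n x := by
    intro x hx n hn
    have hxF : x ∈ F 𝒜 n := le_F 𝒜 hn (hd x hx)
    refine ⟨βfun 𝒜 ℬ φ hφ hdeg n x, ?_, (βfun_spec 𝒜 ℬ φ hφ hdeg hxF).2⟩
    apply Algebra.subset_adjoin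
    rw [hG, Finset.coe_image]
    refine ⟨(x, n), ?_, rfl⟩
    rw [Finset.mem_coe, Finset.mem_product, Finset.mem_range]
    exact ⟨hx, Nat.lt_succ_of_le (hn.trans (Finset.le_sup hx))⟩
  -- the main predicate
  have P : ∀ a : A, ∀ n m, n ≤ m → Q n (GradedAlgebra.proj 𝒜 m a) := by
    intro a
    have ha : a ∈ Algebra.adjoin (𝒜 0) (s : Set A) := by rw [hs]; trivial
    induction ha using Algebra.adjoin_induction with
    | mem x hx =>
      intro n m hnm
      by_cases hm : d x = m
      · subst hm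
        rw [proj_of_mem 𝒜 (hd x hx)]
        exact Qgen x hx n hnm
      · rw [proj_of_mem_ne 𝒜 (hd x hx) hm]
        exact Q_zero n
    | algebraMap r =>
      intro n m hnm
      have hr : algebraMap (𝒜 0) A r ∈ 𝒜 0 := r.2
      by_cases hm : 0 = m
      · subst hm
        obtain rfl : n = 0 := by omega
        exact Q0 _
      · rw [proj_of_mem_ne 𝒜 hr hm]
        exact Q_zero n
    | add x y _ _ hx hy =>
      intro n m hnm
      rw [map_add]
      exact Q_add n _ _ (hx n m hnm) (hy n m hnm)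
    | mul x y _ _ hx hy =>
      intro n m hnm
      have hxs := DirectSum.sum_support_decompose 𝒜 x
      have hys := DirectSum.sum_support_decompose 𝒜 y
      have hxy : x * y = ∑ i ∈ (DirectSum.decompose 𝒜 x).support,
          ∑ j ∈ (DirectSum.decompose 𝒜 y).support,
            ((DirectSum.decompose 𝒜 x i : A) * (DirectSum.decompose 𝒜 y j : A)) := by
        conv_lhs => rw [← hxs, ← hys]
        rw [Finset.sum_mul_sum]
      rw [hxy, map_sum]
      apply Q_sum
      intro i _
      rw [map_sum]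
      apply Q_sum
      intro j _
      have hij : (DirectSum.decompose 𝒜 x i : A) * (DirectSum.decompose 𝒜 y j : A) ∈ 𝒜 (i + j) :=
        SetLike.mul_mem_graded (SetLike.coe_mem _) (SetLike.coe_mem _)
      by_cases hm : i + j = m
      · rw [proj_of_mem 𝒜 (hm ▸ hij)]
        have h1 := hx (min n i) i (min_le_right n i)
        have h2 := hy (n - min n i) j (by omega)
        rw [GradedAlgebra.proj_apply] at h1 h2
        have := Q_mul _ _ _ _ h1 h2
        have hn : min n i + (n - min n i) = n := by omega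
        rwa [hn] at this
      · rw [proj_of_mem_ne 𝒜 hij hm]
        exact Q_zero n
  -- conclude
  refine ⟨⟨G, ?_⟩⟩
  rw [eq_top_iff]
  intro b hbt
  clear hbt
  induction b using DirectSum.Decomposition.inductionOn ℬ with
  | zero => exact zero_mem _
  | add x y hx hy => exact add_mem hx hy
  | homogeneous x =>
    rename_i n
    obtain ⟨a, ha, hxa⟩ := exists_of_mem_ℬ 𝒜 ℬ φ hφ hdeg x.2
    have hQ : Q n a := by
      rw [← DirectSum.sum_support_decompose 𝒜 a]
      apply Q_sum
      intro m _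
      by_cases hm : m < n
      · have := proj_eq_zero_of_mem_F 𝒜 ha hm
        rw [GradedAlgebra.proj_apply] at this
        rw [this]
        exact Q_zero n
      · have := P a n m (not_lt.mp hm)
        rwa [GradedAlgebra.proj_apply] at this
    obtain ⟨b', hb', hb'a⟩ := hQ
    have : b' = (x : B) := hφ (hb'a.trans hxa.symm)
    rw [← this]
    exact hb'

end ft

end Groth.Agent.Lib.Helper63.SNat
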