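import Mathlib
import Groth.Agent.Lib.Helper63.SNat3

/-!
# Noetherian ℕ-graded rings are of finite type over degree zero; Noetherian transfer for `S♮`.
-/

universe u
open Polynomial DirectSum

set_option linter.unusedSectionVars false
set_option linter.unusedVariables false

namespace Groth.Agent.Lib.Helper63.SNat

section noeth

variable {R A : Type u} [CommRing R] [CommRing A] [Algebra R A]
  (𝒜 : ℕ → Submodule R A) [GradedAlgebra 𝒜]

theorem finiteType_of_isNoetherianRing [IsNoetherianRing A] : Algebra.FiniteType (𝒜 0) A := by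
  classical
  set I : Ideal A := RingHom.ker (GradedRing.projZeroRingHom 𝒜) with hI
  have hImem : ∀ a, a ∈ I ↔ (DirectSum.decompose 𝒜 a 0 : A) = 0 := fun a => Iff.rfl
  obtain ⟨t, ht⟩ := (isNoetherianRing_iff_ideal_fg A).mp inferInstance I
  set s : Finset A := t.biUnion (fun y => (DirectSum.decompose 𝒜 y).support.image
    (fun i => (DirectSum.decompose 𝒜 y i : A))) with hs
  have hs_hom : ∀ x ∈ s, ∃ n, n ≠ 0 ∧ x ∈ 𝒜 n := by
    intro x hx
    rw [hs, Finset.mem_biUnion] at hx
    obtain ⟨y, hy, hx⟩ := hx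
    rw [Finset.mem_image] at hx
    obtain ⟨i, hi, rfl⟩ := hx
    refine ⟨i, ?_, SetLike.coe_mem _⟩
    rintro rfl
    have hyI : y ∈ I := by rw [← ht]; exact Ideal.subset_span hy
    rw [hImem] at hyI
    rw [DFinsupp.mem_support_toFun] at hi
    exact hi (Subtype.ext hyI)
  choose! d hd0 hd using hs_hom
  have hspan : I ≤ Ideal.span (s : Set A) := by
    rw [← ht, Ideal.span_le]
    intro y hy
    rw [SetLike.mem_coe, ← DirectSum.sum_support_decompose 𝒜 y]
    refine Ideal.sum_mem _ fun i hi => Ideal.subset_span ?_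
    rw [hs, Finset.mem_coe, Finset.mem_biUnion]
    exact ⟨y, hy, Finset.mem_image_of_mem _ hi⟩
  set T := Algebra.adjoin (𝒜 0) (s : Set A) with hT
  have key : ∀ m, ∀ a ∈ 𝒜 m, a ∈ T := by
    intro m
    induction m using Nat.strong_induction_on with
    | _ m ih =>
      intro a ha
      rcases Nat.eq_zero_or_pos m with rfl | hm
      · exact Subalgebra.algebraMap_mem T (⟨a, ha⟩ : 𝒜 0)
      · have haI : a ∈ I := by
          rw [hImem, DirectSum.decompose_of_mem_ne 𝒜 ha (by omega)]
        obtain ⟨c, -, hc⟩ := Submodule.mem_span_finset.mp (hspan haI)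
        have h1 : a = ∑ x ∈ s, ((DirectSum.decompose 𝒜 (c x * x) m : 𝒜 m) : A) := by
          conv_lhs => rw [← DirectSum.decompose_of_mem_same 𝒜 ha, ← hc]
          rw [DirectSum.decompose_sum, DFinsupp.finsetSum_apply, AddSubmonoidClass.coe_finsetSum]
          rfl
        rw [h1]
        refine sum_mem fun x hx => ?_
        rw [DirectSum.coe_decompose_mul_of_right_mem 𝒜 m (hd x hx)]
        split_ifs with hle
        · refine mul_mem (ih (m - d x) ?_ _ (SetLike.coe_mem _)) (Algebra.subset_adjoin hx)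
          have := hd0 x hx
          omega
        · exact zero_mem _
  refine ⟨⟨s, ?_⟩⟩
  rw [eq_top_iff]
  intro a _
  rw [← DirectSum.sum_support_decompose 𝒜 a]
  exact sum_mem fun i _ => key i _ (SetLike.coe_mem _)

end noeth

section transfer

variable {R A B : Type u} [CommRing R] [CommRing A] [Algebra R A]
  (𝒜 : ℕ → Submodule R A) [GradedAlgebra 𝒜] [CommRing B] [Algebra R B]
  (ℬ : ℕ → Submodule R B) [GradedAlgebra ℬ]
  (φ : B →ₐ[R] Polynomial A)
  (hφ : Function.Injective φ)
  (hdeg : ∀ n : ℕ, Submodule.map φ.toLinearMap (ℬ n) =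
    Submodule.map ((Polynomial.monomial n : A →ₗ[A] Polynomial A).restrictScalars R)
      (⨆ (m : ℕ) (_ : n ≤ m), 𝒜 m))

include hφ hdeg

/-- `ℬ 0 ≃ A` -/
theorem exists_ringEquiv_zero : Nonempty (ℬ 0 ≃+* A) := by
  let g : ℬ 0 →+* A :=
    ((Polynomial.constantCoeff : A[X] →+* A).comp φ.toRingHom).comp (algebraMap (ℬ 0) B)
  have hg : ∀ b : ℬ 0, φ (b : B) = Polynomial.monomial 0 (g b) := by
    intro b
    obtain ⟨a, _, h⟩ := exists_of_mem_ℬ 𝒜 ℬ φ hφ hdeg b.2
    have : g b = a := by
      change Polynomial.constantCoeff (φ (b : B)) = a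
      rw [h]
      simp
    rw [this, h]
  refine ⟨RingEquiv.ofBijective g ⟨?_, ?_⟩⟩
  · intro b b' h
    apply Subtype.ext
    apply hφ
    rw [hg b, hg b', h]
  · intro a
    obtain ⟨b, hb, h⟩ := exists_of_mem_F 𝒜 ℬ φ hφ hdeg (n := 0) (a := a) (by rw [F_zero]; trivial)
    refine ⟨⟨b, hb⟩, ?_⟩
    change Polynomial.constantCoeff (φ b) = a
    rw [h]
    simp

theorem isNoetherianRing_natural_iff : IsNoetherianRing B ↔ IsNoetherianRing A := by
  constructor
  · intro h
    exact isNoetherianRing_of_surjective B A (π 𝒜 ℬ φ hφ hdeg) (π_surjective 𝒜 ℬ φ hφ hdeg)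
  · intro h
    obtain ⟨e⟩ := exists_ringEquiv_zero 𝒜 ℬ φ hφ hdeg
    have : IsNoetherianRing (ℬ 0) := isNoetherianRing_of_ringEquiv A e.symm
    have : Algebra.FiniteType (ℬ 0) B :=
      finiteType_natural_of_finiteType 𝒜 ℬ φ hφ hdeg (finiteType_of_isNoetherianRing 𝒜)
    exact Algebra.FiniteType.isNoetherianRing (ℬ 0) B

end transfer

end Groth.Agent.Lib.Helper63.SNat
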