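import Mathlib
import Groth.Agent.Lib.Helper63.SNat
import Groth.Agent.Lib.Helper63.SNat2

/-!
# The graded ring `T = S♮ ⊗_S S₀` and the map `ρ : T → S`

`ρ` is surjective with nil kernel.
-/

universe u
open Polynomial

namespace Groth.Agent.Lib.Helper63.SNat

section

variable {R A B C : Type u} [CommRing R] [CommRing A] [Algebra R A]
  (𝒜 : ℕ → Submodule R A) [GradedAlgebra 𝒜] [CommRing B] [Algebra R B]
  (ℬ : ℕ → Submodule R B) [GradedAlgebra ℬ]
  (φ : B →ₐ[R] Polynomial A)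

lemma pow_mem_F {p : ℕ} {a : A} (ha : a ∈ F 𝒜 p) (k : ℕ) : a ^ k ∈ F 𝒜 (p * k) := by
  induction k with
  | zero => rw [Nat.mul_zero, F_zero]; trivial
  | succ k ih =>
    rw [pow_succ, Nat.mul_succ]
    exact mul_mem_F 𝒜 ih ha

variable (hφ : Function.Injective φ)
  (hdeg : ∀ n : ℕ, Submodule.map φ.toLinearMap (ℬ n) =
    Submodule.map ((Polynomial.monomial n : A →ₗ[A] Polynomial A).restrictScalars R)
      (⨆ (m : ℕ) (_ : n ≤ m), 𝒜 m))
  [CommRing C] [Algebra R C] (𝒞 : ℕ → Submodule R C) [GradedAlgebra 𝒞]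
  (π : ℬ →+*ᵍ 𝒞) (hπ : Function.Surjective π)
  (hker : RingHom.ker π.toRingHom =
    Ideal.span (⇑φ ⁻¹' (⇑(Polynomial.C : A →+* Polynomial A) ''
      ((HomogeneousIdeal.irrelevant 𝒜).toIdeal : Set A))))
  (ρ : 𝒞 →+*ᵍ 𝒜)
  (hρ : ∀ (n : ℕ) (b : B), b ∈ ℬ n → ρ (π b) = GradedRing.proj 𝒜 n ((φ b).coeff n))

include hφ hdeg hρ in
lemma ρT_surjective : Function.Surjective ρ := by
  intro a
  induction a using DirectSum.Decomposition.inductionOn 𝒜 with
  | zero => exact ⟨0, map_zero _⟩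
  | homogeneous a =>
    rename_i n
    obtain ⟨b, hb, hφb⟩ := exists_of_mem_F 𝒜 ℬ φ hφ hdeg (le_F 𝒜 le_rfl a.2)
    refine ⟨π b, ?_⟩
    rw [hρ n b hb, hφb, Polynomial.coeff_monomial, if_pos rfl, GradedRing.proj_apply,
      DirectSum.decompose_of_mem_same _ a.2]
  | add a a' iha iha' =>
    obtain ⟨c, hc⟩ := iha
    obtain ⟨c', hc'⟩ := iha'
    exact ⟨c + c', by rw [map_add, hc, hc']⟩

include hφ hdeg hπ hker hρ in
lemma ρT_homogeneous_nilpotent {n : ℕ} {x : C} (hx : x ∈ 𝒞 n) (h0 : ρ x = 0) :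
    x ^ (n + 1) = 0 := by
  obtain ⟨b', rfl⟩ := hπ x
  -- replace b' by its degree n component
  set b : B := (DirectSum.decompose ℬ b' n : B) with hbdef
  have hb : b ∈ ℬ n := SetLike.coe_mem _
  have hπb : π b = π b' := by
    rw [hbdef, π.map_directSumDecompose, DirectSum.decompose_of_mem_same _ hx]
  rw [← hπb] at h0 ⊢
  obtain ⟨a, haF, hφb⟩ := exists_of_mem_ℬ 𝒜 ℬ φ hφ hdeg hb
  have hpa : GradedAlgebra.proj 𝒜 n a = 0 := by
    have := hρ n b hb
    rw [h0, hφb, Polynomial.coeff_monomial, if_pos rfl, GradedRing.proj_apply] at this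
    rw [GradedAlgebra.proj_apply]
    exact this.symm
  have haF' : a ∈ F 𝒜 (n + 1) := by
    rw [mem_F_iff]
    intro i hi
    rcases Nat.lt_succ_iff_lt_or_eq.mp hi with h | h
    · exact (mem_F_iff 𝒜).mp haF i h
    · rw [h]; exact hpa
  have hairr : a ∈ (HomogeneousIdeal.irrelevant 𝒜).toIdeal := by
    change GradedRing.proj 𝒜 0 a = 0
    have := (mem_F_iff 𝒜).mp haF' 0 (Nat.succ_pos n)
    rw [GradedAlgebra.proj_apply] at this
    rw [GradedRing.proj_apply]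
    exact this
  obtain ⟨b₀, -, hφb₀⟩ := exists_of_mem_F 𝒜 ℬ φ hφ hdeg (n := 0) (a := a)
    (by rw [F_zero]; trivial)
  obtain ⟨b'', -, hφb''⟩ := exists_of_mem_F 𝒜 ℬ φ hφ hdeg (n := (n + 1) * n) (a := a ^ n)
    (pow_mem_F 𝒜 haF' n)
  have hbpow : b ^ (n + 1) = b₀ * b'' := by
    apply hφ
    rw [map_pow, map_mul, hφb, hφb₀, hφb'', Polynomial.monomial_pow, Polynomial.monomial_mul_monomial,
      zero_add, ← pow_succ', mul_comm n (n + 1)]
  have hb₀ : π b₀ = 0 := by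
    have : b₀ ∈ RingHom.ker π.toRingHom := by
      rw [hker]
      apply Ideal.subset_span
      refine ⟨a, hairr, ?_⟩
      rw [hφb₀]
      rfl
    exact this
  rw [← map_pow, hbpow, map_mul, hb₀, zero_mul]

include hφ hdeg hπ hker hρ in
lemma ρT_ker_nilpotent (x : C) (h0 : ρ x = 0) : IsNilpotent x := by
  classical
  rw [← DirectSum.sum_support_decompose 𝒞 x]
  apply isNilpotent_sum
  intro i _
  refine ⟨i + 1, ρT_homogeneous_nilpotent 𝒜 ℬ φ hφ hdeg 𝒞 π hπ hker ρ hρ (SetLike.coe_mem _) ?_⟩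
  rw [ρ.map_directSumDecompose, h0, DirectSum.decompose_zero]
  rfl

end

end Groth.Agent.Lib.Helper63.SNat
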