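import Mathlib
import Groth.Agent.Lib.Helper63.SNat
import Groth.Agent.Lib.Helper63.SNat2
import Groth.Agent.Lib.Helper63.SNatProj

/-!
# `ρ : T → S` is injective in high degrees when `S_{n+1} = S_1 S_n` eventually
-/

universe u
open Polynomial

namespace Groth.Agent.Lib.Helper63.SNat

section

variable {R A B C : Type u} [CommRing R] [CommRing A] [Algebra R A]
  (𝒜 : ℕ → Submodule R A) [GradedAlgebra 𝒜] [CommRing B] [Algebra R B]
  (ℬ : ℕ → Submodule R B) [GradedAlgebra ℬ]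
  (φ : B →ₐ[R] Polynomial A)
  (hφ : Function.Injective φ)
  (hdeg : ∀ n : ℕ, Submodule.map φ.toLinearMap (ℬ n) =
    Submodule.map ((Polynomial.monomial n : A →ₗ[A] Polynomial A).restrictScalars R)
      (⨆ (m : ℕ) (_ : n ≤ m), 𝒜 m))
  [CommRing C] [Algebra R C] (𝒞 : ℕ → Submodule R C) [GradedAlgebra 𝒞]
  (π : ℬ →+*ᵍ 𝒞) (hπ : Function.Surjective π)
  (hker : RingHom.ker π.toRingHom =
    Ideal.span (⇑φ ⁻¹' (⇑(Polynomial.C : A →+* Polynomial A) ''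
      ((HomogeneousIdeal.irrelevant 𝒜).toIdeal : Set A))))
  (ρ : 𝒞 →+*ᵍ 𝒜)
  (hρ : ∀ (n : ℕ) (b : B), b ∈ ℬ n → ρ (π b) = GradedRing.proj 𝒜 n ((φ b).coeff n))

include hφ hdeg hπ hρ in
/-- A homogeneous element of `ker ρ` of degree `n` comes from `a X^n` with `a ∈ S_[n+1]`. -/
lemma exists_of_ρT_eq_zero {n : ℕ} {x : C} (hx : x ∈ 𝒞 n) (h0 : ρ x = 0) :
    ∃ b ∈ ℬ n, π b = x ∧ ∃ a ∈ F 𝒜 (n + 1), φ b = monomial n a := by
  obtain ⟨b', rfl⟩ := hπ x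
  set b : B := (DirectSum.decompose ℬ b' n : B) with hbdef
  have hb : b ∈ ℬ n := SetLike.coe_mem _
  have hπb : π b = π b' := by
    rw [hbdef, π.map_directSumDecompose, DirectSum.decompose_of_mem_same _ hx]
  rw [← hπb] at h0
  obtain ⟨a, haF, hφb⟩ := exists_of_mem_ℬ 𝒜 ℬ φ hφ hdeg hb
  have hpa : GradedAlgebra.proj 𝒜 n a = 0 := by
    have := hρ n b hb
    rw [h0, hφb, Polynomial.coeff_monomial, if_pos rfl, GradedRing.proj_apply] at this
    rw [GradedAlgebra.proj_apply]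
    exact this.symm
  have haF' : a ∈ F 𝒜 (n + 1) := by
    rw [mem_F_iff]
    intro i hi
    rcases Nat.lt_succ_iff_lt_or_eq.mp hi with h | h
    · exact (mem_F_iff 𝒜).mp haF i h
    · rw [h]; exact hpa
  exact ⟨b, hb, hπb, a, haF', hφb⟩

include hφ hdeg hker in
/-- elements `a X^n` with `a ∈ S_+ S_[n]` die in `T`. -/
lemma π_eq_zero_of_mem_mul {n : ℕ} {a : A} (ha : a ∈ F 𝒜 1 * F 𝒜 n) :
    ∃ b : B, φ b = monomial n a ∧ π b = 0 := by
  induction ha using Submodule.mul_induction_on' with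
  | mem_mul_mem u hu v hv =>
    obtain ⟨bu, -, hbu⟩ := exists_of_mem_F 𝒜 ℬ φ hφ hdeg (n := 0) (a := u)
      (by rw [F_zero]; trivial)
    obtain ⟨bv, -, hbv⟩ := exists_of_mem_F 𝒜 ℬ φ hφ hdeg hv
    refine ⟨bu * bv, ?_, ?_⟩
    · rw [map_mul, hbu, hbv, Polynomial.monomial_mul_monomial, zero_add]
    · have huirr : u ∈ (HomogeneousIdeal.irrelevant 𝒜).toIdeal := by
        change GradedRing.proj 𝒜 0 u = 0
        have := (mem_F_iff 𝒜).mp hu 0 Nat.one_pos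
        rw [GradedAlgebra.proj_apply] at this
        rw [GradedRing.proj_apply]
        exact this
      have : bu ∈ RingHom.ker π.toRingHom := by
        rw [hker]
        apply Ideal.subset_span
        refine ⟨u, huirr, ?_⟩
        rw [hbu]
        rfl
      have h0 : π bu = 0 := this
      rw [map_mul, h0, zero_mul]
  | add x hx y hy ihx ihy =>
    obtain ⟨bx, hbx, hbx0⟩ := ihx
    obtain ⟨by', hby, hby0⟩ := ihy
    exact ⟨bx + by', by rw [map_add, hbx, hby, map_add], by rw [map_add, hbx0, hby0, add_zero]⟩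

include hφ hdeg hπ hker hρ in
theorem ρT_injective_of_gen (n₀ : ℕ) (hgen : ∀ n : ℕ, n₀ ≤ n → 𝒜 (n + 1) = 𝒜 1 * 𝒜 n)
    {n : ℕ} (hn : n₀ ≤ n) {x : C} (hx : x ∈ 𝒞 n) (h0 : ρ x = 0) : x = 0 := by
  obtain ⟨b, -, rfl, a, ha, hφb⟩ := exists_of_ρT_eq_zero 𝒜 ℬ φ hφ hdeg 𝒞 π hπ ρ hρ hx h0
  rw [(F_succ_iff 𝒜 n₀).mpr hgen n hn] at ha
  obtain ⟨b', hb', hb'0⟩ := π_eq_zero_of_mem_mul 𝒜 ℬ φ hφ hdeg 𝒞 π hker ha
  have : b = b' := hφ (hφb.trans hb'.symm)
  rw [this, hb'0]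

end

end Groth.Agent.Lib.Helper63.SNat
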