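import Mathlib
import Groth.Agent.Lib.Helper63.SNat
import Groth.Agent.Lib.Helper63.SNat2
import Groth.Agent.Lib.Helper63.SNatProj

/-!
# Generators of the irrelevant ideal of `S♮` up to radical
-/

universe u
open Polynomial

namespace Groth.Agent.Lib.Helper63.SNat

section

variable {R A B : Type u} [CommRing R] [CommRing A] [Algebra R A]
  (𝒜 : ℕ → Submodule R A) [GradedAlgebra 𝒜] [CommRing B] [Algebra R B]
  (ℬ : ℕ → Submodule R B) [GradedAlgebra ℬ]
  (φ : B →ₐ[R] Polynomial A)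
  (hφ : Function.Injective φ)
  (hdeg : ∀ n : ℕ, Submodule.map φ.toLinearMap (ℬ n) =
    Submodule.map ((Polynomial.monomial n : A →ₗ[A] Polynomial A).restrictScalars R)
      (⨆ (m : ℕ) (_ : n ≤ m), 𝒜 m))
  {ι : Type u} (d : ι → ℕ) (f : ι → A) (hf : ∀ a, f a ∈ 𝒜 (d a))
  (hrad : ∀ g ∈ (HomogeneousIdeal.irrelevant 𝒜).toIdeal,
    ∃ n : ℕ, 0 < n ∧ g ^ n ∈ Ideal.span (Set.range f))
  (fn : ι → B) (hfn : ∀ a, φ (fn a) = Polynomial.monomial (d a) (f a))

include hφ hdeg hf hrad hfn in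
lemma rad_of_homog {n m : ℕ} (hn : 1 ≤ n) (hnm : n ≤ m) {a : A} (ha : a ∈ 𝒜 m) {g : B}
    (hg : φ g = monomial n a) : g ∈ (Ideal.span (Set.range fn)).radical := by
  classical
  have hairr : a ∈ (HomogeneousIdeal.irrelevant 𝒜).toIdeal := by
    change GradedRing.proj 𝒜 0 a = 0
    rw [GradedRing.proj_apply, DirectSum.decompose_of_mem_ne 𝒜 ha (by omega)]
  obtain ⟨N, hN, haN⟩ := hrad a hairr
  rw [Finsupp.mem_ideal_span_range_iff_exists_finsupp] at haN
  obtain ⟨c, hc⟩ := haN
  have haNM : a ^ N ∈ 𝒜 (N * m) := SetLike.pow_mem_graded N ha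
  set M := N * m with hM
  let c' : ι → A := fun α => if d α ≤ M then GradedAlgebra.proj 𝒜 (M - d α) (c α) else 0
  have hc' : a ^ N = ∑ α ∈ c.support, c' α * f α := by
    have h1 : a ^ N = GradedAlgebra.proj 𝒜 M (a ^ N) := (proj_of_mem 𝒜 haNM).symm
    rw [h1, ← hc, Finsupp.sum, map_sum]
    apply Finset.sum_congr rfl
    intro α _
    simp only [c']
    split_ifs with h
    · rw [GradedAlgebra.proj_apply, DirectSum.coe_decompose_mul_of_right_mem_of_le 𝒜 (hf α) h]
      rfl
    · rw [GradedAlgebra.proj_apply, DirectSum.coe_decompose_mul_of_right_mem_of_not_le 𝒜 (hf α) h,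
        zero_mul]
  -- the exponent
  set r : ℕ := c.support.sup d + 1 with hr
  have hdr : ∀ α ∈ c.support, d α ≤ n * N * r := by
    intro α hα
    have h1 : d α ≤ c.support.sup d := Finset.le_sup hα
    have h2 : 1 ≤ n * N := Nat.mul_pos hn hN
    calc d α ≤ r := by omega
      _ = 1 * r := (one_mul r).symm
      _ ≤ n * N * r := Nat.mul_le_mul_right r h2
  -- cofactors
  have hcof : ∀ α, ∃ e : B, φ e = monomial (n * N * r - d α) (a ^ (N * (r - 1)) * c' α) := by
    intro α
    have hmem : a ^ (N * (r - 1)) * c' α ∈ F 𝒜 (n * N * r - d α) := by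
      by_cases h : d α ≤ M
      · have h1 : c' α ∈ 𝒜 (M - d α) := by
          simp only [c', if_pos h]
          exact proj_mem 𝒜 _ _
        have h2 : a ^ (N * (r - 1)) ∈ 𝒜 ((N * (r - 1)) * m) := SetLike.pow_mem_graded _ ha
        have h3 : a ^ (N * (r - 1)) * c' α ∈ 𝒜 ((N * (r - 1)) * m + (M - d α)) :=
          SetLike.mul_mem_graded h2 h1
        refine le_F 𝒜 ?_ h3
        have h4 : n * N * r ≤ (N * (r - 1)) * m + M := by
          have : n * N * r ≤ m * N * r := Nat.mul_le_mul_right r (Nat.mul_le_mul_right N hnm)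
          have h5 : m * N * r = (N * (r - 1)) * m + M := by
            rw [hM]
            have : r = (r - 1) + 1 := by omega
            conv_lhs => rw [this]
            ring
          omega
        omega
      · simp only [c', if_neg h, mul_zero]
        exact Submodule.zero_mem _
    obtain ⟨e, -, he⟩ := exists_of_mem_F 𝒜 ℬ φ hφ hdeg hmem
    exact ⟨e, he⟩
  choose e he using hcof
  have hpow : g ^ (N * r) = ∑ α ∈ c.support, e α * fn α := by
    apply hφ
    rw [map_pow, hg, map_sum, Polynomial.monomial_pow]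
    have h1 : ∀ α ∈ c.support, φ (e α * fn α) =
        monomial (n * N * r) (a ^ (N * (r - 1)) * (c' α * f α)) := by
      intro α hα
      rw [map_mul, he α, hfn α, Polynomial.monomial_mul_monomial, Nat.sub_add_cancel (hdr α hα),
        mul_assoc (a ^ (N * (r - 1)))]
    rw [Finset.sum_congr rfl h1, ← map_sum, ← Finset.mul_sum, ← hc', ← pow_add]
    have h2 : N * (r - 1) + N = N * r := by
      have : r = (r - 1) + 1 := by omega
      conv_rhs => rw [this]
      ring
    rw [h2, mul_assoc]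
  refine ⟨N * r, ?_⟩
  rw [hpow]
  apply Ideal.sum_mem
  intro α _
  exact Ideal.mul_mem_left _ _ (Ideal.subset_span ⟨α, rfl⟩)

include hφ hdeg hf hrad hfn in
lemma rad_of_mem_ℬ {n : ℕ} (hn : 1 ≤ n) {g : B} (hg : g ∈ ℬ n) :
    g ∈ (Ideal.span (Set.range fn)).radical := by
  classical
  obtain ⟨a, haF, hφg⟩ := exists_of_mem_ℬ 𝒜 ℬ φ hφ hdeg hg
  have key : ∀ i : ℕ, ∃ b : B, φ b = monomial n ((DirectSum.decompose 𝒜 a i : A)) ∧
      b ∈ (Ideal.span (Set.range fn)).radical := by
    intro i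
    by_cases hi : n ≤ i
    · have hmem : (DirectSum.decompose 𝒜 a i : A) ∈ 𝒜 i := SetLike.coe_mem _
      obtain ⟨b, -, hb⟩ := exists_of_mem_F 𝒜 ℬ φ hφ hdeg (le_F 𝒜 hi hmem)
      exact ⟨b, hb, rad_of_homog 𝒜 ℬ φ hφ hdeg d f hf hrad fn hfn hn hi hmem hb⟩
    · refine ⟨0, ?_, Ideal.zero_mem _⟩
      have := (mem_F_iff 𝒜).mp haF i (by omega)
      rw [GradedAlgebra.proj_apply] at this
      rw [this, map_zero, map_zero]
  choose b hb hbrad using key
  have : g = ∑ i ∈ (DirectSum.decompose 𝒜 a).support, b i := by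
    apply hφ
    rw [hφg, map_sum, Finset.sum_congr rfl (fun i _ => hb i), ← map_sum,
      DirectSum.sum_support_decompose 𝒜 a]
  rw [this]
  exact Ideal.sum_mem _ (fun i _ => hbrad i)

include hφ hdeg hf hrad hfn in
lemma rad_of_mem_irrelevant {g : B} (hg : g ∈ (HomogeneousIdeal.irrelevant ℬ).toIdeal) :
    g ∈ (Ideal.span (Set.range fn)).radical := by
  classical
  rw [← DirectSum.sum_support_decompose ℬ g]
  apply Ideal.sum_mem
  intro i _
  rcases Nat.eq_zero_or_pos i with h | h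
  · have : GradedRing.proj ℬ 0 g = 0 := hg
    rw [GradedRing.proj_apply] at this
    rw [h, this]
    exact Ideal.zero_mem _
  · exact rad_of_mem_ℬ 𝒜 ℬ φ hφ hdeg d f hf hrad fn hfn h (SetLike.coe_mem _)

end

end Groth.Agent.Lib.Helper63.SNat
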