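import Mathlib

set_option autoImplicit false
set_option linter.unusedSectionVars false

namespace Groth.Agent.Lib.Helper63.SemiComm

universe u v w
open Polynomial Module

section basic
variable {K : Type u} [Field K] {V : Type v} [AddCommGroup V] [Module K V] [FiniteDimensional K V]
  {W : Type w} [AddCommGroup W] [Module K W] [FiniteDimensional K W]

/-- the space of intertwiners. -/
def Comm (f : End K V) (g : End K W) : Submodule K (V →ₗ[K] W) :=
  LinearMap.ker (LinearMap.lcomp K W f - LinearMap.llcomp K V W W g :
    (V →ₗ[K] W) →ₗ[K] (V →ₗ[K] W))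

lemma mem_Comm (f : End K V) (g : End K W) (h : V →ₗ[K] W) :
    h ∈ Comm f g ↔ h ∘ₗ f = g ∘ₗ h := by
  rw [Comm, LinearMap.mem_ker, LinearMap.sub_apply, sub_eq_zero]
  rfl

lemma mem_Comm' (f : End K V) (g : End K W) (h : V →ₗ[K] W) :
    h ∈ Comm f g ↔ ∀ x, h (f x) = g (h x) := by
  rw [mem_Comm]
  constructor
  · intro H x; exact LinearMap.congr_fun H x
  · intro H; ext x; exact H x

/-- charpoly is multiplicative along invariant complements. -/
lemma charpoly_isCompl (f : End K V) (U U' : Submodule K V) (hU : U ∈ f.invtSubmodule)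
    (hU' : U' ∈ f.invtSubmodule) (hc : IsCompl U U') :
    f.charpoly = (f.restrict hU).charpoly * (f.restrict hU').charpoly := by
  let e := Submodule.prodEquivOfIsCompl U U' hc
  have hψ : (f.restrict hU).prodMap (f.restrict hU') = e.symm.conj f := by
    apply LinearMap.ext
    rintro ⟨x, y⟩
    apply e.injective
    rw [LinearEquiv.conj_apply]
    simp only [LinearMap.prodMap_apply, LinearEquiv.symm_symm, LinearMap.coe_comp,
      LinearEquiv.coe_coe, Function.comp_apply, LinearEquiv.apply_symm_apply, e,
      Submodule.coe_prodEquivOfIsCompl', map_add]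
    rfl
  rw [← e.symm.charpoly_conj f, ← hψ, LinearMap.charpoly_prodMap]

end basic


section induction
variable {K : Type u} [Field K]

/-- simple endomorphism: no nontrivial invariant subspace. -/
def IsSimpleEnd {V : Type v} [AddCommGroup V] [Module K V] (f : End K V) : Prop :=
  Nontrivial V ∧ ∀ p ∈ f.invtSubmodule, p = ⊥ ∨ p = ⊤

theorem ss_induction
    (Pr : ∀ (V : Type v) [AddCommGroup V] [Module K V] [FiniteDimensional K V], End K V → Prop)
    (h0 : ∀ (V : Type v) [AddCommGroup V] [Module K V] [FiniteDimensional K V] (f : End K V),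
      Subsingleton V → Pr V f)
    (h1 : ∀ (V : Type v) [AddCommGroup V] [Module K V] [FiniteDimensional K V] (f : End K V),
      IsSimpleEnd f → Pr V f)
    (h2 : ∀ (V : Type v) [AddCommGroup V] [Module K V] [FiniteDimensional K V] (f : End K V)
      (U U' : Submodule K V) (hU : U ∈ f.invtSubmodule) (hU' : U' ∈ f.invtSubmodule),
      IsCompl U U' → Pr U (f.restrict hU) → Pr U' (f.restrict hU') → Pr V f)
    (V : Type v) [AddCommGroup V] [Module K V] [FiniteDimensional K V] (f : End K V)
    (hf : f.IsSemisimple) : Pr V f := by
  obtain ⟨n, hn⟩ : ∃ n, finrank K V = n := ⟨_, rfl⟩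
  induction n using Nat.strong_induction_on generalizing V with
  | _ n ih =>
    by_cases hs : Subsingleton V
    · exact h0 V f hs
    · rw [not_subsingleton_iff_nontrivial] at hs
      by_cases hsimple : IsSimpleEnd f
      · exact h1 V f hsimple
      · have : ∃ p ∈ f.invtSubmodule, p ≠ ⊥ ∧ p ≠ ⊤ := by
          by_contra hcon
          apply hsimple
          refine ⟨hs, fun p hp => ?_⟩
          by_contra h'
          push Not at h'
          exact hcon ⟨p, hp, h'.1, h'.2⟩
        obtain ⟨p, hp, hpbot, hptop⟩ := this
        obtain ⟨q, hq, hpq⟩ := (Module.End.isSemisimple_iff.mp hf) p hp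
        have hqtop : q ≠ ⊤ := by
          intro h
          apply hpbot
          have := hpq.inf_eq_bot
          rwa [h, inf_top_eq] at this
        have hlt1 : finrank K p < n := hn ▸ Submodule.finrank_lt hptop
        have hlt2 : finrank K q < n := hn ▸ Submodule.finrank_lt hqtop
        exact h2 V f p q hp hq hpq
          (ih _ hlt1 p (f.restrict hp) (hf.restrict hp) rfl)
          (ih _ hlt2 q (f.restrict hq) (hf.restrict hq) rfl)

end induction


section additivity
variable {K : Type u} [Field K] {V : Type v} [AddCommGroup V] [Module K V] [FiniteDimensional K V]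
  {W : Type w} [AddCommGroup W] [Module K W] [FiniteDimensional K W]

/-- intertwiners split along invariant complements in the source. -/
noncomputable def commEquivLeft (f : End K V) (g : End K W) (U U' : Submodule K V)
    (hU : U ∈ f.invtSubmodule) (hU' : U' ∈ f.invtSubmodule) (hc : IsCompl U U') :
    Comm f g ≃ₗ[K] (Comm (f.restrict hU) g × Comm (f.restrict hU') g) where
  toFun h := (⟨h.1 ∘ₗ U.subtype, by
      rw [mem_Comm']
      intro x
      exact (mem_Comm' f g h.1).mp h.2 x⟩,
    ⟨h.1 ∘ₗ U'.subtype, by
      rw [mem_Comm']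
      intro x
      exact (mem_Comm' f g h.1).mp h.2 x⟩)
  map_add' h h' := by
    ext <;> rfl
  map_smul' c h := by
    ext <;> rfl
  invFun hh := ⟨LinearMap.ofIsCompl hc hh.1.1 hh.2.1, by
    rw [mem_Comm']
    intro x
    obtain ⟨u, u', rfl, _⟩ := Submodule.existsUnique_add_of_isCompl hc x
    have h1 := (mem_Comm' _ g hh.1.1).mp hh.1.2 u
    have h2 := (mem_Comm' _ g hh.2.1).mp hh.2.2 u'
    rw [map_add, map_add, map_add,
      show f (u : V) = ((f.restrict hU u : U) : V) from rfl,
      show f (u' : V) = ((f.restrict hU' u' : U') : V) from rfl,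
      LinearMap.ofIsCompl_apply_left, LinearMap.ofIsCompl_apply_right,
      LinearMap.ofIsCompl_apply_left, LinearMap.ofIsCompl_apply_right, h1, h2, map_add]⟩
  left_inv h := by
    apply Subtype.ext
    apply LinearMap.ofIsCompl_eq
    · intro u; rfl
    · intro u; rfl
  right_inv hh := by
    apply Prod.ext
    · apply Subtype.ext
      ext u
      exact LinearMap.ofIsCompl_apply_left hc u
    · apply Subtype.ext
      ext u
      exact LinearMap.ofIsCompl_apply_right hc u

lemma finrank_comm_left (f : End K V) (g : End K W) (U U' : Submodule K V)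
    (hU : U ∈ f.invtSubmodule) (hU' : U' ∈ f.invtSubmodule) (hc : IsCompl U U') :
    finrank K (Comm f g) =
      finrank K (Comm (f.restrict hU) g) + finrank K (Comm (f.restrict hU') g) := by
  rw [(commEquivLeft f g U U' hU hU' hc).finrank_eq, Module.finrank_prod]

end additivity


section aeval
variable {K : Type u} [Field K] {V : Type v} [AddCommGroup V] [Module K V]
  {W : Type w} [AddCommGroup W] [Module K W]

lemma comm_pow (f : End K V) (g : End K W) (h : V →ₗ[K] W) (hh : ∀ x, h (f x) = g (h x))
    (n : ℕ) (x : V) : h ((f ^ n) x) = (g ^ n) (h x) := by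
  induction n generalizing x with
  | zero => simp
  | succ n ih =>
    rw [pow_succ, pow_succ, Module.End.mul_apply, Module.End.mul_apply, ih, hh]

lemma comm_aeval (f : End K V) (g : End K W) (h : V →ₗ[K] W) (hh : ∀ x, h (f x) = g (h x))
    (P : K[X]) (x : V) : h (aeval f P x) = aeval g P (h x) := by
  induction P using Polynomial.induction_on' with
  | add p q hp hq => rw [map_add, map_add, LinearMap.add_apply, LinearMap.add_apply, map_add, hp, hq]
  | monomial n a =>
    rw [aeval_monomial, aeval_monomial, Module.End.mul_apply, Module.End.mul_apply,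
      Module.algebraMap_end_apply, Module.algebraMap_end_apply, map_smul, comm_pow f g h hh]

lemma aeval_restrict_apply (g : End K W) (U : Submodule K W) (hU : U ∈ g.invtSubmodule)
    (P : K[X]) (u : U) : ((aeval (g.restrict hU) P u : U) : W) = aeval g P (u : W) :=
  comm_aeval (g.restrict hU) g U.subtype (fun _ => rfl) P u

end aeval


section kerP
variable {K : Type u} [Field K] {W : Type w} [AddCommGroup W] [Module K W] [FiniteDimensional K W]

/-- the kernel of `P(g)` splits along invariant complements. -/
noncomputable def kerMap (g : End K W) (P : K[X]) (U U' : Submodule K W)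
    (hU : U ∈ g.invtSubmodule) (hU' : U' ∈ g.invtSubmodule) :
    (LinearMap.ker (aeval (g.restrict hU) P) × LinearMap.ker (aeval (g.restrict hU') P))
      →ₗ[K] LinearMap.ker (aeval g P) where
  toFun ab := ⟨((ab.1 : U) : W) + ((ab.2 : U') : W), by
    rw [LinearMap.mem_ker, map_add, ← aeval_restrict_apply g U hU, ← aeval_restrict_apply g U' hU',
      LinearMap.mem_ker.mp ab.1.2, LinearMap.mem_ker.mp ab.2.2]
    simp⟩
  map_add' a b := by
    apply Subtype.ext
    simp only [Prod.fst_add, Prod.snd_add, Submodule.coe_add]
    abel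
  map_smul' c a := by
    apply Subtype.ext
    simp only [Prod.smul_fst, Prod.smul_snd, Submodule.coe_smul, RingHom.id_apply, smul_add]

lemma kerMap_bijective (g : End K W) (P : K[X]) (U U' : Submodule K W)
    (hU : U ∈ g.invtSubmodule) (hU' : U' ∈ g.invtSubmodule) (hc : IsCompl U U') :
    Function.Bijective (kerMap g P U U' hU hU') := by
  have hdisj : ∀ a : U, ∀ b : U', (a : W) + (b : W) = 0 → a = 0 ∧ b = 0 := by
    intro a b hab
    have h1 : (a : W) ∈ U ⊓ U' := by
      refine ⟨a.2, ?_⟩
      have : (a : W) = -(b : W) := eq_neg_of_add_eq_zero_left hab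
      rw [this]
      exact U'.neg_mem b.2
    rw [hc.inf_eq_bot, Submodule.mem_bot] at h1
    have h2 : (b : W) = 0 := by rwa [h1, zero_add] at hab
    exact ⟨Subtype.ext h1, Subtype.ext h2⟩
  constructor
  · rw [injective_iff_map_eq_zero]
    rintro ⟨a, b⟩ hab
    have h0 : ((a : U) : W) + ((b : U') : W) = 0 := congrArg Subtype.val hab
    obtain ⟨ha, hb⟩ := hdisj a b h0
    apply Prod.ext
    · exact Subtype.ext ha
    · exact Subtype.ext hb
  · rintro ⟨x, hx⟩
    obtain ⟨u, u', rfl, _⟩ := Submodule.existsUnique_add_of_isCompl hc x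
    rw [LinearMap.mem_ker, map_add, ← aeval_restrict_apply g U hU,
      ← aeval_restrict_apply g U' hU'] at hx
    obtain ⟨h1, h2⟩ := hdisj _ _ hx
    exact ⟨(⟨u, LinearMap.mem_ker.mpr h1⟩, ⟨u', LinearMap.mem_ker.mpr h2⟩), rfl⟩

lemma finrank_kerP (g : End K W) (P : K[X]) (U U' : Submodule K W)
    (hU : U ∈ g.invtSubmodule) (hU' : U' ∈ g.invtSubmodule) (hc : IsCompl U U') :
    finrank K (LinearMap.ker (aeval g P)) =
      finrank K (LinearMap.ker (aeval (g.restrict hU) P)) +
        finrank K (LinearMap.ker (aeval (g.restrict hU') P)) := by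
  rw [← (LinearEquiv.ofBijective _ (kerMap_bijective g P U U' hU hU' hc)).finrank_eq,
    Module.finrank_prod]

end kerP


section simple
variable {K : Type u} [Field K] {V : Type v} [AddCommGroup V] [Module K V] [FiniteDimensional K V]

lemma ker_aeval_invt (f : End K V) (q : K[X]) : LinearMap.ker (aeval f q) ∈ f.invtSubmodule := by
  rw [Module.End.mem_invtSubmodule]
  intro x hx
  rw [Submodule.mem_comap, LinearMap.mem_ker]
  rw [LinearMap.mem_ker] at hx
  rw [← comm_aeval f f f (fun _ => rfl) q x, hx, map_zero]

/-- `q ↦ q(f) v`. -/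
noncomputable def iota (f : End K V) (v : V) : K[X] →ₗ[K] V where
  toFun q := aeval f q v
  map_add' p q := by rw [map_add, LinearMap.add_apply]
  map_smul' c q := by rw [map_smul, LinearMap.smul_apply, RingHom.id_apply]

lemma iota_apply (f : End K V) (v : V) (q : K[X]) : iota f v q = aeval f q v := rfl

lemma iota_X_mul (f : End K V) (v : V) (q : K[X]) : iota f v (X * q) = f (iota f v q) := by
  rw [iota_apply, iota_apply, map_mul, aeval_X, Module.End.mul_apply]

lemma iota_mul (f : End K V) (v : V) (p q : K[X]) :
    iota f v (p * q) = aeval f p (iota f v q) := by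
  rw [iota_apply, iota_apply, map_mul, Module.End.mul_apply]

lemma range_iota_invt (f : End K V) (v : V) : LinearMap.range (iota f v) ∈ f.invtSubmodule := by
  rw [Module.End.mem_invtSubmodule]
  rintro _ ⟨q, rfl⟩
  exact ⟨X * q, iota_X_mul f v q⟩

variable {f : End K V} (hf : IsSimpleEnd f) {v : V} (hv : v ≠ 0)

include hf hv in
lemma iota_surjective : Function.Surjective (iota f v) := by
  rw [← LinearMap.range_eq_top]
  rcases hf.2 _ (range_iota_invt f v) with h | h
  · exfalso
    apply hv
    have : v ∈ LinearMap.range (iota f v) := ⟨1, by rw [iota_apply, map_one, Module.End.one_apply]⟩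
    rwa [h, Submodule.mem_bot] at this
  · exact h

include hf hv in
lemma aeval_eq_zero_of_apply (q : K[X]) (hq : aeval f q v = 0) : aeval f q = 0 := by
  rcases hf.2 _ (ker_aeval_invt f q) with h | h
  · exfalso
    apply hv
    have : v ∈ LinearMap.ker (aeval f q) := hq
    rwa [h, Submodule.mem_bot] at this
  · exact LinearMap.ker_eq_top.mp h

lemma isIntegral_end (f : End K V) : IsIntegral K f :=
  (Algebra.IsIntegral.of_finite K (End K V)).isIntegral f

include hf hv in
lemma dvd_of_apply (q : K[X]) (hq : aeval f q v = 0) : minpoly K f ∣ q :=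
  minpoly.dvd K f (aeval_eq_zero_of_apply hf hv q hq)

include hf in
lemma minpoly_irreducible : Irreducible (minpoly K f) := by
  have := hf.1
  obtain ⟨v, hv⟩ := exists_ne (0 : V)
  have hP0 : minpoly K f ≠ 0 := minpoly.ne_zero (isIntegral_end f)
  rw [irreducible_iff]
  refine ⟨minpoly.not_isUnit K f, ?_⟩
  intro a b hab
  have ha0 : a ≠ 0 := by rintro rfl; rw [zero_mul] at hab; exact hP0 hab
  have hb0 : b ≠ 0 := by rintro rfl; rw [mul_zero] at hab; exact hP0 hab
  by_cases hbv : aeval f b v = 0
  · left
    obtain ⟨c, hc⟩ := dvd_of_apply hf hv b hbv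
    rw [hab] at hc
    have : b * 1 = b * (a * c) := by
      rw [mul_one]
      calc b = a * b * c := hc
        _ = b * (a * c) := by ring
    have h1 := mul_left_cancel₀ hb0 this
    exact IsUnit.of_mul_eq_one c h1.symm
  · right
    have h0 : aeval f a (aeval f b v) = 0 := by
      rw [← Module.End.mul_apply, ← map_mul, ← hab, minpoly.aeval, LinearMap.zero_apply]
    have h1 := aeval_eq_zero_of_apply hf hbv a h0
    obtain ⟨c, hc⟩ := minpoly.dvd K f h1
    rw [hab] at hc
    have : a * 1 = a * (b * c) := by
      rw [mul_one]
      calc a = a * b * c := hc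
        _ = a * (b * c) := by ring
    have h2 := mul_left_cancel₀ ha0 this
    exact IsUnit.of_mul_eq_one c h2.symm


include hf in
lemma finrank_le_natDegree : finrank K V ≤ (minpoly K f).natDegree := by
  have := hf.1
  obtain ⟨v, hv⟩ := exists_ne (0 : V)
  have hmonic : (minpoly K f).Monic := minpoly.monic (isIntegral_end f)
  have hP0 : minpoly K f ≠ 0 := hmonic.ne_zero
  set d := (minpoly K f).natDegree with hd
  let φ : degreeLT K d →ₗ[K] V := (iota f v).comp (degreeLT K d).subtype
  have hφ : Function.Surjective φ := by
    intro u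
    obtain ⟨q, rfl⟩ := iota_surjective hf hv u
    refine ⟨⟨q %ₘ minpoly K f, ?_⟩, ?_⟩
    · rw [mem_degreeLT]
      have := degree_modByMonic_lt q hmonic
      rwa [degree_eq_natDegree hP0] at this
    · show iota f v (q %ₘ minpoly K f) = iota f v q
      conv_rhs => rw [← modByMonic_add_div q (minpoly K f)]
      rw [map_add, iota_mul, minpoly.aeval, LinearMap.zero_apply, add_zero]
  have h1 := LinearMap.finrank_le_finrank_of_surjective hφ
  rwa [(degreeLTEquiv K d).finrank_eq, Module.finrank_fin_fun] at h1

include hf in
lemma charpoly_eq_minpoly : f.charpoly = minpoly K f := by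
  have hmonic : (minpoly K f).Monic := minpoly.monic (isIntegral_end f)
  apply eq_of_monic_of_dvd_of_natDegree_le hmonic (LinearMap.charpoly_monic f)
    (LinearMap.minpoly_dvd_charpoly f)
  rw [LinearMap.charpoly_natDegree]
  exact finrank_le_natDegree hf

include hf in
lemma finrank_eq_natDegree : finrank K V = (minpoly K f).natDegree := by
  rw [← charpoly_eq_minpoly hf, LinearMap.charpoly_natDegree]

end simple


section simpleComm
variable {K : Type u} [Field K] {V : Type v} [AddCommGroup V] [Module K V] [FiniteDimensional K V]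
  {W : Type w} [AddCommGroup W] [Module K W] [FiniteDimensional K W]
  {f : End K V} (hf : IsSimpleEnd f) {v : V} (hv : v ≠ 0) (g : End K W)

/-- evaluation at the generator. -/
noncomputable def evGen (f : End K V) (v : V) (g : End K W) :
    Comm f g →ₗ[K] LinearMap.ker (aeval g (minpoly K f)) where
  toFun h := ⟨h.1 v, by
    rw [LinearMap.mem_ker, ← comm_aeval f g h.1 ((mem_Comm' f g h.1).mp h.2), minpoly.aeval,
      LinearMap.zero_apply, map_zero]⟩
  map_add' h h' := rfl
  map_smul' c h := rfl

include hf hv in
lemma evGen_injective : Function.Injective (evGen f v g) := by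
  rw [injective_iff_map_eq_zero]
  intro h hh
  have h0 : h.1 v = 0 := congrArg Subtype.val hh
  apply Subtype.ext
  apply LinearMap.ext
  intro u
  obtain ⟨q, rfl⟩ := iota_surjective hf hv u
  rw [iota_apply, comm_aeval f g h.1 ((mem_Comm' f g h.1).mp h.2), h0, map_zero]
  rfl

include hf hv in
lemma evGen_surjective : Function.Surjective (evGen f v g) := by
  rintro ⟨w, hw⟩
  rw [LinearMap.mem_ker] at hw
  have hsurj := iota_surjective hf hv
  have hle : LinearMap.ker (iota f v) ≤ LinearMap.ker (iota g w) := by
    intro q hq
    rw [LinearMap.mem_ker, iota_apply] at hq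
    obtain ⟨c, rfl⟩ := dvd_of_apply hf hv q hq
    rw [LinearMap.mem_ker, mul_comm, iota_mul, iota_apply, hw, map_zero]
  let e := (iota f v).quotKerEquivOfSurjective hsurj
  let h : V →ₗ[K] W := (Submodule.liftQ _ (iota g w) hle) ∘ₗ e.symm.toLinearMap
  have hh : ∀ q, h (iota f v q) = iota g w q := by
    intro q
    have : e.symm (iota f v q) = Submodule.Quotient.mk q := by
      rw [LinearEquiv.symm_apply_eq]
      rfl
    show (Submodule.liftQ _ (iota g w) hle) (e.symm (iota f v q)) = _
    rw [this, Submodule.liftQ_apply]
  have hcomm : h ∈ Comm f g := by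
    rw [mem_Comm']
    intro u
    obtain ⟨q, rfl⟩ := hsurj u
    rw [← iota_X_mul, hh, hh, iota_X_mul]
  refine ⟨⟨h, hcomm⟩, ?_⟩
  apply Subtype.ext
  show h v = w
  have h1 : iota f v 1 = v := by rw [iota_apply, map_one, Module.End.one_apply]
  have h2 : iota g w 1 = w := by rw [iota_apply, map_one, Module.End.one_apply]
  rw [← h1, hh, h2]

include hf in
lemma finrank_comm_simple :
    finrank K (Comm f g) = finrank K (LinearMap.ker (aeval g (minpoly K f))) := by
  have := hf.1
  obtain ⟨v, hv⟩ := exists_ne (0 : V)
  exact (LinearEquiv.ofBijective (evGen f v g)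
    ⟨evGen_injective hf hv g, evGen_surjective hf hv g⟩).finrank_eq

end simpleComm


section formula
open UniqueFactorizationMonoid
open scoped Classical

variable {K : Type u} [Field K]

lemma nf_irred_monic {P : K[X]} (hP : Irreducible P) (hm : P.Monic) :
    normalizedFactors P = {P} := by
  rw [normalizedFactors_irreducible hP, hm.normalize_eq_self]

lemma charpoly_eq_one_of_subsingleton {V : Type v} [AddCommGroup V] [Module K V]
    [FiniteDimensional K V] (f : End K V) (hV : Subsingleton V) : f.charpoly = 1 := by
  apply Polynomial.eq_one_of_monic_natDegree_zero (LinearMap.charpoly_monic f)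
  rw [LinearMap.charpoly_natDegree]
  exact Module.finrank_zero_of_subsingleton

lemma nf_charpoly_isCompl {V : Type v} [AddCommGroup V] [Module K V] [FiniteDimensional K V]
    (f : End K V) (U U' : Submodule K V) (hU : U ∈ f.invtSubmodule)
    (hU' : U' ∈ f.invtSubmodule) (hc : IsCompl U U') :
    normalizedFactors f.charpoly =
      normalizedFactors (f.restrict hU).charpoly + normalizedFactors (f.restrict hU').charpoly := by
  rw [charpoly_isCompl f U U' hU hU' hc,
    normalizedFactors_mul (LinearMap.charpoly_monic _).ne_zero (LinearMap.charpoly_monic _).ne_zero]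

lemma kerP_simple {W : Type w} [AddCommGroup W] [Module K W] [FiniteDimensional K W]
    {g : End K W} (hg : IsSimpleEnd g) {P : K[X]} (hP : Irreducible P) (hm : P.Monic) :
    finrank K (LinearMap.ker (aeval g P)) =
      (normalizedFactors g.charpoly).count P * P.natDegree := by
  have hmonic : (minpoly K g).Monic := minpoly.monic (isIntegral_end g)
  rw [charpoly_eq_minpoly hg, nf_irred_monic (minpoly_irreducible hg) hmonic,
    Multiset.count_singleton]
  split_ifs with h
  · subst h
    have : LinearMap.ker (aeval g (minpoly K g)) = ⊤ := by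
      rw [minpoly.aeval, LinearMap.ker_zero]
    rw [this, finrank_top, one_mul, finrank_eq_natDegree hg]
  · have : LinearMap.ker (aeval g P) = ⊥ := by
      rcases hg.2 _ (ker_aeval_invt g P) with h' | h'
      · exact h'
      · exfalso
        apply h
        have h0 : aeval g P = 0 := LinearMap.ker_eq_top.mp h'
        have hd : minpoly K g ∣ P := minpoly.dvd K g h0
        have hassoc : Associated (minpoly K g) P :=
          (minpoly_irreducible hg).associated_of_dvd hP hd
        exact (Polynomial.eq_of_monic_of_associated hmonic hm hassoc).symm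
    rw [this, finrank_bot, zero_mul]

theorem kerP_formula {P : K[X]} (hP : Irreducible P) (hm : P.Monic)
    (W : Type w) [AddCommGroup W] [Module K W] [FiniteDimensional K W]
    (g : End K W) (hg : g.IsSemisimple) :
    finrank K (LinearMap.ker (aeval g P)) =
      (normalizedFactors g.charpoly).count P * P.natDegree := by
  refine ss_induction (K := K)
    (fun W _ _ _ g => finrank K (LinearMap.ker (aeval g P)) =
      (normalizedFactors g.charpoly).count P * P.natDegree) ?_ ?_ ?_ W g hg
  · intro W _ _ _ g hW
    rw [charpoly_eq_one_of_subsingleton g hW, normalizedFactors_one, Multiset.count_zero, zero_mul]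
    exact Module.finrank_zero_of_subsingleton
  · intro W _ _ _ g hg
    exact kerP_simple hg hP hm
  · intro W _ _ _ g U U' hU hU' hc h1 h2
    rw [finrank_kerP g P U U' hU hU' hc, h1, h2, nf_charpoly_isCompl g U U' hU hU' hc,
      Multiset.count_add, add_mul]

end formula


section main
open UniqueFactorizationMonoid
open scoped Classical

variable {K : Type u} [Field K]

/-- the number `r(f₁, f₂)`. -/
noncomputable def rr {V : Type v} [AddCommGroup V] [Module K V] [FiniteDimensional K V]
    {W : Type w} [AddCommGroup W] [Module K W] [FiniteDimensional K W]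
    (f : End K V) (g : End K W) : ℕ :=
  ∑ P ∈ (normalizedFactors f.charpoly).toFinset,
    (normalizedFactors f.charpoly).count P * (normalizedFactors g.charpoly).count P * P.natDegree

lemma rr_eq {V : Type v} [AddCommGroup V] [Module K V] [FiniteDimensional K V]
    {W : Type w} [AddCommGroup W] [Module K W] [FiniteDimensional K W]
    (f : End K V) (g : End K W) :
    rr f g = ((normalizedFactors f.charpoly).map
      (fun P => (normalizedFactors g.charpoly).count P * P.natDegree)).sum := by
  rw [Finset.sum_multiset_map_count, rr]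
  apply Finset.sum_congr rfl
  intro P _
  rw [smul_eq_mul, mul_assoc]

theorem main (V : Type v) [AddCommGroup V] [Module K V] [FiniteDimensional K V]
    (f : End K V) (hf : f.IsSemisimple)
    (W : Type w) [AddCommGroup W] [Module K W] [FiniteDimensional K W]
    (g : End K W) (hg : g.IsSemisimple) :
    finrank K (Comm f g) = rr f g := by
  refine ss_induction (K := K)
    (fun V _ _ _ f => finrank K (Comm f g) = rr f g) ?_ ?_ ?_ V f hf
  · intro V _ _ _ f hV
    rw [rr_eq, charpoly_eq_one_of_subsingleton f hV, normalizedFactors_one, Multiset.map_zero,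
      Multiset.sum_zero]
    have : Subsingleton (Comm f g) := by
      constructor
      intro a b
      apply Subtype.ext
      apply LinearMap.ext
      intro x
      rw [Subsingleton.elim x 0, map_zero, map_zero]
    exact Module.finrank_zero_of_subsingleton
  · intro V _ _ _ f hf
    have hmonic : (minpoly K f).Monic := minpoly.monic (isIntegral_end f)
    rw [finrank_comm_simple hf g, kerP_formula (minpoly_irreducible hf) hmonic W g hg, rr_eq,
      charpoly_eq_minpoly hf, nf_irred_monic (minpoly_irreducible hf) hmonic,
      Multiset.map_singleton, Multiset.sum_singleton]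
  · intro V _ _ _ f U U' hU hU' hc h1 h2
    rw [finrank_comm_left f g U U' hU hU' hc, h1, h2, rr_eq, rr_eq, rr_eq,
      nf_charpoly_isCompl f U U' hU hU' hc, Multiset.map_add, Multiset.sum_add]

end main

end Groth.Agent.Lib.Helper63.SemiComm
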