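import Mathlib

set_option autoImplicit false
universe u
open CategoryTheory CategoryTheory.Limits AlgebraicGeometry

namespace Groth.Agent.Lib.Helper63.SpecQuot

theorem alg_lemma {ι : Type*} [Finite ι] {B₀ A₀ B₁ A₁ : Type*} [CommRing B₀] [CommRing A₀]
    [CommRing B₁] [CommRing A₁] [Algebra B₀ B₁] [Algebra A₀ A₁] (f : B₀) (φ : B₀ →+* A₀)
    [IsLocalization.Away f B₁] [IsLocalization.Away (φ f) A₁]
    (φ₁ : B₁ →+* A₁) (hφ₁ : ∀ b, φ₁ (algebraMap B₀ B₁ b) = algebraMap A₀ A₁ (φ b))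
    (hinj : Function.Injective φ)
    (θ : ι → A₀ →+* A₀) (θ' : ι → A₁ →+* A₁)
    (hθ' : ∀ i a, θ' i (algebraMap A₀ A₁ a) = algebraMap A₀ A₁ (θ i a))
    (hθφ : ∀ i b, θ i (φ b) = φ b)
    (hfix : ∀ a, (∀ i, θ i a = a) → ∃ b, φ b = a) :
    Function.Injective φ₁ ∧ ∀ s : A₁, (∀ i, θ' i s = s) → ∃ x, φ₁ x = s := by
  have hunitB : ∀ n : ℕ, IsUnit (algebraMap B₀ B₁ (f ^ n)) := fun n =>
    IsLocalization.map_units B₁ (⟨f ^ n, n, rfl⟩ : Submonoid.powers f)
  have hunitA : ∀ n : ℕ, IsUnit (algebraMap A₀ A₁ (φ f ^ n)) := fun n =>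
    IsLocalization.map_units A₁ (⟨φ f ^ n, n, rfl⟩ : Submonoid.powers (φ f))
  constructor
  · rw [injective_iff_map_eq_zero]
    intro x hx
    obtain ⟨⟨b, ⟨_, n, rfl⟩⟩, hb⟩ := IsLocalization.surj (Submonoid.powers f) x
    dsimp at hb
    have h1 : algebraMap A₀ A₁ (φ b) = 0 := by
      rw [← hφ₁, ← hb, map_mul, hx, zero_mul]
    obtain ⟨⟨_, k, rfl⟩, hk⟩ := (IsLocalization.map_eq_zero_iff (Submonoid.powers (φ f)) A₁ _).mp h1
    dsimp at hk
    have h2 : f ^ k * b = 0 := by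
      apply hinj
      rw [map_mul, map_pow, hk, map_zero]
    have h3 : algebraMap B₀ B₁ b = 0 := by
      have := congrArg (algebraMap B₀ B₁) h2
      rw [map_mul, map_zero] at this
      exact ((hunitB k).mul_right_eq_zero).mp this
    rw [h3] at hb
    exact ((hunitB n).mul_left_eq_zero).mp hb
  · intro s hs
    cases nonempty_fintype ι
    obtain ⟨⟨a, ⟨_, n, rfl⟩⟩, ha⟩ := IsLocalization.surj (Submonoid.powers (φ f)) s
    dsimp at ha
    have hθf : ∀ i, θ i (φ f) = φ f := fun i => hθφ i f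
    have h1 : ∀ i, algebraMap A₀ A₁ (θ i a - a) = 0 := by
      intro i
      rw [map_sub, ← hθ', ← ha, map_mul, hs i, hθ', map_pow, hθf, sub_self]
    have h2 : ∀ i, ∃ k : ℕ, φ f ^ k * (θ i a - a) = 0 := by
      intro i
      obtain ⟨⟨_, k, rfl⟩, hk⟩ :=
        (IsLocalization.map_eq_zero_iff (Submonoid.powers (φ f)) A₁ _).mp (h1 i)
      exact ⟨k, hk⟩
    choose k hk using h2
    set K := Finset.univ.sum k with hK
    have h3 : ∀ i, θ i (φ f ^ K * a) = φ f ^ K * a := by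
      intro i
      have hle : k i ≤ K := Finset.single_le_sum (fun _ _ => Nat.zero_le _) (Finset.mem_univ i)
      obtain ⟨d, hd⟩ := Nat.exists_eq_add_of_le hle
      have : φ f ^ K * (θ i a - a) = 0 := by
        rw [hd, pow_add, mul_comm (φ f ^ k i), mul_assoc, hk i, mul_zero]
      rw [map_mul, map_pow, hθf]
      rw [mul_sub, sub_eq_zero] at this
      exact this
    obtain ⟨b, hb⟩ := hfix _ h3
    obtain ⟨v, hv⟩ := (hunitB (n + K)).exists_right_inv
    refine ⟨algebraMap B₀ B₁ b * v, ?_⟩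
    have hU := hunitA (n + K)
    apply (hU.mul_left_inj).mp
    have e1 : φ₁ (algebraMap B₀ B₁ b * v) * algebraMap A₀ A₁ (φ f ^ (n + K)) =
        algebraMap A₀ A₁ (φ b) := by
      rw [← map_pow, ← hφ₁, ← hφ₁, ← map_mul, mul_assoc, mul_comm v, hv, mul_one]
    rw [e1, hb, pow_add, map_mul, map_mul, ← ha]
    ring

theorem basic_case {X Y : Scheme.{u}} [IsAffine X] [IsAffine Y] (p : X ⟶ Y) {ι : Type*} [Finite ι]
    (τ : ι → (X ⟶ X)) (hτ : ∀ i, τ i ≫ p = p)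
    (hle : ∀ i (U : Y.Opens), p ⁻¹ᵁ U ≤ (τ i) ⁻¹ᵁ (p ⁻¹ᵁ U))
    (hinj : Function.Injective p.appTop.hom)
    (hfix : ∀ a : Γ(X, ⊤), (∀ i, (τ i).appTop.hom a = a) → ∃ b, p.appTop.hom b = a)
    (f : Γ(Y, ⊤)) :
    Function.Injective (p.app (Y.basicOpen f)).hom ∧
    ∀ s : Γ(X, p ⁻¹ᵁ (Y.basicOpen f)),
      (∀ i, ((τ i).appLE _ _ (hle i (Y.basicOpen f))).hom s = s) →
        ∃ x, (p.app (Y.basicOpen f)).hom x = s := by
  let _ : Algebra Γ(Y, ⊤) Γ(Y, Y.basicOpen f) :=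
    (Y.presheaf.map (homOfLE le_top).op).hom.toAlgebra
  let _ : Algebra Γ(X, ⊤) Γ(X, p ⁻¹ᵁ Y.basicOpen f) :=
    (X.presheaf.map (homOfLE le_top).op).hom.toAlgebra
  have _ : IsLocalization.Away f Γ(Y, Y.basicOpen f) :=
    (isAffineOpen_top Y).isLocalization_of_eq_basicOpen f (homOfLE le_top) rfl
  have _ : IsLocalization.Away (p.appTop.hom f) Γ(X, p ⁻¹ᵁ Y.basicOpen f) :=
    (isAffineOpen_top X).isLocalization_of_eq_basicOpen _ (homOfLE le_top)
      (Scheme.preimage_basicOpen_top p f)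
  refine alg_lemma f p.appTop.hom (p.app (Y.basicOpen f)).hom ?_ hinj
    (fun i => (τ i).appTop.hom) (fun i => ((τ i).appLE _ _ (hle i _)).hom) ?_ ?_ hfix
  · intro b
    have := p.naturality (homOfLE (le_top : Y.basicOpen f ≤ ⊤)).op
    exact congrArg (fun h : Γ(Y, ⊤) ⟶ Γ(X, p ⁻¹ᵁ Y.basicOpen f) => h.hom b) this
  · intro i a
    change (X.presheaf.map _ ≫ (τ i).appLE _ _ _).hom a =
      ((τ i).appLE ⊤ (p ⁻¹ᵁ Y.basicOpen f) le_top).hom a
    rw [Scheme.Hom.map_appLE]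
  · intro i b
    change (p.appTop ≫ (τ i).appTop).hom b = _
    rw [← Scheme.Hom.comp_appTop, hτ]

theorem general_case {X Y : Scheme.{u}} [IsAffine X] [IsAffine Y] (p : X ⟶ Y) {ι : Type*}
    [Finite ι]
    (τ : ι → (X ⟶ X)) (hτ : ∀ i, τ i ≫ p = p)
    (hle : ∀ i (U : Y.Opens), p ⁻¹ᵁ U ≤ (τ i) ⁻¹ᵁ (p ⁻¹ᵁ U))
    (hinj : Function.Injective p.appTop.hom)
    (hfix : ∀ a : Γ(X, ⊤), (∀ i, (τ i).appTop.hom a = a) → ∃ b, p.appTop.hom b = a)
    (U : Y.Opens) :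
    Function.Injective (p.app U).hom ∧
    ∀ s : Γ(X, p ⁻¹ᵁ U),
      (∀ i, ((τ i).appLE _ _ (hle i U)).hom s = s) →
        ∃ x, (p.app U).hom x = s := by
  -- the cover of `U` by basic opens
  let J := {f : Γ(Y, ⊤) // Y.basicOpen f ≤ U}
  let V : J → Y.Opens := fun j => Y.basicOpen j.1
  have hV : ∀ j, V j ≤ U := fun j => j.2
  have hcover : U ≤ iSup V := by
    intro x hx
    obtain ⟨W, ⟨f, rfl⟩, hxW, hWU⟩ :=
      (TopologicalSpace.Opens.isBasis_iff_nbhd.mp (isBasis_basicOpen Y)) hx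
    exact TopologicalSpace.Opens.mem_iSup.mpr ⟨⟨f, hWU⟩, hxW⟩
  have hcover' : p ⁻¹ᵁ U ≤ ⨆ j, p ⁻¹ᵁ (V j) := by
    intro x hx
    obtain ⟨j, hj⟩ := TopologicalSpace.Opens.mem_iSup.mp (hcover hx)
    exact TopologicalSpace.Opens.mem_iSup.mpr ⟨j, hj⟩
  have hbasic := basic_case p τ hτ hle hinj hfix
  have hinjW : ∀ (W : Y.Opens) (f : Γ(Y, ⊤)), W = Y.basicOpen f →
      Function.Injective (p.app W).hom := by
    rintro W f rfl
    exact (hbasic f).1
  -- naturality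
  have hnat : ∀ (W W' : Y.Opens) (h : W' ≤ W) (y : Γ(Y, W)),
      (p.app W').hom ((Y.presheaf.map (homOfLE h).op).hom y) =
        (X.presheaf.map (homOfLE (show p ⁻¹ᵁ W' ≤ p ⁻¹ᵁ W from fun _ hx => h hx)).op).hom
          ((p.app W).hom y) := by
    intro W W' h y
    exact congrArg (fun k : Γ(Y, W) ⟶ Γ(X, p ⁻¹ᵁ W') => k.hom y) (p.naturality (homOfLE h).op)
  constructor
  · intro s t hst
    refine Y.sheaf.eq_of_locally_eq' V U (fun j => homOfLE (hV j)) hcover s t ?_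
    intro j
    apply (hbasic j.1).1
    change (p.app (V j)).hom ((Y.presheaf.map (homOfLE (hV j)).op).hom s) =
      (p.app (V j)).hom ((Y.presheaf.map (homOfLE (hV j)).op).hom t)
    rw [hnat, hnat, hst]
  · intro s hs
    have hpV : ∀ j, p ⁻¹ᵁ (V j) ≤ p ⁻¹ᵁ U := fun j _ hx => hV j hx
    -- local sections
    have hloc : ∀ j : J, ∃ t : Γ(Y, V j),
        (p.app (V j)).hom t = (X.presheaf.map (homOfLE (hpV j)).op).hom s := by
      intro j
      apply (hbasic j.1).2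
      intro i
      change (X.presheaf.map (homOfLE (hpV j)).op ≫ (τ i).appLE _ _ _).hom s = _
      rw [Scheme.Hom.map_appLE]
      have h2 := Scheme.Hom.appLE_map (τ i) (hle i U) (homOfLE (hpV j)).op
      rw [← h2]
      change (X.presheaf.map (homOfLE (hpV j)).op).hom (((τ i).appLE _ _ (hle i U)).hom s) = _
      rw [hs i]
    choose t ht using hloc
    have hcompat : TopCat.Presheaf.IsCompatible Y.sheaf.1 V t := by
      intro j k
      apply hinjW (V j ⊓ V k) (j.1 * k.1) (Scheme.basicOpen_mul Y j.1 k.1).symm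
      change (p.app (V j ⊓ V k)).hom ((Y.presheaf.map (homOfLE inf_le_left).op).hom (t j)) =
        (p.app (V j ⊓ V k)).hom ((Y.presheaf.map (homOfLE inf_le_right).op).hom (t k))
      rw [hnat, hnat, ht, ht]
      change (X.presheaf.map _ ≫ X.presheaf.map _).hom s =
        (X.presheaf.map _ ≫ X.presheaf.map _).hom s
      rw [← Functor.map_comp, ← Functor.map_comp]
      rfl
    obtain ⟨x, hx, -⟩ : ∃! x : Γ(Y, U), ∀ j, (Y.presheaf.map (homOfLE (hV j)).op).hom x = t j :=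
      Y.sheaf.existsUnique_gluing' V U (fun j => homOfLE (hV j)) hcover t hcompat
    refine ⟨x, ?_⟩
    refine X.sheaf.eq_of_locally_eq' (fun j => p ⁻¹ᵁ (V j)) (p ⁻¹ᵁ U)
      (fun j => homOfLE (hpV j)) hcover' _ _ ?_
    intro j
    change (X.presheaf.map (homOfLE (hpV j)).op).hom ((p.app U).hom x) =
      (X.presheaf.map (homOfLE (hpV j)).op).hom s
    rw [← hnat U (V j) (hV j), ← ht]
    congr 1
    exact hx j

end Groth.Agent.Lib.Helper63.SpecQuot
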