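import Mathlib

/-!
# Elimination for an irreducible polynomial and a non-multiple (helper63)

If `P ∈ R[X]` is irreducible over a UFD `R` and `P ∤ Q`, then `(P, Q) ∩ R ≠ 0`.
-/

set_option autoImplicit false

namespace Groth.Agent.Lib.Helper63.SqElim

open Polynomial IsLocalization

theorem exists_elim {R : Type*} [CommRing R] [IsDomain R] [UniqueFactorizationMonoid R]
    (P Q : R[X]) (hP : Irreducible P) (hPQ : ¬ P ∣ Q) :
    ∃ (r : R) (A B : R[X]), r ≠ 0 ∧ A * P + B * Q = C r := by
  classical
  by_cases hdeg : P.natDegree = 0
  · obtain ⟨r, hr⟩ := natDegree_eq_zero.mp hdeg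
    refine ⟨r, 1, 0, ?_, by rw [one_mul, zero_mul, add_zero, hr]⟩
    rintro rfl
    rw [map_zero] at hr
    exact hP.ne_zero hr.symm
  · have hprim : P.IsPrimitive := hP.isPrimitive hdeg
    have hirr : Irreducible (P.map (algebraMap R (FractionRing R))) :=
      (hprim.irreducible_iff_irreducible_map_fraction_map).mp hP
    have hnd : ¬ P.map (algebraMap R (FractionRing R)) ∣ Q.map (algebraMap R (FractionRing R)) :=
      fun h => hPQ (hprim.dvd_of_fraction_map_dvd_fraction_map h)
    obtain ⟨a, b, hab⟩ := (hirr.coprime_iff_not_dvd).mpr hnd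
    obtain ⟨c, hc0, hc⟩ := integerNormalization_spec (nonZeroDivisors R) a
    obtain ⟨d, hd0, hd⟩ := integerNormalization_spec (nonZeroDivisors R) b
    refine ⟨c * d, C d * integerNormalization (nonZeroDivisors R) a,
      C c * integerNormalization (nonZeroDivisors R) b, ?_, ?_⟩
    · exact mul_ne_zero (nonZeroDivisors.ne_zero hc0) (nonZeroDivisors.ne_zero hd0)
    · apply map_injective (algebraMap R (FractionRing R)) (IsFractionRing.injective _ _)
      rw [Polynomial.map_add, Polynomial.map_mul, Polynomial.map_mul, Polynomial.map_mul,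
        Polynomial.map_mul, hc, hd, map_C, map_C, map_C, map_mul, Algebra.smul_def,
        Algebra.smul_def, Polynomial.algebraMap_apply, Polynomial.algebraMap_apply]
      have : C (algebraMap R (FractionRing R) c) * C (algebraMap R (FractionRing R) d) =
          C (algebraMap R (FractionRing R) c) * C (algebraMap R (FractionRing R) d) *
            (a * P.map (algebraMap R (FractionRing R)) +
              b * Q.map (algebraMap R (FractionRing R))) := by
        rw [hab, mul_one]
      rw [map_mul, this]
      ring

end Groth.Agent.Lib.Helper63.SqElim
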