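import Mathlib
import Groth.Agent.Lib.Helper63.ASingGen
import Groth.Agent.Lib.Helper63.ASingWeier
import Groth.Agent.Lib.Helper63.ASingSmooth
import Groth.Agent.Lib.Helper63.ASingNot
import Groth.Agent.Lib.Helper63.ASingMain

/-!
# `k[[x,y]]/(F) ≅ k[[x,y]]/(y²)` iff `F = u·Y²` with `Y` a formal coordinate (helper63)
-/

set_option autoImplicit false

namespace Groth.Agent.Lib.Helper63.SqFormal

open MvPowerSeries IsLocalRing Groth.Agent.Lib.Helper63.ASingGen
  Groth.Agent.Lib.Helper63.ASingWeier Groth.Agent.Lib.Helper63.ASingSmooth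
  Groth.Agent.Lib.Helper63.ASingNot Groth.Agent.Lib.Helper63.ASingMain
  Groth.Agent.Lib.Helper90

universe u

variable {k : Type u} [Field k]

instance isDomain_PS : IsDomain (PS k) := NoZeroDivisors.to_isDomain _

theorem X0_prime : Prime (X 0 : PS k) := by
  have : IsDomain (ASingA1.A1 k) := NoZeroDivisors.to_isDomain _
  have h : Prime (eps k (X 0)) := by
    rw [eps_X0]
    exact PowerSeries.X_prime
  exact (MulEquiv.prime_iff (eps k)).mp h

theorem aut_X0_prime (ψ : PS k ≃ₐ[k] PS k) : Prime (ψ (X 0)) :=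
  (MulEquiv.prime_iff ψ).mpr X0_prime

theorem X_notMem_sq (i : Fin 2) : (X i : PS k) ∉ mI k ^ 2 := by
  classical
  rw [mem_mI_pow_iff]
  intro h
  have h1 := h (Finsupp.single i 1) (by rw [Finsupp.degree_single]; norm_num)
  rw [coeff_X, if_pos rfl] at h1
  exact one_ne_zero h1

theorem aut_X_notMem_sq (ψ : PS k ≃ₐ[k] PS k) (i : Fin 2) : ψ (X i) ∉ mI k ^ 2 := by
  intro h
  have h1 := map_mem_pow (ψ.symm : PS k ≃ₐ[k] PS k).toRingEquiv 2 h
  have h2 : (ψ.symm : PS k ≃ₐ[k] PS k).toRingEquiv (ψ (X i)) = X i := ψ.symm_apply_apply _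
  rw [h2] at h1
  exact X_notMem_sq i h1

theorem aut_mem_mI (ψ : PS k ≃ₐ[k] PS k) {f : PS k} (hf : f ∈ mI k) : ψ f ∈ mI k := by
  have h := map_mem_pow ψ.toRingEquiv 1 (by rwa [pow_one])
  rwa [pow_one] at h

/-- A power series with zero constant term and a nonzero linear coefficient is a prime element,
the image of `X 0` under an automorphism. -/
theorem exists_aut_of_linear (G : PS k) (hG0 : constantCoeff G = 0) (i : Fin 2)
    (hi : coeff (Finsupp.single i 1) G ≠ 0) :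
    ∃ (j : Fin 2), Ideal.span {X j, G} = mI k := by
  obtain ⟨j, hj⟩ : ∃ j : Fin 2, j ≠ i := by
    fin_cases i
    · exact ⟨1, by decide⟩
    · exact ⟨0, by decide⟩
  refine ⟨j, ?_⟩
  have hspan := span_smooth G hG0 i j hj hi
  apply le_antisymm
  · rw [Ideal.span_le]
    rintro s (rfl | rfl)
    · exact X_mem_mI j
    · exact (mem_mI_iff _).mpr hG0
  · rw [← hspan, Ideal.span_le]
    rintro s (rfl | rfl)
    · rw [SetLike.mem_coe, Ideal.mem_span_pair]
      exact ⟨X j, -1, by ring⟩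
    · exact Ideal.subset_span (Or.inl rfl)

theorem prime_of_linear (G : PS k) (hG0 : constantCoeff G = 0) (i : Fin 2)
    (hi : coeff (Finsupp.single i 1) G ≠ 0) : Prime G := by
  obtain ⟨j, hj⟩ := exists_aut_of_linear G hG0 i hi
  have hj' : Ideal.span {G, X j} = mI k := by
    rw [← hj, Set.pair_comm]
  obtain ⟨ψ, hψ0, -, -⟩ := exists_aut G (X j) hj'
  rw [← hψ0]
  exact aut_X0_prime ψ

/-- an element of `m` outside `m²` has a nonzero linear coefficient -/
theorem exists_linear_coeff (G : PS k) (hG0 : G ∈ mI k) (hG2 : G ∉ mI k ^ 2) :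
    ∃ i : Fin 2, coeff (Finsupp.single i 1) G ≠ 0 := by
  by_contra hcon
  push Not at hcon
  apply hG2
  rw [mem_mI_pow_iff]
  intro d hd
  rcases PSSurj.eq_zero_or_single_of_degree_lt_two d hd with rfl | ⟨l, rfl⟩
  · rw [coeff_zero_eq_constantCoeff_apply]
    exact (mem_mI_iff _).mp hG0
  · exact hcon l

/-- lifting generators through an isomorphism of quotients -/
theorem exists_lift_gens (F P : PS k) (hF : F ∈ mI k ^ 2) (hP : P ∈ mI k)
    (e : (PS k ⧸ Ideal.span {F}) ≃ₐ[k] (PS k ⧸ Ideal.span {P})) :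
    ∃ A B : PS k, Ideal.span {A, B} = mI k ∧
      Ideal.Quotient.mk (Ideal.span {F}) A = e.symm (Ideal.Quotient.mk _ (X 0)) ∧
      Ideal.Quotient.mk (Ideal.span {F}) B = e.symm (Ideal.Quotient.mk _ (X 1)) := by
  have h21 : mI k ^ 2 ≤ mI k := Ideal.pow_le_self (by norm_num)
  have hspanF : Ideal.span {F} ≤ mI k ^ 2 := by
    rw [Ideal.span_le, Set.singleton_subset_iff]; exact hF
  -- augmentations
  obtain ⟨εF, hεF⟩ : ∃ εF : (PS k ⧸ Ideal.span {F}) →ₐ[k] k,
      ∀ f, εF (Ideal.Quotient.mk _ f) = constantCoeff f := by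
    refine ⟨Ideal.Quotient.liftₐ (Ideal.span {F}) (ccAlg k) ?_, fun f => rfl⟩
    intro a ha
    have : a ∈ mI k := h21 (hspanF ha)
    rwa [mem_mI_iff] at this
  obtain ⟨εp, hεp⟩ : ∃ εp : (PS k ⧸ Ideal.span {P}) →ₐ[k] k,
      ∀ f, εp (Ideal.Quotient.mk _ f) = constantCoeff f := by
    refine ⟨Ideal.Quotient.liftₐ (Ideal.span {P}) (ccAlg k) ?_, fun f => rfl⟩
    intro a ha
    have hle : Ideal.span {P} ≤ mI k := by
      rw [Ideal.span_le, Set.singleton_subset_iff]; exact hP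
    have : a ∈ mI k := hle ha
    rwa [mem_mI_iff] at this
  obtain ⟨mkF, hmkF⟩ : ∃ mkF : PS k →ₐ[k] (PS k ⧸ Ideal.span {F}),
      mkF = Ideal.Quotient.mkₐ k (Ideal.span {F}) := ⟨_, rfl⟩
  obtain ⟨mkp, hmkp⟩ : ∃ mkp : PS k →ₐ[k] (PS k ⧸ Ideal.span {P}),
      mkp = Ideal.Quotient.mkₐ k (Ideal.span {P}) := ⟨_, rfl⟩
  have hmkF_surj : Function.Surjective mkF := by
    rw [hmkF]; exact Ideal.Quotient.mkₐ_surjective k _
  have hmkF_c : ∀ f, εF (mkF f) = constantCoeff f := by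
    intro f; rw [hmkF]; exact hεF f
  have hmkp_c : ∀ f, εp (mkp f) = constantCoeff f := by
    intro f; rw [hmkp]; exact hεp f
  have hmkF_ker : ∀ f, mkF f = 0 → f ∈ Ideal.span {F} := by
    intro f hf
    rw [hmkF] at hf
    exact Ideal.Quotient.eq_zero_iff_mem.mp hf
  obtain ⟨A, hA⟩ := hmkF_surj (e.symm (mkp (X 0)))
  obtain ⟨B, hB⟩ := hmkF_surj (e.symm (mkp (X 1)))
  have hAm : A ∈ mI k := by
    rw [mem_mI_iff, ← hmkF_c, hA]
    exact algHom_eq_zero ((εF.comp (e.symm : _ →ₐ[k] _)).comp mkp) (X_mem_mI 0)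
  have hBm : B ∈ mI k := by
    rw [mem_mI_iff, ← hmkF_c, hB]
    exact algHom_eq_zero ((εF.comp (e.symm : _ →ₐ[k] _)).comp mkp) (X_mem_mI 1)
  have hmkp_surj : Function.Surjective mkp := by
    rw [hmkp]; exact Ideal.Quotient.mkₐ_surjective k _
  have hspan : Ideal.span {A, B} = mI k := by
    apply span_eq_of_le_sup
    · rintro s (rfl | rfl)
      · exact hAm
      · exact hBm
    · intro f hf
      obtain ⟨g, hg⟩ := hmkp_surj (e (mkF f))
      have hgm : g ∈ mI k := by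
        rw [mem_mI_iff, ← hmkp_c, hg]
        exact algHom_eq_zero ((εp.comp (e : _ →ₐ[k] _)).comp mkF) hf
      rw [mI_eq', Ideal.mem_span_pair] at hgm
      obtain ⟨u, v, huv⟩ := hgm
      obtain ⟨u', hu'⟩ := hmkF_surj (e.symm (mkp u))
      obtain ⟨v', hv'⟩ := hmkF_surj (e.symm (mkp v))
      have h0 : mkF (u' * A + v' * B) = mkF f := by
        calc mkF (u' * A + v' * B) = mkF u' * mkF A + mkF v' * mkF B := by
              rw [map_add, map_mul, map_mul]
          _ = e.symm (mkp u) * e.symm (mkp (X 0)) + e.symm (mkp v) * e.symm (mkp (X 1)) := by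
              rw [hu', hv', hA, hB]
          _ = e.symm (mkp (u * X 0 + v * X 1)) := by
              rw [map_add mkp, map_mul mkp, map_mul mkp, map_add e.symm, map_mul e.symm,
                map_mul e.symm]
          _ = mkF f := by rw [huv, hg, AlgEquiv.symm_apply_apply]
      have h1 : mkF (f - (u' * A + v' * B)) = 0 := by
        rw [map_sub, h0, sub_self]
      have h2 : f - (u' * A + v' * B) ∈ mI k ^ 2 := hspanF (hmkF_ker _ h1)
      have h3 : f = (u' * A + v' * B) + (f - (u' * A + v' * B)) := by ring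
      rw [h3]
      refine Submodule.add_mem_sup ?_ h2
      rw [Ideal.mem_span_pair]
      exact ⟨u', v', rfl⟩
  refine ⟨A, B, hspan, ?_, ?_⟩
  · rw [hmkF, hmkp] at hA
    exact hA
  · rw [hmkF, hmkp] at hB
    exact hB

/-- divisors of the square of a prime -/
theorem sq_factor {R : Type*} [CommRing R] [IsDomain R] {Y F d : R} (hY : Prime Y)
    (h : Y ^ 2 = F * d) :
    IsUnit F ∨ (∃ u, IsUnit u ∧ F = u * Y) ∨ (∃ u, IsUnit u ∧ F = u * Y ^ 2) := by
  have hY0 : Y ≠ 0 := hY.ne_zero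
  by_cases h1 : Y ∣ F
  · obtain ⟨F₁, rfl⟩ := h1
    have h2 : Y = F₁ * d := by
      apply mul_left_cancel₀ hY0
      rw [← pow_two, h]
      ring
    by_cases h3 : Y ∣ F₁
    · obtain ⟨F₂, rfl⟩ := h3
      have h4 : F₂ * d = 1 := by
        apply mul_left_cancel₀ hY0
        rw [mul_one]
        conv_rhs => rw [h2]
        ring
      exact Or.inr (Or.inr ⟨F₂, IsUnit.of_mul_eq_one _ h4, by ring⟩)
    · have h5 : Y ∣ F₁ * d := ⟨1, by rw [mul_one]; exact h2.symm⟩
      obtain ⟨d₁, rfl⟩ := (hY.dvd_or_dvd h5).resolve_left h3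
      have h4 : F₁ * d₁ = 1 := by
        apply mul_left_cancel₀ hY0
        rw [mul_one]
        conv_rhs => rw [h2]
        ring
      exact Or.inr (Or.inl ⟨F₁, IsUnit.of_mul_eq_one _ h4, by ring⟩)
  · have h5 : Y ∣ F * d := ⟨Y, by rw [← h]; ring⟩
    obtain ⟨d₁, rfl⟩ := (hY.dvd_or_dvd h5).resolve_left h1
    have h2 : Y = F * d₁ := by
      apply mul_left_cancel₀ hY0
      rw [← pow_two, h]
      ring
    have h6 : Y ∣ F * d₁ := ⟨1, by rw [mul_one]; exact h2.symm⟩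
    obtain ⟨d₂, rfl⟩ := (hY.dvd_or_dvd h6).resolve_left h1
    have h4 : F * d₂ = 1 := by
      apply mul_left_cancel₀ hY0
      rw [mul_one]
      conv_rhs => rw [h2]
      ring
    exact Or.inl (IsUnit.of_mul_eq_one _ h4)

theorem X1_notMem_span_sq : (X 1 : PS k) ∉ Ideal.span {(X 1 : PS k) ^ 2} := by
  intro h
  have hle : Ideal.span {(X 1 : PS k) ^ 2} ≤ mI k ^ 2 := by
    rw [Ideal.span_le, Set.singleton_subset_iff]
    exact Ideal.pow_mem_pow (X_mem_mI 1) 2
  exact X_notMem_sq 1 (hle h)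

/-- the formal structure theorem -/
theorem formal_main (F : PS k)
    (e : (PS k ⧸ Ideal.span {F}) ≃ₐ[k] (PS k ⧸ Ideal.span ({X 1 ^ 2} : Set (PS k)))) :
    ∃ Y u : PS k, IsUnit u ∧ Prime Y ∧ Y ∈ mI k ∧ Y ∉ mI k ^ 2 ∧ F = u * Y ^ 2 := by
  have hX1 := X1_notMem_span_sq (k := k)
  have hmk0 : ∀ z : PS k ⧸ Ideal.span ({X 1 ^ 2} : Set (PS k)), e.symm z = 0 → z = 0 := by
    intro z hz
    have := e.symm.injective (hz.trans (map_zero e.symm).symm)
    exact this
  -- `F ∈ m`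
  have hFm : F ∈ mI k := by
    by_contra hF
    have hu : IsUnit F := by
      by_contra hnu
      exact hF ((IsLocalRing.mem_maximalIdeal _).mpr hnu)
    have htop : Ideal.span {F} = ⊤ := Ideal.span_singleton_eq_top.mpr hu
    have hsub : Subsingleton (PS k ⧸ Ideal.span {F}) := Ideal.Quotient.subsingleton_iff.mpr htop
    have h2 := hmk0 (Ideal.Quotient.mk _ (X 1)) (Subsingleton.elim _ _)
    exact hX1 (Ideal.Quotient.eq_zero_iff_mem.mp h2)
  -- a lift of the nilpotent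
  have hnil : ∀ B : PS k, Ideal.Quotient.mk (Ideal.span {F}) B =
      e.symm (Ideal.Quotient.mk _ (X 1)) → F ∣ B ^ 2 ∧ ¬ F ∣ B := by
    intro B hB
    constructor
    · rw [← Ideal.mem_span_singleton, ← Ideal.Quotient.eq_zero_iff_mem, map_pow, hB, ← map_pow,
        ← map_pow]
      have : Ideal.Quotient.mk (Ideal.span ({X 1 ^ 2} : Set (PS k))) (X 1 ^ 2) = 0 :=
        Ideal.Quotient.eq_zero_iff_mem.mpr (Ideal.mem_span_singleton_self _)
      rw [this, map_zero]
    · intro hdvd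
      rw [← Ideal.mem_span_singleton, ← Ideal.Quotient.eq_zero_iff_mem, hB] at hdvd
      have h2 := hmk0 _ hdvd
      exact hX1 (Ideal.Quotient.eq_zero_iff_mem.mp h2)
  -- `F ∈ m²`
  have hF2 : F ∈ mI k ^ 2 := by
    by_contra hF2
    obtain ⟨i, hi⟩ := exists_linear_coeff F hFm hF2
    have hprime := prime_of_linear F ((mem_mI_iff _).mp hFm) i hi
    obtain ⟨B, hB⟩ := Ideal.Quotient.mk_surjective (e.symm (Ideal.Quotient.mk _ (X 1)))
    obtain ⟨h1, h2⟩ := hnil B hB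
    exact h2 (hprime.dvd_of_dvd_pow h1)
  obtain ⟨A, B, hspan, -, hB⟩ := exists_lift_gens F (X 1 ^ 2) hF2
    (Ideal.pow_mem_of_mem _ (X_mem_mI 1) 2 (by norm_num)) e
  have hspan' : Ideal.span {B, A} = mI k := by rw [← hspan, Set.pair_comm]
  obtain ⟨ψ, hψ0, -, -⟩ := exists_aut B A hspan'
  have hBprime : Prime B := hψ0 ▸ aut_X0_prime ψ
  have hBm : B ∈ mI k := hψ0 ▸ aut_mem_mI ψ (X_mem_mI 0)
  have hB2 : B ∉ mI k ^ 2 := hψ0 ▸ aut_X_notMem_sq ψ 0
  obtain ⟨⟨d, hd⟩, -⟩ := hnil B hB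
  rcases sq_factor hBprime hd with hu | ⟨u, hu, hFu⟩ | ⟨u, hu, hFu⟩
  · exact absurd hu ((IsLocalRing.mem_maximalIdeal _).mp hFm)
  · exfalso
    apply hB2
    obtain ⟨v, hv⟩ := hu.exists_left_inv
    have : B = v * F := by rw [hFu, ← mul_assoc, hv, one_mul]
    rw [this]
    exact Ideal.mul_mem_left _ _ hF2
  · exact ⟨B, u, hu, hBprime, hBm, hB2, hFu⟩

/-- the converse -/
theorem formal_converse (G H : PS k) (hG0 : constantCoeff G = 0) (i : Fin 2)
    (hi : coeff (Finsupp.single i 1) G ≠ 0) (hH : IsUnit H) :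
    Nonempty ((PS k ⧸ Ideal.span {G ^ 2 * H}) ≃ₐ[k]
      (PS k ⧸ Ideal.span ({X 1 ^ 2} : Set (PS k)))) := by
  obtain ⟨j, hj⟩ := exists_aut_of_linear G hG0 i hi
  obtain ⟨U, hU⟩ := hH.exists_left_inv
  have hUu : IsUnit U := IsUnit.of_mul_eq_one _ hU
  have h := nonempty_quot_equiv (G ^ 2 * H) ((MvPolynomial.X 1 : MvPolynomial (Fin 2) k) ^ 2)
    (X j) G U hj hUu (by
      rw [map_pow, MvPolynomial.aeval_X]
      change G ^ 2 = _
      rw [mul_comm (G ^ 2) H, ← mul_assoc, hU, one_mul])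
  rw [coe_X1_sq] at h
  exact h

end Groth.Agent.Lib.Helper63.SqFormal
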