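import Mathlib
import Groth.Agent.Lib.Helper63.SqFormal
import Groth.Agent.Lib.Helper63.SqElim

/-!
# No common formal coordinate factor (helper63)

If `p ∈ k[x,y]` is irreducible, `p ∤ q`, then `p` and `q` have no common prime factor `Y ∈ m` in
`k[[x,y]]`.
-/

set_option autoImplicit false

namespace Groth.Agent.Lib.Helper63.SqCommon

open MvPowerSeries IsLocalRing Groth.Agent.Lib.Helper63.ASingGen
  Groth.Agent.Lib.Helper63.ASingWeier Groth.Agent.Lib.Helper63.ASingA1
  Groth.Agent.Lib.Helper63.SqFormal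

universe u

variable {k : Type u} [Field k]

/-- `X i ∣ p` as power series implies the same as polynomials -/
theorem X_dvd_of_coe (i : Fin 2) (p : MvPolynomial (Fin 2) k)
    (h : (X i : PS k) ∣ (p : PS k)) : (MvPolynomial.X i : MvPolynomial (Fin 2) k) ∣ p := by
  classical
  rw [MvPolynomial.X_dvd_iff_modMonomial_eq_zero]
  ext d
  rw [MvPolynomial.coeff_zero]
  by_cases hle : Finsupp.single i 1 ≤ d
  · exact MvPolynomial.coeff_modMonomial_of_le p hle
  · rw [MvPolynomial.coeff_modMonomial_of_not_le p hle, ← MvPolynomial.coeff_coe]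
    apply (MvPowerSeries.X_dvd_iff.mp h) d
    by_contra hd
    apply hle
    rw [Finsupp.single_le_iff]
    exact Nat.one_le_iff_ne_zero.mpr hd

lemma eps_C (c : k) : eps k (C c) = PowerSeries.C (C c) := by
  have h := (eps k).commutes c
  rw [MvPowerSeries.algebraMap_apply, PowerSeries.algebraMap_apply, MvPowerSeries.algebraMap_apply,
    Algebra.algebraMap_self, RingHom.id_apply] at h
  exact h

lemma iota_C (c : k) : iota k (C c) = C c := by
  rw [iota_apply, ← eps_C, AlgEquiv.symm_apply_apply]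

/-- the two ring maps `k[s] → k[[x,y]]` agree -/
theorem coe_symm_C (r : MvPolynomial (Fin 1) k) :
    (((MvPolynomial.finSuccEquiv k 1).symm (Polynomial.C r) : MvPolynomial (Fin 2) k) : PS k) =
      iota k (r : A1 k) := by
  have h : (MvPolynomial.coeToMvPowerSeries.ringHom.comp
      (((MvPolynomial.finSuccEquiv k 1).symm : Polynomial (MvPolynomial (Fin 1) k) →+*
        MvPolynomial (Fin 2) k).comp Polynomial.C)) =
      (iota k).comp (MvPolynomial.coeToMvPowerSeries.ringHom) := by
    apply MvPolynomial.ringHom_ext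
    · intro c
      simp only [RingHom.comp_apply, MvPolynomial.coeToMvPowerSeries.ringHom_apply]
      have h1 : ((MvPolynomial.finSuccEquiv k 1).symm :
          Polynomial (MvPolynomial (Fin 1) k) →+* MvPolynomial (Fin 2) k)
          (Polynomial.C (MvPolynomial.C c)) = MvPolynomial.C c := by
        have := RingHom.congr_fun (MvPolynomial.finSuccEquiv_comp_C_eq_C (R := k) 1) c
        exact this
      rw [h1, MvPolynomial.coe_C, MvPolynomial.coe_C, iota_C]
    · intro j
      simp only [RingHom.comp_apply, MvPolynomial.coeToMvPowerSeries.ringHom_apply]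
      have hj : j = 0 := Subsingleton.elim _ _
      subst hj
      have h1 : ((MvPolynomial.finSuccEquiv k 1).symm :
          Polynomial (MvPolynomial (Fin 1) k) →+* MvPolynomial (Fin 2) k)
          (Polynomial.C (MvPolynomial.X 0)) = MvPolynomial.X 1 := by
        have h2 := MvPolynomial.finSuccEquiv_X_succ (R := k) (n := 1) (j := 0)
        rw [← h2]
        exact (MvPolynomial.finSuccEquiv k 1).symm_apply_apply _
      rw [h1, MvPolynomial.coe_X, MvPolynomial.coe_X, iota_X0]
  exact RingHom.congr_fun h r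

theorem elim_PS (p q : MvPolynomial (Fin 2) k) (hp : Irreducible p) (hpq : ¬ p ∣ q) :
    ∃ (A B : MvPolynomial (Fin 2) k) (m : ℕ) (W : PS k), IsUnit W ∧
      ((A * p + B * q : MvPolynomial (Fin 2) k) : PS k) = X 1 ^ m * W := by
  have hP : Irreducible (MvPolynomial.finSuccEquiv k 1 p) :=
    (MulEquiv.irreducible_iff (MvPolynomial.finSuccEquiv k 1)).mpr hp
  have hPQ : ¬ MvPolynomial.finSuccEquiv k 1 p ∣ MvPolynomial.finSuccEquiv k 1 q := by
    rw [map_dvd_iff]
    exact hpq
  obtain ⟨r, A, B, hr, hAB⟩ := SqElim.exists_elim _ _ hP hPQ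
  have hr' : (r : A1 k) ≠ 0 := fun h =>
    hr (MvPolynomial.coe_injective _ _ (h.trans MvPolynomial.coe_zero.symm))
  obtain ⟨m, w, hw, hrw⟩ := exists_factor (r : A1 k) hr'
  refine ⟨(MvPolynomial.finSuccEquiv k 1).symm A, (MvPolynomial.finSuccEquiv k 1).symm B, m,
    iota k w, hw.map (iota k), ?_⟩
  have h1 : (MvPolynomial.finSuccEquiv k 1).symm A * p + (MvPolynomial.finSuccEquiv k 1).symm B * q
      = (MvPolynomial.finSuccEquiv k 1).symm (Polynomial.C r) := by
    rw [← hAB, map_add, map_mul, map_mul, AlgEquiv.symm_apply_apply, AlgEquiv.symm_apply_apply]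
  rw [h1, coe_symm_C, hrw, map_mul, map_pow, iota_X0]

/-- an irreducible polynomial and a non-multiple have no common formal coordinate factor -/
theorem no_common_factor (Y : PS k) (hY : Prime Y) (hYm : Y ∈ mI k)
    (p q : MvPolynomial (Fin 2) k) (hp : Irreducible p) (hpq : ¬ p ∣ q)
    (h1 : Y ∣ (p : PS k)) (h2 : Y ∣ (q : PS k)) : False := by
  obtain ⟨A, B, m, W, hW, hAB⟩ := elim_PS p q hp hpq
  have h3 : Y ∣ X 1 ^ m * W := by
    rw [← hAB, MvPolynomial.coe_add, MvPolynomial.coe_mul, MvPolynomial.coe_mul]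
    exact dvd_add (Dvd.dvd.mul_left h1 _) (Dvd.dvd.mul_left h2 _)
  have h4 : Y ∣ (X 1 : PS k) := hY.dvd_of_dvd_pow ((IsUnit.dvd_mul_right hW).mp h3)
  obtain ⟨v, hv⟩ := h4
  have hvu : IsUnit v := by
    by_contra hnu
    have hvm : v ∈ mI k := (IsLocalRing.mem_maximalIdeal _).mpr hnu
    apply X_notMem_sq (k := k) 1
    rw [hv, pow_two]
    exact Ideal.mul_mem_mul hYm hvm
  have h5 : (X 1 : PS k) ∣ Y := by
    obtain ⟨v', hv'⟩ := hvu.exists_right_inv
    exact ⟨v', by rw [hv, mul_assoc, hv', mul_one]⟩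
  have h6 : (MvPolynomial.X 1 : MvPolynomial (Fin 2) k) ∣ p := X_dvd_of_coe 1 p (h5.trans h1)
  have h7 : (MvPolynomial.X 1 : MvPolynomial (Fin 2) k) ∣ q := X_dvd_of_coe 1 q (h5.trans h2)
  obtain ⟨c, hc⟩ := h6
  rcases hp.isUnit_or_isUnit hc with hu | hu
  · exact (MvPolynomial.X_prime (R := k) (i := (1 : Fin 2))).not_isUnit hu
  · apply hpq
    obtain ⟨c', hc'⟩ := hu.exists_right_inv
    have h8 : p ∣ MvPolynomial.X 1 := ⟨c', by rw [hc, mul_assoc, hc', mul_one]⟩
    exact h8.trans h7

end Groth.Agent.Lib.Helper63.SqCommon
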