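import Mathlib
import Groth.Agent.Lib.Helper63.SqCommon

/-!
# Polynomials whose formal germ is a unit times the square of a coordinate (helper63)
-/

set_option autoImplicit false

namespace Groth.Agent.Lib.Helper63.SqPoly

open MvPowerSeries IsLocalRing Groth.Agent.Lib.Helper63.ASingGen
  Groth.Agent.Lib.Helper63.SqFormal Groth.Agent.Lib.Helper63.SqCommon

universe u

variable {k : Type u} [Field k]

/-- the partial derivative of a polynomial has smaller total degree -/
theorem totalDegree_pderiv_lt (i : Fin 2) (p : MvPolynomial (Fin 2) k)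
    (h : MvPolynomial.pderiv i p ≠ 0) :
    (MvPolynomial.pderiv i p).totalDegree < p.totalDegree := by
  classical
  have hne : (MvPolynomial.pderiv i p).support.Nonempty := by
    rw [Finset.nonempty_iff_ne_empty, Ne, MvPolynomial.support_eq_empty]
    exact h
  obtain ⟨m, hm, hmd⟩ := Finset.exists_mem_eq_sup _ hne (fun s => s.sum fun _ e => e)
  have h1 : MvPolynomial.coeff m (MvPolynomial.pderiv i p) ≠ 0 :=
    MvPolynomial.mem_support_iff.mp hm
  rw [MvPolynomial.coeff_pderiv] at h1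
  have h2 : MvPolynomial.coeff (m + Finsupp.single i 1) p ≠ 0 := left_ne_zero_of_mul h1
  have h3 := MvPolynomial.le_totalDegree (MvPolynomial.mem_support_iff.mpr h2)
  have h4 : (MvPolynomial.pderiv i p).totalDegree = m.sum fun _ e => e := hmd
  rw [h4]
  have h5 : ((m + Finsupp.single i 1).sum fun _ e => e) = (m.sum fun _ e => e) + 1 := by
    rw [Finsupp.sum_add_index' (fun _ => rfl) (fun _ _ _ => rfl), Finsupp.sum_single_index rfl]
  omega

theorem not_dvd_pderiv (i : Fin 2) (p : MvPolynomial (Fin 2) k)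
    (h : MvPolynomial.pderiv i p ≠ 0) : ¬ p ∣ MvPolynomial.pderiv i p := by
  rintro ⟨c, hc⟩
  have hlt := totalDegree_pderiv_lt i p h
  have hp0 : p ≠ 0 := by
    rintro rfl
    rw [zero_mul] at hc
    exact h hc
  have hc0 : c ≠ 0 := by
    rintro rfl
    rw [mul_zero] at hc
    exact h hc
  rw [hc, MvPolynomial.totalDegree_mul_of_isDomain hp0 hc0] at hlt
  omega

/-- an irreducible polynomial over an algebraically closed field has a nonzero partial derivative -/
theorem exists_pderiv_ne_zero [IsAlgClosed k] (p : MvPolynomial (Fin 2) k) (hp : Irreducible p) :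
    ∃ i, MvPolynomial.pderiv i p ≠ 0 := by
  classical
  by_contra hcon
  push Not at hcon
  have hexp : ∀ σ ∈ p.support, ∀ i, ((σ i : ℕ) : k) = 0 := by
    intro σ hσ i
    by_cases hi : σ i = 0
    · rw [hi, Nat.cast_zero]
    · have h1 := MvPolynomial.coeff_pderiv (i := i) p (σ - Finsupp.single i 1)
      rw [hcon i, MvPolynomial.coeff_zero] at h1
      have hle : Finsupp.single i 1 ≤ σ := by
        rw [Finsupp.single_le_iff]
        exact Nat.one_le_iff_ne_zero.mpr hi
      have h2 : σ - Finsupp.single i 1 + Finsupp.single i 1 = σ := tsub_add_cancel_of_le hle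
      rw [h2] at h1
      have h3 : ((((σ - Finsupp.single i 1 : Fin 2 →₀ ℕ) i : ℕ)) : k) + 1 = ((σ i : ℕ) : k) := by
        rw [Finsupp.tsub_apply, Finsupp.single_eq_same, ← Nat.cast_succ, Nat.succ_eq_add_one,
          Nat.sub_add_cancel (Nat.one_le_iff_ne_zero.mpr hi)]
      rw [h3] at h1
      exact (mul_eq_zero.mp h1.symm).resolve_left (MvPolynomial.mem_support_iff.mp hσ)
  obtain ⟨ℓ, hℓ⟩ := CharP.exists k
  rcases CharP.char_is_prime_or_zero k ℓ with hprime | rfl
  · -- positive characteristic: `p` is an `ℓ`-th power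
    have : Fact ℓ.Prime := ⟨hprime⟩
    have hdvd : ∀ σ ∈ p.support, ∀ i, ℓ ∣ σ i := fun σ hσ i =>
      (CharP.cast_eq_zero_iff k ℓ (σ i)).mp (hexp σ hσ i)
    choose root hroot using fun c : k => IsAlgClosed.exists_pow_nat_eq c hprime.pos
    obtain ⟨Q, hQ⟩ : ∃ Q : MvPolynomial (Fin 2) k, Q = ∑ σ ∈ p.support,
      MvPolynomial.monomial (σ.mapRange (· / ℓ) (Nat.zero_div ℓ))
        (root (MvPolynomial.coeff σ p)) := ⟨_, rfl⟩
    have hQp : Q ^ ℓ = p := by
      rw [hQ, sum_pow_char]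
      conv_rhs => rw [← MvPolynomial.support_sum_monomial_coeff p]
      apply Finset.sum_congr rfl
      intro σ hσ
      rw [MvPolynomial.monomial_pow, hroot]
      have hσeq : ℓ • Finsupp.mapRange (· / ℓ) (Nat.zero_div ℓ) σ = σ := by
        ext i
        rw [Finsupp.smul_apply, Finsupp.mapRange_apply, smul_eq_mul]
        exact Nat.mul_div_cancel' (hdvd σ hσ i)
      rw [hσeq]
    rw [← hQp] at hp
    exact not_irreducible_pow hprime.one_lt.ne' hp
  · -- characteristic zero: `p` is constant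
    have : CharZero k := CharP.charP_to_charZero k
    have hsupp : ∀ σ ∈ p.support, σ = 0 := by
      intro σ hσ
      ext i
      exact Nat.cast_eq_zero.mp (hexp σ hσ i)
    have htd : p.totalDegree = 0 := by
      apply Nat.le_zero.mp
      apply Finset.sup_le
      intro σ hσ
      rw [hsupp σ hσ]
      simp
    have hC := MvPolynomial.totalDegree_eq_zero_iff_eq_C.mp htd
    by_cases hc : MvPolynomial.coeff 0 p = 0
    · rw [hc, map_zero] at hC
      exact hp.ne_zero hC
    · apply hp.not_isUnit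
      rw [hC]
      exact (isUnit_iff_ne_zero.mpr hc).map MvPolynomial.C

lemma isUnit_coe_iff (r : MvPolynomial (Fin 2) k) :
    IsUnit (r : PS k) ↔ constantCoeff (r : PS k) ≠ 0 := by
  rw [MvPowerSeries.isUnit_iff_constantCoeff, isUnit_iff_ne_zero]

lemma mem_mI_of_not_isUnit {f : PS k} (h : ¬ IsUnit f) : f ∈ mI k :=
  (IsLocalRing.mem_maximalIdeal _).mpr h

/-- a nonzero polynomial vanishing at the origin has an irreducible factor vanishing there -/
theorem exists_irreducible_factor_vanishing (r : MvPolynomial (Fin 2) k) (hr : r ≠ 0)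
    (h0 : constantCoeff (r : PS k) = 0) :
    ∃ p, Irreducible p ∧ p ∣ r ∧ constantCoeff (p : PS k) = 0 := by
  classical
  obtain ⟨f, hf, hfr⟩ := UniqueFactorizationMonoid.exists_prime_factors r hr
  obtain ⟨χ, hχ⟩ : ∃ χ : MvPolynomial (Fin 2) k →+* k, ∀ q, χ q = constantCoeff (q : PS k) :=
    ⟨(MvPowerSeries.constantCoeff).comp MvPolynomial.coeToMvPowerSeries.ringHom, fun q => rfl⟩
  obtain ⟨v, hv⟩ := hfr
  have h1 : χ f.prod * χ v = 0 := by rw [← map_mul, hv, hχ, h0]
  have h2 : χ (v : MvPolynomial (Fin 2) k) ≠ 0 := (v.isUnit.map χ).ne_zero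
  have h3 : χ f.prod = 0 := (mul_eq_zero.mp h1).resolve_right h2
  rw [map_multiset_prod, Multiset.prod_eq_zero_iff] at h3
  obtain ⟨b, hb, hb0⟩ := Multiset.mem_map.mp h3
  exact ⟨b, (hf b hb).irreducible, (Multiset.dvd_prod hb).trans ⟨v, hv.symm⟩, (hχ b) ▸ hb0⟩

/-- a non-unit divisor of `u·Y²` is divisible by the prime `Y` -/
theorem dvd_of_dvd_unit_mul_sq {Y u a : PS k} (hu : IsUnit u) (hY : Prime Y) (ha : ¬ IsUnit a)
    (h : a ∣ u * Y ^ 2) : Y ∣ a := by
  obtain ⟨c, hc⟩ := h
  obtain ⟨u', hu'⟩ := hu.exists_left_inv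
  have h1 : Y ^ 2 = a * (c * u') := by
    calc Y ^ 2 = u' * (u * Y ^ 2) := by rw [← mul_assoc, hu', one_mul]
      _ = a * (c * u') := by rw [hc]; ring
  rcases sq_factor hY h1 with h2 | ⟨w, -, h2⟩ | ⟨w, -, h2⟩
  · exact absurd h2 ha
  · exact ⟨w, by rw [h2]; ring⟩
  · exact ⟨w * Y, by rw [h2]; ring⟩

theorem poly_main [IsAlgClosed k] (ft : MvPolynomial (Fin 2) k) (Y u : PS k) (hu : IsUnit u)
    (hY : Prime Y) (hYm : Y ∈ mI k) (hY2 : Y ∉ mI k ^ 2) (hF : (ft : PS k) = u * Y ^ 2) :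
    ∃ g h : MvPolynomial (Fin 2) k, ft = g ^ 2 * h ∧ constantCoeff (h : PS k) ≠ 0 ∧
      constantCoeff (g : PS k) = 0 ∧
      ∃ i : Fin 2, coeff (Finsupp.single i 1) (g : PS k) ≠ 0 := by
  classical
  have hY0 : Y ≠ 0 := hY.ne_zero
  have hft0 : ft ≠ 0 := by
    rintro rfl
    rw [MvPolynomial.coe_zero] at hF
    exact mul_ne_zero hu.ne_zero (pow_ne_zero 2 hY0) hF.symm
  have hftm : constantCoeff (ft : PS k) = 0 := by
    rw [← mem_mI_iff, hF]
    exact Ideal.mul_mem_left _ _ (Ideal.pow_mem_of_mem _ hYm 2 (by norm_num))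
  -- divisors of `ft` vanishing at the origin are divisible by `Y`
  have hdiv : ∀ q : MvPolynomial (Fin 2) k, q ∣ ft → constantCoeff (q : PS k) = 0 →
      Y ∣ (q : PS k) := by
    intro q hq hq0
    apply dvd_of_dvd_unit_mul_sq hu hY
    · rw [isUnit_coe_iff]
      exact fun h => h hq0
    · rw [← hF]
      obtain ⟨c, rfl⟩ := hq
      exact ⟨(c : PS k), MvPolynomial.coe_mul _ _⟩
  obtain ⟨p, hp, hpft, hp0⟩ := exists_irreducible_factor_vanishing ft hft0 hftm
  have hYp : Y ∣ (p : PS k) := hdiv p hpft hp0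
  obtain ⟨e, r, hpr, hft⟩ := WfDvdMonoid.max_power_factor hft0 hp
  have hr0 : r ≠ 0 := by
    rintro rfl
    rw [mul_zero] at hft
    exact hft0 hft
  have hrft : r ∣ ft := ⟨p ^ e, by rw [hft]; ring⟩
  -- `r` does not vanish at the origin
  have hrc : constantCoeff (r : PS k) ≠ 0 := by
    intro hr0'
    obtain ⟨p₂, hp₂, hp₂r, hp₂0⟩ := exists_irreducible_factor_vanishing r hr0 hr0'
    have hYp₂ : Y ∣ (p₂ : PS k) := hdiv p₂ (hp₂r.trans hrft) hp₂0
    exact SqCommon.no_common_factor Y hY hYm p p₂ hp (fun h => hpr (h.trans hp₂r)) hYp hYp₂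
  have hru : IsUnit (r : PS k) := (isUnit_coe_iff r).mpr hrc
  obtain ⟨w, hw⟩ := hYp
  have hFe : (Y * w) ^ e * (r : PS k) = u * Y ^ 2 := by
    rw [← hF, hft, MvPolynomial.coe_mul, MvPolynomial.coe_pow, hw]
  obtain ⟨r', hr'⟩ := hru.exists_right_inv
  -- case analysis on the multiplicity
  have he : e = 0 ∨ e = 1 ∨ e = 2 ∨ 3 ≤ e := by omega
  rcases he with rfl | rfl | rfl | he3
  · exfalso
    rw [pow_zero, one_mul] at hft
    exact hpr (hft ▸ hpft)
  · exfalso
    -- `p = u'·Y²`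
    have hpY : (p : PS k) = (u * r') * Y ^ 2 := by
      have h1 : (p : PS k) * (r : PS k) = u * Y ^ 2 := by rw [hw, ← hFe, pow_one]
      calc (p : PS k) = (p : PS k) * ((r : PS k) * r') := by rw [hr', mul_one]
        _ = (u * r') * Y ^ 2 := by rw [← mul_assoc, h1]; ring
    obtain ⟨i, hi⟩ := exists_pderiv_ne_zero p hp
    have hnd := not_dvd_pderiv i p hi
    have hYq : Y ∣ ((MvPolynomial.pderiv i p : MvPolynomial (Fin 2) k) : PS k) := by
      rw [← MvPowerSeries.pderiv_coe, hpY, pow_two]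
      have hD : MvPowerSeries.pderiv k i ((u * r') * (Y * Y)) =
          Y * ((u * r') * (MvPowerSeries.pderiv k i Y + MvPowerSeries.pderiv k i Y) +
            Y * MvPowerSeries.pderiv k i (u * r')) := by
        rw [Derivation.leibniz, Derivation.leibniz]
        simp only [smul_eq_mul]
        ring
      exact ⟨_, hD⟩
    exact SqCommon.no_common_factor Y hY hYm p _ hp hnd ⟨w, hw⟩ hYq
  · -- the good case
    have h1 : w ^ 2 * (r : PS k) = u := by
      apply mul_left_cancel₀ (pow_ne_zero 2 hY0)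
      rw [mul_comm (Y ^ 2) u, ← hFe]
      ring
    have hwu : IsUnit w := by
      have h2 : IsUnit (w ^ 2 * (r : PS k)) := h1 ▸ hu
      have h3 : IsUnit (w ^ 2) := isUnit_of_mul_isUnit_left h2
      exact (isUnit_pow_iff (by norm_num)).mp h3
    have hp2 : (p : PS k) ∉ mI k ^ 2 := by
      intro hmem
      apply hY2
      obtain ⟨w', hw'⟩ := hwu.exists_right_inv
      have : Y = (p : PS k) * w' := by rw [hw, mul_assoc, hw', mul_one]
      rw [this]
      exact Ideal.mul_mem_right _ _ hmem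
    obtain ⟨i, hi⟩ := exists_linear_coeff (p : PS k) ((mem_mI_iff _).mpr hp0) hp2
    exact ⟨p, r, hft, hrc, hp0, i, hi⟩
  · exfalso
    obtain ⟨e', rfl⟩ : ∃ e', e = e' + 3 := ⟨e - 3, by omega⟩
    have h1 : Y * (Y ^ e' * w ^ (e' + 3) * (r : PS k)) = u := by
      apply mul_left_cancel₀ (pow_ne_zero 2 hY0)
      rw [mul_comm (Y ^ 2) u, ← hFe]
      ring
    have h2 : IsUnit Y := isUnit_of_mul_isUnit_left (h1 ▸ hu)
    exact hY.not_isUnit h2

end Groth.Agent.Lib.Helper63.SqPoly
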