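import Mathlib
import Groth.Agent.Lib.Helper63.SymInvLocal

/-!
# Extension of sections of `𝒮L = ⊕ L^{⊗ n}` from `X_σ` (EGA I 9.3.1 for `𝒮L`) (helper63)
-/

set_option autoImplicit false
set_option linter.unusedSectionVars false
universe u

open CategoryTheory CategoryTheory.Limits AlgebraicGeometry TopologicalSpace Opposite
open scoped HomogeneousIdeal

namespace Groth.Agent.Lib.Helper63.SymInvExt

open Groth.Agent.Lib.Helper63.SymInvRing Groth.Agent.Lib.Helper63.SymInv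
  Groth.Agent.Lib.Helper63.SymInvDom Groth.Agent.Lib.Helper63.SymInvImmGen
  Groth.Agent.Lib.Helper63.SymInvLocal
  Groth.Agent.Lib.Helper18.SymQC Groth.Agent.Lib.Helper45 Groth.Agent.Lib.Helper49

variable {X : Scheme.{u}} (L : X.Modules) (hL : PicF.IsInvertible L) (hLq : Coh.IsQCoh L)
  (𝒮L : RelProj.QCGrAlg X) (j : L ⟶ 𝒮L.toModule) (hj : RelProj.IsGrSymAlg L 𝒮L j)

/-- a chart for `σ`: an affine open with a basis of `L` in which `σ = a z^n`. -/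
structure Chart {W : X.Opens} (σ : 𝒮L.presheaf.obj (op W)) (n : ℕ) where
  V : X.Opens
  hV : IsAffineOpen V
  hVW : V ≤ W
  t : Γ(L, V)
  ht : IsBasisOn L V t
  a : Γ(X, V)
  ha : rs 𝒮L hVW σ = (𝒮L.str.app (op V)).hom a * (zOf L 𝒮L j V t) ^ n

include hL hLq hj in
theorem exists_chart {W : X.Opens} (σ : 𝒮L.presheaf.obj (op W)) (n : ℕ) (hσ : HomogOn 𝒮L σ n)
    (x : X) (hx : x ∈ W) : ∃ c : Chart L 𝒮L j σ n, x ∈ c.V := by
  obtain ⟨V0, hxV0, t0, ht0⟩ := exists_isBasisOn_of_isInvertible hL x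
  obtain ⟨V, hV, hxV, hVV0⟩ := (Opens.isBasis_iff_nbhd.mp X.isBasis_affineOpens)
    (show x ∈ V0 ⊓ W from ⟨hxV0, hx⟩)
  have hV : IsAffineOpen V := hV
  have ht := ht0.mono (hVV0.trans inf_le_left)
  have h := isPolyGr L hLq 𝒮L j hj V hV _ ht
  have hVW : V ≤ W := hVV0.trans inf_le_right
  obtain ⟨a, ha⟩ := (h.mem_iff n _).mp (hσ V hV hVW)
  exact ⟨⟨V, hV, hVW, _, ht, a, ha⟩, hxV⟩

namespace Chart

variable {L 𝒮L j}
variable {W : X.Opens} {σ : 𝒮L.presheaf.obj (op W)} {n : ℕ} (c : Chart L 𝒮L j σ n)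

include hLq hj in
theorem inf_eq : Xσ σ n ⊓ c.V = X.basicOpen c.a :=
  Xσ_inf_chart L hLq 𝒮L j hj σ n c.V c.hV c.hVW c.t c.ht c.a c.ha

include hLq hj in
theorem basicOpen_le : X.basicOpen c.a ≤ Xσ σ n := by
  rw [← c.inf_eq hLq hj]
  exact inf_le_left

include hLq hj in
theorem isPolyGr : IsPolyGr (𝒮L.deg c.V c.hV) (𝒮L.str.app (op c.V)).hom (zOf L 𝒮L j c.V c.t) :=
  SymInv.isPolyGr L hLq 𝒮L j hj c.V c.hV c.t c.ht

end Chart

theorem Xσ_rs {W W' : X.Opens} (h : W' ≤ W) (σ : 𝒮L.presheaf.obj (op W)) (n : ℕ) :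
    Xσ (rs 𝒮L h σ) n = Xσ σ n ⊓ W' := by
  ext x
  constructor
  · intro hx
    obtain ⟨V, hV, hVW', hxV, hgen⟩ := (mem_Xσ_iff _ n x).mp hx
    refine ⟨(mem_Xσ_iff σ n x).mpr ⟨V, hV, hVW'.trans h, hxV, ?_⟩, hVW' hxV⟩
    unfold GenAt at hgen ⊢
    rwa [rs_rs] at hgen
  · rintro ⟨hx, hxW'⟩
    obtain ⟨V, hV, hVW, hxV, hgen⟩ := (mem_Xσ_iff σ n x).mp hx
    obtain ⟨f, hf, hxf⟩ := hV.exists_basicOpen_le (V := W') ⟨x, hxW'⟩ hxV
    refine (mem_Xσ_iff _ n x).mpr ⟨X.basicOpen f, hV.basicOpen f, hf, hxf, ?_⟩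
    have := hgen.basicOpen f
    unfold GenAt at this ⊢
    rwa [rs_rs]

include hL hLq hj in
/-- A section of `𝒮L` over a quasi-compact open `W` vanishing on `X_σ` is killed by a power of
`σ`. -/
theorem exists_pow_mul_eq_zero {W : X.Opens} (hWc : IsCompact (W : Set X))
    (σ : 𝒮L.presheaf.obj (op W)) (n : ℕ) (hσ : HomogOn 𝒮L σ n) (τ : 𝒮L.presheaf.obj (op W))
    (hτ : rs 𝒮L (Xσ_le σ n) τ = 0) : ∃ k : ℕ, σ ^ k * τ = 0 := by
  classical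
  have key : ∀ x : W, ∃ (V : X.Opens) (hVW : V ≤ W) (k : ℕ), x.1 ∈ V ∧
      ∀ k', k ≤ k' → rs 𝒮L hVW (σ ^ k' * τ) = 0 := by
    rintro ⟨x, hx⟩
    obtain ⟨c, hxc⟩ := exists_chart L hL hLq 𝒮L j hj σ n hσ x hx
    have hle : X.basicOpen c.a ≤ Xσ σ n := c.basicOpen_le hLq hj
    have h0 : rs 𝒮L (X.basicOpen_le c.a) (rs 𝒮L c.hVW τ) = 0 := by
      rw [rs_rs, ← rs_rs 𝒮L (Xσ_le σ n) hle, hτ, map_zero]
    let _inst := (𝒮L.presheaf.map (homOfLE (X.basicOpen_le c.a)).op).hom.toAlgebra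
    have hloc : IsLocalization.Away ((𝒮L.str.app (op c.V)).hom c.a)
      (𝒮L.presheaf.obj (op (X.basicOpen c.a))) := 𝒮L.isQC c.V c.hV c.a
    obtain ⟨⟨_, k, rfl⟩, hk⟩ := (IsLocalization.map_eq_zero_iff
      (Submonoid.powers ((𝒮L.str.app (op c.V)).hom c.a)) _ _).mp h0
    change (𝒮L.str.app (op c.V)).hom c.a ^ k * rs 𝒮L c.hVW τ = 0 at hk
    refine ⟨c.V, c.hVW, k, hxc, ?_⟩
    intro k' hk'
    rw [map_mul, map_pow, c.ha, mul_pow, ← Nat.sub_add_cancel hk', pow_add]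
    calc _ = (𝒮L.str.app (op c.V)).hom c.a ^ (k' - k) * (zOf L 𝒮L j c.V c.t ^ n) ^ (k' - k + k) *
          ((𝒮L.str.app (op c.V)).hom c.a ^ k * rs 𝒮L c.hVW τ) := by ring
      _ = 0 := by rw [hk, mul_zero]
  choose V hVW k hxV hk using key
  obtain ⟨F, hF⟩ := hWc.elim_finite_subcover (fun x : W => ((V x : X.Opens) : Set X))
    (fun x => (V x).isOpen) (fun x hx => Set.mem_iUnion.mpr ⟨⟨x, hx⟩, hxV ⟨x, hx⟩⟩)
  refine ⟨F.sup k, ?_⟩
  refine rs_ext 𝒮L (fun x : F => V x.1) (fun x => hVW x.1) ?_ _ _ ?_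
  · intro y hy
    obtain ⟨x, hxF, hyx⟩ := Set.mem_iUnion₂.mp (hF hy)
    exact Opens.mem_iSup.mpr ⟨⟨x, hxF⟩, hyx⟩
  · rintro ⟨x, hxF⟩
    rw [map_zero]
    exact hk x _ (Finset.le_sup hxF)

theorem fres_eq {V W : X.Opens} (h : V ≤ W) (r : Γ(X, W)) :
    fres h r = (X.presheaf.map (homOfLE h).op).hom r := rfl

include hL hLq hj in
/-- A function on `X_σ` times a power of `σ` extends to a homogeneous section of `𝒮L` over the
quasi-compact quasi-separated open `W`. -/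
theorem exists_extension {W : X.Opens} (hWc : IsCompact (W : Set X))
    (hWqs : IsQuasiSeparated (W : Set X))
    (σ : 𝒮L.presheaf.obj (op W)) (n : ℕ) (hσ : HomogOn 𝒮L σ n) (t : Γ(X, Xσ σ n)) :
    ∃ (m : ℕ) (_ : 0 < m) (τ : 𝒮L.presheaf.obj (op W)), HomogOn 𝒮L τ (m * n) ∧
      rs 𝒮L (Xσ_le σ n) τ =
        (𝒮L.str.app (op (Xσ σ n))).hom t * (rs 𝒮L (Xσ_le σ n) σ) ^ m := by
  classical
  -- step 1: local numerators
  have key : ∀ x : W, ∃ (c : Chart L 𝒮L j σ n) (k : ℕ) (b : Γ(X, c.V)), x.1 ∈ c.V ∧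
      fres (X.basicOpen_le c.a) b =
        fres (X.basicOpen_le c.a) c.a ^ k * fres (c.basicOpen_le hLq hj) t := by
    rintro ⟨x, hx⟩
    obtain ⟨c, hxc⟩ := exists_chart L hL hLq 𝒮L j hj σ n hσ x hx
    have hloc := c.hV.isLocalization_basicOpen c.a
    obtain ⟨⟨b, _, k, rfl⟩, hb⟩ := IsLocalization.surj (Submonoid.powers c.a)
      (fres (c.basicOpen_le hLq hj) t)
    refine ⟨c, k, b, hxc, ?_⟩
    change fres (c.basicOpen_le hLq hj) t * fres (X.basicOpen_le c.a) (c.a ^ k) =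
      fres (X.basicOpen_le c.a) b at hb
    rw [← hb, map_pow, mul_comm]
  choose c k b hxc hb using key
  obtain ⟨F, hF⟩ := hWc.elim_finite_subcover (fun x : W => (((c x).V : X.Opens) : Set X))
    (fun x => (c x).V.isOpen) (fun x hx => Set.mem_iUnion.mpr ⟨⟨x, hx⟩, hxc ⟨x, hx⟩⟩)
  have hcovW : W ≤ ⨆ i : F, (c i.1).V := by
    intro y hy
    obtain ⟨x, hxF, hyx⟩ := Set.mem_iUnion₂.mp (hF hy)
    exact Opens.mem_iSup.mpr ⟨⟨x, hxF⟩, hyx⟩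
  obtain ⟨K₁, hK₁⟩ : ∃ K₁ : ℕ, K₁ = F.sup k + 1 := ⟨_, rfl⟩
  have hkK : ∀ i : F, k i.1 ≤ K₁ := fun i => by
    rw [hK₁]; exact (Finset.le_sup i.2).trans (Nat.le_succ _)
  -- step 2: local extensions
  obtain ⟨τ₀, hτ₀⟩ : ∃ τ₀ : ∀ i : F, 𝒮L.presheaf.obj (op (c i.1).V), ∀ i, τ₀ i =
    (𝒮L.str.app (op (c i.1).V)).hom ((c i.1).a ^ (K₁ - k i.1) * b i.1) *
      (zOf L 𝒮L j (c i.1).V (c i.1).t ^ n) ^ K₁ := ⟨_, fun _ => rfl⟩
  have hτ₀deg : ∀ i : F, τ₀ i ∈ 𝒮L.deg (c i.1).V (c i.1).hV (K₁ * n) := by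
    intro i
    rw [hτ₀ i]
    have h := (c i.1).isPolyGr hLq hj
    have h1 := SetLike.pow_mem_graded K₁ (h.pow_mem n)
    rw [smul_eq_mul] at h1
    have h2 := SetLike.mul_mem_graded (h.map_mem ((c i.1).a ^ (K₁ - k i.1) * b i.1)) h1
    rwa [zero_add] at h2
  have claimA : ∀ (i : F) (O : X.Opens) (hO : O ≤ X.basicOpen (c i.1).a),
      rs 𝒮L (hO.trans (X.basicOpen_le _)) (τ₀ i) =
        (𝒮L.str.app (op O)).hom (fres (hO.trans ((c i.1).basicOpen_le hLq hj)) t) *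
          (rs 𝒮L (hO.trans ((X.basicOpen_le _).trans (c i.1).hVW)) σ) ^ K₁ := by
    intro i O hO
    have e1 : fres (hO.trans (X.basicOpen_le _)) ((c i.1).a ^ (K₁ - k i.1) * b i.1) =
        fres (hO.trans (X.basicOpen_le _)) (c i.1).a ^ K₁ *
          fres (hO.trans ((c i.1).basicOpen_le hLq hj)) t := by
      rw [← fres_fres hO (X.basicOpen_le (c i.1).a), map_mul, hb i.1]
      simp only [map_mul, map_pow, fres_fres]
      rw [← mul_assoc, ← pow_add, Nat.sub_add_cancel (hkK i)]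
    have e2 : rs 𝒮L (hO.trans ((X.basicOpen_le _).trans (c i.1).hVW)) σ =
        (𝒮L.str.app (op O)).hom (fres (hO.trans (X.basicOpen_le _)) (c i.1).a) *
          rs 𝒮L (hO.trans (X.basicOpen_le _)) (zOf L 𝒮L j (c i.1).V (c i.1).t ^ n) := by
      rw [← rs_rs 𝒮L (c i.1).hVW (hO.trans (X.basicOpen_le _)), (c i.1).ha, map_mul, rs_str]
      rfl
    rw [hτ₀ i, map_mul, rs_str, ← fres_eq, e1, e2, map_mul, map_pow, map_pow, mul_pow]
    ring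
  -- step 3: differences are killed by a power of `σ`
  have hkill : ∀ i i' : F, ∃ k₂ : ℕ,
      (rs 𝒮L (inf_le_left.trans (c i.1).hVW : (c i.1).V ⊓ (c i'.1).V ≤ W) σ) ^ k₂ *
        (rs 𝒮L inf_le_left (τ₀ i) - rs 𝒮L inf_le_right (τ₀ i')) = 0 := by
    intro i i'
    have hcomp : IsCompact ((((c i.1).V ⊓ (c i'.1).V : X.Opens)) : Set X) := by
      rw [Opens.coe_inf]
      exact hWqs _ _ (c i.1).hVW (c i.1).V.isOpen (c i.1).hV.isCompact (c i'.1).hVW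
        (c i'.1).V.isOpen (c i'.1).hV.isCompact
    refine exists_pow_mul_eq_zero L hL hLq 𝒮L j hj hcomp _ n
      (HomogOn.rs 𝒮L hσ (inf_le_left.trans (c i.1).hVW)) _ ?_
    have hX := Xσ_rs 𝒮L (inf_le_left.trans (c i.1).hVW : (c i.1).V ⊓ (c i'.1).V ≤ W) σ n
    have hO1 : Xσ (rs 𝒮L (inf_le_left.trans (c i.1).hVW : (c i.1).V ⊓ (c i'.1).V ≤ W) σ) n ≤
        X.basicOpen (c i.1).a := by
      rw [hX, ← (c i.1).inf_eq hLq hj]
      exact inf_le_inf_left _ inf_le_left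
    have hO2 : Xσ (rs 𝒮L (inf_le_left.trans (c i.1).hVW : (c i.1).V ⊓ (c i'.1).V ≤ W) σ) n ≤
        X.basicOpen (c i'.1).a := by
      rw [hX, ← (c i'.1).inf_eq hLq hj]
      exact inf_le_inf_left _ inf_le_right
    rw [map_sub, rs_rs, rs_rs, claimA i _ hO1, claimA i' _ hO2, sub_self]
  choose k₂ hk₂ using hkill
  obtain ⟨K₂, hK₂⟩ : ∃ K₂ : ℕ, K₂ = (Finset.univ : Finset (F × F)).sup (fun p => k₂ p.1 p.2) :=
    ⟨_, rfl⟩
  have hk₂K : ∀ i i' : F, k₂ i i' ≤ K₂ := fun i i' => by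
    rw [hK₂]
    exact Finset.le_sup (f := fun p : F × F => k₂ p.1 p.2) (Finset.mem_univ (i, i'))
  -- step 4: glue
  obtain ⟨τ, hτ⟩ := rs_glue 𝒮L (fun i : F => (c i.1).V) (fun i => (c i.1).hVW) hcovW
    (fun i => (rs 𝒮L (c i.1).hVW σ) ^ K₂ * τ₀ i) (by
      intro i i'
      rw [map_mul, map_mul, map_pow, map_pow, rs_rs, rs_rs, ← sub_eq_zero, ← mul_sub,
        ← Nat.sub_add_cancel (hk₂K i i'), pow_add, mul_assoc, hk₂ i i', mul_zero])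
  refine ⟨K₂ + K₁, by rw [hK₁]; exact Nat.succ_pos _, τ, ?_, ?_⟩
  · refine homogOn_of_local 𝒮L τ _ ?_
    intro x hx
    obtain ⟨i, hi⟩ := Opens.mem_iSup.mp (hcovW hx)
    refine ⟨(c i.1).V, (c i.1).hV, (c i.1).hVW, hi, ?_⟩
    rw [hτ i, add_mul]
    have h1 := SetLike.pow_mem_graded K₂ (hσ (c i.1).V (c i.1).hV (c i.1).hVW)
    rw [smul_eq_mul] at h1
    exact SetLike.mul_mem_graded h1 (hτ₀deg i)
  · refine rs_ext 𝒮L (fun i : F => X.basicOpen (c i.1).a) (fun i => (c i.1).basicOpen_le hLq hj)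
      ?_ _ _ ?_
    · intro y hy
      obtain ⟨i, hi⟩ := Opens.mem_iSup.mp (hcovW (Xσ_le σ n hy))
      refine Opens.mem_iSup.mpr ⟨i, ?_⟩
      rw [← (c i.1).inf_eq hLq hj]
      exact ⟨hy, hi⟩
    · intro i
      rw [rs_rs, ← rs_rs 𝒮L (c i.1).hVW (X.basicOpen_le (c i.1).a), hτ i, map_mul, map_pow, rs_rs,
        claimA i _ le_rfl, map_mul, map_pow, rs_rs, rs_str, pow_add]
      change _ = (𝒮L.str.app (op (X.basicOpen (c i.1).a))).hom (fres _ t) * _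
      ring

end Groth.Agent.Lib.Helper63.SymInvExt
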