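import Mathlib
import Groth.Agent.Lib.Helper63.SymInvExt
import Groth.Agent.Lib.Helper11.TensorBasis

/-!
# Sections of `L^{⊗ n}` as homogeneous sections of `𝒮L = ⊕ L^{⊗ n}` (helper63)

A section `τ` of `CohB1.tensorPow L n` over an open `W` gives a homogeneous section `σ` of degree `n`
of the graded symmetric algebra of the invertible module `L`, with the same local coefficients; the
locus where `τ` generates is `X_σ`.
-/

set_option autoImplicit false
set_option linter.unusedSectionVars false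
universe u

open CategoryTheory CategoryTheory.Limits AlgebraicGeometry TopologicalSpace Opposite
open scoped HomogeneousIdeal

namespace Groth.Agent.Lib.Helper63.SymInvBridge

open Groth.Agent.Lib.Helper63.SymInvRing Groth.Agent.Lib.Helper63.SymInv
  Groth.Agent.Lib.Helper63.SymInvDom Groth.Agent.Lib.Helper63.SymInvImmGen
  Groth.Agent.Lib.Helper63.SymInvLocal Groth.Agent.Lib.Helper63.SymInvExt
  Groth.Agent.Lib.Helper18.SymQC Groth.Agent.Lib.Helper45 Groth.Agent.Lib.Helper49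
  Groth.Agent.Lib.Helper11.GenLocus

variable {X : Scheme.{u}} (L : X.Modules) (hL : PicF.IsInvertible L) (hLq : Coh.IsQCoh L)
  (𝒮L : RelProj.QCGrAlg X) (j : L ⟶ 𝒮L.toModule) (hj : RelProj.IsGrSymAlg L 𝒮L j)

/-- index type of the charts inside `W`. -/
structure BChart (W : X.Opens) where
  V : X.Opens
  hV : IsAffineOpen V
  hVW : V ≤ W
  t : Γ(L, V)
  ht : IsBasisOn L V t

include hL hLq hj in
/-- A section of `L^{⊗ n}` over `W` defines a homogeneous section of degree `n` of `𝒮L` over `W`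
with the same coefficients in all charts. -/
theorem exists_sigma {W : X.Opens} (n : ℕ) (τ : Γ(CohB1.tensorPow L n, W)) :
    ∃ σ : 𝒮L.presheaf.obj (op W), HomogOn 𝒮L σ n ∧
      ∀ (V : X.Opens) (_ : IsAffineOpen V) (hVW : V ≤ W) (t : Γ(L, V)) (_ : IsBasisOn L V t)
        (a : Γ(X, V)), mres (CohB1.tensorPow L n) hVW τ = a • powSec L V t n →
          rs 𝒮L hVW σ = (𝒮L.str.app (op V)).hom a * zOf L 𝒮L j V t ^ n := by
  classical
  have hcoef : ∀ i : BChart L W, ∃ a : Γ(X, i.V),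
      a • powSec L i.V i.t n = mres (CohB1.tensorPow L n) i.hVW τ := fun i =>
    (isBasisOn_powSec i.ht n).exists_eq_smul _
  choose a ha using hcoef
  have hcov : W ≤ ⨆ i : BChart L W, i.V := by
    intro x hx
    obtain ⟨V0, hxV0, t0, ht0⟩ := exists_isBasisOn_of_isInvertible hL x
    obtain ⟨V, hV, hxV, hVV0⟩ := (Opens.isBasis_iff_nbhd.mp X.isBasis_affineOpens)
      (show x ∈ V0 ⊓ W from ⟨hxV0, hx⟩)
    exact Opens.mem_iSup.mpr ⟨⟨V, hV, hVV0.trans inf_le_right, _, ht0.mono (hVV0.trans inf_le_left)⟩,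
      hxV⟩
  -- comparison of two charts over a common smaller open
  have hcmp : ∀ (i i' : BChart L W) (V'' : X.Opens) (h1 : V'' ≤ i.V) (h2 : V'' ≤ i'.V),
      rs 𝒮L h1 ((𝒮L.str.app (op i.V)).hom (a i) * zOf L 𝒮L j i.V i.t ^ n) =
        rs 𝒮L h2 ((𝒮L.str.app (op i'.V)).hom (a i') * zOf L 𝒮L j i'.V i'.t ^ n) := by
    intro i i' V'' h1 h2
    have ht1 := i.ht.mono h1
    obtain ⟨c, hc⟩ := ht1.exists_eq_smul (mres L h2 i'.t)
    have e1 : mres (CohB1.tensorPow L n) (h1.trans i.hVW) τ =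
        fres h1 (a i) • powSec L V'' (mres L h1 i.t) n := by
      rw [← mres_mres (CohB1.tensorPow L n) h1 i.hVW, ← ha i, mres_smul, powSec_res]
    have e2 : mres (CohB1.tensorPow L n) (h1.trans i.hVW) τ =
        (fres h2 (a i') * c ^ n) • powSec L V'' (mres L h1 i.t) n := by
      rw [← mres_mres (CohB1.tensorPow L n) h2 i'.hVW, ← ha i', mres_smul, powSec_res, ← hc,
        powSec_smul, mul_smul]
    have e3 : fres h1 (a i) = fres h2 (a i') * c ^ n :=
      (isBasisOn_powSec ht1 n).eq_of_smul_eq (e1.symm.trans e2)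
    rw [map_mul, map_mul, map_pow, map_pow, rs_str, rs_str, ← zOf_res, ← zOf_res, ← hc, zOf_smul,
      ← fres_eq, ← fres_eq, e3, map_mul, map_pow]
    ring
  obtain ⟨σ, hσ⟩ := rs_glue 𝒮L (fun i : BChart L W => i.V) (fun i => i.hVW) hcov
    (fun i => (𝒮L.str.app (op i.V)).hom (a i) * zOf L 𝒮L j i.V i.t ^ n) (by
      intro i i'
      exact hcmp i i' _ inf_le_left inf_le_right)
  refine ⟨σ, ?_, ?_⟩
  · refine homogOn_of_local 𝒮L σ n ?_
    intro x hx
    obtain ⟨i, hi⟩ := Opens.mem_iSup.mp (hcov hx)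
    refine ⟨i.V, i.hV, i.hVW, hi, ?_⟩
    rw [hσ i]
    exact (SymInv.isPolyGr L hLq 𝒮L j hj i.V i.hV i.t i.ht).term_mem _ n
  · intro V hV hVW t ht a' ha'
    have := hσ ⟨V, hV, hVW, t, ht⟩
    rw [this]
    have e : a ⟨V, hV, hVW, t, ht⟩ = a' :=
      (isBasisOn_powSec ht n).eq_of_smul_eq ((ha ⟨V, hV, hVW, t, ht⟩).trans ha')
    rw [e]

include hL hLq hj in
/-- The locus where `τ` generates `L^{⊗ n}` is `X_σ`. -/
theorem isBasisOn_iff_le_Xσ {W : X.Opens} (n : ℕ) (τ : Γ(CohB1.tensorPow L n, W))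
    (σ : 𝒮L.presheaf.obj (op W))
    (hcoef : ∀ (V : X.Opens) (_ : IsAffineOpen V) (hVW : V ≤ W) (t : Γ(L, V)) (_ : IsBasisOn L V t)
        (a : Γ(X, V)), mres (CohB1.tensorPow L n) hVW τ = a • powSec L V t n →
          rs 𝒮L hVW σ = (𝒮L.str.app (op V)).hom a * zOf L 𝒮L j V t ^ n)
    (V : X.Opens) (hVW : V ≤ W) :
    IsBasisOn (CohB1.tensorPow L n) V (mres (CohB1.tensorPow L n) hVW τ) ↔ V ≤ Xσ σ n := by
  have key : ∀ x ∈ V, ∃ (V₁ : X.Opens) (_ : IsAffineOpen V₁) (h1 : V₁ ≤ V) (t : Γ(L, V₁))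
      (_ : IsBasisOn L V₁ t) (a : Γ(X, V₁)), x ∈ V₁ ∧
        mres (CohB1.tensorPow L n) (h1.trans hVW) τ = a • powSec L V₁ t n ∧
        Xσ σ n ⊓ V₁ = X.basicOpen a := by
    intro x hx
    obtain ⟨V0, hxV0, t0, ht0⟩ := exists_isBasisOn_of_isInvertible hL x
    obtain ⟨V₁, hV₁, hxV₁, hle⟩ := (Opens.isBasis_iff_nbhd.mp X.isBasis_affineOpens)
      (show x ∈ V0 ⊓ V from ⟨hxV0, hx⟩)
    have hV₁ : IsAffineOpen V₁ := hV₁
    have ht := ht0.mono (hle.trans inf_le_left)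
    obtain ⟨a, ha⟩ := (isBasisOn_powSec ht n).exists_eq_smul
      (mres (CohB1.tensorPow L n) ((hle.trans inf_le_right).trans hVW) τ)
    refine ⟨V₁, hV₁, hle.trans inf_le_right, _, ht, a, hxV₁, ha.symm, ?_⟩
    exact Xσ_inf_chart L hLq 𝒮L j hj σ n V₁ hV₁ _ _ ht a (hcoef V₁ hV₁ _ _ ht a ha.symm)
  constructor
  · intro hb x hx
    obtain ⟨V₁, hV₁, h1, t, ht, a, hxV₁, hτ, hX⟩ := key x hx
    have hb1 := hb.mono h1
    rw [mres_mres, hτ] at hb1
    have hu := isUnit_of_isBasisOn_smul (isBasisOn_powSec ht n) a hb1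
    have : x ∈ Xσ σ n ⊓ V₁ := by
      rw [hX, X.basicOpen_of_isUnit hu]; exact hxV₁
    exact this.1
  · intro hle
    choose V₁ hV₁ h1 t ht a hxV₁ hτ hX using key
    refine IsBasisOn.of_cover (fun x : V => X.basicOpen (a x.1 x.2)) V
      (fun x => (X.basicOpen_le _).trans (h1 x.1 x.2)) ?_ _ ?_
    · intro x hx
      refine Opens.mem_iSup.mpr ⟨⟨x, hx⟩, ?_⟩
      rw [← hX x hx]
      exact ⟨hle hx, hxV₁ x hx⟩
    · rintro ⟨x, hx⟩
      rw [mres_mres, ← mres_mres (CohB1.tensorPow L n) (X.basicOpen_le (a x hx)) ((h1 x hx).trans hVW),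
        hτ x hx, mres_smul, powSec_res]
      exact (isBasisOn_powSec ((ht x hx).mono (X.basicOpen_le _)) n).smul_unit _
        (RingedSpace.isUnit_res_basicOpen _ (a x hx))

end Groth.Agent.Lib.Helper63.SymInvBridge
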