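import Mathlib
import Groth.Agent.Lib.Helper63.SymInvImmGen

/-!
# Global immersion criterion for `r_{L,ψ}` by families, and transfer along graded homomorphisms (helper63)
-/

set_option autoImplicit false
set_option linter.unusedSectionVars false
universe u

open CategoryTheory CategoryTheory.Limits AlgebraicGeometry TopologicalSpace Opposite
open HomogeneousLocalization
open scoped HomogeneousIdeal

namespace Groth.Agent.Lib.Helper63.SymInvImmFam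

open Groth.Agent.Lib.Helper63.SymInvRing Groth.Agent.Lib.Helper63.SymInv
  Groth.Agent.Lib.Helper63.SymInvDom Groth.Agent.Lib.Helper63.SymInvMapGen
  Groth.Agent.Lib.Helper63.ProjBasis Groth.Agent.Lib.Helper63.ImmLocal
  Groth.Agent.Lib.Helper63.SymInvImmGen
  Groth.Agent.Lib.Helper42

variable {X Y : Scheme.{u}} {q : X ⟶ Y} {𝒮L : RelProj.QCGrAlg X}
  (L : X.Modules) (hL : PicF.IsInvertible L) (hLq : Coh.IsQCoh L)
  (j : L ⟶ 𝒮L.toModule) (hj : RelProj.IsGrSymAlg L 𝒮L j)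
  {PL : Scheme.{u}} (pL : PL ⟶ X)
  (chartL : ∀ (U : X.Opens) (hU : IsAffineOpen U), (((pL ⁻¹ᵁ U : PL.Opens) : Scheme.{u}) ≅ Proj (𝒮L.deg U hU)))
  (hPL : RelProj.IsRelProj 𝒮L pL chartL)

section one

variable {𝒮 : RelProj.QCGrAlg Y} (u : RelProj.QGrHom q 𝒮 𝒮L) {P : Scheme.{u}}
  (p : P ⟶ Y) (chart : ∀ (U : Y.Opens) (hU : IsAffineOpen U), (((p ⁻¹ᵁ U : P.Opens) : Scheme.{u}) ≅ Proj (𝒮.deg U hU)))
  (hP : RelProj.IsRelProj 𝒮 p chart)
  (r : ((RelProj.domQ u pL chartL : PL.Opens) : Scheme.{u}) ⟶ P)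
  (hr : RelProj.IsProjQMapOn u p chart pL chartL (RelProj.domQ u pL chartL) r)

include hL hLq hj hP hPL hr in
/-- A family `(U_a, s_a)` with the `X_{f_a}` affine, covering `X`, and all functions fractions,
makes `r` everywhere defined and an immersion. -/
theorem immersion_of_family {ι : Type*} (U : ι → Y.Opens) (hU : ∀ a, IsAffineOpen (U a)) (n : ι → ℕ)
    (s : ∀ a, 𝒮.presheaf.obj (op (U a))) (hns : ∀ a, 0 < n a ∧ s a ∈ 𝒮.deg (U a) (hU a) (n a))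
    (V : ι → X.Opens) (hVeq : ∀ a, V a = Xσ (sigU u (U a) (s a)) (n a))
    (hcov : (⨆ a, V a) = ⊤) (hV : ∀ a, IsAffineOpen (V a)) (hVU : ∀ a, V a ≤ q ⁻¹ᵁ U a)
    (hfrac : ∀ a (t : X.presheaf.obj (op (V a))),
      t ∈ FracSet u (U a) (hU a) (n a) (s a) (V a) (hVU a)) :
    RelProj.domQ u pL chartL = ⊤ ∧ IsImmersion r := by
  obtain rfl : V = fun a => Xσ (sigU u (U a) (s a)) (n a) := funext hVeq
  have hdom : RelProj.domQ u pL chartL = ⊤ := by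
    rw [eq_top_iff]
    intro w _
    have hx : pL.base w ∈ ⨆ a, Xσ (sigU u (U a) (s a)) (n a) := by rw [hcov]; exact Opens.mem_top _
    obtain ⟨a, ha⟩ := Opens.mem_iSup.mp hx
    obtain ⟨V₁, hV₁, hV₁W, hxV₁, hgen⟩ := (mem_Xσ_iff _ _ _).mp ha
    obtain ⟨w', hw', -⟩ := exists_mem_preimage_of_genAt u L hL hLq j hj p chart pL chartL hPL r hr (U a)
      (hU a) (n a) (hns a).1 (s a) (hns a).2 w V₁ hV₁ hV₁W hxV₁ hgen
    rw [← hw']
    exact w'.2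
  refine ⟨hdom, ?_⟩
  refine isImmersion_of_cover r (fun a => OsU p chart (U a) (hU a) (s a)) ?_ ?_
  · rw [eq_top_iff]
    intro w' _
    have hx : pL.base ((RelProj.domQ u pL chartL).ι.base w') ∈ ⨆ a, Xσ (sigU u (U a) (s a)) (n a) := by
      rw [hcov]; exact Opens.mem_top _
    obtain ⟨a, ha⟩ := Opens.mem_iSup.mp hx
    exact Opens.mem_iSup.mpr ⟨a, (mem_preimage_iff u L hL hLq j hj p chart hP pL chartL hPL r hr (U a)
      (hU a) (n a) (hns a).1 (s a) (hns a).2 w').mpr ha⟩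
  · intro a
    exact (isClosedImmersion_iff u L hL hLq j hj p chart hP pL chartL hPL r hr (U a) (hU a) (n a)
      (hns a).1 (s a) (hns a).2 (hV a)).mpr (hfrac a)

include hL hLq hj hP hPL hr in
/-- Conversely an immersion `r` yields such a family (indexed by the points of `G(ψ)`). -/
theorem exists_family_of_immersion (himm : IsImmersion r) :
    ∃ (ι : Type u) (U : ι → Y.Opens) (hU : ∀ a, IsAffineOpen (U a)) (n : ι → ℕ)
      (s : ∀ a, 𝒮.presheaf.obj (op (U a))),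
      (∀ a, 0 < n a ∧ s a ∈ 𝒮.deg (U a) (hU a) (n a)) ∧
      (∀ w' : ((RelProj.domQ u pL chartL : PL.Opens) : Scheme.{u}), ∃ a,
        pL.base ((RelProj.domQ u pL chartL).ι.base w') ∈ Xσ (sigU u (U a) (s a)) (n a)) ∧
      (∀ a, IsAffineOpen (Xσ (sigU u (U a) (s a)) (n a))) ∧
      ∀ a (t : X.presheaf.obj (op (Xσ (sigU u (U a) (s a)) (n a)))),
        t ∈ FracSet u (U a) (hU a) (n a) (s a) (Xσ (sigU u (U a) (s a)) (n a)) (Xσ_le _ _) := by
  have key : ∀ w' : ((RelProj.domQ u pL chartL : PL.Opens) : Scheme.{u}),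
      ∃ (U : Y.Opens) (hU : IsAffineOpen U) (n : ℕ) (s : 𝒮.presheaf.obj (op U)), 0 < n ∧
        s ∈ 𝒮.deg U hU n ∧ r.base w' ∈ OsU p chart U hU s ∧ OsU p chart U hU s ≤ r.coborderRange := by
    intro w'
    obtain ⟨U, hU, hptU, -⟩ := (Opens.isBasis_iff_nbhd.mp Y.isBasis_affineOpens)
      (Opens.mem_top (p.base (r.base w')))
    have hU : IsAffineOpen U := hU
    have hpt : r.base w' ∈ (RelProj.emb p chart U hU).opensRange := by
      rw [opensRange_emb 𝒮 p chart U hU]; exact hptU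
    obtain ⟨z, hz⟩ := hpt
    have hzO : z ∈ (RelProj.emb p chart U hU) ⁻¹ᵁ r.coborderRange := by
      change (RelProj.emb p chart U hU).base z ∈ r.coborderRange
      rw [hz]
      exact subset_coborder ⟨w', rfl⟩
    obtain ⟨n, hn, s, hs, hzs, hsO⟩ := exists_homog_basicOpen (𝒮.deg U hU) _ z hzO
    refine ⟨U, hU, n, s, hn, hs, ⟨z, hzs, hz⟩, ?_⟩
    rintro _ ⟨z', hz', rfl⟩
    exact hsO hz'
  choose U hU n s hn hs hmem hle using key
  have hci : ∀ a, IsClosedImmersion (r ∣_ OsU p chart (U a) (hU a) (s a)) := fun a =>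
    isClosedImmersion_restrict_of_isImmersion r _ (hle a)
  have haff : ∀ a, IsAffineOpen (Xσ (sigU u (U a) (s a)) (n a)) := fun a =>
    isAffineOpen_Xσ u L hL hLq j hj p chart hP pL chartL hPL r hr (U a) (hU a) (n a) (hn a) (s a) (hs a)
      (hci a)
  refine ⟨_, U, hU, n, s, fun a => ⟨hn a, hs a⟩, ?_, haff, ?_⟩
  · intro w'
    exact ⟨w', (mem_preimage_iff u L hL hLq j hj p chart hP pL chartL hPL r hr (U w') (hU w') (n w')
      (hn w') (s w') (hs w') w').mp (hmem w')⟩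
  · intro a
    exact (isClosedImmersion_iff u L hL hLq j hj p chart hP pL chartL hPL r hr (U a) (hU a) (n a)
      (hn a) (s a) (hs a) (haff a)).mp (hci a)

end one

section two

variable {𝒮₁ 𝒮₂ : RelProj.QCGrAlg Y} (u₁ : RelProj.QGrHom q 𝒮₁ 𝒮L) (u₂ : RelProj.QGrHom q 𝒮₂ 𝒮L)
  (τ : 𝒮₁.toQCAlg ⟶ 𝒮₂.toQCAlg) (hτ : RelProj.IsGradedHom τ)
  (h12 : ∀ U : Y.Opens, u₁.app U = τ.hom.app (op U) ≫ u₂.app U)

include h12 in
theorem appLE_comp (U : Y.Opens) (V : X.Opens) (hVU : V ≤ q ⁻¹ᵁ U) (x : 𝒮₁.presheaf.obj (op U)) :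
    (u₂.appLE U V hVU).hom ((τ.hom.app (op U)).hom x) = (u₁.appLE U V hVU).hom x := by
  change (𝒮L.presheaf.map (homOfLE hVU).op).hom ((u₂.app U).hom ((τ.hom.app (op U)).hom x)) =
    (𝒮L.presheaf.map (homOfLE hVU).op).hom ((u₁.app U).hom x)
  rw [h12 U]
  rfl

include h12 in
theorem sigU_comp (U : Y.Opens) (x : 𝒮₁.presheaf.obj (op U)) :
    sigU u₂ U ((τ.hom.app (op U)).hom x) = sigU u₁ U x := by
  unfold sigU
  rw [h12 U]
  rfl

include hτ h12 in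
theorem frac_mono (U : Y.Opens) (hU : IsAffineOpen U) (n : ℕ) (s : 𝒮₁.presheaf.obj (op U))
    (V : X.Opens) (hVU : V ≤ q ⁻¹ᵁ U) (t : X.presheaf.obj (op V))
    (ht : t ∈ FracSet u₁ U hU n s V hVU) :
    t ∈ FracSet u₂ U hU n ((τ.hom.app (op U)).hom s) V hVU := by
  obtain ⟨m, hm, s', hs', e⟩ := ht
  refine ⟨m, hm, (τ.hom.app (op U)).hom s', hτ U hU _ s' hs', ?_⟩
  rw [appLE_comp u₁ u₂ τ h12, appLE_comp u₁ u₂ τ h12]
  exact e

variable {P₁ : Scheme.{u}}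
  (p₁ : P₁ ⟶ Y) (chart₁ : ∀ (U : Y.Opens) (hU : IsAffineOpen U), (((p₁ ⁻¹ᵁ U : P₁.Opens) : Scheme.{u}) ≅ Proj (𝒮₁.deg U hU)))
  (hP₁ : RelProj.IsRelProj 𝒮₁ p₁ chart₁)
  (r₁ : ((RelProj.domQ u₁ pL chartL : PL.Opens) : Scheme.{u}) ⟶ P₁)
  (hr₁ : RelProj.IsProjQMapOn u₁ p₁ chart₁ pL chartL (RelProj.domQ u₁ pL chartL) r₁)
  {P₂ : Scheme.{u}}
  (p₂ : P₂ ⟶ Y) (chart₂ : ∀ (U : Y.Opens) (hU : IsAffineOpen U), (((p₂ ⁻¹ᵁ U : P₂.Opens) : Scheme.{u}) ≅ Proj (𝒮₂.deg U hU)))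
  (hP₂ : RelProj.IsRelProj 𝒮₂ p₂ chart₂)
  (r₂ : ((RelProj.domQ u₂ pL chartL : PL.Opens) : Scheme.{u}) ⟶ P₂)
  (hr₂ : RelProj.IsProjQMapOn u₂ p₂ chart₂ pL chartL (RelProj.domQ u₂ pL chartL) r₂)

include hL hLq hj hPL hτ h12 hP₁ hr₁ hP₂ hr₂ in
/-- "Everywhere defined and an immersion" passes along graded homomorphisms of the algebra on the
base. -/
theorem immersion_transfer (h : RelProj.domQ u₁ pL chartL = ⊤ ∧ IsImmersion r₁) :
    RelProj.domQ u₂ pL chartL = ⊤ ∧ IsImmersion r₂ := by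
  obtain ⟨hdom, himm⟩ := h
  obtain ⟨ι, U, hU, n, s, hns, hcov, haff, hfrac⟩ :=
    exists_family_of_immersion L hL hLq j hj pL chartL hPL u₁ p₁ chart₁ hP₁ r₁ hr₁ himm
  refine immersion_of_family L hL hLq j hj pL chartL hPL u₂ p₂ chart₂ hP₂ r₂ hr₂ U hU n
    (fun a => (τ.hom.app (op (U a))).hom (s a)) (fun a => ⟨(hns a).1, hτ _ (hU a) _ _ (hns a).2⟩)
    (fun a => Xσ (sigU u₁ (U a) (s a)) (n a)) ?_ ?_ haff (fun a => Xσ_le _ _) ?_
  · intro a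
    rw [sigU_comp u₁ u₂ τ h12]
  · rw [eq_top_iff]
    intro x _
    have hisoL := isIso_pL L hLq 𝒮L j hj pL chartL hPL hL
    obtain ⟨w, rfl⟩ := pL.surjective x
    have hwd : w ∈ RelProj.domQ u₁ pL chartL := by rw [hdom]; exact Opens.mem_top _
    obtain ⟨a, ha⟩ := hcov ⟨w, hwd⟩
    exact Opens.mem_iSup.mpr ⟨a, ha⟩
  · intro a t
    exact frac_mono u₁ u₂ τ hτ h12 (U a) (hU a) (n a) (s a) _ _ t (hfrac a t)

end two

end Groth.Agent.Lib.Helper63.SymInvImmFam
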