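import Mathlib
import Groth.Agent.Lib.Helper63.SymInvImmFam
import Groth.Agent.Lib.Helper63.SymInvColim

/-!
# Open / closed immersions `r_{L,ψ}` and (TN)-surjective homomorphisms (EGA II 3.7.6 (ii)) (helper63)
-/

set_option autoImplicit false
set_option linter.unusedSectionVars false
universe u

open CategoryTheory CategoryTheory.Limits AlgebraicGeometry TopologicalSpace Opposite
open HomogeneousLocalization
open scoped HomogeneousIdeal

namespace Groth.Agent.Lib.Helper63.SymInvImmTN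

open Groth.Agent.Lib.Helper63.SymInvRing Groth.Agent.Lib.Helper63.SymInv
  Groth.Agent.Lib.Helper63.SymInvDom Groth.Agent.Lib.Helper63.SymInvMapGen
  Groth.Agent.Lib.Helper63.ProjBasis Groth.Agent.Lib.Helper63.ImmLocal
  Groth.Agent.Lib.Helper63.SymInvImmGen Groth.Agent.Lib.Helper63.SymInvImmFam
  Groth.Agent.Lib.Helper42

variable {X Y : Scheme.{u}} {q : X ⟶ Y} {𝒮L : RelProj.QCGrAlg X}
  (L : X.Modules) (hL : PicF.IsInvertible L) (hLq : Coh.IsQCoh L)
  (j : L ⟶ 𝒮L.toModule) (hj : RelProj.IsGrSymAlg L 𝒮L j)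
  {PL : Scheme.{u}} (pL : PL ⟶ X)
  (chartL : ∀ (U : X.Opens) (hU : IsAffineOpen U), (((pL ⁻¹ᵁ U : PL.Opens) : Scheme.{u}) ≅ Proj (𝒮L.deg U hU)))
  (hPL : RelProj.IsRelProj 𝒮L pL chartL)

section one

variable {𝒮 : RelProj.QCGrAlg Y} (u : RelProj.QGrHom q 𝒮 𝒮L) {P : Scheme.{u}}
  (p : P ⟶ Y) (chart : ∀ (U : Y.Opens) (hU : IsAffineOpen U), (((p ⁻¹ᵁ U : P.Opens) : Scheme.{u}) ≅ Proj (𝒮.deg U hU)))
  (hP : RelProj.IsRelProj 𝒮 p chart)
  (r : ((RelProj.domQ u pL chartL : PL.Opens) : Scheme.{u}) ⟶ P)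
  (hr : RelProj.IsProjQMapOn u p chart pL chartL (RelProj.domQ u pL chartL) r)
  (U : Y.Opens) (hU : IsAffineOpen U) (n : ℕ) (hn : 0 < n) (s : 𝒮.presheaf.obj (op U))
  (hs : s ∈ 𝒮.deg U hU n)

/-- condition (iv): sections killed by `ψ♭` over `V` are killed by a power of `s` -/
def KerCond (V : X.Opens) (hVU : V ≤ q ⁻¹ᵁ U) : Prop :=
  ∀ (m : ℕ), 0 < m → ∀ s' ∈ 𝒮.deg U hU (m * n),
    (u.appLE U V hVU).hom s' = 0 → ∃ (k : ℕ), 0 < k ∧ s ^ k * s' = 0

include hL hLq hj hP hPL hr hn hs in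
/-- `r` is an isomorphism over `D₊(s)` iff all functions on `X_f` are fractions and (iv) holds. -/
theorem isIso_iff (hV : IsAffineOpen (Xσ (sigU u U s) n)) :
    IsIso (r ∣_ OsU p chart U hU s) ↔
      (∀ t : X.presheaf.obj (op (Xσ (sigU u U s) n)),
        t ∈ FracSet u U hU n s (Xσ (sigU u U s) n) (Xσ_le _ _)) ∧
      KerCond u U hU n s (Xσ (sigU u U s) n) (Xσ_le _ _) := by
  rw [← MorphismProperty.isomorphisms.iff,
    restrict_iff_specMap u L hL hLq j hj p chart hP pL chartL hPL r hr U hU n hn s hs hV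
      (Q := MorphismProperty.isomorphisms Scheme), MorphismProperty.isomorphisms.iff,
    isIso_SpecMap_iff, Function.Bijective, and_comm]
  refine and_congr ?_ ?_
  · constructor
    · intro hsurj t
      exact AwayMapCrit.of_surjective ((kOf u U hU n hn s hs hV).psi u) s hs
        (𝒮L.str.app (op (Xσ (sigU u U s) n))).hom (fun t => 𝒮L.str_mem _ hV t) hsurj t
    · intro H
      exact AwayMapCrit.surjective_of ((kOf u U hU n hn s hs hV).psi u) s hs
        (𝒮L.str.app (op (Xσ (sigU u U s) n))).hom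
        (gamma_surjective u L hL hLq j hj pL chartL hPL U hU n hn s hs hV) H
  · exact AwayMapCrit.injective_iff ((kOf u U hU n hn s hs hV).psi u) s hs

variable {W : X.Opens} (σ : 𝒮L.presheaf.obj (op (q ⁻¹ᵁ U))) (hσ : σ = sigU u U s)

include hL hLq hj hP hPL hr hn hs hσ in
theorem isIso_iff_σ (hV : IsAffineOpen (Xσ σ n)) :
    IsIso (r ∣_ OsU p chart U hU s) ↔
      (∀ t : X.presheaf.obj (op (Xσ σ n)), t ∈ FracSet u U hU n s (Xσ σ n) (Xσ_le _ _)) ∧
      KerCond u U hU n s (Xσ σ n) (Xσ_le _ _) := by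
  subst hσ
  exact isIso_iff L hL hLq j hj pL chartL hPL u p chart hP r hr U hU n hn s hs hV

include hL hLq hj hP hPL hr hn hs hσ in
theorem isClosedImmersion_iff_σ (hV : IsAffineOpen (Xσ σ n)) :
    IsClosedImmersion (r ∣_ OsU p chart U hU s) ↔
      ∀ t : X.presheaf.obj (op (Xσ σ n)), t ∈ FracSet u U hU n s (Xσ σ n) (Xσ_le _ _) := by
  subst hσ
  exact isClosedImmersion_iff u L hL hLq j hj p chart hP pL chartL hPL r hr U hU n hn s hs hV

include hL hLq hj hP hPL hr hn hs hσ in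
theorem mem_preimage_iff_σ (w' : ((RelProj.domQ u pL chartL : PL.Opens) : Scheme.{u})) :
    r.base w' ∈ OsU p chart U hU s ↔
      pL.base ((RelProj.domQ u pL chartL).ι.base w') ∈ Xσ σ n := by
  subst hσ
  exact mem_preimage_iff u L hL hLq j hj p chart hP pL chartL hPL r hr U hU n hn s hs w'

end one

section comp

variable {𝒮 𝒯 : RelProj.QCGrAlg Y} (u : RelProj.QGrHom q 𝒮 𝒮L)
  {P : Scheme.{u}} (p : P ⟶ Y)
  (chart : ∀ (U : Y.Opens) (hU : IsAffineOpen U), (((p ⁻¹ᵁ U : P.Opens) : Scheme.{u}) ≅ Proj (𝒮.deg U hU)))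
  (hP : RelProj.IsRelProj 𝒮 p chart)
  (r : ((RelProj.domQ u pL chartL : PL.Opens) : Scheme.{u}) ⟶ P)
  (hr : RelProj.IsProjQMapOn u p chart pL chartL (RelProj.domQ u pL chartL) r)
  (v : 𝒯.toQCAlg ⟶ 𝒮.toQCAlg) (hv : RelProj.IsGradedHom v)
  (u' : RelProj.QGrHom q 𝒯 𝒮L) (hu' : ∀ U : Y.Opens, u'.app U = v.hom.app (op U) ≫ u.app U)
  {P' : Scheme.{u}} (p' : P' ⟶ Y)
  (chart' : ∀ (U : Y.Opens) (hU : IsAffineOpen U), (((p' ⁻¹ᵁ U : P'.Opens) : Scheme.{u}) ≅ Proj (𝒯.deg U hU)))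
  (hP' : RelProj.IsRelProj 𝒯 p' chart')
  (r' : ((RelProj.domQ u' pL chartL : PL.Opens) : Scheme.{u}) ⟶ P')
  (hr' : RelProj.IsProjQMapOn u' p' chart' pL chartL (RelProj.domQ u' pL chartL) r')
  (hTN : ∃ n : ℕ, ∀ k, n ≤ k → ∀ (U : Y.Opens) (hU : IsAffineOpen U), ∀ y ∈ 𝒮.deg U hU k,
    ∃ x ∈ 𝒯.deg U hU k, (v.hom.app (op U)).hom x = y)

include hv hu' hTN in
/-- condition (iv) passes along a (TN)-surjective homomorphism -/
theorem kerCond_of_tnSurjective (U : Y.Opens) (hU : IsAffineOpen U) (n : ℕ) (hn : 0 < n)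
    (t : 𝒯.presheaf.obj (op U)) (ht : t ∈ 𝒯.deg U hU n) (V : X.Opens) (hVU : V ≤ q ⁻¹ᵁ U)
    (h : KerCond u' U hU n t V hVU) :
    KerCond u U hU n ((v.hom.app (op U)).hom t) V hVU := by
  obtain ⟨n₀, hn₀⟩ := hTN
  intro m hm s' hs' h0
  have hvt : (v.hom.app (op U)).hom t ∈ 𝒮.deg U hU n := hv U hU n t ht
  have hdeg : s' * ((v.hom.app (op U)).hom t) ^ n₀ ∈ 𝒮.deg U hU ((m + n₀) * n) := by
    have h1 := SetLike.mul_mem_graded hs' (SetLike.pow_mem_graded n₀ hvt)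
    have e : m * n + n₀ • n = (m + n₀) * n := by simp only [smul_eq_mul]; ring
    rwa [e] at h1
  have hk : n₀ ≤ (m + n₀) * n :=
    le_trans (Nat.le_add_left n₀ m) (Nat.le_mul_of_pos_right _ hn)
  obtain ⟨t', ht', hvt'⟩ := hn₀ _ hk U hU _ hdeg
  have h0' : (u'.appLE U V hVU).hom t' = 0 := by
    rw [← appLE_comp u' u v hu' U V hVU t', hvt', map_mul, h0, zero_mul]
  obtain ⟨k, hk0, hkt⟩ := h (m + n₀) (by omega) t' ht' h0'
  refine ⟨k + n₀, by omega, ?_⟩
  have h2 := congrArg (v.hom.app (op U)).hom hkt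
  rw [map_mul, map_pow, hvt', map_zero] at h2
  rw [pow_add, mul_assoc, mul_comm (((v.hom.app (op U)).hom t) ^ n₀) s']
  exact h2

include hv hTN in
/-- every point of `Proj 𝒮(U)` lies in some `D₊(v t)` -/
theorem exists_mem_basicOpen_of_tnSurjective (U : Y.Opens) (hU : IsAffineOpen U)
    (z : Proj (𝒮.deg U hU)) :
    ∃ (n : ℕ) (_ : 0 < n) (t : 𝒯.presheaf.obj (op U)) (_ : t ∈ 𝒯.deg U hU n),
      z ∈ Proj.basicOpen (𝒮.deg U hU) ((v.hom.app (op U)).hom t) := by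
  obtain ⟨n₀, hn₀⟩ := hTN
  by_contra hcon
  push Not at hcon
  apply z.not_irrelevant_le
  rw [HomogeneousIdeal.irrelevant_le]
  intro d hd x hx
  change x ∈ z.asHomogeneousIdeal.toIdeal
  have hx' : x ∈ 𝒮.deg U hU d := hx
  have hxk : x ^ (n₀ + 1) ∈ 𝒮.deg U hU ((n₀ + 1) * d) := by
    have := SetLike.pow_mem_graded (n₀ + 1) hx'
    rwa [smul_eq_mul] at this
  have hk : n₀ ≤ (n₀ + 1) * d := le_trans (Nat.le_succ n₀) (Nat.le_mul_of_pos_right _ hd)
  obtain ⟨t, ht, hvt⟩ := hn₀ _ hk U hU _ hxk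
  have := hcon ((n₀ + 1) * d) (by positivity) t ht
  rw [Proj.mem_basicOpen, not_not, hvt] at this
  exact z.isPrime.mem_of_pow_mem _ this

include hL hLq hj hPL hP hr hv hu' hP' hr' hTN in
/-- EGA II 3.7.6 (ii), open immersions. -/
theorem isOpenImmersion_of_tnSurjective (hdef : RelProj.domQ u' pL chartL = ⊤)
    (h : IsOpenImmersion r') : IsOpenImmersion r := by
  have key : ∀ w' : ((RelProj.domQ u' pL chartL : PL.Opens) : Scheme.{u}),
      ∃ (U : Y.Opens) (hU : IsAffineOpen U) (n : ℕ) (t : 𝒯.presheaf.obj (op U)), 0 < n ∧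
        t ∈ 𝒯.deg U hU n ∧ r'.base w' ∈ OsU p' chart' U hU t ∧ OsU p' chart' U hU t ≤ r'.opensRange := by
    intro w'
    obtain ⟨U, hU, hptU, -⟩ := (Opens.isBasis_iff_nbhd.mp Y.isBasis_affineOpens)
      (Opens.mem_top (p'.base (r'.base w')))
    have hU : IsAffineOpen U := hU
    have hpt : r'.base w' ∈ (RelProj.emb p' chart' U hU).opensRange := by
      rw [opensRange_emb 𝒯 p' chart' U hU]; exact hptU
    obtain ⟨z, hz⟩ := hpt
    have hzO : z ∈ (RelProj.emb p' chart' U hU) ⁻¹ᵁ r'.opensRange := by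
      change (RelProj.emb p' chart' U hU).base z ∈ r'.opensRange
      rw [hz]
      exact ⟨w', rfl⟩
    obtain ⟨n, hn, s, hs, hzs, hsO⟩ := exists_homog_basicOpen (𝒯.deg U hU) _ z hzO
    refine ⟨U, hU, n, s, hn, hs, ⟨z, hzs, hz⟩, ?_⟩
    rintro _ ⟨z', hz', rfl⟩
    exact hsO hz'
  choose U hU n t hn ht hmem hle using key
  have hiso' : ∀ a, IsIso (r' ∣_ OsU p' chart' (U a) (hU a) (t a)) := fun a =>
    isIso_restrict_of_isOpenImmersion r' _ (hle a)
  have hci' : ∀ a, IsClosedImmersion (r' ∣_ OsU p' chart' (U a) (hU a) (t a)) := fun a => by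
    have := hiso' a
    infer_instance
  have haff : ∀ a, IsAffineOpen (Xσ (sigU u' (U a) (t a)) (n a)) := fun a =>
    isAffineOpen_Xσ u' L hL hLq j hj p' chart' hP' pL chartL hPL r' hr' (U a) (hU a) (n a) (hn a) (t a)
      (ht a) (hci' a)
  have hboth := fun a => (isIso_iff L hL hLq j hj pL chartL hPL u' p' chart' hP' r' hr' (U a) (hU a) (n a)
    (hn a) (t a) (ht a) (haff a)).mp (hiso' a)
  have hσ : ∀ a, sigU u' (U a) (t a) = sigU u (U a) ((v.hom.app (op (U a))).hom (t a)) := fun a =>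
    (sigU_comp u' u v hu' (U a) (t a)).symm
  have hvt : ∀ a, (v.hom.app (op (U a))).hom (t a) ∈ 𝒮.deg (U a) (hU a) (n a) := fun a =>
    hv _ (hU a) _ _ (ht a)
  have hiso : ∀ a, IsIso (r ∣_ OsU p chart (U a) (hU a) ((v.hom.app (op (U a))).hom (t a))) := fun a =>
    (isIso_iff_σ L hL hLq j hj pL chartL hPL u p chart hP r hr (U a) (hU a) (n a) (hn a) _ (hvt a)
      (sigU u' (U a) (t a)) (hσ a) (haff a)).mpr
      ⟨fun tt => frac_mono u' u v hv hu' (U a) (hU a) (n a) (t a) _ _ tt ((hboth a).1 tt),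
        kerCond_of_tnSurjective u v hv u' hu' hTN (U a) (hU a) (n a) (hn a) (t a) (ht a) _ _ (hboth a).2⟩
  refine isOpenImmersion_of_cover r
    (fun a => OsU p chart (U a) (hU a) ((v.hom.app (op (U a))).hom (t a))) ?_ hiso
  rw [eq_top_iff]
  intro w _
  have hw' : w.1 ∈ RelProj.domQ u' pL chartL := by rw [hdef]; exact Opens.mem_top _
  obtain ⟨w', hw'def⟩ : ∃ w' : ((RelProj.domQ u' pL chartL : PL.Opens) : Scheme.{u}), w' = ⟨w.1, hw'⟩ :=
    ⟨_, rfl⟩
  have h1 := (mem_preimage_iff u' L hL hLq j hj p' chart' hP' pL chartL hPL r' hr' (U w') (hU w') (n w')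
    (hn w') (t w') (ht w') w').mp (hmem w')
  have h2 : pL.base ((RelProj.domQ u pL chartL).ι.base w) ∈ Xσ (sigU u' (U w') (t w')) (n w') := by
    rw [hw'def] at h1 ⊢
    exact h1
  exact Opens.mem_iSup.mpr ⟨w', (mem_preimage_iff_σ L hL hLq j hj pL chartL hPL u p chart hP r hr (U w')
    (hU w') (n w') (hn w') _ (hvt w') (sigU u' (U w') (t w')) (hσ w') w).mpr h2⟩

include hL hLq hj hPL hP hr hv hu' hP' hr' hTN in
/-- EGA II 3.7.6 (ii), closed immersions. -/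
theorem isClosedImmersion_of_tnSurjective (h : IsClosedImmersion r') : IsClosedImmersion r := by
  refine isClosedImmersion_of_cover r
    (ι := Σ' (U : Y.Opens) (hU : IsAffineOpen U) (n : ℕ) (_ : 0 < n) (t : 𝒯.presheaf.obj (op U)),
      t ∈ 𝒯.deg U hU n)
    (fun a => OsU p chart a.1 a.2.1 ((v.hom.app (op a.1)).hom a.2.2.2.2.1)) ?_ ?_
  · rw [eq_top_iff]
    intro pt _
    obtain ⟨U, hU, hptU, -⟩ := (Opens.isBasis_iff_nbhd.mp Y.isBasis_affineOpens)
      (Opens.mem_top (p.base pt))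
    have hU : IsAffineOpen U := hU
    have hpt : pt ∈ (RelProj.emb p chart U hU).opensRange := by
      rw [opensRange_emb 𝒮 p chart U hU]; exact hptU
    obtain ⟨z, rfl⟩ := hpt
    obtain ⟨n, hn, t, ht, hz⟩ := exists_mem_basicOpen_of_tnSurjective v hv hTN U hU z
    exact Opens.mem_iSup.mpr ⟨⟨U, hU, n, hn, t, ht⟩, ⟨z, hz, rfl⟩⟩
  · rintro ⟨U, hU, n, hn, t, ht⟩
    have hci' : IsClosedImmersion (r' ∣_ OsU p' chart' U hU t) := inferInstance
    have haff := isAffineOpen_Xσ u' L hL hLq j hj p' chart' hP' pL chartL hPL r' hr' U hU n hn t ht hci'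
    have hfrac' := (isClosedImmersion_iff u' L hL hLq j hj p' chart' hP' pL chartL hPL r' hr' U hU n hn t
      ht haff).mp hci'
    exact (isClosedImmersion_iff_σ L hL hLq j hj pL chartL hPL u p chart hP r hr U hU n hn _
      (hv U hU n t ht) (sigU u' U t) (sigU_comp u' u v hu' U t).symm haff).mpr
      (fun tt => frac_mono u' u v hv hu' U hU n t _ _ tt (hfrac' tt))

end comp

end Groth.Agent.Lib.Helper63.SymInvImmTN
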