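import Mathlib
import Groth.Agent.Lib.Helper63.SymInvBridge
import Groth.Agent.Lib.Helper63.SymInvImmTN

/-!
# `r_{L,σ}` for `𝒮 = ⊕ f_*(L^{⊗ n})`: open immersion and dominance from local data
(EGA II 4.5.2, 4.6.3) (helper63)
-/

set_option autoImplicit false
set_option linter.unusedSectionVars false
universe u

open CategoryTheory CategoryTheory.Limits AlgebraicGeometry TopologicalSpace Opposite
open HomogeneousLocalization
open scoped HomogeneousIdeal

namespace Groth.Agent.Lib.Helper63.SymInvAmple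

open Groth.Agent.Lib.Helper63.SymInvRing Groth.Agent.Lib.Helper63.SymInv
  Groth.Agent.Lib.Helper63.SymInvDom Groth.Agent.Lib.Helper63.SymInvMapGen
  Groth.Agent.Lib.Helper63.ProjBasis Groth.Agent.Lib.Helper63.ImmLocal
  Groth.Agent.Lib.Helper63.SymInvImmGen Groth.Agent.Lib.Helper63.SymInvImmTN
  Groth.Agent.Lib.Helper63.SymInvLocal Groth.Agent.Lib.Helper63.SymInvExt
  Groth.Agent.Lib.Helper18.SymQC Groth.Agent.Lib.Helper45 Groth.Agent.Lib.Helper49
  Groth.Agent.Lib.Helper42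

variable {X Y P : Scheme.{u}} {q : X ⟶ Y} {𝒮 : RelProj.QCGrAlg Y} {𝒮L : RelProj.QCGrAlg X}
  (u : RelProj.QGrHom q 𝒮 𝒮L)
  (L : X.Modules) (hL : PicF.IsInvertible L) (hLq : Coh.IsQCoh L)
  (j : L ⟶ 𝒮L.toModule) (hj : RelProj.IsGrSymAlg L 𝒮L j)
  (p : P ⟶ Y) (chart : ∀ (U : Y.Opens) (hU : IsAffineOpen U), (((p ⁻¹ᵁ U : P.Opens) : Scheme.{u}) ≅ Proj (𝒮.deg U hU)))
  (hP : RelProj.IsRelProj 𝒮 p chart)
  {PL : Scheme.{u}} (pL : PL ⟶ X)
  (chartL : ∀ (U : X.Opens) (hU : IsAffineOpen U), (((pL ⁻¹ᵁ U : PL.Opens) : Scheme.{u}) ≅ Proj (𝒮L.deg U hU)))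
  (hPL : RelProj.IsRelProj 𝒮L pL chartL)
  (r : ((RelProj.domQ u pL chartL : PL.Opens) : Scheme.{u}) ⟶ P)
  (hr : RelProj.IsProjQMapOn u p chart pL chartL (RelProj.domQ u pL chartL) r)

/-- If `u` is injective over `U`, a section whose image is homogeneous of degree `n` is homogeneous
of degree `n`. -/
theorem mem_deg_of_homogOn (U : Y.Opens) (hU : IsAffineOpen U)
    (hinj : Function.Injective (u.app U).hom) (n : ℕ) (s : 𝒮.presheaf.obj (op U))
    (hs : HomogOn 𝒮L (sigU u U s) n) : s ∈ 𝒮.deg U hU n := by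
  classical
  have hzero : ∀ e, e ≠ n → ((DirectSum.decompose (𝒮.deg U hU) s e : 𝒮.deg U hU e) :
      𝒮.presheaf.obj (op U)) = 0 := by
    intro e hen
    apply hinj
    rw [map_zero]
    change sigU u U _ = 0
    refine rs_ext 𝒮L (fun V : {V : X.affineOpens // V.1 ≤ q ⁻¹ᵁ U} => V.1.1) (fun V => V.2) ?_ _ _ ?_
    · intro x hx
      obtain ⟨V, hV, hxV, hle⟩ := (Opens.isBasis_iff_nbhd.mp X.isBasis_affineOpens) hx
      exact Opens.mem_iSup.mpr ⟨⟨⟨V, hV⟩, hle⟩, hxV⟩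
    · rintro ⟨⟨V, hV⟩, hle⟩
      rw [map_zero, rs_sigU]
      have h1 := GradedRingHom.map_directSumDecompose _ _ (u.gradedAt U hU V hV hle) (x := s) (i := e)
      change u.gradedAt U hU V hV hle _ = 0
      rw [h1]
      exact DirectSum.decompose_of_mem_ne (𝒮L.deg V hV) (hs V hV hle) (Ne.symm hen)
  have hsum := DirectSum.sum_support_decompose (𝒮.deg U hU) s
  rw [← hsum]
  refine AddSubgroup.sum_mem _ fun e _ => ?_
  by_cases hen : e = n
  · subst hen
    exact SetLike.coe_mem _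
  · rw [hzero e hen]
    exact zero_mem _

include hL hLq hj in
/-- condition (iii) from the extension lemma -/
theorem fracSet_of_bijective (U : Y.Opens) (hU : IsAffineOpen U)
    (hbij : Function.Bijective (u.app U).hom)
    (hc : IsCompact ((q ⁻¹ᵁ U : X.Opens) : Set X))
    (hqs : IsQuasiSeparated ((q ⁻¹ᵁ U : X.Opens) : Set X))
    (n : ℕ) (s : 𝒮.presheaf.obj (op U)) (hs : s ∈ 𝒮.deg U hU n)
    (t : X.presheaf.obj (op (Xσ (sigU u U s) n))) :
    t ∈ FracSet u U hU n s (Xσ (sigU u U s) n) (Xσ_le _ _) := by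
  obtain ⟨m, hm, τ, hτh, hτ⟩ := exists_extension L hL hLq 𝒮L j hj hc hqs (sigU u U s) n
    (homogOn_sigU u U hU n s hs) t
  obtain ⟨s', rfl⟩ := hbij.2 τ
  refine ⟨m, hm, s', mem_deg_of_homogOn u U hU hbij.1 (m * n) s' hτh, ?_⟩
  exact hτ.symm

include hL hLq hj in
/-- condition (iv) from the vanishing lemma -/
theorem kerCond_of_injective (U : Y.Opens) (hU : IsAffineOpen U)
    (hinj : Function.Injective (u.app U).hom)
    (hc : IsCompact ((q ⁻¹ᵁ U : X.Opens) : Set X))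
    (n : ℕ) (s : 𝒮.presheaf.obj (op U)) (hs : s ∈ 𝒮.deg U hU n) :
    KerCond u U hU n s (Xσ (sigU u U s) n) (Xσ_le _ _) := by
  intro m hm s' hs' h0
  obtain ⟨k, hk⟩ := exists_pow_mul_eq_zero L hL hLq 𝒮L j hj hc (sigU u U s) n
    (homogOn_sigU u U hU n s hs) (sigU u U s') h0
  refine ⟨k + 1, Nat.succ_pos _, ?_⟩
  apply hinj
  rw [map_zero, map_mul, map_pow, pow_succ, mul_assoc]
  change sigU u U s ^ k * (sigU u U s * sigU u U s') = 0
  rw [mul_left_comm, hk, mul_zero]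

include hL hLq hj hP hPL hr in
/-- A family `(U_a, s_a)` with the `X_{s_a}` affine and covering `X`, all functions fractions and
(iv), makes `r` everywhere defined and an open immersion. -/
theorem openImmersion_of_family {ι : Type*} (U : ι → Y.Opens) (hU : ∀ a, IsAffineOpen (U a))
    (n : ι → ℕ) (s : ∀ a, 𝒮.presheaf.obj (op (U a)))
    (hns : ∀ a, 0 < n a ∧ s a ∈ 𝒮.deg (U a) (hU a) (n a))
    (hcov : (⨆ a, Xσ (sigU u (U a) (s a)) (n a)) = ⊤)
    (hV : ∀ a, IsAffineOpen (Xσ (sigU u (U a) (s a)) (n a)))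
    (hfrac : ∀ a (t : X.presheaf.obj (op (Xσ (sigU u (U a) (s a)) (n a)))),
      t ∈ FracSet u (U a) (hU a) (n a) (s a) (Xσ (sigU u (U a) (s a)) (n a)) (Xσ_le _ _))
    (hker : ∀ a, KerCond u (U a) (hU a) (n a) (s a) (Xσ (sigU u (U a) (s a)) (n a)) (Xσ_le _ _)) :
    RelProj.domQ u pL chartL = ⊤ ∧ IsOpenImmersion r := by
  have hdom : RelProj.domQ u pL chartL = ⊤ := by
    rw [eq_top_iff]
    intro w _
    have hx : pL.base w ∈ ⨆ a, Xσ (sigU u (U a) (s a)) (n a) := by rw [hcov]; exact Opens.mem_top _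
    obtain ⟨a, ha⟩ := Opens.mem_iSup.mp hx
    obtain ⟨V₁, hV₁, hV₁W, hxV₁, hgen⟩ := (mem_Xσ_iff _ _ _).mp ha
    obtain ⟨w', hw', -⟩ := exists_mem_preimage_of_genAt u L hL hLq j hj p chart pL chartL hPL r hr (U a)
      (hU a) (n a) (hns a).1 (s a) (hns a).2 w V₁ hV₁ hV₁W hxV₁ hgen
    rw [← hw']
    exact w'.2
  refine ⟨hdom, ?_⟩
  refine isOpenImmersion_of_cover r (fun a => OsU p chart (U a) (hU a) (s a)) ?_ ?_
  · rw [eq_top_iff]
    intro w' _
    have hx : pL.base ((RelProj.domQ u pL chartL).ι.base w') ∈ ⨆ a, Xσ (sigU u (U a) (s a)) (n a) := by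
      rw [hcov]; exact Opens.mem_top _
    obtain ⟨a, ha⟩ := Opens.mem_iSup.mp hx
    exact Opens.mem_iSup.mpr ⟨a, (SymInvImmGen.mem_preimage_iff u L hL hLq j hj p chart hP pL chartL hPL
      r hr (U a) (hU a) (n a) (hns a).1 (s a) (hns a).2 w').mpr ha⟩
  · intro a
    exact (isIso_iff L hL hLq j hj pL chartL hPL u p chart hP r hr (U a) (hU a) (n a) (hns a).1 (s a)
      (hns a).2 (hV a)).mpr ⟨hfrac a, hker a⟩

include hL hLq hj hP hPL hr in
/-- Local form of EGA II 4.5.2/4.6.3: if every point of `X` lies in an affine `X_σ` for a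
homogeneous section `σ` of positive degree over some quasi-compact quasi-separated `q⁻¹(U)`, with
`u` bijective over `U`, then `r` is everywhere defined and an open immersion. -/
theorem openImmersion_of_local
    (H : ∀ x : X, ∃ (U : Y.Opens) (_ : IsAffineOpen U) (n : ℕ) (_ : 0 < n)
      (σ : 𝒮L.presheaf.obj (op (q ⁻¹ᵁ U))), Function.Bijective (u.app U).hom ∧
        HomogOn 𝒮L σ n ∧ x ∈ Xσ σ n ∧ IsAffineOpen (Xσ σ n) ∧
        IsCompact ((q ⁻¹ᵁ U : X.Opens) : Set X) ∧ IsQuasiSeparated ((q ⁻¹ᵁ U : X.Opens) : Set X)) :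
    RelProj.domQ u pL chartL = ⊤ ∧ IsOpenImmersion r := by
  choose U hU n hn σ hbij hσ hx haff hc hqs using H
  choose s hs using fun x => (hbij x).2 (σ x)
  have e : ∀ x, sigU u (U x) (s x) = σ x := hs
  have hdeg : ∀ x, s x ∈ 𝒮.deg (U x) (hU x) (n x) := fun x =>
    mem_deg_of_homogOn u (U x) (hU x) (hbij x).1 (n x) (s x) (by rw [e x]; exact hσ x)
  refine openImmersion_of_family u L hL hLq j hj p chart hP pL chartL hPL r hr U hU n s
    (fun x => ⟨hn x, hdeg x⟩) ?_ ?_ ?_ ?_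
  · rw [eq_top_iff]
    intro x _
    refine Opens.mem_iSup.mpr ⟨x, ?_⟩
    rw [e x]
    exact hx x
  · intro x
    rw [e x]
    exact haff x
  · intro x t
    exact fracSet_of_bijective u L hL hLq j hj (U x) (hU x) (hbij x) (hc x) (hqs x) (n x) (s x)
      (hdeg x) t
  · intro x
    exact kerCond_of_injective u L hL hLq j hj (U x) (hU x) (hbij x).1 (hc x) (n x) (s x) (hdeg x)

include hL hLq hj hPL hr in
/-- `r` is dominant when `u` is injective over all affine opens of `Y` and `q` is quasi-compact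
(in the sense that the `q⁻¹(U)` are quasi-compact). -/
theorem dominant_of_injective
    (hinj : ∀ (U : Y.Opens), IsAffineOpen U → Function.Injective (u.app U).hom)
    (hc : ∀ (U : Y.Opens), IsAffineOpen U → IsCompact ((q ⁻¹ᵁ U : X.Opens) : Set X)) :
    IsDominant r := by
  classical
  refine ⟨?_⟩
  rw [DenseRange, dense_iff_inter_open]
  rintro O hO ⟨pt, hpt⟩
  obtain ⟨U, hU, hptU, -⟩ := (Opens.isBasis_iff_nbhd.mp Y.isBasis_affineOpens)
    (Opens.mem_top (p.base pt))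
  have hU : IsAffineOpen U := hU
  have hptr : pt ∈ (RelProj.emb p chart U hU).opensRange := by
    rw [opensRange_emb 𝒮 p chart U hU]; exact hptU
  obtain ⟨z, rfl⟩ := hptr
  obtain ⟨n, hn, s, hs, hzs, hsO⟩ := exists_homog_basicOpen (𝒮.deg U hU)
    ((RelProj.emb p chart U hU) ⁻¹ᵁ ⟨O, hO⟩) z hpt
  have hnil : ¬ IsNilpotent s := by
    intro hnil
    rw [Proj.mem_basicOpen] at hzs
    obtain ⟨k, hk⟩ := hnil
    exact hzs (z.isPrime.mem_of_pow_mem k (hk ▸ zero_mem _))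
  have hσ := homogOn_sigU u U hU n s hs
  -- a chart with non-nilpotent coefficient
  obtain ⟨c, hna⟩ : ∃ c : Chart L 𝒮L j (sigU u U s) n, ¬ IsNilpotent c.a := by
    by_contra hcon
    push Not at hcon
    apply hnil
    have key : ∀ x : (q ⁻¹ᵁ U : X.Opens), ∃ (V : X.Opens) (hVW : V ≤ q ⁻¹ᵁ U) (k : ℕ), x.1 ∈ V ∧
        ∀ k', k ≤ k' → rs 𝒮L hVW (sigU u U s ^ k') = 0 := by
      rintro ⟨x, hx⟩
      obtain ⟨c, hxc⟩ := exists_chart L hL hLq 𝒮L j hj (sigU u U s) n hσ x hx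
      obtain ⟨k, hk⟩ := hcon c
      refine ⟨c.V, c.hVW, k, hxc, ?_⟩
      intro k' hk'
      rw [map_pow, c.ha, mul_pow, ← map_pow, pow_eq_zero_of_le hk' hk, map_zero, zero_mul]
    choose V hVW k hxV hk using key
    obtain ⟨F, hF⟩ := (hc U hU).elim_finite_subcover (fun x : (q ⁻¹ᵁ U : X.Opens) => ((V x : X.Opens) : Set X))
      (fun x => (V x).isOpen) (fun x hx => Set.mem_iUnion.mpr ⟨⟨x, hx⟩, hxV ⟨x, hx⟩⟩)
    refine ⟨F.sup k, ?_⟩
    apply hinj U hU
    rw [map_zero, map_pow]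
    change sigU u U s ^ F.sup k = 0
    refine rs_ext 𝒮L (fun x : F => V x.1) (fun x => hVW x.1) ?_ _ _ ?_
    · intro y hy
      obtain ⟨x, hxF, hyx⟩ := Set.mem_iUnion₂.mp (hF hy)
      exact Opens.mem_iSup.mpr ⟨⟨x, hxF⟩, hyx⟩
    · rintro ⟨x, hxF⟩
      rw [map_zero]
      exact hk x _ (Finset.le_sup hxF)
  obtain ⟨x', hx'⟩ : ∃ x' : X, x' ∈ X.basicOpen c.a := by
    have hne : PrimeSpectrum.basicOpen c.a ≠ ⊥ := fun hbot =>
      hna ((PrimeSpectrum.basicOpen_eq_bot_iff c.a).mp hbot)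
    obtain ⟨v, hv⟩ := (Opens.ne_bot_iff_nonempty _).mp hne
    refine ⟨c.hV.fromSpec.base v, ?_⟩
    have : v ∈ c.hV.fromSpec ⁻¹ᵁ X.basicOpen c.a := by
      rw [c.hV.fromSpec_preimage_basicOpen c.a]; exact hv
    exact this
  have hgen := genAt_basicOpen_of_eq L hLq 𝒮L j hj (sigU u U s) n c.V c.hV c.hVW _ c.ht c.a c.ha
  have := isIso_pL L hLq 𝒮L j hj pL chartL hPL hL
  obtain ⟨w, hw⟩ := pL.surjective x'
  obtain ⟨w', hw'1, hw'2⟩ := exists_mem_preimage_of_genAt u L hL hLq j hj p chart pL chartL hPL r hr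
    U hU n hn s hs w (X.basicOpen c.a) (c.hV.basicOpen c.a) ((X.basicOpen_le c.a).trans c.hVW)
    (hw ▸ hx') hgen
  obtain ⟨z', hz', hzz'⟩ := hw'2
  refine ⟨r.base w', ?_, ⟨w', rfl⟩⟩
  rw [← hzz']
  exact hsO hz'

end Groth.Agent.Lib.Helper63.SymInvAmple
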