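import Mathlib
import Groth.Agent.Lib.Helper63.SymInvAmple
import Groth.Agent.Lib.Helper11.AmpleLocal

/-!
# From ampleness of `L|_W` to homogeneous sections of `𝒮L` over `W` with affine `X_σ` (helper63)
-/

set_option autoImplicit false
set_option linter.unusedSectionVars false
universe u

open CategoryTheory CategoryTheory.Limits AlgebraicGeometry TopologicalSpace Opposite
open scoped HomogeneousIdeal

namespace Groth.Agent.Lib.Helper63.SymInvAmpleRes

open Groth.Agent.Lib.Helper63.SymInvRing Groth.Agent.Lib.Helper63.SymInv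
  Groth.Agent.Lib.Helper63.SymInvDom Groth.Agent.Lib.Helper63.SymInvImmGen
  Groth.Agent.Lib.Helper63.SymInvLocal Groth.Agent.Lib.Helper63.SymInvExt
  Groth.Agent.Lib.Helper63.SymInvBridge
  Groth.Agent.Lib.Helper18.SymQC Groth.Agent.Lib.Helper45 Groth.Agent.Lib.Helper49
  Groth.Agent.Lib.Helper11.GenLocus

variable {X : Scheme.{u}} (L : X.Modules) (hL : PicF.IsInvertible L) (hLq : Coh.IsQCoh L)
  (𝒮L : RelProj.QCGrAlg X) (j : L ⟶ 𝒮L.toModule) (hj : RelProj.IsGrSymAlg L 𝒮L j)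

include hL hLq hj in
/-- A section of `(L|_W)^{⊗ n}` gives a homogeneous section `σ` of degree `n` of `𝒮L` over `W`
whose `X_σ` is the image of the locus where the section generates. -/
theorem exists_sigma_of_restrict (W : X.Opens) (n : ℕ)
    (s : Coh.structureModule (W : Scheme.{u}) ⟶ CohB1.tensorPow (L.restrict W.ι) n) :
    ∃ σ : 𝒮L.presheaf.obj (op W), HomogOn 𝒮L σ n ∧
      W.ι ''ᵁ (CohB1.genLocus _ s) = Xσ σ n := by
  obtain ⟨s', hs'⟩ : ∃ s' : Coh.structureModule (W : Scheme.{u}) ⟶ (CohB1.tensorPow L n).restrict W.ι,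
      s' = s ≫ (restrictTensorPowIso W.ι L n).hom := ⟨_, rfl⟩
  have hg : CohB1.genLocus _ s' = CohB1.genLocus _ s := by
    rw [hs']; exact genLocus_comp_iso s _
  have hW : W ≤ W.ι ''ᵁ ⊤ := (Scheme.Opens.ι_image_top W).ge
  obtain ⟨τ, hτ⟩ : ∃ τ : Γ(CohB1.tensorPow L n, W),
      τ = mres (CohB1.tensorPow L n) hW (ofRes W ⊤ (sec s' ⊤)) := ⟨_, rfl⟩
  obtain ⟨σ, hσ, hcoef⟩ := exists_sigma L hL hLq 𝒮L j hj n τ
  have hiff := isBasisOn_iff_le_Xσ L hL hLq 𝒮L j hj n τ σ hcoef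
  have key : ∀ V' : (W : Scheme.{u}).Opens,
      V' ≤ CohB1.genLocus _ s' ↔ W.ι ''ᵁ V' ≤ Xσ σ n := by
    intro V'
    have hV'W : W.ι ''ᵁ V' ≤ W := (W.ι.image_le_opensRange V').trans (le_of_eq W.opensRange_ι)
    rw [le_genLocus_iff_isBasisOn, ← hiff (W.ι ''ᵁ V') hV'W]
    have e : ofRes W V' (sec s' V') = mres (CohB1.tensorPow L n) hV'W τ := by
      rw [ofRes_sec, hτ, mres_mres]
    constructor
    · intro hb
      have := isBasisOn_of_restrict W.ι V' (ofRes W V' (sec s' V')) hb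
      exact isBasisOn_congr_section e this
    · intro hb
      have hb' := isBasisOn_congr_section e.symm hb
      exact isBasisOn_restrict' W.ι V' (ofRes W V' (sec s' V')) hb'
  refine ⟨σ, hσ, ?_⟩
  apply le_antisymm
  · rw [← hg]; exact (key _).mp le_rfl
  · have hle : Xσ σ n ≤ W := Xσ_le σ n
    have e2 : W.ι ''ᵁ (W.ι ⁻¹ᵁ Xσ σ n) = Xσ σ n := by
      rw [W.ι.image_preimage_eq_opensRange_inf, W.opensRange_ι, inf_eq_right.mpr hle]
    have h3 : W.ι ⁻¹ᵁ Xσ σ n ≤ CohB1.genLocus _ s' := (key _).mpr (le_of_eq e2)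
    rw [hg] at h3
    exact (le_of_eq e2.symm).trans (W.ι.image_mono h3)

include hL hLq hj in
/-- Ampleness of `L|_W` gives, at every point of `W`, a homogeneous section of positive degree of
`𝒮L` over `W` with `X_σ` an affine neighbourhood. -/
theorem exists_local_of_isAmple_restrict (W : X.Opens) (hamp : CohB1.IsAmple (L.restrict W.ι))
    (x : X) (hx : x ∈ W) :
    ∃ (n : ℕ) (_ : 0 < n) (σ : 𝒮L.presheaf.obj (op W)), HomogOn 𝒮L σ n ∧ x ∈ Xσ σ n ∧
      IsAffineOpen (Xσ σ n) := by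
  obtain ⟨-, -, h⟩ := hamp
  obtain ⟨n, s, hxs, haff⟩ := h ⟨x, hx⟩
  obtain ⟨σ, hσ, himg⟩ := exists_sigma_of_restrict L hL hLq 𝒮L j hj W (n + 1) s
  refine ⟨n + 1, Nat.succ_pos n, σ, hσ, ?_, ?_⟩
  · rw [← himg]; exact ⟨⟨x, hx⟩, hxs, rfl⟩
  · rw [← himg]; exact haff.image_of_isOpenImmersion W.ι

theorem isCompact_of_isAmple_restrict (W : X.Opens) (hamp : CohB1.IsAmple (L.restrict W.ι)) :
    IsCompact (W : Set X) := by
  have := hamp.2.1
  exact isCompact_iff_compactSpace.mpr this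

theorem isQuasiSeparated_of_isAmple_restrict (W : X.Opens) (hamp : CohB1.IsAmple (L.restrict W.ι)) :
    IsQuasiSeparated (W : Set X) := by
  have := quasiSeparatedSpace_of_isAmple hamp
  exact (isQuasiSeparated_iff_quasiSeparatedSpace _ W.isOpen).mpr this

end Groth.Agent.Lib.Helper63.SymInvAmpleRes
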