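import Mathlib
import Groth.Agent.Lib.Helper63.SymInvAmpleRes
import Groth.Agent.Lib.Helper17.UPGlue

/-!
# Homogeneous sections of `𝒮L = ⊕ L^{⊗ n}` as sections of `L^{⊗ n}` (helper63)

The converse of `SymInvBridge`: a homogeneous section of degree `n` of `𝒮L` over `W` gives a section of
`CohB1.tensorPow L n` over `W`, hence a section of `(L|_W)^{⊗ n}` whose locus of generation is `X_σ`.
-/

set_option autoImplicit false
set_option linter.unusedSectionVars false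
universe u

open CategoryTheory CategoryTheory.Limits AlgebraicGeometry TopologicalSpace Opposite
open scoped HomogeneousIdeal

namespace Groth.Agent.Lib.Helper63.SymInvBridgeRev

open Groth.Agent.Lib.Helper63.SymInvRing Groth.Agent.Lib.Helper63.SymInv
  Groth.Agent.Lib.Helper63.SymInvDom Groth.Agent.Lib.Helper63.SymInvImmGen
  Groth.Agent.Lib.Helper63.SymInvLocal Groth.Agent.Lib.Helper63.SymInvExt
  Groth.Agent.Lib.Helper63.SymInvBridge
  Groth.Agent.Lib.Helper18.SymQC Groth.Agent.Lib.Helper45 Groth.Agent.Lib.Helper49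
  Groth.Agent.Lib.Helper11.GenLocus Groth.Agent.Lib.Helper17.UPGlue

theorem IsPolyGr.coeff_unique {A R : Type u} [CommRing A] [CommRing R] {ℬ : ℕ → AddSubgroup R}
    [GradedRing ℬ] {φ : A →+* R} {z : R} (h : IsPolyGr ℬ φ z) (n : ℕ) (a b : A)
    (hab : φ a * z ^ n = φ b * z ^ n) : a = b := by
  have h1 : z ^ n * φ (a - b) = 0 := by
    rw [map_sub, mul_sub, mul_comm, hab, mul_comm, sub_self]
  have h2 := h.eq_zero_of_pow_mul_eq_zero n _ h1
  have h3 : φ (a - b) = φ 0 := by rw [h2, map_zero]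
  exact sub_eq_zero.mp (h.injective_φ h3)

variable {X : Scheme.{u}} (L : X.Modules) (hL : PicF.IsInvertible L) (hLq : Coh.IsQCoh L)
  (𝒮L : RelProj.QCGrAlg X) (j : L ⟶ 𝒮L.toModule) (hj : RelProj.IsGrSymAlg L 𝒮L j)

include hL hLq hj in
/-- A homogeneous section of degree `n` of `𝒮L` over `W` defines a section of `L^{⊗ n}` over `W` with
the same coefficients in all charts. -/
theorem exists_tau {W : X.Opens} (n : ℕ) (σ : 𝒮L.presheaf.obj (op W)) (hσ : HomogOn 𝒮L σ n) :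
    ∃ τ : Γ(CohB1.tensorPow L n, W),
      ∀ (V : X.Opens) (_ : IsAffineOpen V) (hVW : V ≤ W) (t : Γ(L, V)) (_ : IsBasisOn L V t)
        (a : Γ(X, V)), mres (CohB1.tensorPow L n) hVW τ = a • powSec L V t n →
          rs 𝒮L hVW σ = (𝒮L.str.app (op V)).hom a * zOf L 𝒮L j V t ^ n := by
  classical
  have hcoef : ∀ i : BChart L W, ∃ a : Γ(X, i.V),
      rs 𝒮L i.hVW σ = (𝒮L.str.app (op i.V)).hom a * zOf L 𝒮L j i.V i.t ^ n := fun i =>
    ((SymInv.isPolyGr L hLq 𝒮L j hj i.V i.hV i.t i.ht).mem_iff n _).mp (hσ i.V i.hV i.hVW)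
  choose a ha using hcoef
  have hcov : W ≤ ⨆ i : BChart L W, i.V := by
    intro x hx
    obtain ⟨V0, hxV0, t0, ht0⟩ := exists_isBasisOn_of_isInvertible hL x
    obtain ⟨V, hV, hxV, hVV0⟩ := (Opens.isBasis_iff_nbhd.mp X.isBasis_affineOpens)
      (show x ∈ V0 ⊓ W from ⟨hxV0, hx⟩)
    exact Opens.mem_iSup.mpr ⟨⟨V, hV, hVV0.trans inf_le_right, _, ht0.mono (hVV0.trans inf_le_left)⟩,
      hxV⟩
  have hcmp : ∀ (i i' : BChart L W) (V'' : X.Opens) (_ : IsAffineOpen V'') (h1 : V'' ≤ i.V)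
      (h2 : V'' ≤ i'.V),
      mres (CohB1.tensorPow L n) h1 (a i • powSec L i.V i.t n) =
        mres (CohB1.tensorPow L n) h2 (a i' • powSec L i'.V i'.t n) := by
    intro i i' V'' hV'' h1 h2
    have ht1 := i.ht.mono h1
    obtain ⟨c, hc⟩ := ht1.exists_eq_smul (mres L h2 i'.t)
    have hp := SymInv.isPolyGr L hLq 𝒮L j hj V'' hV'' _ ht1
    have e1 : rs 𝒮L (h1.trans i.hVW) σ =
        (𝒮L.str.app (op V'')).hom (fres h1 (a i)) * zOf L 𝒮L j V'' (mres L h1 i.t) ^ n := by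
      rw [← rs_rs 𝒮L i.hVW h1, ha i, map_mul, map_pow, rs_str, ← zOf_res]
      rfl
    have e2 : rs 𝒮L (h1.trans i.hVW) σ =
        (𝒮L.str.app (op V'')).hom (fres h2 (a i') * c ^ n) * zOf L 𝒮L j V'' (mres L h1 i.t) ^ n := by
      rw [← rs_rs 𝒮L i'.hVW h2, ha i', map_mul, map_pow, rs_str, ← zOf_res, ← hc, zOf_smul, mul_pow,
        map_mul, map_pow]
      change (𝒮L.str.app (op V'')).hom (fres h2 (a i')) * _ = _
      ring
    have e3 : fres h1 (a i) = fres h2 (a i') * c ^ n :=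
      IsPolyGr.coeff_unique hp n _ _ (e1.symm.trans e2)
    rw [mres_smul, mres_smul, powSec_res, powSec_res, ← hc, powSec_smul, e3, mul_smul]
  obtain ⟨τ, hτ⟩ := mres_glue (CohB1.tensorPow L n) (fun i : BChart L W => i.V) (fun i => i.hVW) hcov
    (fun i => a i • powSec L i.V i.t n) (by
      intro i i'
      refine mres_ext (CohB1.tensorPow L n)
        (fun V'' : {V'' : X.affineOpens // V''.1 ≤ i.V ⊓ i'.V} => V''.1.1) (fun V'' => V''.2) ?_ _ _ ?_
      · intro x hx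
        obtain ⟨V'', hV'', hxV'', hle⟩ := (Opens.isBasis_iff_nbhd.mp X.isBasis_affineOpens) hx
        exact Opens.mem_iSup.mpr ⟨⟨⟨V'', hV''⟩, hle⟩, hxV''⟩
      · rintro ⟨⟨V'', hV''⟩, hle⟩
        rw [mres_mres, mres_mres]
        exact hcmp i i' V'' hV'' _ _)
  refine ⟨τ, ?_⟩
  intro V hV hVW t ht a' ha'
  have h1 := hτ ⟨V, hV, hVW, t, ht⟩
  have e : a ⟨V, hV, hVW, t, ht⟩ = a' :=
    (isBasisOn_powSec ht n).eq_of_smul_eq (h1.symm.trans ha')
  rw [← e]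
  exact ha ⟨V, hV, hVW, t, ht⟩

include hL hLq hj in
/-- A homogeneous section `σ` of degree `n` of `𝒮L` over `W` comes from a section of `(L|_W)^{⊗ n}`
whose locus of generation is `X_σ`. -/
theorem exists_section_of_sigma (W : X.Opens) (n : ℕ) (σ : 𝒮L.presheaf.obj (op W))
    (hσ : HomogOn 𝒮L σ n) :
    ∃ s : Coh.structureModule (W : Scheme.{u}) ⟶ CohB1.tensorPow (L.restrict W.ι) n,
      W.ι ''ᵁ (CohB1.genLocus _ s) = Xσ σ n := by
  obtain ⟨τ, hcoef⟩ := exists_tau L hL hLq 𝒮L j hj n σ hσ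
  have hiff := isBasisOn_iff_le_Xσ L hL hLq 𝒮L j hj n τ σ hcoef
  have hW' : W.ι ''ᵁ ⊤ ≤ W := (Scheme.Opens.ι_image_top W).le
  obtain ⟨τ₀, hτ₀⟩ : ∃ τ₀ : Γ((CohB1.tensorPow L n).restrict W.ι, ⊤),
      ofRes W ⊤ τ₀ = mres (CohB1.tensorPow L n) hW' τ := ⟨mres (CohB1.tensorPow L n) hW' τ, rfl⟩
  obtain ⟨s', hs'⟩ : ∃ s' : Coh.structureModule (W : Scheme.{u}) ⟶ (CohB1.tensorPow L n).restrict W.ι,
      s' = homOfSection _ τ₀ := ⟨_, rfl⟩
  have hsec : sec s' ⊤ = τ₀ := by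
    rw [hs', sec_homOfSection]
    exact mres_self _ τ₀
  have hg : CohB1.genLocus _ (s' ≫ (restrictTensorPowIso W.ι L n).inv) = CohB1.genLocus _ s' :=
    genLocus_comp_iso s' (restrictTensorPowIso W.ι L n).symm
  have key : ∀ V' : (W : Scheme.{u}).Opens,
      V' ≤ CohB1.genLocus _ s' ↔ W.ι ''ᵁ V' ≤ Xσ σ n := by
    intro V'
    have hV'W : W.ι ''ᵁ V' ≤ W := (W.ι.image_le_opensRange V').trans (le_of_eq W.opensRange_ι)
    rw [le_genLocus_iff_isBasisOn, ← hiff (W.ι ''ᵁ V') hV'W]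
    have e : ofRes W V' (sec s' V') = mres (CohB1.tensorPow L n) hV'W τ := by
      rw [ofRes_sec, hsec, hτ₀, mres_mres]
    constructor
    · intro hb
      have := isBasisOn_of_restrict W.ι V' (ofRes W V' (sec s' V')) hb
      exact isBasisOn_congr_section e this
    · intro hb
      have hb' := isBasisOn_congr_section e.symm hb
      exact isBasisOn_restrict' W.ι V' (ofRes W V' (sec s' V')) hb'
  refine ⟨s' ≫ (restrictTensorPowIso W.ι L n).inv, ?_⟩
  rw [hg]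
  apply le_antisymm
  · exact (key _).mp le_rfl
  · have hle : Xσ σ n ≤ W := Xσ_le σ n
    have e2 : W.ι ''ᵁ (W.ι ⁻¹ᵁ Xσ σ n) = Xσ σ n := by
      rw [W.ι.image_preimage_eq_opensRange_inf, W.opensRange_ι, inf_eq_right.mpr hle]
    have h3 : W.ι ⁻¹ᵁ Xσ σ n ≤ CohB1.genLocus _ s' := (key _).mpr (le_of_eq e2)
    exact (le_of_eq e2.symm).trans (W.ι.image_mono h3)

include hL hLq hj in
/-- Ampleness of `L|_W` from homogeneous sections of `𝒮L` over `W` with affine `X_σ` covering `W`. -/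
theorem isAmple_restrict_of_local (W : X.Opens) (hWc : IsCompact (W : Set X))
    (H : ∀ x ∈ W, ∃ (n : ℕ) (_ : 0 < n) (σ : 𝒮L.presheaf.obj (op W)), HomogOn 𝒮L σ n ∧ x ∈ Xσ σ n ∧
      IsAffineOpen (Xσ σ n)) : CohB1.IsAmple (L.restrict W.ι) := by
  refine ⟨isInvertible_restrict' W.ι hL, isCompact_iff_compactSpace.mp hWc, ?_⟩
  rintro ⟨x, hx⟩
  obtain ⟨n, hn, σ, hσ, hxσ, haff⟩ := H x hx
  obtain ⟨m, rfl⟩ : ∃ m, n = m + 1 := ⟨n - 1, (Nat.sub_add_cancel hn).symm⟩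
  obtain ⟨s, hs⟩ := exists_section_of_sigma L hL hLq 𝒮L j hj W (m + 1) σ hσ
  refine ⟨m, s, ?_, ?_⟩
  · rw [← hs] at hxσ
    obtain ⟨y, hy, hyx⟩ := hxσ
    have : y = ⟨x, hx⟩ := Subtype.ext hyx
    rw [← this]
    exact hy
  · rw [← hs] at haff
    exact (Scheme.Hom.isAffineOpen_iff_of_isOpenImmersion W.ι).mp haff

end Groth.Agent.Lib.Helper63.SymInvBridgeRev
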