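import Mathlib
import Groth.Agent.Lib.Helper63.SymInvBridgeRev
import Groth.Agent.Lib.Helper63.SymInvImmFam

/-!
# `r_{L,ψ}` an immersion implies `L` relatively ample (EGA II 4.6.3 ⇐) (helper63)
-/

set_option autoImplicit false
set_option linter.unusedSectionVars false
universe u

open CategoryTheory CategoryTheory.Limits AlgebraicGeometry TopologicalSpace Opposite
open HomogeneousLocalization
open scoped HomogeneousIdeal

namespace Groth.Agent.Lib.Helper63.SymInvAmpleConv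

open Groth.Agent.Lib.Helper63.SymInvRing Groth.Agent.Lib.Helper63.SymInv
  Groth.Agent.Lib.Helper63.SymInvDom Groth.Agent.Lib.Helper63.SymInvMapGen
  Groth.Agent.Lib.Helper63.ProjBasis Groth.Agent.Lib.Helper63.ImmLocal
  Groth.Agent.Lib.Helper63.SymInvImmGen
  Groth.Agent.Lib.Helper63.SymInvLocal Groth.Agent.Lib.Helper63.SymInvExt
  Groth.Agent.Lib.Helper63.SymInvBridgeRev
  Groth.Agent.Lib.Helper18.SymQC Groth.Agent.Lib.Helper45 Groth.Agent.Lib.Helper49
  Groth.Agent.Lib.Helper42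

variable {X Y P : Scheme.{u}} {q : X ⟶ Y} {𝒮 : RelProj.QCGrAlg Y} {𝒮L : RelProj.QCGrAlg X}
  (u : RelProj.QGrHom q 𝒮 𝒮L)
  (L : X.Modules) (hL : PicF.IsInvertible L) (hLq : Coh.IsQCoh L)
  (j : L ⟶ 𝒮L.toModule) (hj : RelProj.IsGrSymAlg L 𝒮L j)
  (p : P ⟶ Y) (chart : ∀ (U : Y.Opens) (hU : IsAffineOpen U), (((p ⁻¹ᵁ U : P.Opens) : Scheme.{u}) ≅ Proj (𝒮.deg U hU)))
  (hP : RelProj.IsRelProj 𝒮 p chart)
  {PL : Scheme.{u}} (pL : PL ⟶ X)
  (chartL : ∀ (U : X.Opens) (hU : IsAffineOpen U), (((pL ⁻¹ᵁ U : PL.Opens) : Scheme.{u}) ≅ Proj (𝒮L.deg U hU)))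
  (hPL : RelProj.IsRelProj 𝒮L pL chartL)
  (r : ((RelProj.domQ u pL chartL : PL.Opens) : Scheme.{u}) ⟶ P)
  (hr : RelProj.IsProjQMapOn u p chart pL chartL (RelProj.domQ u pL chartL) r)

include hL hLq hj hP hPL hr in
/-- If `r` is everywhere defined and an immersion, every point of `q⁻¹(U)`, `U` affine, lies in an
affine `X_σ` with `σ` the image of a homogeneous section of positive degree of `𝒮` over `U`. -/
theorem exists_local_of_immersion (hdom : RelProj.domQ u pL chartL = ⊤) (himm : IsImmersion r)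
    (U : Y.Opens) (hU : IsAffineOpen U) (x : X) (hx : x ∈ q ⁻¹ᵁ U) :
    ∃ (n : ℕ) (_ : 0 < n) (s : 𝒮.presheaf.obj (op U)), s ∈ 𝒮.deg U hU n ∧
      x ∈ Xσ (sigU u U s) n ∧ IsAffineOpen (Xσ (sigU u U s) n) := by
  have hisoL := isIso_pL L hLq 𝒮L j hj pL chartL hPL hL
  obtain ⟨w, rfl⟩ := pL.surjective x
  have hwd : w ∈ RelProj.domQ u pL chartL := by rw [hdom]; exact Opens.mem_top _
  obtain ⟨w', hw'⟩ : ∃ w' : ((RelProj.domQ u pL chartL : PL.Opens) : Scheme.{u}),
      (RelProj.domQ u pL chartL).ι.base w' = w := ⟨⟨w, hwd⟩, rfl⟩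
  have hpt : r.base w' ∈ (RelProj.emb p chart U hU).opensRange := by
    rw [opensRange_emb 𝒮 p chart U hU]
    have h1 := congrArg (fun m => m.base w') (isProjQMapOn_comp_p u hP hPL r hr)
    have h2 : p.base (r.base w') = q.base (pL.base ((RelProj.domQ u pL chartL).ι.base w')) := h1
    change p.base (r.base w') ∈ U
    rw [h2, hw']
    exact hx
  obtain ⟨z, hz⟩ := hpt
  have hzO : z ∈ (RelProj.emb p chart U hU) ⁻¹ᵁ r.coborderRange := by
    change (RelProj.emb p chart U hU).base z ∈ r.coborderRange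
    rw [hz]
    exact subset_coborder ⟨w', rfl⟩
  obtain ⟨n, hn, s, hs, hzs, hsO⟩ := exists_homog_basicOpen (𝒮.deg U hU) _ z hzO
  have hle : OsU p chart U hU s ≤ r.coborderRange := by
    rintro _ ⟨z', hz', rfl⟩
    exact hsO hz'
  have hci : IsClosedImmersion (r ∣_ OsU p chart U hU s) :=
    isClosedImmersion_restrict_of_isImmersion r _ hle
  have haff := isAffineOpen_Xσ u L hL hLq j hj p chart hP pL chartL hPL r hr U hU n hn s hs hci
  have hmem := (SymInvImmGen.mem_preimage_iff u L hL hLq j hj p chart hP pL chartL hPL r hr U hU n hn s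
    hs w').mp ⟨z, hzs, hz⟩
  rw [hw'] at hmem
  exact ⟨n, hn, s, hs, hmem, haff⟩

include hL hLq hj hP hPL hr in
/-- EGA II 4.6.3 ⇐: `r` everywhere defined and an immersion, `q` quasi-compact ⟹ `L` is `q`-ample. -/
theorem isRelAmple_of_immersion [QuasiCompact q] (hdom : RelProj.domQ u pL chartL = ⊤)
    (himm : IsImmersion r) : RelAmple.IsRelAmple q L := by
  refine ⟨inferInstance, ?_⟩
  rintro ⟨U, hU⟩
  have hc : IsCompact ((q ⁻¹ᵁ U : X.Opens) : Set X) :=
    QuasiCompact.isCompact_preimage (f := q) _ U.isOpen hU.isCompact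
  refine isAmple_restrict_of_local L hL hLq 𝒮L j hj (q ⁻¹ᵁ U) hc ?_
  intro x hx
  obtain ⟨n, hn, s, hs, hxs, haff⟩ := exists_local_of_immersion u L hL hLq j hj p chart hP pL chartL hPL
    r hr hdom himm U hU x hx
  exact ⟨n, hn, sigU u U s, homogOn_sigU u U hU n s hs, hxs, haff⟩

include hL hLq hj hP hPL hr in
/-- If `r` is everywhere defined and its underlying map induces the topology of its source, every
point of `q⁻¹(U)`, `U` affine, lies in an affine `X_σ` with `σ` the image of a homogeneous section of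
positive degree of `𝒮` over `U`. -/
theorem exists_local_of_isInducing (hdom : RelProj.domQ u pL chartL = ⊤)
    (hind : Topology.IsInducing r.base)
    (U : Y.Opens) (hU : IsAffineOpen U) (x : X) (hx : x ∈ q ⁻¹ᵁ U) :
    ∃ (n : ℕ) (_ : 0 < n) (s : 𝒮.presheaf.obj (op U)), s ∈ 𝒮.deg U hU n ∧
      x ∈ Xσ (sigU u U s) n ∧ IsAffineOpen (Xσ (sigU u U s) n) := by
  have hisoL := isIso_pL L hLq 𝒮L j hj pL chartL hPL hL
  -- a chart of `L` at `x`
  obtain ⟨V0, hxV0, t0, ht0⟩ := exists_isBasisOn_of_isInvertible hL x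
  obtain ⟨A, hA, hxA, hAle⟩ := (Opens.isBasis_iff_nbhd.mp X.isBasis_affineOpens)
    (show x ∈ V0 ⊓ q ⁻¹ᵁ U from ⟨hxV0, hx⟩)
  have hA : IsAffineOpen A := hA
  have ht := ht0.mono (hAle.trans inf_le_left)
  have hAU : A ≤ q ⁻¹ᵁ U := hAle.trans inf_le_right
  obtain ⟨w, rfl⟩ := pL.surjective x
  have hwd : w ∈ RelProj.domQ u pL chartL := by rw [hdom]; exact Opens.mem_top _
  obtain ⟨w', hw'⟩ : ∃ w' : ((RelProj.domQ u pL chartL : PL.Opens) : Scheme.{u}),
      (RelProj.domQ u pL chartL).ι.base w' = w := ⟨⟨w, hwd⟩, rfl⟩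
  -- the open of `P` cutting out the preimage of `A`
  have hopen : IsOpen (((RelProj.domQ u pL chartL).ι ≫ pL) ⁻¹ᵁ A).1 :=
    (((RelProj.domQ u pL chartL).ι ≫ pL) ⁻¹ᵁ A).isOpen
  obtain ⟨O, hO, hOA⟩ := hind.isOpen_iff.mp hopen
  have hw'A : w' ∈ ((RelProj.domQ u pL chartL).ι ≫ pL) ⁻¹ᵁ A := by
    change pL.base ((RelProj.domQ u pL chartL).ι.base w') ∈ A
    rw [hw']; exact hxA
  have hrO : r.base w' ∈ O := by
    have : w' ∈ r.base ⁻¹' O := by rw [hOA]; exact hw'A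
    exact this
  have hpt : r.base w' ∈ (RelProj.emb p chart U hU).opensRange := by
    rw [opensRange_emb 𝒮 p chart U hU]
    have h1 := congrArg (fun m => m.base w') (isProjQMapOn_comp_p u hP hPL r hr)
    have h2 : p.base (r.base w') = q.base (pL.base ((RelProj.domQ u pL chartL).ι.base w')) := h1
    change p.base (r.base w') ∈ U
    rw [h2, hw']
    exact hx
  obtain ⟨z, hz⟩ := hpt
  have hzO : z ∈ (RelProj.emb p chart U hU) ⁻¹ᵁ (⟨O, hO⟩ : P.Opens) := by
    change (RelProj.emb p chart U hU).base z ∈ O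
    rw [hz]
    exact hrO
  obtain ⟨n, hn, s, hs, hzs, hsO⟩ := exists_homog_basicOpen (𝒮.deg U hU) _ z hzO
  have hmem := (SymInvImmGen.mem_preimage_iff u L hL hLq j hj p chart hP pL chartL hPL r hr U hU n hn s
    hs w').mp ⟨z, hzs, hz⟩
  rw [hw'] at hmem
  -- `X_σ ⊆ A`
  have hXA : Xσ (sigU u U s) n ≤ A := by
    intro y hy
    obtain ⟨w'', hw''1, hw''2⟩ := exists_mem_of_mem_Xσ u L hL hLq j hj p chart pL chartL hPL r hr U hU n hn
      s hs y hy
    obtain ⟨z', hz', hzz'⟩ := hw''2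
    have h1 : r.base w'' ∈ O := by
      rw [← hzz']; exact hsO hz'
    have h2 : w'' ∈ r.base ⁻¹' O := h1
    rw [hOA] at h2
    rw [← hw''1]
    exact h2
  obtain ⟨a, ha⟩ := ((SymInv.isPolyGr L hLq 𝒮L j hj A hA _ ht).mem_iff n _).mp
    (homogOn_sigU u U hU n s hs A hA hAU)
  have hX := Xσ_inf_chart L hLq 𝒮L j hj (sigU u U s) n A hA hAU _ ht a ha
  rw [inf_eq_left.mpr hXA] at hX
  refine ⟨n, hn, s, hs, hmem, ?_⟩
  rw [hX]
  exact hA.basicOpen a

include hL hLq hj hP hPL hr in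
/-- EGA II 4.6.3 c') ⟹ a): `r` everywhere defined and a homeomorphism onto its image, `q`
quasi-compact ⟹ `L` is `q`-ample. -/
theorem isRelAmple_of_isInducing [QuasiCompact q] (hdom : RelProj.domQ u pL chartL = ⊤)
    (hind : Topology.IsInducing r.base) : RelAmple.IsRelAmple q L := by
  refine ⟨inferInstance, ?_⟩
  rintro ⟨U, hU⟩
  have hc : IsCompact ((q ⁻¹ᵁ U : X.Opens) : Set X) :=
    QuasiCompact.isCompact_preimage (f := q) _ U.isOpen hU.isCompact
  refine isAmple_restrict_of_local L hL hLq 𝒮L j hj (q ⁻¹ᵁ U) hc ?_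
  intro x hx
  obtain ⟨n, hn, s, hs, hxs, haff⟩ := exists_local_of_isInducing u L hL hLq j hj p chart hP pL chartL hPL
    r hr hdom hind U hU x hx
  exact ⟨n, hn, sigU u U s, homogOn_sigU u U hU n s hs, hxs, haff⟩

end Groth.Agent.Lib.Helper63.SymInvAmpleConv
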