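import Mathlib
import Groth.Agent.Lib.Helper63.SymInvMapGen
import Groth.Agent.Lib.Helper63.ProjBasis

/-!
# Dominance of `r_{L,ψ}` and filtered colimits (EGA II 3.7.7) (helper63)
-/

set_option autoImplicit false
set_option linter.unusedSectionVars false
universe u

open CategoryTheory CategoryTheory.Limits AlgebraicGeometry TopologicalSpace Opposite
open HomogeneousLocalization
open scoped HomogeneousIdeal

namespace Groth.Agent.Lib.Helper63.SymInvColimDom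

open Groth.Agent.Lib.Helper63.SymInvRing Groth.Agent.Lib.Helper63.SymInv
  Groth.Agent.Lib.Helper63.SymInvDom Groth.Agent.Lib.Helper63.SymInvMapGen
  Groth.Agent.Lib.Helper63.ProjBasis
  Groth.Agent.Lib.Helper42

variable {X Y : Scheme.{u}} {q : X ⟶ Y} {𝒮L : RelProj.QCGrAlg X}
  (L : X.Modules) (hL : PicF.IsInvertible L) (hLq : Coh.IsQCoh L)
  (j : L ⟶ 𝒮L.toModule) (hj : RelProj.IsGrSymAlg L 𝒮L j)
  {PL : Scheme.{u}} (pL : PL ⟶ X)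
  (chartL : ∀ (U : X.Opens) (hU : IsAffineOpen U), (((pL ⁻¹ᵁ U : PL.Opens) : Scheme.{u}) ≅ Proj (𝒮L.deg U hU)))
  (hPL : RelProj.IsRelProj 𝒮L pL chartL)

include hL hLq hj hPL in
/-- Transfer of dominance between the morphisms `r` attached to different graded algebras on the
base, when non-nilpotent homogeneous sections of the target algebra come from the source algebras. -/
theorem dominant_transfer {I : Type*}
    (𝒮₁ : I → RelProj.QCGrAlg Y) (u₁ : ∀ i, RelProj.QGrHom q (𝒮₁ i) 𝒮L)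
    (P₁ : I → Scheme.{u}) (p₁ : ∀ i, P₁ i ⟶ Y)
    (chart₁ : ∀ i (U : Y.Opens) (hU : IsAffineOpen U), ((((p₁ i) ⁻¹ᵁ U : (P₁ i).Opens) : Scheme.{u}) ≅ Proj ((𝒮₁ i).deg U hU)))
    (hP₁ : ∀ i, RelProj.IsRelProj (𝒮₁ i) (p₁ i) (chart₁ i))
    (r₁ : ∀ i, ((RelProj.domQ (u₁ i) pL chartL : PL.Opens) : Scheme.{u}) ⟶ P₁ i)
    (hr₁ : ∀ i, RelProj.IsProjQMapOn (u₁ i) (p₁ i) (chart₁ i) pL chartL (RelProj.domQ (u₁ i) pL chartL) (r₁ i))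
    (hdom : ∀ i, IsDominant (r₁ i))
    {𝒮₂ : RelProj.QCGrAlg Y} (u₂ : RelProj.QGrHom q 𝒮₂ 𝒮L)
    {P₂ : Scheme.{u}} (p₂ : P₂ ⟶ Y)
    (chart₂ : ∀ (U : Y.Opens) (hU : IsAffineOpen U), (((p₂ ⁻¹ᵁ U : P₂.Opens) : Scheme.{u}) ≅ Proj (𝒮₂.deg U hU)))
    (r₂ : ((RelProj.domQ u₂ pL chartL : PL.Opens) : Scheme.{u}) ⟶ P₂)
    (hr₂ : RelProj.IsProjQMapOn u₂ p₂ chart₂ pL chartL (RelProj.domQ u₂ pL chartL) r₂)
    (H : ∀ (U : Y.Opens) (hU : IsAffineOpen U) (n : ℕ) (_ : 0 < n) (s₂ : 𝒮₂.presheaf.obj (op U))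
      (_ : s₂ ∈ 𝒮₂.deg U hU n) (_ : ¬ IsNilpotent s₂),
      ∃ (i : I) (s₁ : (𝒮₁ i).presheaf.obj (op U)), s₁ ∈ (𝒮₁ i).deg U hU n ∧ ¬ IsNilpotent s₁ ∧
        sigU (u₁ i) U s₁ = sigU u₂ U s₂) :
    IsDominant r₂ := by
  refine ⟨?_⟩
  rw [DenseRange, dense_iff_inter_open]
  rintro O hO ⟨pt, hpt⟩
  obtain ⟨U, hU, hptU, -⟩ := (Opens.isBasis_iff_nbhd.mp Y.isBasis_affineOpens)
    (Opens.mem_top (p₂.base pt))
  have hU : IsAffineOpen U := hU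
  have hptr : pt ∈ (RelProj.emb p₂ chart₂ U hU).opensRange := by
    rw [opensRange_emb 𝒮₂ p₂ chart₂ U hU]; exact hptU
  obtain ⟨z, rfl⟩ := hptr
  obtain ⟨n, hn, s, hs, hzs, hsO⟩ := exists_homog_basicOpen (𝒮₂.deg U hU)
    ((RelProj.emb p₂ chart₂ U hU) ⁻¹ᵁ ⟨O, hO⟩) z hpt
  have hnil : ¬ IsNilpotent s := by
    intro hnil
    rw [Proj.mem_basicOpen] at hzs
    obtain ⟨k, hk⟩ := hnil
    exact hzs (z.isPrime.mem_of_pow_mem k (hk ▸ zero_mem _))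
  obtain ⟨i, s₁, hs₁, hnil₁, hsig⟩ := H U hU n hn s hs hnil
  obtain ⟨z₁, hz₁⟩ := exists_mem_basicOpen_of_not_isNilpotent ((𝒮₁ i).deg U hU) hn s₁ hs₁ hnil₁
  obtain ⟨_, hO₁, ⟨w', rfl⟩⟩ := (hdom i).denseRange.inter_open_nonempty
    (((RelProj.emb (p₁ i) (chart₁ i) U hU) ''ᵁ Proj.basicOpen ((𝒮₁ i).deg U hU) s₁ : (P₁ i).Opens) : Set (P₁ i))
    ((RelProj.emb (p₁ i) (chart₁ i) U hU) ''ᵁ Proj.basicOpen ((𝒮₁ i).deg U hU) s₁).isOpen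
    ⟨(RelProj.emb (p₁ i) (chart₁ i) U hU).base z₁, z₁, hz₁, rfl⟩
  obtain ⟨V, hV, hVW, hxV, hgen⟩ := exists_genAt_of_mem_preimage (u₁ i) L hL hLq j hj (p₁ i) (chart₁ i)
    (hP₁ i) pL chartL hPL (r₁ i) (hr₁ i) U hU n hn s₁ hs₁ w' hO₁
  rw [hsig] at hgen
  obtain ⟨w'', -, hw''2⟩ := exists_mem_preimage_of_genAt u₂ L hL hLq j hj p₂ chart₂ pL chartL hPL r₂ hr₂
    U hU n hn s hs _ V hV hVW hxV hgen
  obtain ⟨z', hz', hzz'⟩ := hw''2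
  refine ⟨r₂.base w'', ?_, ⟨w'', rfl⟩⟩
  rw [← hzz']
  exact hsO hz'

/-- homogeneous sections of a filtered colimit come from homogeneous sections of the same degree -/
theorem exists_homog_preimage {𝒮 : RelProj.QCGrAlg Y} {Λ : Type*}
    (𝒮i : Λ → RelProj.QCGrAlg Y) (φ : ∀ i, (𝒮i i).toQCAlg ⟶ 𝒮.toQCAlg) (hφ : ∀ i, RelProj.IsGradedHom (φ i))
    (hsurj : ∀ (U : Y.Opens), IsAffineOpen U → ∀ x : 𝒮.presheaf.obj (op U),
      ∃ (i : Λ) (y : (𝒮i i).presheaf.obj (op U)), ((φ i).hom.app (op U)).hom y = x)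
    (U : Y.Opens) (hU : IsAffineOpen U) (d : ℕ) (f : 𝒮.presheaf.obj (op U)) (hf : f ∈ 𝒮.deg U hU d) :
    ∃ (i : Λ) (g : (𝒮i i).presheaf.obj (op U)), g ∈ (𝒮i i).deg U hU d ∧
      ((φ i).hom.app (op U)).hom g = f := by
  classical
  obtain ⟨i, g, hg⟩ := hsurj U hU f
  let ψ := RelProj.gradedHomAt (φ i) (hφ i) U hU
  have hgd : ψ (DirectSum.decompose ((𝒮i i).deg U hU) g d : (𝒮i i).presheaf.obj (op U)) = f := by
    rw [GradedRingHom.map_directSumDecompose]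
    change ((DirectSum.decompose (𝒮.deg U hU) (((φ i).hom.app (op U)).hom g) d : _) : 𝒮.presheaf.obj (op U)) = f
    rw [hg, DirectSum.decompose_of_mem_same _ hf]
  exact ⟨i, _, SetLike.coe_mem _, hgd⟩

end Groth.Agent.Lib.Helper63.SymInvColimDom
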