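import Mathlib
import Groth.Agent.Lib.Helper63.SymInvColimDom
import Groth.Agent.Lib.Helper63.SymInvImmFam

/-!
# Transfer of dominance of `r_{L,ψ}` along (TN)-surjective / (TN)-injective homomorphisms (helper63)
-/

set_option autoImplicit false
set_option linter.unusedSectionVars false
universe u

open CategoryTheory CategoryTheory.Limits AlgebraicGeometry TopologicalSpace Opposite
open HomogeneousLocalization
open scoped HomogeneousIdeal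

namespace Groth.Agent.Lib.Helper63.SymInvDomTransfer

open Groth.Agent.Lib.Helper63.SymInvRing Groth.Agent.Lib.Helper63.SymInv
  Groth.Agent.Lib.Helper63.SymInvDom Groth.Agent.Lib.Helper63.SymInvMapGen
  Groth.Agent.Lib.Helper63.ProjBasis Groth.Agent.Lib.Helper63.SymInvImmFam
  Groth.Agent.Lib.Helper42

variable {X Y : Scheme.{u}} {q : X ⟶ Y} {𝒮L : RelProj.QCGrAlg X}
  (L : X.Modules) (hL : PicF.IsInvertible L) (hLq : Coh.IsQCoh L)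
  (j : L ⟶ 𝒮L.toModule) (hj : RelProj.IsGrSymAlg L 𝒮L j)
  {PL : Scheme.{u}} (pL : PL ⟶ X)
  (chartL : ∀ (U : X.Opens) (hU : IsAffineOpen U), (((pL ⁻¹ᵁ U : PL.Opens) : Scheme.{u}) ≅ Proj (𝒮L.deg U hU)))
  (hPL : RelProj.IsRelProj 𝒮L pL chartL)

include hL hLq hj hPL in
/-- Transfer of dominance, allowing a change of the homogeneous section (e.g. to a power). -/
theorem dominant_transfer'
    {𝒮₁ : RelProj.QCGrAlg Y} (u₁ : RelProj.QGrHom q 𝒮₁ 𝒮L)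
    {P₁ : Scheme.{u}} (p₁ : P₁ ⟶ Y)
    (chart₁ : ∀ (U : Y.Opens) (hU : IsAffineOpen U), (((p₁ ⁻¹ᵁ U : P₁.Opens) : Scheme.{u}) ≅ Proj (𝒮₁.deg U hU)))
    (hP₁ : RelProj.IsRelProj 𝒮₁ p₁ chart₁)
    (r₁ : ((RelProj.domQ u₁ pL chartL : PL.Opens) : Scheme.{u}) ⟶ P₁)
    (hr₁ : RelProj.IsProjQMapOn u₁ p₁ chart₁ pL chartL (RelProj.domQ u₁ pL chartL) r₁)
    (hdom : IsDominant r₁)
    {𝒮₂ : RelProj.QCGrAlg Y} (u₂ : RelProj.QGrHom q 𝒮₂ 𝒮L)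
    {P₂ : Scheme.{u}} (p₂ : P₂ ⟶ Y)
    (chart₂ : ∀ (U : Y.Opens) (hU : IsAffineOpen U), (((p₂ ⁻¹ᵁ U : P₂.Opens) : Scheme.{u}) ≅ Proj (𝒮₂.deg U hU)))
    (r₂ : ((RelProj.domQ u₂ pL chartL : PL.Opens) : Scheme.{u}) ⟶ P₂)
    (hr₂ : RelProj.IsProjQMapOn u₂ p₂ chart₂ pL chartL (RelProj.domQ u₂ pL chartL) r₂)
    (H : ∀ (U : Y.Opens) (hU : IsAffineOpen U) (n : ℕ) (_ : 0 < n) (s₂ : 𝒮₂.presheaf.obj (op U))
      (_ : s₂ ∈ 𝒮₂.deg U hU n) (_ : ¬ IsNilpotent s₂),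
      ∃ (n' : ℕ) (_ : 0 < n') (s₁ : 𝒮₁.presheaf.obj (op U)) (s₂' : 𝒮₂.presheaf.obj (op U)),
        s₁ ∈ 𝒮₁.deg U hU n' ∧ ¬ IsNilpotent s₁ ∧ s₂' ∈ 𝒮₂.deg U hU n' ∧
        sigU u₁ U s₁ = sigU u₂ U s₂' ∧
        Proj.basicOpen (𝒮₂.deg U hU) s₂' ≤ Proj.basicOpen (𝒮₂.deg U hU) s₂) :
    IsDominant r₂ := by
  refine ⟨?_⟩
  rw [DenseRange, dense_iff_inter_open]
  rintro O hO ⟨pt, hpt⟩
  obtain ⟨U, hU, hptU, -⟩ := (Opens.isBasis_iff_nbhd.mp Y.isBasis_affineOpens)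
    (Opens.mem_top (p₂.base pt))
  have hU : IsAffineOpen U := hU
  have hptr : pt ∈ (RelProj.emb p₂ chart₂ U hU).opensRange := by
    rw [opensRange_emb 𝒮₂ p₂ chart₂ U hU]; exact hptU
  obtain ⟨z, rfl⟩ := hptr
  obtain ⟨n, hn, s, hs, hzs, hsO⟩ := exists_homog_basicOpen (𝒮₂.deg U hU)
    ((RelProj.emb p₂ chart₂ U hU) ⁻¹ᵁ ⟨O, hO⟩) z hpt
  have hnil : ¬ IsNilpotent s := by
    intro hnil
    rw [Proj.mem_basicOpen] at hzs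
    obtain ⟨k, hk⟩ := hnil
    exact hzs (z.isPrime.mem_of_pow_mem k (hk ▸ zero_mem _))
  obtain ⟨n', hn', s₁, s₂', hs₁, hnil₁, hs₂', hsig, hle⟩ := H U hU n hn s hs hnil
  obtain ⟨z₁, hz₁⟩ := exists_mem_basicOpen_of_not_isNilpotent (𝒮₁.deg U hU) hn' s₁ hs₁ hnil₁
  obtain ⟨_, hO₁, ⟨w', rfl⟩⟩ := hdom.denseRange.inter_open_nonempty
    (((RelProj.emb p₁ chart₁ U hU) ''ᵁ Proj.basicOpen (𝒮₁.deg U hU) s₁ : P₁.Opens) : Set P₁)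
    ((RelProj.emb p₁ chart₁ U hU) ''ᵁ Proj.basicOpen (𝒮₁.deg U hU) s₁).isOpen
    ⟨(RelProj.emb p₁ chart₁ U hU).base z₁, z₁, hz₁, rfl⟩
  obtain ⟨V, hV, hVW, hxV, hgen⟩ := exists_genAt_of_mem_preimage u₁ L hL hLq j hj p₁ chart₁
    hP₁ pL chartL hPL r₁ hr₁ U hU n' hn' s₁ hs₁ w' hO₁
  rw [hsig] at hgen
  obtain ⟨w'', -, hw''2⟩ := exists_mem_preimage_of_genAt u₂ L hL hLq j hj p₂ chart₂ pL chartL hPL r₂ hr₂
    U hU n' hn' s₂' hs₂' _ V hV hVW hxV hgen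
  obtain ⟨z', hz', hzz'⟩ := hw''2
  refine ⟨r₂.base w'', ?_, ⟨w'', rfl⟩⟩
  rw [← hzz']
  exact hsO (hle hz')

section comp

variable {𝒮 𝒯 : RelProj.QCGrAlg Y} (u : RelProj.QGrHom q 𝒮 𝒮L)
  {P : Scheme.{u}} (p : P ⟶ Y)
  (chart : ∀ (U : Y.Opens) (hU : IsAffineOpen U), (((p ⁻¹ᵁ U : P.Opens) : Scheme.{u}) ≅ Proj (𝒮.deg U hU)))
  (hP : RelProj.IsRelProj 𝒮 p chart)
  (r : ((RelProj.domQ u pL chartL : PL.Opens) : Scheme.{u}) ⟶ P)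
  (hr : RelProj.IsProjQMapOn u p chart pL chartL (RelProj.domQ u pL chartL) r)
  (v : 𝒯.toQCAlg ⟶ 𝒮.toQCAlg) (hv : RelProj.IsGradedHom v)
  (u' : RelProj.QGrHom q 𝒯 𝒮L) (hu' : ∀ U : Y.Opens, u'.app U = v.hom.app (op U) ≫ u.app U)
  {P' : Scheme.{u}} (p' : P' ⟶ Y)
  (chart' : ∀ (U : Y.Opens) (hU : IsAffineOpen U), (((p' ⁻¹ᵁ U : P'.Opens) : Scheme.{u}) ≅ Proj (𝒯.deg U hU)))
  (hP' : RelProj.IsRelProj 𝒯 p' chart')
  (r' : ((RelProj.domQ u' pL chartL : PL.Opens) : Scheme.{u}) ⟶ P')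
  (hr' : RelProj.IsProjQMapOn u' p' chart' pL chartL (RelProj.domQ u' pL chartL) r')

include hL hLq hj hPL hr hv hu' hP' hr' in
/-- EGA II 3.7.6 (i): `v` (TN)-surjective and `r'` dominant imply `r` dominant. -/
theorem dominant_of_tnSurjective
    (hTN : ∃ n : ℕ, ∀ k, n ≤ k → ∀ (U : Y.Opens) (hU : IsAffineOpen U), ∀ y ∈ 𝒮.deg U hU k,
      ∃ x ∈ 𝒯.deg U hU k, (v.hom.app (op U)).hom x = y) (hdom : IsDominant r') :
    IsDominant r := by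
  obtain ⟨n₀, hn₀⟩ := hTN
  refine dominant_transfer' L hL hLq j hj pL chartL hPL u' p' chart' hP' r' hr' hdom u p chart r hr ?_
  intro U hU n hn s hs hnil
  have hk : n₀ ≤ (n₀ + 1) * n := le_trans (Nat.le_succ n₀) (Nat.le_mul_of_pos_right _ hn)
  have hsk : s ^ (n₀ + 1) ∈ 𝒮.deg U hU ((n₀ + 1) * n) := by
    have := SetLike.pow_mem_graded (n₀ + 1) hs
    rwa [smul_eq_mul] at this
  obtain ⟨x, hx, hvx⟩ := hn₀ _ hk U hU _ hsk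
  refine ⟨(n₀ + 1) * n, by positivity, x, s ^ (n₀ + 1), hx, ?_, hsk, ?_, ?_⟩
  · intro hxn
    apply hnil
    have h1 : IsNilpotent (s ^ (n₀ + 1)) := hvx ▸ hxn.map (v.hom.app (op U)).hom
    obtain ⟨m, hm⟩ := h1
    exact ⟨(n₀ + 1) * m, by rw [pow_mul]; exact hm⟩
  · rw [← hvx]
    exact (sigU_comp u' u v hu' U x).symm
  · rw [Proj.basicOpen_pow _ _ _ (Nat.succ_pos n₀)]

include hL hLq hj hPL hP hr hv hu' hr' in
/-- EGA II 3.7.6 (i): `v` (TN)-injective and `r` dominant imply `r'` dominant. -/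
theorem dominant_of_tnInjective
    (hTN : ∃ n : ℕ, ∀ k, n ≤ k → ∀ (U : Y.Opens) (hU : IsAffineOpen U), ∀ x ∈ 𝒯.deg U hU k,
      (v.hom.app (op U)).hom x = 0 → x = 0) (hdom : IsDominant r) :
    IsDominant r' := by
  obtain ⟨n₀, hn₀⟩ := hTN
  refine dominant_transfer' L hL hLq j hj pL chartL hPL u p chart hP r hr hdom u' p' chart' r' hr' ?_
  intro U hU n hn s hs hnil
  have hsk : s ^ (n₀ + 1) ∈ 𝒯.deg U hU ((n₀ + 1) * n) := by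
    have := SetLike.pow_mem_graded (n₀ + 1) hs
    rwa [smul_eq_mul] at this
  refine ⟨(n₀ + 1) * n, by positivity, (v.hom.app (op U)).hom (s ^ (n₀ + 1)), s ^ (n₀ + 1),
    hv U hU _ _ hsk, ?_, hsk, ?_, ?_⟩
  · rintro ⟨m, hm⟩
    apply hnil
    have hm' : ((v.hom.app (op U)).hom (s ^ (n₀ + 1))) ^ (m + 1) = 0 := by rw [pow_succ, hm, zero_mul]
    rw [← map_pow] at hm'
    have hdeg : (s ^ (n₀ + 1)) ^ (m + 1) ∈ 𝒯.deg U hU ((m + 1) * ((n₀ + 1) * n)) := by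
      have := SetLike.pow_mem_graded (m + 1) hsk
      rwa [smul_eq_mul] at this
    have h1 : n₀ ≤ (n₀ + 1) * n := le_trans (Nat.le_succ n₀) (Nat.le_mul_of_pos_right _ hn)
    have hk : n₀ ≤ (m + 1) * ((n₀ + 1) * n) := le_trans h1 (Nat.le_mul_of_pos_left _ (Nat.succ_pos m))
    have h0 := hn₀ _ hk U hU _ hdeg hm'
    exact ⟨(n₀ + 1) * (m + 1), by rw [pow_mul]; exact h0⟩
  · exact sigU_comp u' u v hu' U _
  · rw [Proj.basicOpen_pow _ _ _ (Nat.succ_pos n₀)]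

end comp

end Groth.Agent.Lib.Helper63.SymInvDomTransfer
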