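import Mathlib
import Groth.Agent.Lib.Helper63.SymInvImmFam
import Groth.Agent.Lib.Helper63.SymInvColimDom

/-!
# `r_{L,ψ}` everywhere defined and an immersion, for a filtered colimit of graded algebras
(EGA II 3.7.7, third part) (helper63)
-/

set_option autoImplicit false
set_option linter.unusedSectionVars false
universe u

open CategoryTheory CategoryTheory.Limits AlgebraicGeometry TopologicalSpace Opposite
open HomogeneousLocalization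
open scoped HomogeneousIdeal

namespace Groth.Agent.Lib.Helper63.SymInvImmColim

open Groth.Agent.Lib.Helper63.SymInvRing Groth.Agent.Lib.Helper63.SymInv
  Groth.Agent.Lib.Helper63.SymInvDom Groth.Agent.Lib.Helper63.SymInvMapGen
  Groth.Agent.Lib.Helper63.SymInvImmGen Groth.Agent.Lib.Helper63.SymInvImmFam
  Groth.Agent.Lib.Helper63.SymInvColimDom
  Groth.Agent.Lib.Helper42

variable {X Y : Scheme.{u}} {q : X ⟶ Y} {𝒮L : RelProj.QCGrAlg X}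

/-- a finite family of eventually true monotone predicates on a directed set has a common index -/
theorem exists_forall_of_directed {Λ : Type*} [Preorder Λ] [IsDirected Λ (· ≤ ·)] [Nonempty Λ]
    {κ : Type*} [Finite κ] (Q : κ → Λ → Prop) (hmono : ∀ k i j, i ≤ j → Q k i → Q k j)
    (hex : ∀ k, ∃ i, Q k i) : ∃ i, ∀ k, Q k i := by
  classical
  choose f hf using hex
  cases nonempty_fintype κ
  obtain ⟨M, hM⟩ := Finset.exists_le (Finset.univ.image f)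
  exact ⟨M, fun k => hmono k _ _ (hM _ (Finset.mem_image_of_mem f (Finset.mem_univ k))) (hf k)⟩

section subalg

variable {𝒮 : RelProj.QCGrAlg Y} (u : RelProj.QGrHom q 𝒮 𝒮L)
  (U : Y.Opens) (hU : IsAffineOpen U) (n : ℕ) (s : 𝒮.presheaf.obj (op U)) (hs : s ∈ 𝒮.deg U hU n)
  (V : X.Opens) (hVU : V ≤ q ⁻¹ᵁ U)

include hs in
theorem algebraMap_mem_fracSet (a : Γ(Y, U)) :
    (q.appLE U V hVU).hom a ∈ FracSet u U hU n s V hVU := by
  refine ⟨1, one_pos, (𝒮.str.app (op U)).hom a * s, ?_, ?_⟩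
  · have h := SetLike.mul_mem_graded (𝒮.str_mem U hU a) hs
    rw [zero_add] at h
    rw [one_mul]
    exact h
  · rw [pow_one, map_mul, u_str_appLE]

include hs in
theorem add_mem_fracSet (t₁ t₂ : X.presheaf.obj (op V)) (h₁ : t₁ ∈ FracSet u U hU n s V hVU)
    (h₂ : t₂ ∈ FracSet u U hU n s V hVU) : t₁ + t₂ ∈ FracSet u U hU n s V hVU := by
  obtain ⟨m₁, hm₁, s₁, hs₁, e₁⟩ := h₁
  obtain ⟨m₂, hm₂, s₂, hs₂, e₂⟩ := h₂
  refine ⟨m₁ + m₂, by omega, s₁ * s ^ m₂ + s₂ * s ^ m₁, ?_, ?_⟩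
  · have h1 := SetLike.mul_mem_graded hs₁ (SetLike.pow_mem_graded m₂ hs)
    have h2 := SetLike.mul_mem_graded hs₂ (SetLike.pow_mem_graded m₁ hs)
    have e1 : m₁ * n + m₂ • n = (m₁ + m₂) * n := by simp only [smul_eq_mul]; ring
    have e2 : m₂ * n + m₁ • n = (m₁ + m₂) * n := by simp only [smul_eq_mul]; ring
    rw [e1] at h1
    rw [e2] at h2
    exact add_mem h1 h2
  · have hR : (u.appLE U V hVU).hom (s₁ * s ^ m₂ + s₂ * s ^ m₁) =
        (u.appLE U V hVU).hom s₁ * (u.appLE U V hVU).hom s ^ m₂ +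
          (u.appLE U V hVU).hom s₂ * (u.appLE U V hVU).hom s ^ m₁ := by
      simp only [map_add, map_mul, map_pow]
    rw [hR, ← e₁, ← e₂, map_add]
    ring

include hs in
theorem mul_mem_fracSet (t₁ t₂ : X.presheaf.obj (op V)) (h₁ : t₁ ∈ FracSet u U hU n s V hVU)
    (h₂ : t₂ ∈ FracSet u U hU n s V hVU) : t₁ * t₂ ∈ FracSet u U hU n s V hVU := by
  obtain ⟨m₁, hm₁, s₁, hs₁, e₁⟩ := h₁
  obtain ⟨m₂, hm₂, s₂, hs₂, e₂⟩ := h₂
  refine ⟨m₁ + m₂, by omega, s₁ * s₂, ?_, ?_⟩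
  · have h1 := SetLike.mul_mem_graded hs₁ hs₂
    have e1 : m₁ * n + m₂ * n = (m₁ + m₂) * n := by ring
    rwa [e1] at h1
  · rw [map_mul, map_mul, ← e₁, ← e₂]
    ring

include hs in
/-- If generators of `Γ(V)` over `Γ(U)` are fractions, every function on `V` is a fraction. -/
theorem fracSet_eq_univ (G : Set (X.presheaf.obj (op V))) (hG : G ⊆ FracSet u U hU n s V hVU)
    (hgen : @Algebra.adjoin Γ(Y, U) Γ(X, V) _ _ (q.appLE U V hVU).hom.toAlgebra G = ⊤)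
    (t : X.presheaf.obj (op V)) : t ∈ FracSet u U hU n s V hVU := by
  let _ := (q.appLE U V hVU).hom.toAlgebra
  let T : Subalgebra Γ(Y, U) Γ(X, V) :=
    { carrier := FracSet u U hU n s V hVU
      mul_mem' := fun {a b} ha hb => mul_mem_fracSet u U hU n s hs V hVU a b ha hb
      add_mem' := fun {a b} ha hb => add_mem_fracSet u U hU n s hs V hVU a b ha hb
      one_mem' := by
        have := algebraMap_mem_fracSet u U hU n s hs V hVU 1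
        rwa [map_one] at this
      zero_mem' := by
        have := algebraMap_mem_fracSet u U hU n s hs V hVU 0
        rwa [map_zero] at this
      algebraMap_mem' := fun a => algebraMap_mem_fracSet u U hU n s hs V hVU a }
  have hle : Algebra.adjoin Γ(Y, U) G ≤ T := Algebra.adjoin_le hG
  rw [hgen] at hle
  exact hle (Algebra.mem_top (R := Γ(Y, U)) (x := t))

end subalg

section colim

variable {𝒮 : RelProj.QCGrAlg Y} (u : RelProj.QGrHom q 𝒮 𝒮L)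
  (Λ : Type u) [Preorder Λ] [IsDirected Λ (· ≤ ·)] [Nonempty Λ]
  (𝒮i : Λ → RelProj.QCGrAlg Y) (φ : ∀ i, (𝒮i i).toQCAlg ⟶ 𝒮.toQCAlg) (hφ : ∀ i, RelProj.IsGradedHom (φ i))
  (t : ∀ i j, i ≤ j → ((𝒮i i).toQCAlg ⟶ (𝒮i j).toQCAlg)) (ht : ∀ i j (h : i ≤ j), RelProj.IsGradedHom (t i j h))
  (hφt : ∀ i j (h : i ≤ j), t i j h ≫ φ j = φ i)
  (hsurj : ∀ (U : Y.Opens), IsAffineOpen U → ∀ x : 𝒮.presheaf.obj (op U),
    ∃ (i : Λ) (y : (𝒮i i).presheaf.obj (op U)), ((φ i).hom.app (op U)).hom y = x)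
  (ui : ∀ i, RelProj.QGrHom q (𝒮i i) 𝒮L) (hui : ∀ i (U : Y.Opens), (ui i).app U = (φ i).hom.app (op U) ≫ u.app U)

include hφt hui in
theorem hij (i j : Λ) (h : i ≤ j) (U : Y.Opens) :
    (ui i).app U = (t i j h).hom.app (op U) ≫ (ui j).app U := by
  rw [hui i U, hui j U, ← hφt i j h]
  rfl

/-- fractions with a fixed denominator `f` -/
def FracSetσ {𝒮' : RelProj.QCGrAlg Y} (u' : RelProj.QGrHom q 𝒮' 𝒮L) (U : Y.Opens) (hU : IsAffineOpen U)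
    (n : ℕ) (V : X.Opens) (hVU : V ≤ q ⁻¹ᵁ U) (f : 𝒮L.presheaf.obj (op V)) :
    Set (X.presheaf.obj (op V)) :=
  {tt | ∃ (m : ℕ) (_ : 0 < m) (s' : 𝒮'.presheaf.obj (op U)) (_ : s' ∈ 𝒮'.deg U hU (m * n)),
    (𝒮L.str.app (op V)).hom tt * f ^ m = (u'.appLE U V hVU).hom s'}

theorem fracσ_mono {𝒮₁ 𝒮₂ : RelProj.QCGrAlg Y} (u₁ : RelProj.QGrHom q 𝒮₁ 𝒮L) (u₂ : RelProj.QGrHom q 𝒮₂ 𝒮L)
    (τ : 𝒮₁.toQCAlg ⟶ 𝒮₂.toQCAlg) (hτ : RelProj.IsGradedHom τ)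
    (h12 : ∀ U : Y.Opens, u₁.app U = τ.hom.app (op U) ≫ u₂.app U)
    (U : Y.Opens) (hU : IsAffineOpen U) (n : ℕ) (V : X.Opens) (hVU : V ≤ q ⁻¹ᵁ U)
    (f : 𝒮L.presheaf.obj (op V)) (tt : X.presheaf.obj (op V))
    (h : tt ∈ FracSetσ u₁ U hU n V hVU f) : tt ∈ FracSetσ u₂ U hU n V hVU f := by
  obtain ⟨m, hm, s', hs', e⟩ := h
  refine ⟨m, hm, (τ.hom.app (op U)).hom s', hτ U hU _ s' hs', ?_⟩
  rw [appLE_comp u₁ u₂ τ h12]
  exact e

include hφ ht hφt hsurj hui in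
theorem fracσ_colim (U : Y.Opens) (hU : IsAffineOpen U) (n : ℕ) (V : X.Opens) (hVU : V ≤ q ⁻¹ᵁ U)
    (f : 𝒮L.presheaf.obj (op V)) (tt : X.presheaf.obj (op V))
    (h : tt ∈ FracSetσ u U hU n V hVU f) : ∃ i, tt ∈ FracSetσ (ui i) U hU n V hVU f := by
  obtain ⟨m, hm, s', hs', e⟩ := h
  obtain ⟨i, g, hg, hgs⟩ := exists_homog_preimage 𝒮i φ hφ hsurj U hU (m * n) s' hs'
  refine ⟨i, m, hm, g, hg, ?_⟩
  rw [e, ← hgs]
  exact appLE_comp (ui i) u (φ i) (hui i) U V hVU g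

variable [LocallyOfFiniteType q]

/-- the property, at the index `i`, that `s` lifts to a section whose fractions exhaust `Γ(V)` -/
def PAt (U : Y.Opens) (hU : IsAffineOpen U) (n : ℕ) (s : 𝒮.presheaf.obj (op U)) (V : X.Opens)
    (hVU : V ≤ q ⁻¹ᵁ U) (i : Λ) : Prop :=
  ∃ si : (𝒮i i).presheaf.obj (op U), si ∈ (𝒮i i).deg U hU n ∧ sigU (ui i) U si = sigU u U s ∧
    ∀ tt : X.presheaf.obj (op V), tt ∈ FracSet (ui i) U hU n si V hVU

include ht hφt hui in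
theorem pAt_mono (U : Y.Opens) (hU : IsAffineOpen U) (n : ℕ) (s : 𝒮.presheaf.obj (op U)) (V : X.Opens)
    (hVU : V ≤ q ⁻¹ᵁ U) (i k : Λ) (hik : i ≤ k) (h : PAt u Λ 𝒮i ui U hU n s V hVU i) :
    PAt u Λ 𝒮i ui U hU n s V hVU k := by
  obtain ⟨si, hsi, hsig, hfr⟩ := h
  have h12 := hij u Λ 𝒮i φ t hφt ui hui i k hik
  refine ⟨((t i k hik).hom.app (op U)).hom si, ht i k hik U hU n si hsi, ?_, ?_⟩
  · rw [sigU_comp (ui i) (ui k) (t i k hik) h12, hsig]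
  · intro tt
    exact frac_mono (ui i) (ui k) (t i k hik) (ht i k hik) h12 U hU n si V hVU tt (hfr tt)

include hφ ht hφt hsurj hui in
theorem exists_pAt (U : Y.Opens) (hU : IsAffineOpen U) (n : ℕ) (s : 𝒮.presheaf.obj (op U))
    (hs : s ∈ 𝒮.deg U hU n) (V : X.Opens) (hV : IsAffineOpen V)
    (hVU : V ≤ q ⁻¹ᵁ U) (hfrac : ∀ tt : X.presheaf.obj (op V), tt ∈ FracSet u U hU n s V hVU) :
    ∃ i, PAt u Λ 𝒮i ui U hU n s V hVU i := by
  classical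
  obtain ⟨i₀, s₀, hs₀, hφs₀⟩ := exists_homog_preimage 𝒮i φ hφ hsurj U hU n s hs
  have hft : (q.appLE U V hVU).hom.FiniteType := q.finiteType_appLE hU hV hVU
  obtain ⟨G, hG⟩ := hft.out
  obtain ⟨f, hf⟩ : ∃ f, f = (u.appLE U V hVU).hom s := ⟨_, rfl⟩
  -- a common index for the lift and the generators
  obtain ⟨Q, hQ⟩ : ∃ Q : Option G → Λ → Prop, Q = fun k i =>
      Option.elim k (i₀ ≤ i) (fun g : G => (g : X.presheaf.obj (op V)) ∈ FracSetσ (ui i) U hU n V hVU f) :=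
    ⟨_, rfl⟩
  have hQn : ∀ i, Q none i ↔ i₀ ≤ i := fun i => by rw [hQ]; rfl
  have hQs : ∀ (g : G) i, Q (some g) i ↔ (g : X.presheaf.obj (op V)) ∈ FracSetσ (ui i) U hU n V hVU f :=
    fun g i => by rw [hQ]; rfl
  have hex : ∀ k : Option G, ∃ i, Q k i := by
    rintro (_ | g)
    · exact ⟨i₀, (hQn i₀).mpr le_rfl⟩
    · have hg : (g : X.presheaf.obj (op V)) ∈ FracSetσ u U hU n V hVU f := by
        rw [hf]; exact hfrac g
      obtain ⟨i, hi⟩ := fracσ_colim u Λ 𝒮i φ hφ t ht hφt hsurj ui hui U hU n V hVU f g hg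
      exact ⟨i, (hQs g i).mpr hi⟩
  have hmono : ∀ (k : Option G) (i i' : Λ), i ≤ i' → Q k i → Q k i' := by
    rintro (_ | g) i i' hii' h
    · exact (hQn i').mpr (le_trans ((hQn i).mp h) hii')
    · exact (hQs g i').mpr (fracσ_mono (ui i) (ui i') (t i i' hii') (ht i i' hii')
        (hij u Λ 𝒮i φ t hφt ui hui i i' hii') U hU n V hVU f g ((hQs g i).mp h))
  obtain ⟨i, hi⟩ := exists_forall_of_directed Q hmono hex
  have hi₀ : i₀ ≤ i := (hQn i).mp (hi none)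
  have h12 := hij u Λ 𝒮i φ t hφt ui hui i₀ i hi₀
  have hfi : ((ui i).appLE U V hVU).hom (((t i₀ i hi₀).hom.app (op U)).hom s₀) = f := by
    rw [appLE_comp (ui i₀) (ui i) (t i₀ i hi₀) h12, ← appLE_comp (ui i₀) u (φ i₀) (hui i₀), hφs₀, hf]
  have hsi : ((t i₀ i hi₀).hom.app (op U)).hom s₀ ∈ (𝒮i i).deg U hU n := ht i₀ i hi₀ U hU n s₀ hs₀
  refine ⟨i, ((t i₀ i hi₀).hom.app (op U)).hom s₀, hsi, ?_, ?_⟩
  · rw [sigU_comp (ui i₀) (ui i) (t i₀ i hi₀) h12, ← sigU_comp (ui i₀) u (φ i₀) (hui i₀), hφs₀]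
  · intro tt
    refine fracSet_eq_univ (ui i) U hU n _ hsi V hVU (G : Set (X.presheaf.obj (op V))) ?_ hG tt
    intro g hg
    have := (hQs ⟨g, hg⟩ i).mp (hi (some ⟨g, hg⟩))
    change g ∈ FracSetσ (ui i) U hU n V hVU _
    rw [hfi]
    exact this

end colim

section main

variable (L : X.Modules) (hL : PicF.IsInvertible L) (hLq : Coh.IsQCoh L)
  (j : L ⟶ 𝒮L.toModule) (hj : RelProj.IsGrSymAlg L 𝒮L j)
  {PL : Scheme.{u}} (pL : PL ⟶ X)
  (chartL : ∀ (U : X.Opens) (hU : IsAffineOpen U), (((pL ⁻¹ᵁ U : PL.Opens) : Scheme.{u}) ≅ Proj (𝒮L.deg U hU)))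
  (hPL : RelProj.IsRelProj 𝒮L pL chartL)
  {𝒮 : RelProj.QCGrAlg Y} (u : RelProj.QGrHom q 𝒮 𝒮L) {P : Scheme.{u}}
  (p : P ⟶ Y) (chart : ∀ (U : Y.Opens) (hU : IsAffineOpen U), (((p ⁻¹ᵁ U : P.Opens) : Scheme.{u}) ≅ Proj (𝒮.deg U hU)))
  (hP : RelProj.IsRelProj 𝒮 p chart)
  (r : ((RelProj.domQ u pL chartL : PL.Opens) : Scheme.{u}) ⟶ P)
  (hr : RelProj.IsProjQMapOn u p chart pL chartL (RelProj.domQ u pL chartL) r)
  (Λ : Type u) [Preorder Λ] [IsDirected Λ (· ≤ ·)] [Nonempty Λ]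
  (𝒮i : Λ → RelProj.QCGrAlg Y) (φ : ∀ i, (𝒮i i).toQCAlg ⟶ 𝒮.toQCAlg) (hφ : ∀ i, RelProj.IsGradedHom (φ i))
  (t : ∀ i j, i ≤ j → ((𝒮i i).toQCAlg ⟶ (𝒮i j).toQCAlg)) (ht : ∀ i j (h : i ≤ j), RelProj.IsGradedHom (t i j h))
  (hφt : ∀ i j (h : i ≤ j), t i j h ≫ φ j = φ i)
  (hsurj : ∀ (U : Y.Opens), IsAffineOpen U → ∀ x : 𝒮.presheaf.obj (op U),
    ∃ (i : Λ) (y : (𝒮i i).presheaf.obj (op U)), ((φ i).hom.app (op U)).hom y = x)
  (ui : ∀ i, RelProj.QGrHom q (𝒮i i) 𝒮L) (hui : ∀ i (U : Y.Opens), (ui i).app U = (φ i).hom.app (op U) ≫ u.app U)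
  (Pi : Λ → Scheme.{u}) (pi : ∀ i, Pi i ⟶ Y)
  (charti : ∀ i (U : Y.Opens) (hU : IsAffineOpen U), ((((pi i) ⁻¹ᵁ U : (Pi i).Opens) : Scheme.{u}) ≅ Proj ((𝒮i i).deg U hU)))
  (hPi : ∀ i, RelProj.IsRelProj (𝒮i i) (pi i) (charti i))
  (ri : ∀ i, ((RelProj.domQ (ui i) pL chartL : PL.Opens) : Scheme.{u}) ⟶ Pi i)
  (hri : ∀ i, RelProj.IsProjQMapOn (ui i) (pi i) (charti i) pL chartL (RelProj.domQ (ui i) pL chartL) (ri i))
  [CompactSpace Y] [QuasiCompact q] [LocallyOfFiniteType q]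

include hL hLq hj hPL hP hr hφ ht hφt hsurj hui hPi hri in
/-- If `r` is everywhere defined and an immersion, so is some `r_i`. -/
theorem exists_index_of_immersion (h : RelProj.domQ u pL chartL = ⊤ ∧ IsImmersion r) :
    ∃ i, RelProj.domQ (ui i) pL chartL = ⊤ ∧ IsImmersion (ri i) := by
  obtain ⟨hdom, himm⟩ := h
  obtain ⟨ι, U, hU, n, s, hns, hcov, haff, hfrac⟩ :=
    exists_family_of_immersion L hL hLq j hj pL chartL hPL u p chart hP r hr himm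
  have hX : CompactSpace X := QuasiCompact.compactSpace_of_compactSpace q
  have hisoL := isIso_pL L hLq 𝒮L j hj pL chartL hPL hL
  have hcovX : (Set.univ : Set X) ⊆ ⋃ a, ((Xσ (sigU u (U a) (s a)) (n a) : X.Opens) : Set X) := by
    intro x _
    obtain ⟨w, rfl⟩ := pL.surjective x
    have hwd : w ∈ RelProj.domQ u pL chartL := by rw [hdom]; exact Opens.mem_top _
    obtain ⟨a, ha⟩ := hcov ⟨w, hwd⟩
    exact Set.mem_iUnion.mpr ⟨a, ha⟩
  obtain ⟨F, hF⟩ := isCompact_univ.elim_finite_subcover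
    (fun a => ((Xσ (sigU u (U a) (s a)) (n a) : X.Opens) : Set X))
    (fun a => (Xσ (sigU u (U a) (s a)) (n a)).isOpen) hcovX
  obtain ⟨i, hi⟩ := exists_forall_of_directed (κ := ↥F)
    (fun a i => PAt u Λ 𝒮i ui (U a) (hU a) (n a) (s a) (Xσ (sigU u (U a) (s a)) (n a)) (Xσ_le _ _) i)
    (fun a i k hik h => pAt_mono u Λ 𝒮i φ t ht hφt ui hui (U a) (hU a) (n a) (s a) _ _ i k hik h)
    (fun a => exists_pAt u Λ 𝒮i φ hφ t ht hφt hsurj ui hui (U a) (hU a) (n a) (s a) (hns a).2 _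
      (haff a) _ (hfrac a))
  choose si hsi hsig hfr using hi
  refine ⟨i, ?_⟩
  refine immersion_of_family L hL hLq j hj pL chartL hPL (ui i) (pi i) (charti i) (hPi i) (ri i) (hri i)
    (fun a : ↥F => U a) (fun a => hU a) (fun a => n a) si (fun a => ⟨(hns a).1, hsi a⟩)
    (fun a => Xσ (sigU u (U a) (s a)) (n a)) ?_ ?_ (fun a => haff a) (fun a => Xσ_le _ _)
    (fun a => hfr a)
  · intro a
    rw [hsig a]
  · rw [eq_top_iff]
    intro x _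
    obtain ⟨a, haF, hxa⟩ := Set.mem_iUnion₂.mp (hF (Set.mem_univ x))
    exact Opens.mem_iSup.mpr ⟨⟨a, haF⟩, hxa⟩

end main

end Groth.Agent.Lib.Helper63.SymInvImmColim
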