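import Mathlib
import Groth.Agent.Lib.Helper63.SymInvImm

/-!
# Immersion criteria for `r_{L,ψ} : G(ψ) ⟶ Proj(𝒮)` (EGA II 3.7.5) (helper63)
-/

set_option autoImplicit false
set_option linter.unusedSectionVars false
universe u

open CategoryTheory CategoryTheory.Limits AlgebraicGeometry TopologicalSpace Opposite
open HomogeneousLocalization
open scoped HomogeneousIdeal

namespace Groth.Agent.Lib.Helper63.SymInvImmMain

open Groth.Agent.Lib.Helper63.SymInvRing Groth.Agent.Lib.Helper63.SymInv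
  Groth.Agent.Lib.Helper63.SymInvDom Groth.Agent.Lib.Helper63.SymInvMap
  Groth.Agent.Lib.Helper63.ProjBasis Groth.Agent.Lib.Helper63.ImmLocal
  Groth.Agent.Lib.Helper63.SymInvImm
  Groth.Agent.Lib.Helper42

variable {X Y P : Scheme.{u}} {q : X ⟶ Y} {𝒮 : RelProj.QCGrAlg Y} {𝒮L : RelProj.QCGrAlg X}
  (u : RelProj.QGrHom q 𝒮 𝒮L)
  (L : X.Modules) (hL : PicF.IsInvertible L) (hLq : Coh.IsQCoh L)
  (j : L ⟶ 𝒮L.toModule) (hj : RelProj.IsGrSymAlg L 𝒮L j)
  (p : P ⟶ Y) (chart : ∀ (U : Y.Opens) (hU : IsAffineOpen U), (((p ⁻¹ᵁ U : P.Opens) : Scheme.{u}) ≅ Proj (𝒮.deg U hU)))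
  (hP : RelProj.IsRelProj 𝒮 p chart)
  {PL : Scheme.{u}} (pL : PL ⟶ X)
  (chartL : ∀ (U : X.Opens) (hU : IsAffineOpen U), (((pL ⁻¹ᵁ U : PL.Opens) : Scheme.{u}) ≅ Proj (𝒮L.deg U hU)))
  (hPL : RelProj.IsRelProj 𝒮L pL chartL)
  (r : ((RelProj.domQ u pL chartL : PL.Opens) : Scheme.{u}) ⟶ P)
  (hr : RelProj.IsProjQMapOn u p chart pL chartL (RelProj.domQ u pL chartL) r)
  (hY : IsAffineOpen (⊤ : Y.Opens))

include hL hLq hj hP hPL hr in
/-- the `X_{f_a}` over which `r` lands in `D₊(s_a)` cover the source -/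
theorem source_cover {ι : Type*} (n : ι → ℕ) (s : ι → 𝒮.presheaf.obj (op ⊤))
    (hns : ∀ a, 0 < n a ∧ s a ∈ 𝒮.deg ⊤ hY (n a)) (hcov : (⨆ a, Xf u (n a) (s a)) = ⊤) :
    (⨆ a, r ⁻¹ᵁ Os p chart hY (s a)) = ⊤ := by
  rw [eq_top_iff]
  intro w' _
  have hx : pL.base ((RelProj.domQ u pL chartL).ι.base w') ∈ ⨆ a, Xf u (n a) (s a) := by
    rw [hcov]; exact Opens.mem_top _
  obtain ⟨a, ha⟩ := Opens.mem_iSup.mp hx
  exact Opens.mem_iSup.mpr ⟨a, (mem_preimage_iff u L hL hLq j hj p chart hP pL chartL hPL r hr hY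
    (n a) (hns a).1 (s a) (hns a).2 w').mpr ha⟩

include hL hLq hj hPL in
theorem surjective_ι_pL (hdom : RelProj.domQ u pL chartL = ⊤) (x : X) :
    ∃ w' : ((RelProj.domQ u pL chartL : PL.Opens) : Scheme.{u}),
      pL.base ((RelProj.domQ u pL chartL).ι.base w') = x := by
  have hisoL := isIso_pL L hLq 𝒮L j hj pL chartL hPL hL
  obtain ⟨w, hw⟩ := pL.surjective x
  have hwd : w ∈ RelProj.domQ u pL chartL := by rw [hdom]; exact Opens.mem_top _
  exact ⟨⟨w, hwd⟩, hw⟩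

include hL hLq hj hP hPL hr in
/-- EGA II 3.7.5, immersion part. -/
theorem immersion_iff :
    (RelProj.domQ u pL chartL = ⊤ ∧ IsImmersion r) ↔
      ∃ (ι : Type u) (n : ι → ℕ) (s : ι → 𝒮.presheaf.obj (op ⊤)) (XT : ι → X.Opens),
        (∀ a, 0 < n a ∧ s a ∈ 𝒮.deg ⊤ hY (n a)) ∧
        (∀ a, XT a = Xf u (n a) (s a)) ∧
        (⨆ a, XT a) = ⊤ ∧ (∀ a, IsAffineOpen (XT a)) ∧
        (∀ (a : ι) (t : X.presheaf.obj (op (XT a))), ∃ (m : ℕ) (_ : 0 < m) (s' : 𝒮.presheaf.obj (op ⊤)) (_ : s' ∈ 𝒮.deg ⊤ hY (m * n a)),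
            (𝒮L.str.app (op (XT a))).hom t * ((u.appLE ⊤ (XT a) (le_top.trans (Scheme.Hom.preimage_top q).ge)).hom (s a)) ^ m =
              (u.appLE ⊤ (XT a) (le_top.trans (Scheme.Hom.preimage_top q).ge)).hom s') := by
  constructor
  · rintro ⟨hdom, himm⟩
    have key : ∀ w' : ((RelProj.domQ u pL chartL : PL.Opens) : Scheme.{u}),
        ∃ (n : ℕ) (s : 𝒮.presheaf.obj (op ⊤)), 0 < n ∧ s ∈ 𝒮.deg ⊤ hY n ∧
          r.base w' ∈ Os p chart hY s ∧ Os p chart hY s ≤ r.coborderRange := by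
      intro w'
      have hpt : r.base w' ∈ (RelProj.emb p chart ⊤ hY).opensRange := by
        rw [opensRange_emb 𝒮 p chart ⊤ hY]; exact Opens.mem_top _
      obtain ⟨z, hz⟩ := hpt
      have hzO : z ∈ (RelProj.emb p chart ⊤ hY) ⁻¹ᵁ r.coborderRange := by
        change (RelProj.emb p chart ⊤ hY).base z ∈ r.coborderRange
        rw [hz]
        exact subset_coborder ⟨w', rfl⟩
      obtain ⟨n, hn, s, hs, hzs, hsO⟩ := exists_homog_basicOpen (𝒮.deg ⊤ hY) _ z hzO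
      refine ⟨n, s, hn, hs, ⟨z, hzs, hz⟩, ?_⟩
      rintro _ ⟨z', hz', rfl⟩
      exact hsO hz'
    choose n s hn hs hmem hle using key
    have hci : ∀ a, IsClosedImmersion (r ∣_ Os p chart hY (s a)) := fun a =>
      isClosedImmersion_restrict_of_isImmersion r _ (hle a)
    have haff : ∀ a, IsAffineOpen (Xf u (n a) (s a)) := fun a =>
      isAffineOpen_Xf u L hL hLq j hj p chart hP pL chartL hPL r hr hY (n a) (hn a) (s a) (hs a) hdom (hci a)
    refine ⟨_, n, s, fun a => Xf u (n a) (s a), fun a => ⟨hn a, hs a⟩, fun a => rfl, ?_, haff, ?_⟩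
    · rw [eq_top_iff]
      intro x _
      obtain ⟨w', rfl⟩ := surjective_ι_pL u L hL hLq j hj pL chartL hPL hdom x
      exact Opens.mem_iSup.mpr ⟨w', (mem_preimage_iff u L hL hLq j hj p chart hP pL chartL hPL r hr hY
        (n w') (hn w') (s w') (hs w') w').mp (hmem w')⟩
    · intro a
      exact (isClosedImmersion_iff u L hL hLq j hj p chart hP pL chartL hPL r hr hY (n a) (hn a) (s a)
        (hs a) (haff a)).mp (hci a)
  · rintro ⟨ι, n, s, XT, hns, hXT, hcov, haff, hiii⟩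
    obtain rfl : XT = fun a => Xf u (n a) (s a) := funext hXT
    have hdom := domQ_eq_top_of_cover u L hL hLq j hj pL chartL hPL hY n s hns hcov
    refine ⟨hdom, ?_⟩
    refine isImmersion_of_cover r (fun a => Os p chart hY (s a))
      (source_cover u L hL hLq j hj p chart hP pL chartL hPL r hr hY n s hns hcov) ?_
    intro a
    exact (isClosedImmersion_iff u L hL hLq j hj p chart hP pL chartL hPL r hr hY (n a) (hns a).1 (s a)
      (hns a).2 (haff a)).mpr (hiii a)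

include hL hLq hj hP hPL hr in
/-- EGA II 3.7.5, open immersion part. -/
theorem openImmersion_iff :
    (RelProj.domQ u pL chartL = ⊤ ∧ IsOpenImmersion r) ↔
      ∃ (ι : Type u) (n : ι → ℕ) (s : ι → 𝒮.presheaf.obj (op ⊤)) (XT : ι → X.Opens),
        (∀ a, 0 < n a ∧ s a ∈ 𝒮.deg ⊤ hY (n a)) ∧
        (∀ a, XT a = Xf u (n a) (s a)) ∧
        (⨆ a, XT a) = ⊤ ∧ (∀ a, IsAffineOpen (XT a)) ∧
        (∀ (a : ι) (t : X.presheaf.obj (op (XT a))), ∃ (m : ℕ) (_ : 0 < m) (s' : 𝒮.presheaf.obj (op ⊤)) (_ : s' ∈ 𝒮.deg ⊤ hY (m * n a)),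
            (𝒮L.str.app (op (XT a))).hom t * ((u.appLE ⊤ (XT a) (le_top.trans (Scheme.Hom.preimage_top q).ge)).hom (s a)) ^ m =
              (u.appLE ⊤ (XT a) (le_top.trans (Scheme.Hom.preimage_top q).ge)).hom s') ∧
        (∀ (a : ι) (m : ℕ), 0 < m → ∀ s' ∈ 𝒮.deg ⊤ hY (m * n a),
            (u.appLE ⊤ (XT a) (le_top.trans (Scheme.Hom.preimage_top q).ge)).hom s' = 0 → ∃ (k : ℕ), 0 < k ∧ (s a) ^ k * s' = 0) := by
  constructor
  · rintro ⟨hdom, himm⟩
    have key : ∀ w' : ((RelProj.domQ u pL chartL : PL.Opens) : Scheme.{u}),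
        ∃ (n : ℕ) (s : 𝒮.presheaf.obj (op ⊤)), 0 < n ∧ s ∈ 𝒮.deg ⊤ hY n ∧
          r.base w' ∈ Os p chart hY s ∧ Os p chart hY s ≤ r.opensRange := by
      intro w'
      have hpt : r.base w' ∈ (RelProj.emb p chart ⊤ hY).opensRange := by
        rw [opensRange_emb 𝒮 p chart ⊤ hY]; exact Opens.mem_top _
      obtain ⟨z, hz⟩ := hpt
      have hzO : z ∈ (RelProj.emb p chart ⊤ hY) ⁻¹ᵁ r.opensRange := by
        change (RelProj.emb p chart ⊤ hY).base z ∈ r.opensRange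
        rw [hz]
        exact ⟨w', rfl⟩
      obtain ⟨n, hn, s, hs, hzs, hsO⟩ := exists_homog_basicOpen (𝒮.deg ⊤ hY) _ z hzO
      refine ⟨n, s, hn, hs, ⟨z, hzs, hz⟩, ?_⟩
      rintro _ ⟨z', hz', rfl⟩
      exact hsO hz'
    choose n s hn hs hmem hle using key
    have hiso : ∀ a, IsIso (r ∣_ Os p chart hY (s a)) := fun a =>
      isIso_restrict_of_isOpenImmersion r _ (hle a)
    have hci : ∀ a, IsClosedImmersion (r ∣_ Os p chart hY (s a)) := fun a => by
      have := hiso a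
      infer_instance
    have haff : ∀ a, IsAffineOpen (Xf u (n a) (s a)) := fun a =>
      isAffineOpen_Xf u L hL hLq j hj p chart hP pL chartL hPL r hr hY (n a) (hn a) (s a) (hs a) hdom (hci a)
    have hboth := fun a => (isIso_iff u L hL hLq j hj p chart hP pL chartL hPL r hr hY (n a) (hn a) (s a)
        (hs a) (haff a)).mp (hiso a)
    refine ⟨_, n, s, fun a => Xf u (n a) (s a), fun a => ⟨hn a, hs a⟩, fun a => rfl, ?_, haff,
      fun a => (hboth a).1, fun a => (hboth a).2⟩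
    rw [eq_top_iff]
    intro x _
    obtain ⟨w', rfl⟩ := surjective_ι_pL u L hL hLq j hj pL chartL hPL hdom x
    exact Opens.mem_iSup.mpr ⟨w', (mem_preimage_iff u L hL hLq j hj p chart hP pL chartL hPL r hr hY
      (n w') (hn w') (s w') (hs w') w').mp (hmem w')⟩
  · rintro ⟨ι, n, s, XT, hns, hXT, hcov, haff, hiii, hiv⟩
    obtain rfl : XT = fun a => Xf u (n a) (s a) := funext hXT
    have hdom := domQ_eq_top_of_cover u L hL hLq j hj pL chartL hPL hY n s hns hcov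
    refine ⟨hdom, ?_⟩
    refine isOpenImmersion_of_cover r (fun a => Os p chart hY (s a))
      (source_cover u L hL hLq j hj p chart hP pL chartL hPL r hr hY n s hns hcov) ?_
    intro a
    exact (isIso_iff u L hL hLq j hj p chart hP pL chartL hPL r hr hY (n a) (hns a).1 (s a)
      (hns a).2 (haff a)).mpr ⟨hiii a, hiv a⟩

include hL hLq hj hP hPL hr in
/-- EGA II 3.7.5, closed immersion part. -/
theorem closedImmersion_iff :
    (RelProj.domQ u pL chartL = ⊤ ∧ IsClosedImmersion r) ↔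
      ∃ (ι : Type u) (n : ι → ℕ) (s : ι → 𝒮.presheaf.obj (op ⊤)) (XT : ι → X.Opens),
        (∀ a, 0 < n a ∧ s a ∈ 𝒮.deg ⊤ hY (n a)) ∧
        (∀ a, XT a = Xf u (n a) (s a)) ∧
        (⨆ a, XT a) = ⊤ ∧ (∀ a, IsAffineOpen (XT a)) ∧
        (∀ (a : ι) (t : X.presheaf.obj (op (XT a))), ∃ (m : ℕ) (_ : 0 < m) (s' : 𝒮.presheaf.obj (op ⊤)) (_ : s' ∈ 𝒮.deg ⊤ hY (m * n a)),
            (𝒮L.str.app (op (XT a))).hom t * ((u.appLE ⊤ (XT a) (le_top.trans (Scheme.Hom.preimage_top q).ge)).hom (s a)) ^ m =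
              (u.appLE ⊤ (XT a) (le_top.trans (Scheme.Hom.preimage_top q).ge)).hom s') ∧
        (⨆ a, Proj.basicOpen (𝒮.deg ⊤ hY) (s a)) = ⊤ := by
  constructor
  · rintro ⟨hdom, himm⟩
    have key : ∀ z : Proj (𝒮.deg ⊤ hY),
        ∃ (n : ℕ) (s : 𝒮.presheaf.obj (op ⊤)), 0 < n ∧ s ∈ 𝒮.deg ⊤ hY n ∧
          z ∈ Proj.basicOpen (𝒮.deg ⊤ hY) s := by
      intro z
      obtain ⟨n, hn, s, hs, hzs, -⟩ := exists_homog_basicOpen (𝒮.deg ⊤ hY) ⊤ z (Opens.mem_top z)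
      exact ⟨n, s, hn, hs, hzs⟩
    choose n s hn hs hmem using key
    have hci : ∀ a, IsClosedImmersion (r ∣_ Os p chart hY (s a)) := fun a => inferInstance
    have haff : ∀ a, IsAffineOpen (Xf u (n a) (s a)) := fun a =>
      isAffineOpen_Xf u L hL hLq j hj p chart hP pL chartL hPL r hr hY (n a) (hn a) (s a) (hs a) hdom (hci a)
    refine ⟨_, n, s, fun a => Xf u (n a) (s a), fun a => ⟨hn a, hs a⟩, fun a => rfl, ?_, haff, ?_, ?_⟩
    · rw [eq_top_iff]
      intro x _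
      obtain ⟨w', rfl⟩ := surjective_ι_pL u L hL hLq j hj pL chartL hPL hdom x
      have hpt : r.base w' ∈ (RelProj.emb p chart ⊤ hY).opensRange := by
        rw [opensRange_emb 𝒮 p chart ⊤ hY]; exact Opens.mem_top _
      obtain ⟨z, hz⟩ := hpt
      exact Opens.mem_iSup.mpr ⟨z, (mem_preimage_iff u L hL hLq j hj p chart hP pL chartL hPL r hr hY
        (n z) (hn z) (s z) (hs z) w').mp ⟨z, hmem z, hz⟩⟩
    · intro a
      exact (isClosedImmersion_iff u L hL hLq j hj p chart hP pL chartL hPL r hr hY (n a) (hn a) (s a)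
        (hs a) (haff a)).mp (hci a)
    · rw [eq_top_iff]
      intro z _
      exact Opens.mem_iSup.mpr ⟨z, hmem z⟩
  · rintro ⟨ι, n, s, XT, hns, hXT, hcov, haff, hiii, hv⟩
    obtain rfl : XT = fun a => Xf u (n a) (s a) := funext hXT
    have hdom := domQ_eq_top_of_cover u L hL hLq j hj pL chartL hPL hY n s hns hcov
    refine ⟨hdom, ?_⟩
    refine isClosedImmersion_of_cover r (fun a => Os p chart hY (s a)) ?_ ?_
    · rw [eq_top_iff]
      intro pt _
      have hpt : pt ∈ (RelProj.emb p chart ⊤ hY).opensRange := by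
        rw [opensRange_emb 𝒮 p chart ⊤ hY]; exact Opens.mem_top _
      obtain ⟨z, rfl⟩ := hpt
      have hz : z ∈ ⨆ a, Proj.basicOpen (𝒮.deg ⊤ hY) (s a) := by rw [hv]; exact Opens.mem_top _
      obtain ⟨a, ha⟩ := Opens.mem_iSup.mp hz
      exact Opens.mem_iSup.mpr ⟨a, ⟨z, ha, rfl⟩⟩
    · intro a
      exact (isClosedImmersion_iff u L hL hLq j hj p chart hP pL chartL hPL r hr hY (n a) (hns a).1 (s a)
        (hns a).2 (haff a)).mpr (hiii a)

end Groth.Agent.Lib.Helper63.SymInvImmMain
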