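import Mathlib
import Groth.Agent.Lib.Helper63.SymInvAmpleRes
import Groth.Agent.Lib.Helper63.AwayDense
import Groth.Agent.Lib.Helper63.SymInvImm
import Groth.Agent.Lib.Helper63.ProjDense
import Groth.Agent.Lib.Helper63.SymInvQC
import Groth.Agent.Lib.Helper11.RestrictTensor

/-!
# Schematic dominance of `r_{L,σ}` over an affine base (EGA II 4.5.2) (helper63)
-/

set_option autoImplicit false
set_option linter.unusedSectionVars false
universe u

open CategoryTheory CategoryTheory.Limits AlgebraicGeometry TopologicalSpace Opposite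
open HomogeneousLocalization
open scoped HomogeneousIdeal

namespace Groth.Agent.Lib.Helper63.SymInvSchDom

open Groth.Agent.Lib.Helper63.SymInvRing Groth.Agent.Lib.Helper63.SymInv
  Groth.Agent.Lib.Helper63.SymInvDom Groth.Agent.Lib.Helper63.SymInvMapGen
  Groth.Agent.Lib.Helper63.ProjBasis Groth.Agent.Lib.Helper63.ImmLocal
  Groth.Agent.Lib.Helper63.SymInvImmGen
  Groth.Agent.Lib.Helper63.SymInvLocal Groth.Agent.Lib.Helper63.SymInvExt
  Groth.Agent.Lib.Helper63.AwayDense Groth.Agent.Lib.Helper63.ProjDense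
  Groth.Agent.Lib.Helper63.SymInvAmple Groth.Agent.Lib.Helper63.SymInvAmpleRes
  Groth.Agent.Lib.Helper63.SymInvImmTN
  Groth.Agent.Lib.Helper18.SymQC Groth.Agent.Lib.Helper45 Groth.Agent.Lib.Helper49
  Groth.Agent.Lib.Helper42

section general

variable {X : Scheme.{u}} (L : X.Modules) (hL : PicF.IsInvertible L) (hLq : Coh.IsQCoh L)
  (𝒮L : RelProj.QCGrAlg X) (j : L ⟶ 𝒮L.toModule) (hj : RelProj.IsGrSymAlg L 𝒮L j)

include hL hLq hj in
/-- A section killed by a power of `σ` vanishes on `X_σ`. -/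
theorem rs_eq_zero_of_pow_mul {W : X.Opens} (σ : 𝒮L.presheaf.obj (op W)) (n : ℕ)
    (hσ : HomogOn 𝒮L σ n) (τ : 𝒮L.presheaf.obj (op W)) (k : ℕ) (h : σ ^ k * τ = 0) :
    rs 𝒮L (Xσ_le σ n) τ = 0 := by
  refine rs_ext 𝒮L (fun c : Chart L 𝒮L j σ n => X.basicOpen c.a) (fun c => c.basicOpen_le hLq hj)
    ?_ _ _ ?_
  · intro x hx
    obtain ⟨c, hxc⟩ := exists_chart L hL hLq 𝒮L j hj σ n hσ x (Xσ_le σ n hx)
    refine Opens.mem_iSup.mpr ⟨c, ?_⟩
    rw [← c.inf_eq hLq hj]; exact ⟨hx, hxc⟩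
  · intro c
    rw [map_zero, rs_rs]
    have hD := c.hV.basicOpen c.a
    have ht := c.ht.mono (X.basicOpen_le c.a)
    have hp := SymInv.isPolyGr L hLq 𝒮L j hj (X.basicOpen c.a) hD _ ht
    have e3 : rs 𝒮L ((X.basicOpen_le c.a).trans c.hVW) σ =
        (𝒮L.str.app (op (X.basicOpen c.a))).hom ((X.presheaf.map (homOfLE (X.basicOpen_le c.a)).op).hom c.a) *
          (zOf L 𝒮L j (X.basicOpen c.a) (mres L (X.basicOpen_le c.a) c.t)) ^ n := by
      rw [← rs_rs 𝒮L c.hVW (X.basicOpen_le c.a) σ, c.ha, map_mul, map_pow, rs_str, zOf_res]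
    have hu : IsUnit ((X.presheaf.map (homOfLE (X.basicOpen_le c.a)).op).hom c.a) :=
      RingedSpace.isUnit_res_basicOpen X.toRingedSpace c.a
    have h' := congrArg (rs 𝒮L ((X.basicOpen_le c.a).trans c.hVW)) h
    rw [map_mul, map_pow, map_zero, e3, mul_pow, mul_assoc] at h'
    have hu' := (hu.map (𝒮L.str.app (op (X.basicOpen c.a))).hom).pow k
    have h2 := hu'.mul_right_eq_zero.mp h'
    rw [← pow_mul] at h2
    exact hp.eq_zero_of_pow_mul_eq_zero (n * k) _ h2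

end general

theorem le_opensRange_of_isIso_restrict {Z P : Scheme.{u}} (f : Z ⟶ P) [IsOpenImmersion f] (O : P.Opens)
    (h : IsIso (f ∣_ O)) : O ≤ f.opensRange := by
  intro x hx
  obtain ⟨w, hw⟩ := (f ∣_ O).surjective ⟨x, hx⟩
  refine ⟨w.1, ?_⟩
  have := congrArg Subtype.val hw
  rwa [morphismRestrict_base_coe] at this

section main

variable {X Y P : Scheme.{u}} {q : X ⟶ Y} {𝒮 : RelProj.QCGrAlg Y} {𝒮L : RelProj.QCGrAlg X}
  (u : RelProj.QGrHom q 𝒮 𝒮L)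
  (L : X.Modules) (hL : PicF.IsInvertible L) (hLq : Coh.IsQCoh L)
  (j : L ⟶ 𝒮L.toModule) (hj : RelProj.IsGrSymAlg L 𝒮L j)
  (p : P ⟶ Y) (chart : ∀ (U : Y.Opens) (hU : IsAffineOpen U), (((p ⁻¹ᵁ U : P.Opens) : Scheme.{u}) ≅ Proj (𝒮.deg U hU)))
  (hP : RelProj.IsRelProj 𝒮 p chart)
  {PL : Scheme.{u}} (pL : PL ⟶ X)
  (chartL : ∀ (U : X.Opens) (hU : IsAffineOpen U), (((pL ⁻¹ᵁ U : PL.Opens) : Scheme.{u}) ≅ Proj (𝒮L.deg U hU)))
  (hPL : RelProj.IsRelProj 𝒮L pL chartL)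
  (r : ((RelProj.domQ u pL chartL : PL.Opens) : Scheme.{u}) ⟶ P)
  (hr : RelProj.IsProjQMapOn u p chart pL chartL (RelProj.domQ u pL chartL) r)
  (hY : IsAffineOpen (⊤ : Y.Opens))

include hL hLq hj hP hPL hr hY in
/-- EGA II 4.5.2: for `L` ample on the quasi-compact `X` and `𝒮(Y) = ⊕ Γ(X, L^{⊗ n})` over an affine
`Y`, the canonical `r` is everywhere defined, a quasi-compact scheme-theoretically dominant open
immersion. -/
theorem main_affine [CompactSpace X] (hamp : CohB1.IsAmple L)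
    (hbij : Function.Bijective (u.app ⊤).hom) :
    RelProj.domQ u pL chartL = ⊤ ∧ IsOpenImmersion r ∧ QuasiCompact r ∧
      IsSchemeTheoreticallyDominant r := by
  classical
  have hWtop : (q ⁻¹ᵁ ⊤ : X.Opens) = ⊤ := Scheme.Hom.preimage_top q
  have hcW : CompactSpace ↥(q ⁻¹ᵁ ⊤ : X.Opens) :=
    isCompact_iff_compactSpace.mp (by rw [hWtop]; exact isCompact_univ)
  have hcW' : CompactSpace ((q ⁻¹ᵁ ⊤ : X.Opens) : Scheme.{u}) := hcW
  have hampW : CohB1.IsAmple (L.restrict (q ⁻¹ᵁ ⊤ : X.Opens).ι) :=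
    Groth.Agent.Lib.Helper11.GenLocus.isAmple_restrict _ hamp
  have hc := isCompact_of_isAmple_restrict L _ hampW
  have hqs := isQuasiSeparated_of_isAmple_restrict L _ hampW
  have key : ∀ x : X, ∃ (n : ℕ) (_ : 0 < n) (σ : 𝒮L.presheaf.obj (op (q ⁻¹ᵁ ⊤))),
      HomogOn 𝒮L σ n ∧ x ∈ Xσ σ n ∧ IsAffineOpen (Xσ σ n) := fun x =>
    exists_local_of_isAmple_restrict L hL hLq 𝒮L j hj _ hampW x (by rw [hWtop]; exact Opens.mem_top x)
  choose n hn σ hσ hx haff using key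
  choose s hs using fun x => hbij.2 (σ x)
  have e : ∀ x, sigU u ⊤ (s x) = σ x := hs
  have hdeg : ∀ x, s x ∈ 𝒮.deg ⊤ hY (n x) := fun x =>
    mem_deg_of_homogOn u ⊤ hY hbij.1 (n x) (s x) (by rw [e x]; exact hσ x)
  have hfrac : ∀ x (t : X.presheaf.obj (op (Xσ (sigU u ⊤ (s x)) (n x)))),
      t ∈ FracSet u ⊤ hY (n x) (s x) (Xσ (sigU u ⊤ (s x)) (n x)) (Xσ_le _ _) := fun x t =>
    fracSet_of_bijective u L hL hLq j hj ⊤ hY hbij hc hqs (n x) (s x) (hdeg x) t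
  have hker : ∀ x, KerCond u ⊤ hY (n x) (s x) (Xσ (sigU u ⊤ (s x)) (n x)) (Xσ_le _ _) := fun x =>
    kerCond_of_injective u L hL hLq j hj ⊤ hY hbij.1 hc (n x) (s x) (hdeg x)
  have haff' : ∀ x, IsAffineOpen (Xσ (sigU u ⊤ (s x)) (n x)) := fun x => by
    rw [e x]; exact haff x
  obtain ⟨h1, h2⟩ := openImmersion_of_family u L hL hLq j hj p chart hP pL chartL hPL r hr
    (fun _ : X => ⊤) (fun _ => hY) n s (fun x => ⟨hn x, hdeg x⟩) (by
      rw [eq_top_iff]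
      intro x _
      refine Opens.mem_iSup.mpr ⟨x, ?_⟩
      rw [e x]
      exact hx x) haff' hfrac hker
  have hqc : QuasiCompact r :=
    SymInvQC.quasiCompact_r u L hL hLq j hj p chart hP pL chartL hPL r hr hY h1
  refine ⟨h1, h2, hqc, ?_⟩
  obtain ⟨F, hF⟩ := isCompact_univ.elim_finite_subcover
    (fun x => ((Xσ (σ x) (n x) : X.Opens) : Set X)) (fun x => (Xσ (σ x) (n x)).isOpen)
    (fun x _ => Set.mem_iUnion.mpr ⟨x, hx x⟩)
  refine isSchemeTheoreticallyDominant_of_basicOpens (𝒮.deg ⊤ hY) r (RelProj.emb p chart ⊤ hY)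
    (by rw [opensRange_emb 𝒮 p chart ⊤ hY]; exact Scheme.Hom.preimage_top p) (ι := F)
    (fun i => s i.1) (fun i => n i.1) (fun i => hdeg i.1) ?_ ?_
  · intro i
    have hiso : IsIso (r ∣_ OsU p chart ⊤ hY (s i.1)) :=
      (isIso_iff L hL hLq j hj pL chartL hPL u p chart hP r hr ⊤ hY (n i.1) (hn i.1) (s i.1)
        (hdeg i.1) (haff' i.1)).mpr ⟨hfrac i.1, hker i.1⟩
    exact le_opensRange_of_isIso_restrict r _ hiso
  · intro b hb
    apply hbij.1
    rw [map_zero]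
    change sigU u ⊤ b = 0
    refine rs_ext 𝒮L (fun i : F => Xσ (σ i.1) (n i.1)) (fun i => Xσ_le _ _) ?_ _ _ ?_
    · intro y _
      obtain ⟨x, hxF, hyx⟩ := Set.mem_iUnion₂.mp (hF (Set.mem_univ y))
      exact Opens.mem_iSup.mpr ⟨⟨x, hxF⟩, hyx⟩
    · intro i
      rw [map_zero]
      obtain ⟨k, hk⟩ := hb i
      refine rs_eq_zero_of_pow_mul L hL hLq 𝒮L j hj (σ i.1) (n i.1) (hσ i.1) (sigU u ⊤ b) k ?_
      rw [← e i.1]
      change (u.app ⊤).hom (s i.1) ^ k * (u.app ⊤).hom b = 0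
      rw [← map_pow, ← map_mul, hk, map_zero]

end main

end Groth.Agent.Lib.Helper63.SymInvSchDom
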