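import Mathlib

/-!
# The presentation of `Sym_A(M)` by generators of `M` and its cotangent module (helper63)
-/

set_option autoImplicit false

namespace Groth.Agent.Lib.Helper63.SymPres

open TensorProduct MvPolynomial

universe u

variable {A : Type u} [CommRing A] {M : Type u} [AddCommGroup M] [Module A M] {m : ℕ}
  (x : Fin m → M)

/-- the linear form `Σ v_j y_j` -/
noncomputable def lin : (Fin m → A) →ₗ[A] MvPolynomial (Fin m) A :=
  Fintype.linearCombination A (fun j => (X j : MvPolynomial (Fin m) A))

lemma lin_apply (v : Fin m → A) : lin v = ∑ j, C (v j) * X j := by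
  rw [lin, Fintype.linearCombination_apply]
  simp_rw [MvPolynomial.smul_eq_C_mul]

lemma lin_single (j : Fin m) : lin (Pi.single j (1 : A)) = (X j : MvPolynomial (Fin m) A) := by
  rw [lin, Fintype.linearCombination_apply_single, one_smul]

/-- the ideal generated by the linear forms coming from relations -/
noncomputable def L : Ideal (MvPolynomial (Fin m) A) :=
  Ideal.span (Set.range fun k : LinearMap.ker (Fintype.linearCombination A x) =>
    lin (k : Fin m → A))

variable (hx : Function.Surjective (Fintype.linearCombination A x))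
include hx

/-- `M → A[y]/L`, `x_j ↦ y_j` -/
noncomputable def gmap : M →ₗ[A] (MvPolynomial (Fin m) A ⧸ L x) :=
  ((LinearMap.ker (Fintype.linearCombination A x)).liftQ
    ((Ideal.Quotient.mkₐ A (L x)).toLinearMap ∘ₗ lin) (by
      intro k hk
      rw [LinearMap.mem_ker, LinearMap.comp_apply, AlgHom.toLinearMap_apply,
        Ideal.Quotient.mkₐ_eq_mk, Ideal.Quotient.eq_zero_iff_mem]
      exact Ideal.subset_span ⟨⟨k, hk⟩, rfl⟩)) ∘ₗ
    ((Fintype.linearCombination A x).quotKerEquivOfSurjective hx).symm.toLinearMap

lemma gmap_apply (v : Fin m → A) :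
    gmap x hx (Fintype.linearCombination A x v) = Ideal.Quotient.mk (L x) (lin v) := by
  rw [gmap, LinearMap.comp_apply, LinearEquiv.coe_coe,
    LinearMap.quotKerEquivOfSurjective_symm_apply, Submodule.liftQ_apply]
  rfl

lemma gmap_x (j : Fin m) : gmap x hx (x j) = Ideal.Quotient.mk (L x) (X j) := by
  have := gmap_apply x hx (Pi.single j 1)
  rwa [Fintype.linearCombination_apply_single, one_smul, lin_single] at this

/-- the kernel of the presentation is contained in the ideal of linear forms -/
theorem mem_L_of_aeval_eq_zero (G : Algebra.Generators A (SymmetricAlgebra A M) (Fin m))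
    (hG : ∀ j, G.val j = SymmetricAlgebra.ι A M (x j)) (p : MvPolynomial (Fin m) A)
    (hp : aeval G.val p = 0) : p ∈ L x := by
  have hcomp : (SymmetricAlgebra.lift (gmap x hx)).comp (aeval G.val) =
      Ideal.Quotient.mkₐ A (L x) := by
    apply MvPolynomial.algHom_ext
    intro j
    rw [AlgHom.comp_apply, aeval_X, hG, SymmetricAlgebra.lift_ι_apply, gmap_x,
      Ideal.Quotient.mkₐ_eq_mk]
  have h := congrArg (fun f => f p) hcomp
  simp only [AlgHom.comp_apply, hp, map_zero, Ideal.Quotient.mkₐ_eq_mk] at h
  exact Ideal.Quotient.eq_zero_iff_mem.mp h.symm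

omit hx in
theorem aeval_lin_eq_zero (G : Algebra.Generators A (SymmetricAlgebra A M) (Fin m))
    (hG : ∀ j, G.val j = SymmetricAlgebra.ι A M (x j))
    (k : LinearMap.ker (Fintype.linearCombination A x)) :
    aeval G.val (lin (k : Fin m → A)) = 0 := by
  rw [lin_apply, map_sum]
  simp_rw [map_mul, aeval_C, aeval_X, hG, ← Algebra.smul_def, ← map_smul]
  rw [← map_sum]
  have hk : Fintype.linearCombination A x (k : Fin m → A) = 0 := k.2
  rw [Fintype.linearCombination_apply] at hk
  rw [hk, map_zero]

end Groth.Agent.Lib.Helper63.SymPres
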