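import Mathlib
import Groth.Agent.Lib.Helper63.SymPres

/-!
# The cotangent module of the presentation of `Sym_A(M)` (helper63)
-/

set_option autoImplicit false

namespace Groth.Agent.Lib.Helper63.SymPres

open TensorProduct MvPolynomial

universe u

variable {A : Type u} [CommRing A] {M : Type u} [AddCommGroup M] [Module A M] {m : ℕ}
  (x : Fin m → M) (G : Algebra.Generators A (SymmetricAlgebra A M) (Fin m))
  (hG : ∀ j, G.val j = SymmetricAlgebra.ι A M (x j))

/-- `lin` with values in the ring of the extension -/
noncomputable def linG : (Fin m → A) →ₗ[A] G.toExtension.Ring := lin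

lemma linG_eq (v : Fin m → A) : (linG G v : MvPolynomial (Fin m) A) = lin v := rfl

include hG in
lemma linG_mem_ker (k : LinearMap.ker (Fintype.linearCombination A x)) :
    linG G (k : Fin m → A) ∈ G.toExtension.ker := by
  rw [RingHom.mem_ker]
  exact (G.algebraMap_apply _).trans (aeval_lin_eq_zero x G hG k)

/-- the `A`-linear map `K → J/J²` -/
noncomputable def f0 : LinearMap.ker (Fintype.linearCombination A x) →ₗ[A]
    G.toExtension.Cotangent where
  toFun k := Algebra.Extension.Cotangent.mk ⟨linG G (k : Fin m → A), linG_mem_ker x G hG k⟩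
  map_add' k k' := by
    rw [← map_add]
    congr 1
    apply Subtype.ext
    simp only [Submodule.coe_add, map_add]
  map_smul' a k := by
    have h1 : (⟨linG G ((a • k : LinearMap.ker (Fintype.linearCombination A x)) : Fin m → A),
        linG_mem_ker x G hG (a • k)⟩ : G.toExtension.ker) =
        (algebraMap A G.toExtension.Ring a) • ⟨linG G (k : Fin m → A), linG_mem_ker x G hG k⟩ := by
      apply Subtype.ext
      change linG G ((a • k : LinearMap.ker (Fintype.linearCombination A x)) : Fin m → A) =
        algebraMap A G.toExtension.Ring a • linG G (k : Fin m → A)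
      rw [Submodule.coe_smul, map_smul, smul_eq_mul, Algebra.smul_def]
    rw [h1, map_smul, IsScalarTower.algebraMap_smul, RingHom.id_apply]

/-- the `Sym(M)`-linear map `Sym(M) ⊗ K → J/J²` -/
noncomputable def e : SymmetricAlgebra A M ⊗[A] (LinearMap.ker (Fintype.linearCombination A x))
    →ₗ[SymmetricAlgebra A M] G.toExtension.Cotangent :=
  (f0 x G hG).liftBaseChange (SymmetricAlgebra A M)

lemma e_one_tmul (k : LinearMap.ker (Fintype.linearCombination A x)) :
    e x G hG (1 ⊗ₜ k) =
      Algebra.Extension.Cotangent.mk ⟨linG G (k : Fin m → A), linG_mem_ker x G hG k⟩ := by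
  rw [e, LinearMap.liftBaseChange_one_tmul]
  rfl


include hG in
/-- the linear forms generate the kernel -/
lemma span_linG_eq_ker (hx : Function.Surjective (Fintype.linearCombination A x)) :
    Ideal.span (Set.range fun k : LinearMap.ker (Fintype.linearCombination A x) =>
      linG G (k : Fin m → A)) = G.toExtension.ker := by
  apply le_antisymm
  · rw [Ideal.span_le]
    rintro _ ⟨k, rfl⟩
    exact linG_mem_ker x G hG k
  · intro p hp
    have hp' : aeval G.val (p : MvPolynomial (Fin m) A) = 0 :=
      (G.algebraMap_apply _).symm.trans (RingHom.mem_ker.mp hp)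
    exact mem_L_of_aeval_eq_zero x hx G hG p hp'

theorem e_surjective (hx : Function.Surjective (Fintype.linearCombination A x)) :
    Function.Surjective (e x G hG) := by
  rw [← LinearMap.range_eq_top]
  have h := Algebra.Extension.Cotangent.span_eq_top_of_span_eq_ker (P := G.toExtension)
    (fun k : LinearMap.ker (Fintype.linearCombination A x) => linG G (k : Fin m → A))
    (span_linG_eq_ker x G hG hx)
  rw [eq_top_iff, ← h, Submodule.span_le]
  rintro _ ⟨k, rfl⟩
  exact ⟨1 ⊗ₜ k, e_one_tmul x G hG k⟩

lemma pderiv_lin (v : Fin m → A) (j : Fin m) : pderiv j (lin v) = C (v j) := by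
  classical
  rw [lin_apply, map_sum]
  simp_rw [pderiv_C_mul, pderiv_X, Pi.single_apply, mul_ite, mul_one, mul_zero]
  rw [Finset.sum_ite_eq', if_pos (Finset.mem_univ _)]

theorem e_injective (hx : Function.Surjective (Fintype.linearCombination A x))
    [Module.Projective A M] : Function.Injective (e x G hG) := by
  classical
  obtain ⟨s, hs⟩ := Module.projective_lifting_property (Fintype.linearCombination A x)
    LinearMap.id hx
  have hs' : ∀ y, Fintype.linearCombination A x (s y) = y := fun y => LinearMap.congr_fun hs y
  let r : (Fin m → A) →ₗ[A] LinearMap.ker (Fintype.linearCombination A x) :=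
    LinearMap.codRestrict _ (LinearMap.id - s ∘ₗ Fintype.linearCombination A x) (by
      intro v
      rw [LinearMap.mem_ker, LinearMap.sub_apply, map_sub, LinearMap.id_apply,
        LinearMap.comp_apply, hs', sub_self])
  have hr : ∀ k : LinearMap.ker (Fintype.linearCombination A x), r (k : Fin m → A) = k := by
    intro k
    apply Subtype.ext
    change (k : Fin m → A) - s (Fintype.linearCombination A x (k : Fin m → A)) = k
    have hk : Fintype.linearCombination A x (k : Fin m → A) = 0 := k.2
    rw [hk, map_zero, sub_zero]
  let ρ : G.toExtension.Cotangent →ₗ[SymmetricAlgebra A M]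
      SymmetricAlgebra A M ⊗[A] LinearMap.ker (Fintype.linearCombination A x) :=
    (Finsupp.linearCombination (SymmetricAlgebra A M)
      (fun j : Fin m => (1 : SymmetricAlgebra A M) ⊗ₜ[A] r (Pi.single j 1))) ∘ₗ
      G.cotangentRestrict (u := id) Function.injective_id
  have hρ : ∀ k : LinearMap.ker (Fintype.linearCombination A x), ρ (f0 x G hG k) = 1 ⊗ₜ k := by
    intro k
    change Finsupp.linearCombination (SymmetricAlgebra A M) _
      (G.cotangentRestrict Function.injective_id
        (Algebra.Extension.Cotangent.mk ⟨linG G (k : Fin m → A), linG_mem_ker x G hG k⟩)) = _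
    rw [Finsupp.linearCombination_apply, Finsupp.sum_fintype _ _ (by intro; simp)]
    have hcr : ∀ j : Fin m, (G.cotangentRestrict (u := id) Function.injective_id
        (Algebra.Extension.Cotangent.mk ⟨linG G (k : Fin m → A), linG_mem_ker x G hG k⟩)) j =
        aeval G.val (pderiv (id j) (linG G (k : Fin m → A) : MvPolynomial (Fin m) A)) :=
      fun j => congrFun (Algebra.Generators.cotangentRestrict_mk G Function.injective_id
        ⟨linG G (k : Fin m → A), linG_mem_ker x G hG k⟩) j
    simp_rw [hcr]
    have hpd : ∀ j : Fin m, aeval G.val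
        (pderiv (id j) (linG G (k : Fin m → A) : MvPolynomial (Fin m) A)) =
        algebraMap A (SymmetricAlgebra A M) ((k : Fin m → A) j) := by
      intro j
      rw [linG_eq, id, pderiv_lin, aeval_C]
    simp_rw [hpd, algebraMap_smul, ← tmul_smul, ← tmul_sum, ← map_smul, ← map_sum]
    have hsum : ∑ j, (k : Fin m → A) j • (Pi.single j (1 : A) : Fin m → A) = (k : Fin m → A) := by
      ext i
      simp [Finset.sum_apply, Pi.single_apply]
    rw [hsum, hr]
  have hcomp : ρ ∘ₗ e x G hG = LinearMap.id := by
    apply TensorProduct.AlgebraTensorModule.ext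
    intro c k
    rw [LinearMap.comp_apply, e, LinearMap.liftBaseChange_tmul, map_smul, LinearMap.id_apply, hρ,
      smul_tmul', smul_eq_mul, mul_one]
  exact Function.LeftInverse.injective (g := ρ) fun z => LinearMap.congr_fun hcomp z

end Groth.Agent.Lib.Helper63.SymPres
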