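import Mathlib
import Groth.Agent.Lib.Helper42.GrFiniteA
import Groth.Agent.Lib.Helper42.RelTwistQCoh
import Groth.Agent.Lib.Helper49.FiniteTypeLocal

/-!
# Finiteness of the sections of `M(n)~` over `D₊(f)` for a Noetherian graded module

For a graded ring `A`, a graded module `M` which is Noetherian over `A`, any twist `n : ℤ`, and `f`
homogeneous of positive degree, the sections of `M(n)~` over `D₊(f)` form a finite module over
`Γ(Proj A, D₊(f))`.  (The classical "degree pieces of a Noetherian graded module are finite over the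
degree-zero part" argument.)  No generation in degree one is needed.
-/

set_option autoImplicit false
set_option linter.unusedSectionVars false
universe u
open CategoryTheory AlgebraicGeometry TopologicalSpace Opposite HomogeneousLocalization

namespace Groth.Agent.Lib.Helper63.TwistFinite

open Groth.Agent.Lib.Helper42.GrSectA Groth.Agent.Lib.Helper42.GrQCohA
  Groth.Agent.Lib.Helper42.GrFiniteA

section aux
variable {A σ : Type u} [CommRing A] [SetLike σ A] [AddSubgroupClass σ A] (𝒜 : ℕ → σ) [GradedRing 𝒜]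
  {M τ : Type u} [AddCommGroup M] [Module A M] [SetLike τ M] [AddSubgroupClass τ M]
  (ℳ : ℕ → τ) [DirectSum.Decomposition ℳ] [SetLike.GradedSMul 𝒜 ℳ]

include 𝒜 in
/-- The degree `i` component of `a • m` vanishes when `m` is homogeneous of degree `e > i`. -/
theorem decompose_smul_of_lt (a : A) {e : ℕ} {m : M} (hm : m ∈ ℳ e) {i : ℕ} (hi : i < e) :
    ((DirectSum.decompose ℳ (a • m)) i : M) = 0 := by
  classical
  have hsum : a • m = ∑ l ∈ (DirectSum.decompose 𝒜 a).support,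
      ((DirectSum.decompose 𝒜 a l : 𝒜 l) : A) • m := by
    conv_lhs => rw [← DirectSum.sum_support_decompose 𝒜 a, Finset.sum_smul]
  have hmem : ∀ l, ((DirectSum.decompose 𝒜 a l : 𝒜 l) : A) • m ∈ ℳ (l + e) :=
    fun l => SetLike.GradedSMul.smul_mem (A := 𝒜) (B := ℳ) (i := l) (j := e)
      (SetLike.coe_mem (DirectSum.decompose 𝒜 a l)) hm
  rw [hsum, DirectSum.decompose_sum, DFinsupp.finsetSum_apply, AddSubmonoidClass.coe_finsetSum]
  refine Finset.sum_eq_zero (fun l _ => ?_)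
  exact DirectSum.decompose_of_mem_ne ℳ (hmem l) (by omega)

end aux

section sig
variable {A σ : Type u} [CommRing A] [SetLike σ A] [AddSubgroupClass σ A] (𝒜 : ℕ → σ) [GradedRing 𝒜]
  {M τ : Type u} [AddCommGroup M] [Module A M] [SetLike τ M] [AddSubgroupClass τ M]
  (ℳ : ℕ → τ) [DirectSum.Decomposition ℳ] [SetLike.GradedSMul 𝒜 ℳ] (n : ℤ)
  {f : A} {d : ℕ} (hf : f ∈ 𝒜 d)

open Classical in
/-- The section `m / f ^ k` of `M(n)~` over `D₊(f)`, for `m` homogeneous of degree `i = k d + n`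
(zero otherwise). -/
noncomputable def sig (k i : ℕ) (m : M) : Γ(GrMod.tilde 𝒜 ℳ n, Proj.basicOpen 𝒜 f) :=
  if h : (i : ℤ) = ((k • d : ℕ) : ℤ) + n ∧ m ∈ ℳ i then
    ofSect 𝒜 ℳ n (fracSect 𝒜 ℳ n (Proj.basicOpen 𝒜 f) (SetLike.pow_mem_graded k hf) h.2
      h.1 (fun y => pow_not_mem 𝒜 y k))
  else 0

theorem val_sig {k i : ℕ} {m : M} (hi : (i : ℤ) = ((k • d : ℕ) : ℤ) + n) (h : m ∈ ℳ i)
    (y : Proj.basicOpen 𝒜 f) :
    (((toSect 𝒜 ℳ n (sig 𝒜 ℳ n hf k i m)).1 y : GrMod.tildeAt 𝒜 ℳ n y.1) :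
      GrMod.LocMod 𝒜 (M := M) y.1) = frac 𝒜 y.1 m (f ^ k) (pow_not_mem 𝒜 y k) := by
  have : sig 𝒜 ℳ n hf k i m = ofSect 𝒜 ℳ n (fracSect 𝒜 ℳ n (Proj.basicOpen 𝒜 f)
      (SetLike.pow_mem_graded k hf) h hi (fun y => pow_not_mem 𝒜 y k)) := dif_pos ⟨hi, h⟩
  rw [this]
  rfl

/-- Every section over `D₊(f)` is some `m / f ^ k`. -/
theorem exists_sig (hd : 0 < d) (s : Γ(GrMod.tilde 𝒜 ℳ n, Proj.basicOpen 𝒜 f)) :
    ∃ (k i : ℕ) (m : M), (i : ℤ) = ((k • d : ℕ) : ℤ) + n ∧ m ∈ ℳ i ∧ s = sig 𝒜 ℳ n hf k i m := by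
  obtain ⟨k, i, m, hm, hi, hval⟩ := exists_frac 𝒜 ℳ n hd hf (toSect 𝒜 ℳ n s)
  have hik : (i : ℤ) = ((k • d : ℕ) : ℤ) + n := by
    rw [hi, smul_eq_mul]; push_cast; ring
  refine ⟨k, i, m, hik, hm, ?_⟩
  apply sect_ext
  intro y
  rw [val_sig 𝒜 ℳ n hf hik hm y]
  exact hval y.1 ((Proj.mem_basicOpen 𝒜 f y.1).mp y.2)

theorem sig_add {k i : ℕ} {m m' : M} (hi : (i : ℤ) = ((k • d : ℕ) : ℤ) + n)
    (hm : m ∈ ℳ i) (hm' : m' ∈ ℳ i) :
    sig 𝒜 ℳ n hf k i (m + m') = sig 𝒜 ℳ n hf k i m + sig 𝒜 ℳ n hf k i m' := by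
  apply sect_ext
  intro y
  rw [val_sig 𝒜 ℳ n hf hi (add_mem hm hm') y]
  refine Eq.trans ?_ (congrArg₂ (· + ·) (val_sig 𝒜 ℳ n hf hi hm y)
    (val_sig 𝒜 ℳ n hf hi hm' y)).symm
  change _ = LocalizedModule.mk _ _ + LocalizedModule.mk _ _
  rw [LocalizedModule.mk_add_mk]
  apply frac_eq_of_smul_eq
  simp only [Submonoid.smul_def, smul_add, mul_smul]

theorem sig_zero {k i : ℕ} (hi : (i : ℤ) = ((k • d : ℕ) : ℤ) + n) :
    sig 𝒜 ℳ n hf k i (0 : M) = 0 := by
  have h := sig_add 𝒜 ℳ n hf hi (zero_mem (ℳ i)) (zero_mem (ℳ i))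
  rw [add_zero] at h
  exact left_eq_add.mp h

theorem sig_sum {k i : ℕ} (hi : (i : ℤ) = ((k • d : ℕ) : ℤ) + n) {β : Type*} (s : Finset β)
    (m : β → M) (hm : ∀ b ∈ s, m b ∈ ℳ i) :
    sig 𝒜 ℳ n hf k i (∑ b ∈ s, m b) = ∑ b ∈ s, sig 𝒜 ℳ n hf k i (m b) := by
  classical
  induction s using Finset.induction_on with
  | empty => simpa using sig_zero 𝒜 ℳ n hf hi
  | insert a s ha ih =>
    rw [Finset.sum_insert ha, Finset.sum_insert ha,
      sig_add 𝒜 ℳ n hf hi (hm a (Finset.mem_insert_self a s))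
        (sum_mem fun b hb => hm b (Finset.mem_insert_of_mem hb)),
      ih (fun b hb => hm b (Finset.mem_insert_of_mem hb))]

theorem smul_sig {l k i : ℕ} {b : A} (hb : b ∈ 𝒜 (l • d)) {m : M}
    (hi : (i : ℤ) = ((k • d : ℕ) : ℤ) + n) (hm : m ∈ ℳ i) :
    (Proj.awayToSection 𝒜 f).hom (Away.mk 𝒜 hf l b hb) • sig 𝒜 ℳ n hf k i m =
      sig 𝒜 ℳ n hf (l + k) (l • d + i) (b • m) := by
  have hbm : b • m ∈ ℳ (l • d + i) := SetLike.GradedSMul.smul_mem hb hm
  have hi' : ((l • d + i : ℕ) : ℤ) = (((l + k) • d : ℕ) : ℤ) + n := by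
    simp only [smul_eq_mul] at hi ⊢
    push_cast at hi ⊢
    rw [hi]; ring
  apply sect_ext
  intro y
  have hfy : f ∉ y.1.asHomogeneousIdeal := (Proj.mem_basicOpen 𝒜 f y.1).mp y.2
  have hprime : (y.1 : ProjectiveSpectrum 𝒜).asHomogeneousIdeal.toIdeal.IsPrime := y.1.isPrime
  rw [val_sig 𝒜 ℳ n hf hi' hbm y]
  have hc := val_awayToSection_mk 𝒜 hf l b hb y.1 hfy
  refine Eq.trans (smul_frac 𝒜 ℳ n y.1 _ _ _ _ hc m _ _ _ (val_sig 𝒜 ℳ n hf hi hm y)) ?_
  apply frac_eq_of_smul_eq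
  rw [pow_add]

end sig

section main
variable {A σ : Type u} [CommRing A] [SetLike σ A] [AddSubgroupClass σ A] (𝒜 : ℕ → σ) [GradedRing 𝒜]
  {M τ : Type u} [AddCommGroup M] [Module A M] [SetLike τ M] [AddSubgroupClass τ M]
  (ℳ : ℕ → τ) [DirectSum.Decomposition ℳ] [SetLike.GradedSMul 𝒜 ℳ] (n : ℤ)
  {f : A} {d : ℕ}

/-- **Finiteness of the sections of `M(n)~` over `D₊(f)`** for a Noetherian graded module. -/
theorem finite_sections [IsNoetherian A M] (hf : f ∈ 𝒜 d) (hd : 0 < d) :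
    Module.Finite Γ(Proj 𝒜, Proj.basicOpen 𝒜 f)
      Γ(GrMod.tilde 𝒜 ℳ n, Proj.basicOpen 𝒜 f) := by
  classical
  -- the homogeneous elements of degrees `k d + n`
  set S : Set M := {m | ∃ k i : ℕ, (i : ℤ) = ((k • d : ℕ) : ℤ) + n ∧ m ∈ ℳ i} with hS
  have hfg : (Submodule.span A S).FG := IsNoetherian.noetherian _
  obtain ⟨T, hTsub, hTspan⟩ := (Submodule.fg_span_iff_fg_span_finset_subset _).mp hfg
  have hdeg : ∀ t ∈ T, ∃ k i : ℕ, (i : ℤ) = ((k • d : ℕ) : ℤ) + n ∧ t ∈ ℳ i := fun t ht => hTsub ht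
  choose! kk ii hii hmm using hdeg
  refine ⟨⟨T.attach.image (fun t => sig 𝒜 ℳ n hf (kk t.1) (ii t.1) t.1), ?_⟩⟩
  rw [eq_top_iff]
  rintro s -
  obtain ⟨k, i, m, hi, hm, rfl⟩ := exists_sig 𝒜 ℳ n hf hd s
  have hmS : m ∈ Submodule.span A (T : Set M) := by
    rw [← hTspan]; exact Submodule.subset_span ⟨k, i, hi, hm⟩
  obtain ⟨c, hc⟩ := (Submodule.mem_span_finset').mp hmS
  -- homogeneous coefficients
  set bb : T → A := fun t =>
    if ii t.1 ≤ i then ((DirectSum.decompose 𝒜 (c t) (i - ii t.1) : 𝒜 _) : A) else 0 with hbb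
  have hdec : m = ∑ t ∈ T.attach, bb t • (t.1 : M) := by
    have h1 : m = ((DirectSum.decompose ℳ m) i : M) :=
      (DirectSum.decompose_of_mem_same ℳ hm).symm
    rw [h1, ← hc, DirectSum.decompose_sum, DFinsupp.finsetSum_apply,
      AddSubmonoidClass.coe_finsetSum]
    refine Finset.sum_congr rfl (fun t _ => ?_)
    by_cases hle : ii t.1 ≤ i
    · have e : i = (i - ii t.1) + ii t.1 := by omega
      have := decompose_smul_of_mem 𝒜 ℳ (c t) (hmm t.1 t.2) (i - ii t.1)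
      rw [← e] at this
      rw [this, hbb]; simp only [if_pos hle]
    · rw [decompose_smul_of_lt 𝒜 ℳ (c t) (hmm t.1 t.2) (by omega), hbb]
      simp only [if_neg hle, zero_smul]
  -- each term is a multiple of a generator
  have hterm : ∀ t : T, bb t • (t.1 : M) ∈ ℳ i ∧
      sig 𝒜 ℳ n hf k i (bb t • (t.1 : M)) ∈ Submodule.span Γ(Proj 𝒜, Proj.basicOpen 𝒜 f)
        (↑(T.attach.image (fun t => sig 𝒜 ℳ n hf (kk t.1) (ii t.1) t.1)) :
          Set Γ(GrMod.tilde 𝒜 ℳ n, Proj.basicOpen 𝒜 f)) := by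
    intro t
    by_cases hle : ii t.1 ≤ i
    · have hkk : kk t.1 ≤ k := by
        by_contra hlt
        push Not at hlt
        have h1 := hii t.1 t.2
        simp only [smul_eq_mul] at h1 hi
        push_cast at h1 hi
        have h2 : (ii t.1 : ℤ) ≤ i := by exact_mod_cast hle
        have h3 : (k : ℤ) + 1 ≤ kk t.1 := by exact_mod_cast hlt
        have h4 : (0 : ℤ) < d := by exact_mod_cast hd
        nlinarith
      have hidx : i - ii t.1 = (k - kk t.1) • d := by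
        have h1 := hii t.1 t.2
        simp only [smul_eq_mul] at h1 hi ⊢
        push_cast at h1 hi
        zify [hle, hkk]
        rw [hi, h1]; ring
      have hbmem : bb t ∈ 𝒜 ((k - kk t.1) • d) := by
        rw [hbb]; simp only [if_pos hle]
        rw [← hidx]
        exact SetLike.coe_mem _
      have hsm := smul_sig 𝒜 ℳ n hf hbmem (hii t.1 t.2) (hmm t.1 t.2)
      have e1 : k - kk t.1 + kk t.1 = k := by omega
      have e2 : (k - kk t.1) • d + ii t.1 = i := by rw [← hidx]; omega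
      rw [e1, e2] at hsm
      refine ⟨?_, ?_⟩
      · have : bb t • (t.1 : M) ∈ ℳ ((k - kk t.1) • d + ii t.1) :=
          SetLike.GradedSMul.smul_mem (A := 𝒜) (B := ℳ) hbmem (hmm t.1 t.2)
        rw [e2] at this
        exact this
      · rw [← hsm]
        refine Submodule.smul_mem _ _ (Submodule.subset_span ?_)
        rw [Finset.coe_image]
        exact ⟨t, Finset.mem_coe.mpr (Finset.mem_attach _ _), rfl⟩
    · have h0 : bb t = 0 := by rw [hbb]; simp only [if_neg hle]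
      rw [h0, zero_smul]
      refine ⟨zero_mem _, ?_⟩
      rw [sig_zero 𝒜 ℳ n hf hi]
      exact zero_mem _
  rw [hdec, sig_sum 𝒜 ℳ n hf hi _ _ (fun t _ => (hterm t).1)]
  exact Submodule.sum_mem _ (fun t _ => (hterm t).2)

/-- `M(n)~` is of finite type for a Noetherian graded module `M` (any twist `n`). -/
theorem isFT_tilde [IsNoetherian A M] :
    SheafOfModules.IsFiniteType (R := (Proj 𝒜).ringCatSheaf) (GrMod.tilde 𝒜 ℳ n) := by
  classical
  have : (GrMod.tilde 𝒜 ℳ n).IsQuasicoherent :=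
    Groth.Agent.Lib.Helper42.GrQCohA.isQuasicoherent_tilde 𝒜 ℳ n
  refine Groth.Agent.Lib.Helper49.isFiniteType_of_finite_sections_cover (GrMod.tilde 𝒜 ℳ n)
    (ι := Σ d : ℕ, {f : A // 0 < d ∧ f ∈ 𝒜 d})
    (fun i => Proj.basicOpen 𝒜 i.2.1)
    (fun i => Proj.isAffineOpen_basicOpen 𝒜 i.2.1 i.2.2.2 i.2.2.1) ?_ ?_
  · intro y
    obtain ⟨s, d, hd, hs, hy⟩ := Groth.Agent.Lib.Helper17.exists_homogeneous_pos_mem_basicOpen 𝒜 y
    exact ⟨⟨d, s, hd, hs⟩, hy⟩
  · rintro ⟨d, f, hd, hf⟩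
    exact finite_sections 𝒜 ℳ n hf hd

end main

section rel
open Groth.Agent.Lib.Helper42.RelTilde
variable {Y P : Scheme.{u}} {𝒮 : RelProj.QCGrAlg Y} {p : P ⟶ Y}
  {chart : ∀ (U : Y.Opens) (hU : IsAffineOpen U), (((p ⁻¹ᵁ U : P.Opens) : Scheme.{u}) ≅ Proj (𝒮.deg U hU))}
  {n : ℤ} {L : P.Modules}
  {lam : ∀ (U : Y.Opens) (hU : IsAffineOpen U),
      L ⟶ (Scheme.Modules.pushforward (RelProj.emb p chart U hU)).obj (GrTwist.twist (𝒮.deg U hU) n)}

/-- The relative twisting sheaf `O_X(n)` on `Proj 𝒮` is of finite type when the rings of sections of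
`𝒮` over the affine opens are Noetherian (no generation in degree one needed). -/
theorem isFT_of_isRelTwist
    (hN : ∀ (U : Y.Opens) (_ : IsAffineOpen U), IsNoetherianRing (𝒮.presheaf.obj (op U)))
    (hL : RelProj.IsRelTwist 𝒮 p chart n L lam) :
    SheafOfModules.IsFiniteType (R := P.ringCatSheaf) L := by
  refine Groth.Agent.Lib.Helper49.isFiniteType_of_forall_restrict L (ι := Y.affineOpens)
    (fun i => Proj (𝒮.deg i.1 i.2)) (fun i => RelProj.emb p chart i.1 i.2) ?_ ?_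
  · intro x
    obtain ⟨U, hU, hx⟩ := exists_affine_mem p x
    obtain ⟨y, hy⟩ := exists_emb_eq (chart := chart) U hU hx
    exact ⟨⟨U, hU⟩, y, hy⟩
  · intro i
    have := hN i.1 i.2
    exact Groth.Agent.Lib.Helper49.isFiniteType_of_iso (chartIsoTwist hL i.1 i.2).symm
      (isFT_tilde (𝒮.deg i.1 i.2) (𝒮.deg i.1 i.2) n)

end rel

end Groth.Agent.Lib.Helper63.TwistFinite
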