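import Mathlib
import Groth.Prelude.Def_W4c1hilbpnTgt
import Groth.Agent.Lib.Helper92.HilbTgt
import Groth.Agent.Lib.Helper92.HilbTgtDecomp
import Groth.Agent.Lib.Helper92.HilbTgtPow3

/-!
# Degree-zero part of `Hom(I, S/I)` for the ideal of two transverse coordinate subspaces (helper63)

`I = (x_a x_b : a ∈ A, b ∈ B)` for disjoint sets of variables `A`, `B`.
-/

set_option autoImplicit false

namespace Groth.Agent.Lib.Helper63.TwoPlanes
set_option linter.unusedSectionVars false

open MvPolynomial W4c1hilbpn Groth.Agent.Lib.Helper92.HilbTgt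
  Groth.Agent.Lib.Helper92.HilbTgtDecomp

universe u

variable {k : Type u} [Field k] {N : ℕ}

/-- the ideal generated by the products `x_a x_b`, `a ∈ A`, `b ∈ B` -/
noncomputable def J (k : Type u) [Field k] {N : ℕ} (A B : Finset (Fin N)) : Ideal (MvPolynomial (Fin N) k) :=
  Ideal.span {f | ∃ a ∈ A, ∃ b ∈ B, f = X a * X b}

lemma J_comm (A B : Finset (Fin N)) : J k A B = J k B A := by
  unfold J
  congr 1
  ext f
  constructor
  · rintro ⟨a, ha, b, hb, rfl⟩
    exact ⟨b, hb, a, ha, mul_comm _ _⟩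
  · rintro ⟨a, ha, b, hb, rfl⟩
    exact ⟨b, hb, a, ha, mul_comm _ _⟩

/-- exponent of a generator -/
noncomputable def ge (a b : Fin N) : Fin N →₀ ℕ := Finsupp.single a 1 + Finsupp.single b 1

lemma X_mul_X (a b : Fin N) : (X a * X b : MvPolynomial (Fin N) k) = monomial (ge a b) 1 := by
  rw [X, X, monomial_mul, one_mul, ge]

lemma J_eq (A B : Finset (Fin N)) : J k A B = Ideal.span
    ((fun s => monomial s (1 : k)) '' {s | ∃ a ∈ A, ∃ b ∈ B, s = ge a b}) := by
  unfold J
  congr 1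
  ext f
  constructor
  · rintro ⟨a, ha, b, hb, rfl⟩
    exact ⟨ge a b, ⟨a, ha, b, hb, rfl⟩, (X_mul_X a b).symm⟩
  · rintro ⟨s, ⟨a, ha, b, hb, rfl⟩, rfl⟩
    exact ⟨a, ha, b, hb, (X_mul_X a b).symm⟩

lemma ge_apply_of_ne {a b i : Fin N} (hia : i ≠ a) (hib : i ≠ b) : ge a b i = 0 := by
  rw [ge, Finsupp.add_apply, Finsupp.single_eq_of_ne hia, Finsupp.single_eq_of_ne hib, add_zero]

lemma ge_apply_left {a b : Fin N} (hab : a ≠ b) : ge a b a = 1 := by
  rw [ge, Finsupp.add_apply, Finsupp.single_eq_same, Finsupp.single_eq_of_ne hab, add_zero]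

lemma ge_apply_right {a b : Fin N} (hab : a ≠ b) : ge a b b = 1 := by
  rw [ge, Finsupp.add_apply, Finsupp.single_eq_same, Finsupp.single_eq_of_ne hab.symm, zero_add]

lemma ge_le_iff {a b : Fin N} (hab : a ≠ b) (β : Fin N →₀ ℕ) :
    ge a b ≤ β ↔ 1 ≤ β a ∧ 1 ≤ β b := by
  constructor
  · intro h
    have h1 := h a
    have h2 := h b
    rw [ge_apply_left hab] at h1
    rw [ge_apply_right hab] at h2
    exact ⟨h1, h2⟩
  · rintro ⟨h1, h2⟩ i
    by_cases hia : i = a
    · subst hia
      rw [ge_apply_left hab]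
      exact h1
    · by_cases hib : i = b
      · subst hib
        rw [ge_apply_right hab]
        exact h2
      · rw [ge_apply_of_ne hia hib]
        exact Nat.zero_le _

variable {A B : Finset (Fin N)}

lemma ne_of_disjoint (hAB : Disjoint A B) {a b : Fin N} (ha : a ∈ A) (hb : b ∈ B) : a ≠ b := by
  rintro rfl
  exact (Finset.disjoint_left.mp hAB ha) hb

lemma mem_J_iff (hAB : Disjoint A B) (p : MvPolynomial (Fin N) k) :
    p ∈ J k A B ↔ ∀ β ∈ p.support, (∃ a ∈ A, 1 ≤ β a) ∧ (∃ b ∈ B, 1 ≤ β b) := by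
  rw [J_eq, mem_ideal_span_monomial_image]
  constructor
  · intro h β hβ
    obtain ⟨s, ⟨a, ha, b, hb, rfl⟩, hle⟩ := h β hβ
    have hab := ne_of_disjoint hAB ha hb
    rw [ge_le_iff hab] at hle
    exact ⟨⟨a, ha, hle.1⟩, ⟨b, hb, hle.2⟩⟩
  · intro h β hβ
    obtain ⟨⟨a, ha, h1⟩, ⟨b, hb, h2⟩⟩ := h β hβ
    have hab := ne_of_disjoint hAB ha hb
    exact ⟨ge a b, ⟨a, ha, b, hb, rfl⟩, (ge_le_iff hab β).mpr ⟨h1, h2⟩⟩

lemma mem_exps_J (hAB : Disjoint A B) (β : Fin N →₀ ℕ) :
    β ∈ exps (J k A B) ↔ (∃ a ∈ A, 1 ≤ β a) ∧ (∃ b ∈ B, 1 ≤ β b) := by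
  classical
  rw [mem_exps, mem_J_iff hAB]
  constructor
  · intro h
    apply h β
    rw [mem_support_iff, coeff_monomial, if_pos rfl]
    exact one_ne_zero
  · intro h β' hβ'
    rw [mem_support_iff, coeff_monomial] at hβ'
    by_cases hb : β = β'
    · rw [← hb]
      exact h
    · rw [if_neg hb] at hβ'
      exact absurd rfl hβ'

lemma isMonomial_J (hAB : Disjoint A B) : IsMonomial (J k A B) := by
  intro p hp β hβ
  have h1 := (mem_J_iff hAB p).mp hp β hβ
  exact (mem_exps_J hAB β).mpr h1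

lemma ge_mem (hAB : Disjoint A B) {a b : Fin N} (ha : a ∈ A) (hb : b ∈ B) :
    ge a b ∈ exps (J k A B) := by
  have hab := ne_of_disjoint hAB ha hb
  rw [mem_exps_J hAB]
  exact ⟨⟨a, ha, (ge_apply_left hab).ge⟩, ⟨b, hb, (ge_apply_right hab).ge⟩⟩

lemma ge_mem' (hAB : Disjoint A B) {a b : Fin N} (ha : a ∈ A) (hb : b ∈ B) :
    monomial (ge a b) (1 : k) ∈ J k A B := ge_mem hAB ha hb

/-- extensionality on generators -/
lemma tgt_ext_gens (hAB : Disjoint A B) (φ ψ : Tgt (J k A B))
    (h : ∀ a (ha : a ∈ A) b (hb : b ∈ B),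
      φ ⟨monomial (ge a b) 1, ge_mem' hAB ha hb⟩ = ψ ⟨monomial (ge a b) 1, ge_mem' hAB ha hb⟩) :
    φ = ψ := by
  refine tgt_ext_of_le φ ψ ((fun s => monomial s (1 : k)) '' {s | ∃ a ∈ A, ∃ b ∈ B, s = ge a b})
    ?_ (le_of_eq (J_eq A B)) ?_
  · rintro _ ⟨s, ⟨a, ha, b, hb, rfl⟩, rfl⟩
    exact ge_mem hAB ha hb
  · rintro _ ⟨s, ⟨a, ha, b, hb, rfl⟩, rfl⟩
    exact h a ha b hb

/-- the generator as an element of `J` -/
noncomputable def gen (hAB : Disjoint A B) {a b : Fin N} (ha : a ∈ A) (hb : b ∈ B) :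
    ↥(J k A B) := ⟨monomial (ge a b) 1, ge_mem' hAB ha hb⟩

lemma rel_B (hAB : Disjoint A B) {a b b' : Fin N} (ha : a ∈ A) (hb : b ∈ B) (hb' : b' ∈ B) :
    (X b' : MvPolynomial (Fin N) k) • gen (k := k) hAB ha hb =
      (X b : MvPolynomial (Fin N) k) • gen (k := k) hAB ha hb' := by
  apply Subtype.ext
  change (X b' * monomial (ge a b) (1 : k) : MvPolynomial (Fin N) k) = X b * monomial (ge a b') 1
  rw [X_mul_monomial_one, X_mul_monomial_one]
  congr 1
  unfold ge
  abel

lemma rel_A (hAB : Disjoint A B) {a a' b : Fin N} (ha : a ∈ A) (ha' : a' ∈ A) (hb : b ∈ B) :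
    (X a' : MvPolynomial (Fin N) k) • gen (k := k) hAB ha hb =
      (X a : MvPolynomial (Fin N) k) • gen (k := k) hAB ha' hb := by
  apply Subtype.ext
  change (X a' * monomial (ge a b) (1 : k) : MvPolynomial (Fin N) k) = X a * monomial (ge a' b) 1
  rw [X_mul_monomial_one, X_mul_monomial_one]
  congr 1
  unfold ge
  abel

/-- the multidegree `e_l - e_a` -/
def al (a l : Fin N) : Fin N → ℤ := fun i => (if i = l then 1 else 0) - (if i = a then 1 else 0)

lemma al_apply (a l i : Fin N) : al a l i = (if i = l then 1 else 0) - (if i = a then 1 else 0) :=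
  rfl

lemma sum_al (a l : Fin N) : ∑ i, al a l i = 0 := by
  simp [al, Finset.sum_sub_distrib]

lemma al_injective {a l a' l' : Fin N} (hal : a ≠ l) (h : al a l = al a' l') :
    a = a' ∧ l = l' := by
  have h1 := congrFun h a
  have h2 := congrFun h l
  simp only [al_apply, if_neg hal, if_neg hal.symm] at h1 h2
  constructor
  · by_contra hne
    rw [if_neg hne] at h1
    split_ifs at h1 <;> omega
  · by_contra hne
    rw [if_neg hne] at h2
    split_ifs at h2 <;> omega

/-- the derivation-like homomorphism `x_l ∂/∂x_a` -/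
noncomputable def D (A B : Finset (Fin N)) (a l : Fin N) : Tgt (J k A B) where
  toFun p := Ideal.Quotient.mk _ (X l * pderiv a p.1)
  map_add' p q := by
    change Ideal.Quotient.mk _ (X l * pderiv a (p.1 + q.1)) = _
    rw [map_add, mul_add, map_add]
  map_smul' s p := by
    change Ideal.Quotient.mk _ (X l * pderiv a (s * p.1)) =
      s • Ideal.Quotient.mk _ (X l * pderiv a p.1)
    rw [Derivation.leibniz, smul_eq_mul, smul_eq_mul, mul_add, map_add]
    have h0 : Ideal.Quotient.mk (J k A B) (X l * (p.1 * pderiv a s)) = 0 := by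
      rw [Ideal.Quotient.eq_zero_iff_mem, mul_left_comm]
      exact Ideal.mul_mem_right _ _ p.2
    rw [h0, add_zero, mul_left_comm]
    rfl

lemma D_monomial (a l : Fin N) (β : Fin N →₀ ℕ) (hβ : monomial β (1 : k) ∈ J k A B) :
    D A B a l ⟨monomial β 1, hβ⟩ = Ideal.Quotient.mk _
      (monomial (Finsupp.single l 1 + (β - Finsupp.single a 1)) ((β a : ℕ) : k)) := by
  change Ideal.Quotient.mk _ (X l * pderiv a (monomial β (1 : k))) = _
  rw [pderiv_monomial, X, monomial_mul, one_mul, one_mul]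

lemma shift_al {a l : Fin N} (hal : a ≠ l) (β : Fin N →₀ ℕ) (hβa : 1 ≤ β a) :
    shift β (al a l) = Finsupp.single l 1 + (β - Finsupp.single a 1) := by
  ext i
  rw [shift_eq, natPart_apply, toZ_apply, al_apply, Finsupp.add_apply, Finsupp.tsub_apply]
  by_cases hil : i = l
  · subst hil
    rw [if_pos rfl, if_neg hal.symm, Finsupp.single_eq_same, Finsupp.single_eq_of_ne hal.symm]
    omega
  · rw [if_neg hil, Finsupp.single_eq_of_ne hil]
    by_cases hia : i = a
    · subst hia
      rw [if_pos rfl, Finsupp.single_eq_same]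
      omega
    · rw [if_neg hia, Finsupp.single_eq_of_ne hia]
      omega

lemma D_mem {a l : Fin N} (hal : a ≠ l) : D A B a l ∈ tPiece (J k A B) (al a l) := by
  intro β hβ
  constructor
  · intro hnn
    have hβa : 1 ≤ β a := by
      have := hnn a
      rw [al_apply, if_neg hal, if_pos rfl] at this
      omega
    rw [D_monomial, ← shift_al hal β hβa]
    have : monomial (shift β (al a l)) ((β a : ℕ) : k) =
        ((β a : ℕ) : k) • monomial (shift β (al a l)) (1 : k) := by
      rw [smul_monomial, smul_eq_mul, mul_one]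
    rw [this, ← smul_mk]
    exact Submodule.smul_mem _ _ (Submodule.subset_span rfl)
  · rintro ⟨i, hi⟩
    have hia : i = a := by
      by_contra hia
      rw [al_apply, if_neg hia] at hi
      split_ifs at hi <;> omega
    subst hia
    rw [al_apply, if_neg hal, if_pos rfl] at hi
    have hβ0 : β i = 0 := by omega
    rw [D_monomial, hβ0, Nat.cast_zero, monomial_zero, map_zero]

/-- monomials without `A`-variables are not in `J` -/
lemma notMem_exps_of_forall (hAB : Disjoint A B) {γ : Fin N →₀ ℕ} (h : ∀ a ∈ A, γ a = 0) :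
    γ ∉ exps (J k A B) := by
  rw [mem_exps_J hAB]
  rintro ⟨⟨a, ha, h1⟩, -⟩
  rw [h a ha] at h1
  omega

lemma D_gen (hAB : Disjoint A B) {a b l : Fin N} (ha : a ∈ A) (hb : b ∈ B) :
    D A B a l (gen (k := k) hAB ha hb) =
      Ideal.Quotient.mk _ (monomial (Finsupp.single l 1 + Finsupp.single b 1) (1 : k)) := by
  have hab := ne_of_disjoint hAB ha hb
  rw [gen, D_monomial, ge_apply_left hab, Nat.cast_one]
  congr 3
  unfold ge
  rw [add_tsub_cancel_left]

lemma gen_eq_zero_of_ne (hAB : Disjoint A B) {a a' b l : Fin N} (ha : a ∈ A) (ha' : a' ∈ A)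
    (hb : b ∈ B) (hne : a' ≠ a) (hal : a ≠ l) {φ : Tgt (J k A B)}
    (hφ : φ ∈ tPiece (J k A B) (al a l)) : φ (gen hAB ha' hb) = 0 := by
  apply (hφ (ge a' b) (ge_mem hAB ha' hb)).2
  refine ⟨a, ?_⟩
  have hab := ne_of_disjoint hAB ha hb
  rw [ge_apply_of_ne hne.symm hab, al_apply, if_neg hal, if_pos rfl]
  norm_num

lemma shift_ge_al (hAB : Disjoint A B) {a b l : Fin N} (ha : a ∈ A) (hb : b ∈ B) (hal : a ≠ l) :
    shift (ge a b) (al a l) = Finsupp.single l 1 + Finsupp.single b 1 := by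
  have hab := ne_of_disjoint hAB ha hb
  rw [shift_al hal _ (ge_apply_left hab).ge]
  unfold ge
  rw [add_tsub_cancel_left]

theorem finrank_tPiece_al (hAB : Disjoint A B) (hB : B.Nonempty) {a l : Fin N} (ha : a ∈ A)
    (hl : l ∉ A) : Module.finrank k ↥(tPiece (J k A B) (al a l)) = 1 := by
  classical
  have hal : a ≠ l := fun h => hl (h ▸ ha)
  have hI := isMonomial_J (k := k) hAB
  obtain ⟨b₀, hb₀⟩ := hB
  -- monomials `x_l x_b x_b'` are not in `J`
  have hnot : ∀ b ∈ B, Finsupp.single l 1 + Finsupp.single b 1 ∉ exps (J k A B) := by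
    intro b hb
    apply notMem_exps_of_forall hAB
    intro a' ha'
    have h1 : a' ≠ l := fun h => hl (h ▸ ha')
    have h2 : a' ≠ b := ne_of_disjoint hAB ha' hb
    rw [Finsupp.add_apply, Finsupp.single_eq_of_ne h1, Finsupp.single_eq_of_ne h2, add_zero]
  have hnot3 : ∀ b ∈ B, ∀ b' ∈ B, Finsupp.single l 1 + Finsupp.single b 1 + Finsupp.single b' 1 ∉
      exps (J k A B) := by
    intro b hb b' hb'
    apply notMem_exps_of_forall hAB
    intro a' ha'
    have h1 : a' ≠ l := fun h => hl (h ▸ ha')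
    have h2 : a' ≠ b := ne_of_disjoint hAB ha' hb
    have h3 : a' ≠ b' := ne_of_disjoint hAB ha' hb'
    rw [Finsupp.add_apply, Finsupp.add_apply, Finsupp.single_eq_of_ne h1,
      Finsupp.single_eq_of_ne h2, Finsupp.single_eq_of_ne h3, add_zero, add_zero]
  have hD0 : (⟨D A B a l, D_mem hal⟩ : ↥(tPiece (J k A B) (al a l))) ≠ 0 := by
    intro h0
    have h1 := congrArg (fun φ : ↥(tPiece (J k A B) (al a l)) => φ.1 (gen hAB ha hb₀)) h0
    simp only [ZeroMemClass.coe_zero, LinearMap.zero_apply] at h1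
    rw [D_gen hAB ha hb₀, Ideal.Quotient.eq_zero_iff_mem] at h1
    exact hnot b₀ hb₀ h1
  refine (finrank_eq_one_iff_of_nonzero' (K := k) (V := ↥(tPiece (J k A B) (al a l)))
    ⟨D A B a l, D_mem hal⟩ hD0).mpr ?_
  rintro ⟨φ, hφ⟩
  -- the coefficients
  have hcoef : ∀ b (hb : b ∈ B), ∃ c : k, φ (gen hAB ha hb) =
      c • Ideal.Quotient.mk _ (monomial (Finsupp.single l 1 + Finsupp.single b 1) (1 : k)) := by
    intro b hb
    have hab := ne_of_disjoint hAB ha hb
    have hnn : ∀ i, 0 ≤ toZ (ge a b) (al a l) i := by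
      intro i
      rw [toZ_apply, al_apply]
      by_cases hia : i = a
      · subst hia
        rw [ge_apply_left hab]
        split_ifs <;> omega
      · rw [if_neg hia]
        split_ifs <;> omega
    obtain ⟨c, hc⟩ := apply_eq_smul_of_mem hφ (ge_mem hAB ha hb) hnn
    rw [shift_ge_al hAB ha hb hal] at hc
    exact ⟨c, hc⟩
  choose cc hcc using hcoef
  have hceq : ∀ b (hb : b ∈ B) b' (hb' : b' ∈ B), cc b hb = cc b' hb' := by
    intro b hb b' hb'
    have h1 := congrArg φ (rel_B (k := k) hAB ha hb hb')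
    rw [map_smul, map_smul, hcc b hb, hcc b' hb', smul_comm, smul_comm (X b), Xsmul_mk, Xsmul_mk,
      X_mul_monomial_one, X_mul_monomial_one] at h1
    have h2 : Finsupp.single l 1 + Finsupp.single b' 1 + Finsupp.single b 1 =
        Finsupp.single l 1 + Finsupp.single b 1 + Finsupp.single b' 1 := by abel
    rw [h2, ← sub_eq_zero, ← sub_smul] at h1
    exact sub_eq_zero.mp (smul_mk_eq_zero hI (hnot3 b hb b' hb') h1)
  refine ⟨cc b₀ hb₀, ?_⟩
  apply Subtype.ext
  apply tgt_ext_gens hAB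
  intro a' ha' b hb
  change (cc b₀ hb₀ • D A B a l) (gen hAB ha' hb) = φ (gen hAB ha' hb)
  rw [LinearMap.smul_apply]
  by_cases hne : a' = a
  · subst hne
    rw [D_gen hAB ha' hb, hcc b hb, hceq b₀ hb₀ b hb]
  · rw [gen_eq_zero_of_ne hAB ha ha' hb hne hal hφ,
      gen_eq_zero_of_ne hAB ha ha' hb hne hal (D_mem hal), smul_zero]

lemma eq_al_of (α : Fin N → ℤ) (a : Fin N) (ha : α a = -1) (hnn : ∀ i, i ≠ a → 0 ≤ α i)
    (hsum : ∑ i, α i = 0) : ∃ l, l ≠ a ∧ α = al a l := by
  classical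
  have h1 : α a + ∑ i ∈ Finset.univ.erase a, α i = 0 := by
    rw [Finset.add_sum_erase _ _ (Finset.mem_univ a)]
    exact hsum
  have h2 : ∑ i ∈ Finset.univ.erase a, α i = 1 := by omega
  obtain ⟨l, hl, hlpos⟩ : ∃ l ∈ Finset.univ.erase a, 0 < α l := by
    by_contra hcon
    push Not at hcon
    have : ∑ i ∈ Finset.univ.erase a, α i = 0 := by
      apply Finset.sum_eq_zero
      intro i hi
      exact le_antisymm (hcon i hi) (hnn i (Finset.ne_of_mem_erase hi))
    omega
  have hla : l ≠ a := Finset.ne_of_mem_erase hl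
  have h3 : α l + ∑ i ∈ (Finset.univ.erase a).erase l, α i = 1 := by
    rw [Finset.add_sum_erase _ _ hl]
    exact h2
  have h4 : 0 ≤ ∑ i ∈ (Finset.univ.erase a).erase l, α i := by
    apply Finset.sum_nonneg
    intro i hi
    exact hnn i (Finset.ne_of_mem_erase (Finset.mem_of_mem_erase hi))
  have h5 : α l = 1 := by omega
  have h6 : ∑ i ∈ (Finset.univ.erase a).erase l, α i = 0 := by omega
  have h7 : ∀ i ∈ (Finset.univ.erase a).erase l, α i = 0 := by
    apply (Finset.sum_eq_zero_iff_of_nonneg ?_).mp h6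
    intro i hi
    exact hnn i (Finset.ne_of_mem_erase (Finset.mem_of_mem_erase hi))
  refine ⟨l, hla, ?_⟩
  funext i
  rw [al_apply]
  by_cases hia : i = a
  · subst hia
    rw [if_neg hla.symm, if_pos rfl, ha]
    norm_num
  · rw [if_neg hia]
    by_cases hil : i = l
    · subst hil
      rw [if_pos rfl, h5]
      norm_num
    · rw [if_neg hil]
      have : i ∈ (Finset.univ.erase a).erase l :=
        Finset.mem_erase.mpr ⟨hil, Finset.mem_erase.mpr ⟨hia, Finset.mem_univ i⟩⟩
      rw [h7 i this]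
      norm_num

lemma shift_ge_apply (a b : Fin N) (α : Fin N → ℤ) (i : Fin N) :
    shift (ge a b) α i = ((ge a b i : ℤ) + α i).toNat := by
  rw [shift_eq, natPart_apply, toZ_apply]

/-- classification of the nonzero degree-zero pieces -/
theorem classify (hAB : Disjoint A B) (hA2 : 1 < A.card) (hB2 : 1 < B.card) (α : Fin N → ℤ)
    (hsum : ∑ i, α i = 0) (φ : Tgt (J k A B)) (hφ : φ ∈ tPiece (J k A B) α) (hφ0 : φ ≠ 0) :
    (∃ a ∈ A, ∃ l, l ∉ A ∧ α = al a l) ∨ (∃ b ∈ B, ∃ l, l ∉ B ∧ α = al b l) := by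
  classical
  have hI := isMonomial_J (k := k) hAB
  -- a generator on which `φ` does not vanish
  obtain ⟨a, ha, b, hb, hne⟩ : ∃ a, ∃ ha : a ∈ A, ∃ b, ∃ hb : b ∈ B, φ (gen hAB ha hb) ≠ 0 := by
    by_contra hcon
    push Not at hcon
    apply hφ0
    apply tgt_ext_gens hAB
    intro a ha b hb
    rw [LinearMap.zero_apply]
    exact hcon a ha b hb
  have hab := ne_of_disjoint hAB ha hb
  have hnn : ∀ i, 0 ≤ toZ (ge a b) α i := by
    by_contra hcon
    push Not at hcon
    exact hne ((hφ (ge a b) (ge_mem' hAB ha hb)).2 hcon)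
  obtain ⟨c, hc⟩ := apply_eq_smul_of_mem hφ (ge_mem hAB ha hb) hnn
  have hc' : φ (gen hAB ha hb) = c • Ideal.Quotient.mk (J k A B)
      (monomial (shift (ge a b) α) (1 : k)) := hc
  have hc0 : c ≠ 0 := by
    rintro rfl
    rw [zero_smul] at hc'
    exact hne hc'
  have hγ : shift (ge a b) α ∉ exps (J k A B) := by
    intro hmem
    rw [mk_monomial_eq_zero hmem, smul_zero] at hc'
    exact hne hc'
  have hαnn : ∀ i, i ≠ a → i ≠ b → 0 ≤ α i := by
    intro i hia hib
    have := hnn i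
    rw [toZ_apply, ge_apply_of_ne hia hib] at this
    simpa using this
  have hαa : -1 ≤ α a := by
    have := hnn a
    rw [toZ_apply, ge_apply_left hab] at this
    push_cast at this
    omega
  have hαb : -1 ≤ α b := by
    have := hnn b
    rw [toZ_apply, ge_apply_right hab] at this
    push_cast at this
    omega
  by_cases ha0 : 0 ≤ α a
  · by_cases hb0 : 0 ≤ α b
    · -- `α = 0`
      exfalso
      have hall : ∀ i, 0 ≤ α i := by
        intro i
        by_cases hia : i = a
        · rw [hia]; exact ha0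
        · by_cases hib : i = b
          · rw [hib]; exact hb0
          · exact hαnn i hia hib
      have hz : ∀ i ∈ Finset.univ, α i = 0 :=
        (Finset.sum_eq_zero_iff_of_nonneg fun i _ => hall i).mp hsum
      apply hγ
      have : shift (ge a b) α = ge a b := by
        ext i
        rw [shift_ge_apply, hz i (Finset.mem_univ i), add_zero, Int.toNat_natCast]
      rw [this]
      exact ge_mem hAB ha hb
    · -- `α = e_l - e_b`
      right
      have hb1 : α b = -1 := by omega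
      obtain ⟨l, hlb, hαl⟩ := eq_al_of α b hb1 (fun i hib => by
        by_cases hia : i = a
        · rw [hia]; exact ha0
        · exact hαnn i hia hib) hsum
      refine ⟨b, hb, l, ?_, hαl⟩
      intro hlB
      apply hγ
      rw [mem_exps_J hAB]
      refine ⟨⟨a, ha, ?_⟩, ⟨l, hlB, ?_⟩⟩
      · rw [shift_ge_apply, ge_apply_left hab]
        have : 0 ≤ α a := ha0
        omega
      · rw [shift_ge_apply, hαl, al_apply, if_pos rfl, if_neg hlb]
        omega
  · have ha1 : α a = -1 := by omega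
    by_cases hb0 : 0 ≤ α b
    · -- `α = e_l - e_a`
      left
      obtain ⟨l, hla, hαl⟩ := eq_al_of α a ha1 (fun i hia => by
        by_cases hib : i = b
        · rw [hib]; exact hb0
        · exact hαnn i hia hib) hsum
      refine ⟨a, ha, l, ?_, hαl⟩
      intro hlA
      apply hγ
      rw [mem_exps_J hAB]
      refine ⟨⟨l, hlA, ?_⟩, ⟨b, hb, ?_⟩⟩
      · rw [shift_ge_apply, hαl, al_apply, if_pos rfl, if_neg hla]
        omega
      · rw [shift_ge_apply, ge_apply_right hab]
        have : 0 ≤ α b := hb0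
        omega
    · -- both negative: impossible
      exfalso
      have hb1 : α b = -1 := by omega
      obtain ⟨a', ha', ha'a⟩ := Finset.exists_mem_ne hA2 a
      obtain ⟨b', hb', hb'b⟩ := Finset.exists_mem_ne hB2 b
      -- `φ` vanishes on the neighbouring generators
      have hz1 : φ (gen hAB ha' hb) = 0 := by
        apply (hφ (ge a' b) (ge_mem' hAB ha' hb)).2
        refine ⟨a, ?_⟩
        rw [ge_apply_of_ne ha'a.symm hab, ha1]
        norm_num
      have hz2 : φ (gen hAB ha hb') = 0 := by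
        apply (hφ (ge a b') (ge_mem' hAB ha hb')).2
        refine ⟨b, ?_⟩
        rw [ge_apply_of_ne hab.symm hb'b.symm, hb1]
        norm_num
      have hr1 := congrArg φ (rel_A (k := k) hAB ha ha' hb)
      rw [map_smul, map_smul, hz1, smul_zero, hc', smul_comm, Xsmul_mk, X_mul_monomial_one] at hr1
      have hr2 := congrArg φ (rel_B (k := k) hAB ha hb hb')
      rw [map_smul, map_smul, hz2, smul_zero, hc', smul_comm, Xsmul_mk, X_mul_monomial_one] at hr2
      have hm1 : shift (ge a b) α + Finsupp.single a' 1 ∈ exps (J k A B) := by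
        by_contra hnot
        exact hc0 (smul_mk_eq_zero hI hnot hr1)
      have hm2 : shift (ge a b) α + Finsupp.single b' 1 ∈ exps (J k A B) := by
        by_contra hnot
        exact hc0 (smul_mk_eq_zero hI hnot hr2)
      rw [mem_exps_J hAB] at hm1 hm2
      obtain ⟨-, ⟨b₁, hb₁, hb₁'⟩⟩ := hm1
      obtain ⟨⟨a₁, ha₁, ha₁'⟩, -⟩ := hm2
      apply hγ
      rw [mem_exps_J hAB]
      refine ⟨⟨a₁, ha₁, ?_⟩, ⟨b₁, hb₁, ?_⟩⟩
      · have hne' : a₁ ≠ b' := ne_of_disjoint hAB ha₁ hb'
        rw [Finsupp.add_apply, Finsupp.single_eq_of_ne hne', add_zero] at ha₁'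
        exact ha₁'
      · have hne' : b₁ ≠ a' := (ne_of_disjoint hAB ha' hb₁).symm
        rw [Finsupp.add_apply, Finsupp.single_eq_of_ne hne', add_zero] at hb₁'
        exact hb₁'

open Groth.Agent.Lib.Helper92.HilbTgtPow3 in
theorem finrank_deg_zero (hAB : Disjoint A B) (hA2 : 1 < A.card) (hB2 : 1 < B.card) :
    Module.finrank k ↥(⨆ α : {α : Fin N → ℤ // ∑ i, α i = 0}, tPiece (J k A B) α.1) =
      A.card * (N - A.card) + B.card * (N - B.card) := by
  classical
  have hI := isMonomial_J (k := k) hAB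
  have hAne : A.Nonempty := Finset.card_pos.mp (by omega)
  have hBne : B.Nonempty := Finset.card_pos.mp (by omega)
  obtain ⟨Q, hQ⟩ : ∃ Q : Finset (Fin N × Fin N), Q = (A ×ˢ Aᶜ) ∪ (B ×ˢ Bᶜ) := ⟨_, rfl⟩
  have hQmem : ∀ y : Fin N × Fin N, y ∈ Q ↔ (y.1 ∈ A ∧ y.2 ∉ A) ∨ (y.1 ∈ B ∧ y.2 ∉ B) := by
    intro y
    rw [hQ, Finset.mem_union, Finset.mem_product, Finset.mem_product, Finset.mem_compl,
      Finset.mem_compl]
  have hQne : ∀ y : Fin N × Fin N, y ∈ Q → y.1 ≠ y.2 := by
    intro y hy heq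
    rcases (hQmem y).mp hy with ⟨h1, h2⟩ | ⟨h1, h2⟩
    · exact h2 (heq ▸ h1)
    · exact h2 (heq ▸ h1)
  obtain ⟨f, hf⟩ : ∃ f : ↥Q → (Fin N → ℤ), ∀ y, f y = al y.1.1 y.1.2 := ⟨_, fun _ => rfl⟩
  have hfinj : Function.Injective f := by
    intro y y' h
    rw [hf, hf] at h
    obtain ⟨h1, h2⟩ := al_injective (hQne y.1 y.2) h
    exact Subtype.ext (Prod.ext h1 h2)
  have hfr : ∀ y : ↥Q, Module.finrank k ↥(tPiece (J k A B) (f y)) = 1 := by
    intro y
    rw [hf]
    rcases (hQmem y.1).mp y.2 with ⟨h1, h2⟩ | ⟨h1, h2⟩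
    · exact finrank_tPiece_al hAB hBne h1 h2
    · rw [J_comm A B]
      exact finrank_tPiece_al hAB.symm hAne h1 h2
  have hfin : ∀ y : ↥Q, Module.Finite k ↥(tPiece (J k A B) (f y)) := by
    intro y
    have hpos : 0 < Module.finrank k ↥(tPiece (J k A B) (f y)) := by
      rw [hfr y]
      exact Nat.one_pos
    exact FiniteDimensional.of_finrank_pos (K := k) (V := ↥(tPiece (J k A B) (f y))) hpos
  have hind : iSupIndep (fun y : ↥Q => tPiece (J k A B) (f y)) :=
    (iSupIndep_tPiece hI).comp hfinj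
  have hsup : (⨆ α : {α : Fin N → ℤ // ∑ i, α i = 0}, tPiece (J k A B) α.1) =
      ⨆ y ∈ (Finset.univ : Finset ↥Q), tPiece (J k A B) (f y) := by
    apply le_antisymm
    · apply iSup_le
      rintro ⟨α, hα⟩ φ hφ
      by_cases hφ0 : φ = 0
      · rw [hφ0]
        exact Submodule.zero_mem _
      · rcases classify hAB hA2 hB2 α hα φ hφ hφ0 with ⟨a, ha, l, hl, rfl⟩ | ⟨b, hb, l, hl, rfl⟩
        · have hy : (a, l) ∈ Q := (hQmem (a, l)).mpr (Or.inl ⟨ha, hl⟩)
          have hle : tPiece (J k A B) (f ⟨(a, l), hy⟩) ≤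
              ⨆ y ∈ (Finset.univ : Finset ↥Q), tPiece (J k A B) (f y) :=
            le_iSup₂_of_le ⟨(a, l), hy⟩ (Finset.mem_univ _) le_rfl
          apply hle
          rw [hf]
          exact hφ
        · have hy : (b, l) ∈ Q := (hQmem (b, l)).mpr (Or.inr ⟨hb, hl⟩)
          have hle : tPiece (J k A B) (f ⟨(b, l), hy⟩) ≤
              ⨆ y ∈ (Finset.univ : Finset ↥Q), tPiece (J k A B) (f y) :=
            le_iSup₂_of_le ⟨(b, l), hy⟩ (Finset.mem_univ _) le_rfl
          apply hle
          rw [hf]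
          exact hφ
    · apply iSup₂_le
      intro y _
      have hs : ∑ i, f y i = 0 := by
        rw [hf]
        exact sum_al _ _
      exact le_iSup (fun α : {α : Fin N → ℤ // ∑ i, α i = 0} => tPiece (J k A B) α.1) ⟨f y, hs⟩
  rw [hsup, (finrank_biSup_of_indep _ hind hfin Finset.univ).2, Finset.sum_congr rfl
    (fun y _ => hfr y), Finset.sum_const, smul_eq_mul, mul_one, Finset.card_univ,
    Fintype.card_coe, hQ]
  have hdisj : Disjoint (A ×ˢ Aᶜ) (B ×ˢ Bᶜ) := by
    rw [Finset.disjoint_left]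
    intro y h1 h2
    rw [Finset.mem_product] at h1 h2
    exact (Finset.disjoint_left.mp hAB h1.1) h2.1
  rw [Finset.card_union_of_disjoint hdisj, Finset.card_product, Finset.card_product,
    Finset.card_compl, Finset.card_compl, Fintype.card_fin]

end Groth.Agent.Lib.Helper63.TwoPlanes
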