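import Mathlib

/-!
# Veronese subrings of finitely generated graded rings are generated in degree one

For an `ℕ`-graded ring `A` of finite type over (a ring mapping to) its degree-zero part there is
`D > 0` such that for all positive multiples `d` of `D`: `A_{nd} = (A_d)^n` for `n > 0` and
`A_d` is a finitely generated `A_0`-module.
-/

set_option autoImplicit false

namespace Groth.Agent.Lib.Helper63.Veron

open scoped Pointwise

set_option linter.unusedSectionVars false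

variable {A : Type*} [CommRing A] [DecidableEq A] (𝒜 : ℕ → AddSubgroup A) [GradedRing 𝒜]
variable (s : Finset A) (n : A → ℕ)

/-- weighted degree of an exponent vector -/
def wdeg (a : A → ℕ) : ℕ := ∑ j ∈ s, a j * n j

/-- monomial in the elements of `s` -/
noncomputable def mono (a : A → ℕ) : A := ∏ j ∈ s, j ^ a j

/-- monomials of weighted degree `N` -/
def T (N : ℕ) : Set A := {z | ∃ a : A → ℕ, wdeg s n a = N ∧ z = mono s a}

/-- the graded piece as a `ℤ`-submodule -/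
abbrev Z (N : ℕ) : Submodule ℤ A := AddSubgroup.toIntSubmodule (𝒜 N)

/-- `A_0`-span of the monomials of weighted degree `N` -/
noncomputable def W (N : ℕ) : Submodule ℤ A := Z 𝒜 0 * Submodule.span ℤ (T s n N)

lemma mem_Z {N : ℕ} {x : A} : x ∈ Z 𝒜 N ↔ x ∈ 𝒜 N := Iff.rfl

lemma Z_mul_le (i j : ℕ) : Z 𝒜 i * Z 𝒜 j ≤ Z 𝒜 (i + j) :=
  Submodule.mul_le.2 fun _ ha _ hb => SetLike.mul_mem_graded (A := 𝒜) ha hb

lemma one_mem_Z0 : (1 : A) ∈ Z 𝒜 0 := SetLike.GradedOne.one_mem (A := 𝒜)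

lemma le_Z0_mul (M : Submodule ℤ A) : M ≤ Z 𝒜 0 * M := by
  intro x hx
  rw [← one_mul x]
  exact Submodule.mul_mem_mul (one_mem_Z0 𝒜) hx

lemma wdeg_add (a b : A → ℕ) : wdeg s n (a + b) = wdeg s n a + wdeg s n b := by
  simp only [wdeg, Pi.add_apply, add_mul, Finset.sum_add_distrib]

lemma mono_add (a b : A → ℕ) : mono s (a + b) = mono s a * mono s b := by
  simp only [mono, Pi.add_apply, pow_add, Finset.prod_mul_distrib]

lemma wdeg_single {j : A} (hj : j ∈ s) (q : ℕ) : wdeg s n (Pi.single j q) = q * n j := by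
  classical
  rw [wdeg, Finset.sum_eq_single j]
  · rw [Pi.single_eq_same]
  · intro i _ hij
    rw [Pi.single_eq_of_ne hij, zero_mul]
  · intro h; exact absurd hj h

lemma mono_single {j : A} (hj : j ∈ s) (q : ℕ) : mono s (Pi.single j q) = j ^ q := by
  classical
  rw [mono, Finset.prod_eq_single j]
  · rw [Pi.single_eq_same]
  · intro i _ hij
    rw [Pi.single_eq_of_ne hij, pow_zero]
  · intro h; exact absurd hj h

variable {s n}

lemma mono_mem (hn : ∀ j ∈ s, j ∈ 𝒜 (n j)) (a : A → ℕ) : mono s a ∈ 𝒜 (wdeg s n a) := by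
  have := SetLike.prod_pow_mem_graded 𝒜 (F := s) (g := fun j => j) (i := n) a hn
  simpa only [wdeg, mono, smul_eq_mul] using this

lemma T_subset (hn : ∀ j ∈ s, j ∈ 𝒜 (n j)) (N : ℕ) : T s n N ⊆ (𝒜 N : Set A) := by
  rintro z ⟨a, ha, rfl⟩
  rw [← ha]
  exact mono_mem 𝒜 hn a

lemma span_T_le (hn : ∀ j ∈ s, j ∈ 𝒜 (n j)) (N : ℕ) : Submodule.span ℤ (T s n N) ≤ Z 𝒜 N :=
  Submodule.span_le.2 (T_subset 𝒜 hn N)

lemma W_le_Z (hn : ∀ j ∈ s, j ∈ 𝒜 (n j)) (N : ℕ) : W 𝒜 s n N ≤ Z 𝒜 N := by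
  refine le_trans (mul_le_mul' le_rfl (span_T_le 𝒜 hn N)) ?_
  have := Z_mul_le 𝒜 0 N
  rwa [zero_add] at this

lemma T_mul_subset (i j : ℕ) : T s n i * T s n j ⊆ T s n (i + j) := by
  rw [Set.mul_subset_iff]
  rintro _ ⟨a, ha, rfl⟩ _ ⟨b, hb, rfl⟩
  exact ⟨a + b, by rw [wdeg_add, ha, hb], (mono_add s a b).symm⟩

lemma W_mul_le (i j : ℕ) : W 𝒜 s n i * W 𝒜 s n j ≤ W 𝒜 s n (i + j) := by
  rw [W, W, W, mul_mul_mul_comm, Submodule.span_mul_span]
  refine mul_le_mul' ?_ (Submodule.span_mono (T_mul_subset i j))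
  have := Z_mul_le 𝒜 0 0
  rwa [zero_add] at this

lemma one_mem_T0 : (1 : A) ∈ T s n 0 :=
  ⟨0, by simp [wdeg], by simp [mono]⟩

lemma Z0_le_W0 : Z 𝒜 0 ≤ W 𝒜 s n 0 := by
  intro c hc
  rw [← mul_one c]
  exact Submodule.mul_mem_mul hc (Submodule.subset_span one_mem_T0)

lemma mem_W_of_mem {j : A} (hj : j ∈ s) : j ∈ W 𝒜 s n (n j) := by
  have h : (1 : A) * j ∈ W 𝒜 s n (n j) := by
    refine Submodule.mul_mem_mul (one_mem_Z0 𝒜) (Submodule.subset_span ⟨Pi.single j 1, ?_, ?_⟩)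
    · rw [wdeg_single s n hj, one_mul]
    · rw [mono_single s hj, pow_one]
  rwa [one_mul] at h

lemma iSup_W_mul_le : (⨆ N, W 𝒜 s n N) * (⨆ N, W 𝒜 s n N) ≤ ⨆ N, W 𝒜 s n N := by
  rw [Submodule.iSup_mul]
  refine iSup_le fun i => ?_
  rw [Submodule.mul_iSup]
  refine iSup_le fun j => ?_
  exact le_trans (W_mul_le 𝒜 i j) (le_iSup (W 𝒜 s n) (i + j))

lemma iSup_W_eq_top (hs : Algebra.adjoin (𝒜 0) (s : Set A) = ⊤) : ⨆ N, W 𝒜 s n N = ⊤ := by
  have key : ∀ x ∈ Algebra.adjoin (𝒜 0) (s : Set A), x ∈ ⨆ N, W 𝒜 s n N := by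
    intro x hx
    induction hx using Algebra.adjoin_induction with
    | mem y hy => exact (le_iSup (W 𝒜 s n) (n y)) (mem_W_of_mem 𝒜 hy)
    | algebraMap r => exact (le_iSup (W 𝒜 s n) 0) (Z0_le_W0 𝒜 r.2)
    | add a b _ _ ha hb => exact Submodule.add_mem _ ha hb
    | mul a b _ _ ha hb => exact iSup_W_mul_le 𝒜 (Submodule.mul_mem_mul ha hb)
  rw [eq_top_iff]
  intro x _
  exact key x (by rw [hs]; exact Algebra.mem_top)

lemma proj_mem_W (hn : ∀ j ∈ s, j ∈ 𝒜 (n j)) (N : ℕ) {z : A} (hz : z ∈ ⨆ M, W 𝒜 s n M) :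
    GradedRing.proj 𝒜 N z ∈ W 𝒜 s n N := by
  induction hz using Submodule.iSup_induction' with
  | mem M x hx =>
    have hxM : x ∈ 𝒜 M := W_le_Z 𝒜 hn M hx
    rw [GradedRing.proj_apply]
    by_cases hMN : M = N
    · subst hMN
      rw [DirectSum.decompose_of_mem_same 𝒜 hxM]
      exact hx
    · rw [DirectSum.decompose_of_mem_ne 𝒜 hxM hMN]
      exact Submodule.zero_mem _
  | zero => rw [map_zero]; exact Submodule.zero_mem _
  | add x y _ _ hx hy => rw [map_add]; exact Submodule.add_mem _ hx hy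

theorem Z_eq_W (hn : ∀ j ∈ s, j ∈ 𝒜 (n j)) (hs : Algebra.adjoin (𝒜 0) (s : Set A) = ⊤) (N : ℕ) :
    Z 𝒜 N = W 𝒜 s n N := by
  apply le_antisymm _ (W_le_Z 𝒜 hn N)
  intro z hz
  have h1 : z ∈ ⨆ M, W 𝒜 s n M := by rw [iSup_W_eq_top 𝒜 hs]; exact Submodule.mem_top
  have h2 := proj_mem_W 𝒜 hn N h1
  rwa [GradedRing.proj_apply, DirectSum.decompose_of_mem_same 𝒜 hz] at h2

/-- the key splitting step -/
theorem Z_le_mul (hn : ∀ j ∈ s, j ∈ 𝒜 (n j)) (hn0 : ∀ j ∈ s, n j ≠ 0)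
    (hs : Algebra.adjoin (𝒜 0) (s : Set A) = ⊤) (m : ℕ) (hm : 0 < m) (hdvd : ∀ j ∈ s, n j ∣ m)
    (N : ℕ) (hN : max s.card 1 * m ≤ N) : Z 𝒜 N ≤ Z 𝒜 m * Z 𝒜 (N - m) := by
  have hmN : m ≤ N := le_trans (Nat.le_mul_of_pos_left m (by omega)) hN
  rw [Z_eq_W 𝒜 hn hs N, W]
  have hT : Submodule.span ℤ (T s n N) ≤ Z 𝒜 m * Z 𝒜 (N - m) := by
    rw [Submodule.span_le]
    rintro z ⟨a, ha, rfl⟩
    obtain ⟨j, hj, hqj⟩ : ∃ j ∈ s, m / n j ≤ a j := by
      by_contra hcon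
      push Not at hcon
      have hlt : ∀ j ∈ s, a j * n j < m := by
        intro j hj
        have h1 := hcon j hj
        have h2 : (a j + 1) * n j ≤ m := by
          calc (a j + 1) * n j ≤ (m / n j) * n j := Nat.mul_le_mul_right _ h1
            _ = m := Nat.div_mul_cancel (hdvd j hj)
        have h3 : 0 < n j := Nat.pos_of_ne_zero (hn0 j hj)
        nlinarith
      rcases s.eq_empty_or_nonempty with hse | hsne
      · rw [wdeg, hse, Finset.sum_empty] at ha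
        omega
      · have h1 : wdeg s n a < ∑ _j ∈ s, m := Finset.sum_lt_sum_of_nonempty hsne hlt
        rw [Finset.sum_const, smul_eq_mul, ha] at h1
        have h2 : s.card * m ≤ max s.card 1 * m := Nat.mul_le_mul_right _ (le_max_left _ _)
        omega
    obtain ⟨q, hq⟩ : ∃ q, q = m / n j := ⟨_, rfl⟩
    rw [← hq] at hqj
    have hqm : q * n j = m := by rw [hq]; exact Nat.div_mul_cancel (hdvd j hj)
    obtain ⟨a', ha'⟩ : ∃ a' : A → ℕ, a' = fun i => if i = j then a j - q else a i := ⟨_, rfl⟩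
    have hsplit : a = Pi.single j q + a' := by
      funext i
      rw [Pi.add_apply, ha']
      by_cases hij : i = j
      · rw [hij, Pi.single_eq_same]
        simp only [if_true]
        omega
      · rw [Pi.single_eq_of_ne hij]
        simp only [if_neg hij]
        omega
    have hw : wdeg s n a' = N - m := by
      have := wdeg_add s n (Pi.single j q) a'
      rw [← hsplit, ha, wdeg_single s n hj, hqm] at this
      omega
    rw [hsplit, mono_add, mono_single s hj]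
    refine Submodule.mul_mem_mul ?_ ?_
    · have := mono_mem 𝒜 hn (Pi.single j q)
      rwa [wdeg_single s n hj, hqm, mono_single s hj] at this
    · have := mono_mem 𝒜 hn a'
      rwa [hw] at this
  refine le_trans (mul_le_mul' le_rfl hT) ?_
  rw [← mul_assoc]
  refine mul_le_mul' ?_ le_rfl
  have := Z_mul_le 𝒜 0 m
  rwa [zero_add] at this

lemma Z_add_mul_le (m D : ℕ) (hstep : ∀ N, D ≤ N → Z 𝒜 N ≤ Z 𝒜 m * Z 𝒜 (N - m))
    (N₀ : ℕ) (hN₀ : D ≤ N₀) (t : ℕ) : Z 𝒜 (N₀ + t * m) ≤ Z 𝒜 (t * m) * Z 𝒜 N₀ := by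
  induction t with
  | zero =>
    rw [zero_mul, add_zero]
    exact le_Z0_mul 𝒜 _
  | succ t ih =>
    have h1 := hstep (N₀ + (t + 1) * m) (by omega)
    have h2 : N₀ + (t + 1) * m - m = N₀ + t * m := by
      rw [add_mul, one_mul]; omega
    rw [h2] at h1
    refine le_trans h1 ?_
    refine le_trans (mul_le_mul' le_rfl ih) ?_
    rw [← mul_assoc]
    refine mul_le_mul' ?_ le_rfl
    have := Z_mul_le 𝒜 m (t * m)
    rwa [show m + t * m = (t + 1) * m by ring] at this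

theorem Z_mul_eq_pow (m D : ℕ) (hstep : ∀ N, D ≤ N → Z 𝒜 N ≤ Z 𝒜 m * Z 𝒜 (N - m))
    (d t : ℕ) (hd : d = t * m) (hDd : D ≤ d) (k : ℕ) (hk : 0 < k) :
    Z 𝒜 (k * d) = Z 𝒜 d ^ k := by
  induction k with
  | zero => omega
  | succ k ih =>
    rcases Nat.eq_zero_or_pos k with rfl | hkpos
    · rw [zero_add, one_mul, pow_one]
    · have ih' := ih hkpos
      have hge : Z 𝒜 d ^ (k + 1) ≤ Z 𝒜 ((k + 1) * d) := by
        rw [pow_succ', ← ih']
        have := Z_mul_le 𝒜 d (k * d)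
        rwa [show d + k * d = (k + 1) * d by ring] at this
      apply le_antisymm _ hge
      have h1 := Z_add_mul_le 𝒜 m D hstep (k * d) (le_trans hDd (Nat.le_mul_of_pos_left d hkpos)) t
      rw [← hd, show k * d + d = (k + 1) * d by ring] at h1
      rw [pow_succ', ← ih']
      exact h1

lemma T_finite (hn0 : ∀ j ∈ s, n j ≠ 0) (d : ℕ) : (T s n d).Finite := by
  refine Set.Finite.subset (Set.finite_range
    (fun f : s → Fin (d + 1) => ∏ j ∈ s.attach, (j : A) ^ (f j : ℕ))) ?_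
  rintro z ⟨a, ha, rfl⟩
  have hle : ∀ j ∈ s, a j ≤ d := by
    intro j hj
    have h1 : a j * n j ≤ wdeg s n a :=
      Finset.single_le_sum (f := fun j => a j * n j) (fun i _ => Nat.zero_le _) hj
    have h2 : 0 < n j := Nat.pos_of_ne_zero (hn0 j hj)
    rw [ha] at h1
    nlinarith
  refine ⟨fun j => ⟨a j, Nat.lt_succ_of_le (hle j j.2)⟩, ?_⟩
  rw [mono, ← Finset.prod_attach]

/-- main result in pure graded-ring form -/
theorem main {R : Type*} [CommRing R] (φ : R →+* A) (hφ0 : ∀ r, φ r ∈ 𝒜 0)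
    (hft : φ.FiniteType) :
    ∃ D : ℕ, 0 < D ∧ ∀ d : ℕ, 0 < d → D ∣ d →
      (∀ k : ℕ, 0 < k → Z 𝒜 (k * d) = Z 𝒜 d ^ k) ∧
      ∃ T' : Finset A, (↑T' : Set A) ⊆ (𝒜 d : Set A) ∧
        Z 𝒜 d = Z 𝒜 0 * Submodule.span ℤ (↑T' : Set A) := by
  have hFT : Algebra.FiniteType (𝒜 0) A := by
    let _ := φ.toAlgebra
    obtain ⟨s₀, hs₀⟩ := (show Algebra.FiniteType R A from hft).out
    refine ⟨⟨s₀, ?_⟩⟩
    have key : ∀ x ∈ Algebra.adjoin R (s₀ : Set A), x ∈ Algebra.adjoin (𝒜 0) (s₀ : Set A) := by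
      intro x hx
      induction hx using Algebra.adjoin_induction with
      | mem y hy => exact Algebra.subset_adjoin hy
      | algebraMap r =>
        exact Subalgebra.algebraMap_mem (Algebra.adjoin (𝒜 0) (s₀ : Set A)) ⟨φ r, hφ0 r⟩
      | add a b _ _ ha hb => exact Subalgebra.add_mem _ ha hb
      | mul a b _ _ ha hb => exact Subalgebra.mul_mem _ ha hb
    rw [eq_top_iff]
    intro x _
    exact key x (by rw [hs₀]; exact Algebra.mem_top)
  obtain ⟨s, hs, hs'⟩ := GradedAlgebra.exists_finset_adjoin_eq_top_and_homogeneous_ne_zero 𝒜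
  choose! n hn0 hn using hs'
  obtain ⟨m, hm⟩ : ∃ m, m = ∏ j ∈ s, n j := ⟨_, rfl⟩
  have hmpos : 0 < m := by
    rw [hm]
    exact Finset.prod_pos fun j hj => Nat.pos_of_ne_zero (hn0 j hj)
  have hdvd : ∀ j ∈ s, n j ∣ m := fun j hj => hm ▸ Finset.dvd_prod_of_mem n hj
  have hstep := Z_le_mul 𝒜 hn hn0 hs m hmpos hdvd
  refine ⟨max s.card 1 * m, Nat.mul_pos (by omega) hmpos, fun d hd hDd => ⟨?_, ?_⟩⟩
  · obtain ⟨c, hc⟩ := hDd
    have hDle : max s.card 1 * m ≤ d := Nat.le_of_dvd hd ⟨c, hc⟩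
    exact fun k hk => Z_mul_eq_pow 𝒜 m (max s.card 1 * m) hstep d (max s.card 1 * c)
      (by rw [hc]; ring) hDle k hk
  · refine ⟨(T_finite hn0 d).toFinset, ?_, ?_⟩
    · rw [Set.Finite.coe_toFinset]
      exact T_subset 𝒜 hn d
    · rw [Set.Finite.coe_toFinset]
      exact Z_eq_W 𝒜 hn hs d

end Groth.Agent.Lib.Helper63.Veron
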