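import Mathlib
import Groth.Agent.Lib.Helper63.PullO1
import Groth.Agent.Lib.Helper42.VeryAmpleOfProj
import Groth.Agent.Lib.Helper18.SymQGrHom
import Groth.Agent.S12141

/-!
# Base change of a projective bundle with its `O(1)` (helper63)
-/

set_option autoImplicit false
universe u
open CategoryTheory CategoryTheory.Limits AlgebraicGeometry Opposite TopologicalSpace
open scoped HomogeneousIdeal
noncomputable section

namespace Groth.Agent.Lib.Helper63.VeryAmpleBC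

open Groth.Agent.Lib.Helper42 Groth.Agent.Lib.Helper18.SymQC Groth.Agent.Lib.Helper18.SymLoc RelSpec
  Groth.Agent.Lib.Helper42.SymGrading Groth.Agent.Lib.Helper42.SymGrAlg Groth.Agent.Lib.Helper42.SymProjHom
  Groth.Agent.Lib.Helper18.SymQHom

/-- the base change of a projective bundle `P(E)` with its `O(1)` along `g : Y' ⟶ Y` is the projective bundle
`P(g^*E)` with its `O(1)` -/
theorem exists_baseChange {Y Y' : Scheme.{u}} (g : Y' ⟶ Y) (E : Y.Modules) (hE : Coh.IsQCoh E)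
    (𝒮 : RelProj.QCGrAlg Y) (j : E ⟶ 𝒮.toModule) (hj : RelProj.IsGrSymAlg E 𝒮 j)
    {P : Scheme.{u}} (p : P ⟶ Y)
    (chart : ∀ (U : Y.Opens) (hU : IsAffineOpen U), (((p ⁻¹ᵁ U : P.Opens) : Scheme.{u}) ≅ Proj (𝒮.deg U hU)))
    (hP : RelProj.IsRelProj 𝒮 p chart) (O1 : P.Modules)
    (lam : ∀ (U : Y.Opens) (hU : IsAffineOpen U),
      O1 ⟶ (Scheme.Modules.pushforward (RelProj.emb p chart U hU)).obj (GrTwist.twist (𝒮.deg U hU) 1))
    (hO1 : RelProj.IsRelTwist 𝒮 p chart 1 O1 lam) :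
    ∃ (E' : Y'.Modules) (_ : Coh.IsQCoh E') (𝒮' : RelProj.QCGrAlg Y') (j' : E' ⟶ 𝒮'.toModule)
      (_ : RelProj.IsGrSymAlg E' 𝒮' j') (P' : Scheme.{u}) (p' : P' ⟶ Y')
      (chart' : ∀ (U : Y'.Opens) (hU : IsAffineOpen U),
        (((p' ⁻¹ᵁ U : P'.Opens) : Scheme.{u}) ≅ Proj (𝒮'.deg U hU)))
      (_ : RelProj.IsRelProj 𝒮' p' chart') (O1' : P'.Modules)
      (lam' : ∀ (U : Y'.Opens) (hU : IsAffineOpen U),
        O1' ⟶ (Scheme.Modules.pushforward (RelProj.emb p' chart' U hU)).obj (GrTwist.twist (𝒮'.deg U hU) 1))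
      (_ : RelProj.IsRelTwist 𝒮' p' chart' 1 O1' lam') (h : P' ⟶ P),
      IsPullback h p' p g ∧ Nonempty ((Scheme.Modules.pullback h).obj O1 ≅ O1') := by
  have : E.IsQuasicoherent := hE
  obtain ⟨E', hE'def⟩ : ∃ E' : Y'.Modules, E' = (Scheme.Modules.pullback g).obj E := ⟨_, rfl⟩
  subst hE'def
  have hE' : Coh.IsQCoh ((Scheme.Modules.pullback g).obj E) :=
    Groth.Agent.Lib.Helper16.FlatPull.isQuasicoherent_pullback g E
  have hT : RelProj.IsGrSymAlg ((Scheme.Modules.pullback g).obj E)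
      (symGrAlg ((Scheme.Modules.pullback g).obj E)) (jHom ((Scheme.Modules.pullback g).obj E)) :=
    isGrSymAlg _
  have hPT := RelProjGlue.isRelProj (symGrAlg ((Scheme.Modules.pullback g).obj E))
  obtain ⟨O1T, lamT, hO1T⟩ := RelTwistExists.exists_isRelTwist
    (symGrAlg ((Scheme.Modules.pullback g).obj E)) _ _ hPT 1
  obtain ⟨uu, huu⟩ : ∃ uu : RelProj.QGrHom g 𝒮 (symGrAlg ((Scheme.Modules.pullback g).obj E)),
      uu = symQGrHom g E 𝒮 j hj (symGrAlg ((Scheme.Modules.pullback g).obj E))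
        (jHom ((Scheme.Modules.pullback g).obj E)) hT.2 := ⟨_, rfl⟩
  have hu : RelSpec.IsQBaseChange uu.toQHom := by
    rw [huu]
    exact isQBaseChange_symQHom g E 𝒮.toQCAlg j (symGrAlg ((Scheme.Modules.pullback g).obj E)).toQCAlg
      (jHom ((Scheme.Modules.pullback g).obj E)) hj.1 hT.1
  obtain ⟨⟨h, hh⟩, hpb⟩ := Groth.Agent.S12141.result g 𝒮 (symGrAlg ((Scheme.Modules.pullback g).obj E)) uu hu
    p chart hP _ _ hPT
  have hgen : 𝒮.IsGenDegOne := VeryAmpleOfProj.isGenDegOne_of_isGrSymAlg E hE 𝒮 j hj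
  exact ⟨_, hE', _, _, hT, _, _, _, hPT, O1T, lamT, hO1T, h, hpb h hh,
    PullO1.nonempty_pullback_iso hP hPT hgen hh hO1 hO1T⟩

end Groth.Agent.Lib.Helper63.VeryAmpleBC
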