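import Mathlib
import Groth.Agent.Lib.Helper63.ProjBundleAmple
import Groth.Agent.Lib.Helper11.CounitEpi2

/-!
# The counit `q^* q_* L → L` is an epimorphism for `L` the pullback of `O_P(1)` (helper63)
-/

set_option autoImplicit false
set_option linter.unusedSectionVars false
universe u

open CategoryTheory CategoryTheory.Limits AlgebraicGeometry TopologicalSpace Opposite
open scoped HomogeneousIdeal

namespace Groth.Agent.Lib.Helper63.VeryAmpleCounit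

open Groth.Agent.Lib.Helper45 Groth.Agent.Lib.Helper49
  Groth.Agent.Lib.Helper11.GenLocus
  Groth.Agent.Lib.Helper11.PullbackBasis Groth.Agent.Lib.Helper11.CounitEpi2
  Groth.Agent.Lib.Helper42.RelTilde Groth.Agent.Lib.Helper42.RelTwistBasis
  Groth.Agent.Lib.Helper42 Groth.Agent.Lib.Helper63.RelTwistAmple

section general
variable {Z : Scheme.{u}}

/-- if every point lies in the locus of generation of some global section, global sections generate -/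
theorem genOn_top_of_forall_mem_genLocus (T : Z.Modules)
    (h : ∀ z : Z, ∃ τ : Coh.structureModule Z ⟶ T, z ∈ CohB1.genLocus T τ) : GenOn T ⊤ := by
  intro V _ a x hx
  obtain ⟨τ, hτ⟩ := h x
  have hb : IsBasisOn T (V ⊓ CohB1.genLocus T τ) (sec τ _) :=
    (le_genLocus_iff_isBasisOn τ _).mp inf_le_right
  obtain ⟨r, hr⟩ := hb.exists_eq_smul (mres T inf_le_left a)
  refine ⟨V ⊓ CohB1.genLocus T τ, inf_le_left, ⟨hx, hτ⟩, ?_⟩
  rw [← hr]
  refine Submodule.smul_mem _ _ (Submodule.subset_span ⟨sec τ ⊤, ?_⟩)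
  exact sec_mres τ le_top

end general

section rel
variable {Y P : Scheme.{u}} {𝒮 : RelProj.QCGrAlg Y} {p : P ⟶ Y}
  {chart : ∀ (U : Y.Opens) (hU : IsAffineOpen U), (((p ⁻¹ᵁ U : P.Opens) : Scheme.{u}) ≅ Proj (𝒮.deg U hU))}
  {L₁ : P.Modules}
  {lam₁ : ∀ (U : Y.Opens) (hU : IsAffineOpen U),
      L₁ ⟶ (Scheme.Modules.pushforward (RelProj.emb p chart U hU)).obj (GrTwist.twist (𝒮.deg U hU) 1)}

/-- for `i : X → Proj(𝒮)` and `V` affine, every point of `i⁻¹ p⁻¹ V` lies in the locus of generation of a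
section over `i⁻¹ p⁻¹ V` of `i^* O_P(1)`. -/
theorem exists_section_pullback_twistOne (hgen : 𝒮.IsGenDegOne)
    (hL₁ : RelProj.IsRelTwist 𝒮 p chart 1 L₁ lam₁) {X : Scheme.{u}} (i : X ⟶ P)
    (V : Y.Opens) (hV : IsAffineOpen V) (z : ((i ⁻¹ᵁ (p ⁻¹ᵁ V) : X.Opens) : Scheme.{u})) :
    ∃ τ : Coh.structureModule ((i ⁻¹ᵁ (p ⁻¹ᵁ V) : X.Opens) : Scheme.{u}) ⟶
        ((Scheme.Modules.pullback i).obj L₁).restrict (i ⁻¹ᵁ (p ⁻¹ᵁ V)).ι,
      z ∈ CohB1.genLocus _ τ := by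
  have hz0' : i.base z.1 ∈ p ⁻¹ᵁ V := z.2
  obtain ⟨y, hy⟩ := exists_emb_eq (chart := chart) V hV hz0'
  obtain ⟨g, hg1, hgy⟩ := exists_degOne_notMem (𝒮.deg V hV) (hgen V hV) y
  obtain ⟨t, ht⟩ := exists_section_reading hgen hL₁ V hV g hg1
  have hG : (RelProj.emb p chart V hV) ''ᵁ (Proj.basicOpen (𝒮.deg V hV) g) ≤ p ⁻¹ᵁ V :=
    ((RelProj.emb p chart V hV).image_le_opensRange _).trans (le_of_eq (opensRange_emb V hV))
  obtain ⟨σ, hσ⟩ := exists_section_restrict L₁ (p ⁻¹ᵁ V) t _ hG ht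
  have hinv : PicF.IsInvertible (L₁.restrict (p ⁻¹ᵁ V).ι) :=
    isInvertible_restrict' _ (isInvertible_of_isRelTwist hgen hL₁)
  have h1 := genLocus_pullSec (i ∣_ (p ⁻¹ᵁ V)) hinv σ
  obtain ⟨E, hE⟩ : ∃ E : (Scheme.Modules.pullback (i ∣_ (p ⁻¹ᵁ V))).obj (L₁.restrict (p ⁻¹ᵁ V).ι) ≅
      ((Scheme.Modules.pullback i).obj L₁).restrict (i ⁻¹ᵁ (p ⁻¹ᵁ V)).ι,
      E = (pullbackRestrictNatIso i (p ⁻¹ᵁ V)).app L₁ := ⟨_, rfl⟩
  have h0 := genLocus_comp_iso (pullSec (i ∣_ (p ⁻¹ᵁ V)) σ) E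
  refine ⟨pullSec (i ∣_ (p ⁻¹ᵁ V)) σ ≫ E.hom, ?_⟩
  rw [h0, h1]
  change (i ∣_ (p ⁻¹ᵁ V)).base z ∈ CohB1.genLocus _ σ
  have hmem : i.base z.1 ∈ (p ⁻¹ᵁ V).ι ''ᵁ (CohB1.genLocus _ σ) := by
    rw [hσ, ← hy]
    exact ⟨y, (ProjectiveSpectrum.mem_basicOpen _ _ _).mpr hgy, rfl⟩
  obtain ⟨w, hw, hwz⟩ := hmem
  have : w = (i ∣_ (p ⁻¹ᵁ V)).base z := by
    apply Subtype.ext
    rw [morphismRestrict_base_coe]
    exact hwz
  rw [← this]
  exact hw

/-- for any morphism `i : X → Proj(𝒮)`, `𝒮` generated in degree one, the counit `q^* q_* (i^* O_P(1)) → i^* O_P(1)`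
with `q = i ≫ p` is an epimorphism. -/
theorem epi_counit_pullback_twistOne (hgen : 𝒮.IsGenDegOne)
    (hL₁ : RelProj.IsRelTwist 𝒮 p chart 1 L₁ lam₁) {X : Scheme.{u}} (i : X ⟶ P) :
    Epi ((Scheme.Modules.pullbackPushforwardAdjunction (i ≫ p)).counit.app
      ((Scheme.Modules.pullback i).obj L₁)) := by
  refine epi_counit_of_locally_genOn (i ≫ p) _ fun x => ?_
  obtain ⟨_, ⟨V, hV, rfl⟩, hxV, -⟩ :=
    Y.isBasis_affineOpens.exists_subset_of_mem_open (Set.mem_univ ((i ≫ p).base x)) isOpen_univ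
  refine ⟨V, hxV, ?_⟩
  exact genOn_top_of_forall_mem_genLocus _ fun z => exists_section_pullback_twistOne hgen hL₁ i V hV z

end rel

end Groth.Agent.Lib.Helper63.VeryAmpleCounit
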