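import Mathlib
import Groth.Agent.Lib.Helper63.O1SymInv
import Groth.Agent.Lib.Helper42.VeryAmpleOfProj

/-!
# `r_{L,ψ}` an immersion ⟹ `L` very ample (helper63)
-/

set_option autoImplicit false
universe u
open CategoryTheory CategoryTheory.Limits AlgebraicGeometry Opposite TopologicalSpace
open HomogeneousLocalization
open scoped HomogeneousIdeal
noncomputable section

namespace Groth.Agent.Lib.Helper63.VeryAmpleOfR

open Groth.Agent.Lib.Helper45 Groth.Agent.Lib.Helper49 Groth.Agent.Lib.Helper42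
  Groth.Agent.Lib.Helper42.RelTilde
  Groth.Agent.Lib.Helper63.AwaySection Groth.Agent.Lib.Helper63.PullO1

variable {X Y P PL : Scheme.{u}} {f : X ⟶ Y} {𝒜 : RelProj.QCGrAlg Y} {𝒮L : RelProj.QCGrAlg X}
  (u : RelProj.QGrHom f 𝒜 𝒮L) {pL : PL ⟶ X}
  {chartL : ∀ (U : X.Opens) (hU : IsAffineOpen U), (((pL ⁻¹ᵁ U : PL.Opens) : Scheme.{u}) ≅ Proj (𝒮L.deg U hU))}
  {p : P ⟶ Y}
  {chart : ∀ (U : Y.Opens) (hU : IsAffineOpen U), (((p ⁻¹ᵁ U : P.Opens) : Scheme.{u}) ≅ Proj (𝒜.deg U hU))}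

/-- if degree-one sections of `𝒜` locally generate `𝒮L_1`, the morphism `Proj(u)` is everywhere defined -/
theorem domQ_eq_top_of_surj (hgenL : 𝒮L.IsGenDegOne)
    (hsurj : ∀ x : X, ∃ (U : Y.Opens) (hU : IsAffineOpen U) (e : 𝒜.presheaf.obj (op U)) (_ : e ∈ 𝒜.deg U hU 1)
        (V : X.Opens) (hV : IsAffineOpen V) (hVU : V ≤ f ⁻¹ᵁ U), x ∈ V ∧
          ((𝒮L.deg V hV 1 : AddSubgroup (𝒮L.presheaf.obj (op V))) : Set (𝒮L.presheaf.obj (op V))) ⊆
            (Ideal.span {(u.appLE U V hVU).hom e} : Set (𝒮L.presheaf.obj (op V)))) :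
    RelProj.domQ u pL chartL = ⊤ := by
  rw [eq_top_iff]
  intro w _
  obtain ⟨U, hU, e, he, V, hV, hVU, hxV, hspan⟩ := hsurj (pL.base w)
  obtain ⟨y, rfl⟩ := exists_emb_eq (chart := chartL) V hV (show w ∈ pL ⁻¹ᵁ V from hxV)
  refine (SymInvColim.mem_domQ_iff pL chartL u _).mpr ⟨U, hU, V, hV, hVU, y, 1, one_pos, e, he, rfl, ?_⟩
  rw [Proj.mem_basicOpen]
  intro hmem
  apply y.not_irrelevant_le
  intro z hz
  have h1 : z ∈ Ideal.span (𝒮L.deg V hV 1 : Set (𝒮L.presheaf.obj (op V))) :=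
    irrelevant_le_span_degOne (hgenL V hV) hz
  have h2 : Ideal.span (𝒮L.deg V hV 1 : Set (𝒮L.presheaf.obj (op V))) ≤ y.asHomogeneousIdeal.toIdeal := by
    rw [Ideal.span_le]
    intro t ht
    have h3 := hspan ht
    exact (Ideal.span_le.mpr (Set.singleton_subset_iff.mpr hmem)) h3
  exact h2 h1

/-- the everywhere-defined morphism attached to `r : G(u) ⟶ P` when `G(u) = PL` -/
theorem isProjQMap_of_isProjQMapOn (hdom : RelProj.domQ u pL chartL = ⊤)
    (r : ((RelProj.domQ u pL chartL : PL.Opens) : Scheme.{u}) ⟶ P)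
    (hr : RelProj.IsProjQMapOn u p chart pL chartL (RelProj.domQ u pL chartL) r) :
    ∃ h : PL ⟶ P, RelProj.IsProjQMap u p chart pL chartL h ∧ (RelProj.domQ u pL chartL).ι ≫ h = r := by
  have hiso : IsIso (RelProj.domQ u pL chartL).ι := isIso_ι_of_eq_top _ hdom
  refine ⟨inv (RelProj.domQ u pL chartL).ι ≫ r, ⟨hdom, ?_⟩, IsIso.hom_inv_id_assoc _ _⟩
  intro U hU U' hU' hle d hd a ha
  have hW := RelProj.range_awayEmb_subset_domQ u pL chartL U hU U' hU' hle hd a ha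
  have h1 := hr U hU U' hU' hle d hd a ha hW
  rw [← h1, ← Category.assoc]
  congr 1
  rw [IsIso.comp_inv_eq]
  exact (IsOpenImmersion.lift_fac _ _ hW).symm

end Groth.Agent.Lib.Helper63.VeryAmpleOfR
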