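import Mathlib

/-!
# Two lemmas on alternating maps (helper63)

* `map_sum_smul` : `f (fun j => ∑ i, c j i • u i) = det c • f u` for an alternating map `f` in `n`
  variables and `n` vectors `u`.
* `smul_map_eq_zero_of_sum_smul_eq_zero` : a linear relation `∑ i, c i • y i = 0` forces
  `c k • f y = 0`.
-/

namespace Groth.Agent.Lib.Helper63.Wedge

open scoped BigOperators

variable {R : Type*} [CommRing R] {N Q : Type*} [AddCommGroup N] [Module R N]
  [AddCommGroup Q] [Module R Q]

/-- General codomain version of `AlternatingMap.eq_smul_basis_det`. -/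
theorem map_eq_det_smul {ι : Type*} [Fintype ι] [DecidableEq ι] {M : Type*} [AddCommGroup M]
    [Module R M] (e : Module.Basis ι R M) (f : M [⋀^ι]→ₗ[R] Q) (v : ι → M) :
    f v = e.det v • f e := by
  have : f = (LinearMap.toSpanSingleton R Q (f e)).compAlternatingMap e.det := by
    refine Module.Basis.ext_alternating e fun i h => ?_
    let σ : Equiv.Perm ι := Equiv.ofBijective i (Finite.injective_iff_bijective.1 h)
    change f (e ∘ σ) = (e.det (e ∘ σ)) • f e
    simp [AlternatingMap.map_perm, Module.Basis.det_self]
  conv_lhs => rw [this]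
  rfl

theorem map_sum_smul {n : ℕ} (f : N [⋀^Fin n]→ₗ[R] Q) (u : Fin n → N)
    (c : Matrix (Fin n) (Fin n) R) :
    f (fun j => ∑ i, c j i • u i) = c.det • f u := by
  have h := map_eq_det_smul (Pi.basisFun R (Fin n))
    (f.compLinearMap (Fintype.linearCombination R u)) (fun j => c j)
  rw [Pi.basisFun_det_apply] at h
  simp only [AlternatingMap.compLinearMap_apply, Fintype.linearCombination_apply] at h
  rw [h]
  congr 2
  ext j
  simp [Pi.single_apply]

theorem smul_map_eq_zero_of_sum_smul_eq_zero {n : ℕ} (f : N [⋀^Fin n]→ₗ[R] Q) (y : Fin n → N)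
    (c : Fin n → R) (hc : ∑ i, c i • y i = 0) (k : Fin n) : c k • f y = 0 := by
  classical
  have h1 : f (Function.update y k (∑ i, c i • y i)) = c k • f y := by
    rw [AlternatingMap.map_update_sum]
    rw [Finset.sum_eq_single k]
    · rw [AlternatingMap.map_update_smul, Function.update_eq_self]
    · intro i _ hik
      rw [AlternatingMap.map_update_smul, AlternatingMap.map_update_self _ _ (Ne.symm hik),
        smul_zero]
    · intro h
      exact absurd (Finset.mem_univ k) h
  rw [← h1, hc, AlternatingMap.map_update_zero]

end Groth.Agent.Lib.Helper63.Wedge
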