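import Mathlib

/-!
# Generic "two-generator" lemma for powers of an ideal modulo another ideal (helper63)

If `M = (ϖ, x, y)`, `ϖ ∈ I + M²` and `x² ∈ I + M³`, then `M^(n+1) + I = (y^(n+1), x y^n) + I`
provided `M` lies in the Jacobson radical and `I` is finitely generated.
-/

set_option autoImplicit false

namespace Groth.Agent.Lib.Helper63.WeierSing1

variable {S : Type*} [CommRing S]

theorem mul_mem_sup_pow {I M : Ideal S} {k l : ℕ} {a b : S} (ha : a ∈ M ^ k)
    (hb : b ∈ I ⊔ M ^ l) : a * b ∈ I ⊔ M ^ (k + l) := by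
  have h1 : a * b ∈ M ^ k * (I ⊔ M ^ l) := Ideal.mul_mem_mul ha hb
  have h2 : M ^ k * (I ⊔ M ^ l) ≤ I ⊔ M ^ (k + l) := by
    rw [Ideal.mul_sup]
    refine sup_le_sup Ideal.mul_le_right ?_
    rw [pow_add]
  exact h2 h1

theorem gen_left {I J : Ideal S} {a b : S} : a ∈ Ideal.span {a, b} ⊔ I ⊔ J :=
  Ideal.mem_sup_left (Ideal.mem_sup_left (Ideal.subset_span (Set.mem_insert _ _)))

theorem gen_right {I J : Ideal S} {a b : S} : b ∈ Ideal.span {a, b} ⊔ I ⊔ J :=
  Ideal.mem_sup_left (Ideal.mem_sup_left (Ideal.subset_span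
    (Set.mem_insert_of_mem _ (Set.mem_singleton _))))

theorem pow_le_step {I M : Ideal S} {p x y : S} (hM : M = Ideal.span {p, x, y})
    (h1 : p ∈ I ⊔ M ^ 2) (h2 : x ^ 2 ∈ I ⊔ M ^ 3) (n : ℕ) :
    M ^ (n + 1) ≤ Ideal.span {y ^ (n + 1), x * y ^ n} ⊔ I ⊔ M ^ (n + 2) := by
  have hxM : x ∈ M := by rw [hM]; exact Ideal.subset_span (by simp)
  have hyM : y ∈ M := by rw [hM]; exact Ideal.subset_span (by simp)
  induction n with
  | zero =>
    rw [pow_one]
    have hM' : M ≤ Ideal.span {y ^ (0 + 1), x * y ^ 0} ⊔ I ⊔ M ^ (0 + 2) := by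
      have : Ideal.span {p, x, y} ≤ Ideal.span {y ^ (0 + 1), x * y ^ 0} ⊔ I ⊔ M ^ (0 + 2) := by
        rw [Ideal.span_le]
        intro z hz
        simp only [Set.mem_insert_iff, Set.mem_singleton_iff] at hz
        rcases hz with hz | hz | hz
        · have h3 : I ⊔ M ^ 2 ≤ Ideal.span {y ^ (0 + 1), x * y ^ 0} ⊔ I ⊔ M ^ (0 + 2) := by
            rw [sup_assoc]; exact le_sup_right
          rw [hz]
          exact h3 h1
        · have h3 : z = x * y ^ 0 := by rw [hz, pow_zero, mul_one]
          rw [h3]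
          exact gen_right
        · have h3 : z = y ^ (0 + 1) := by rw [hz, zero_add, pow_one]
          rw [h3]
          exact gen_left
      rw [hM]
      rw [hM] at this
      exact this
    exact hM'
  | succ n ih =>
    have hynM : ∀ k, y ^ k ∈ M ^ k := fun k => Ideal.pow_mem_pow hyM k
    have hxynM : x * y ^ n ∈ M ^ (n + 1) := by
      rw [pow_succ']; exact Ideal.mul_mem_mul hxM (hynM n)
    have htarget : I ⊔ M ^ (n + 1 + 2) ≤
        Ideal.span {y ^ (n + 1 + 1), x * y ^ (n + 1)} ⊔ I ⊔ M ^ (n + 1 + 2) := by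
      rw [sup_assoc]; exact le_sup_right
    have hkey : Ideal.span {y ^ (n + 1), x * y ^ n} * Ideal.span {p, x, y} ≤
        Ideal.span {y ^ (n + 1 + 1), x * y ^ (n + 1)} ⊔ I ⊔ M ^ (n + 1 + 2) := by
      rw [Ideal.span_mul_span', Ideal.span_le, Set.mul_subset_iff]
      intro a ha b hb
      simp only [Set.mem_insert_iff, Set.mem_singleton_iff] at ha hb
      rcases ha with ha | ha <;> rcases hb with hb | hb | hb <;> rw [ha, hb]
      · apply htarget
        exact mul_mem_sup_pow (hynM (n + 1)) h1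
      · have h4 : y ^ (n + 1) * x = x * y ^ (n + 1) := by ring
        rw [h4]
        exact gen_right
      · have h4 : y ^ (n + 1) * y = y ^ (n + 1 + 1) := by ring
        rw [h4]
        exact gen_left
      · apply htarget
        exact mul_mem_sup_pow hxynM h1
      · apply htarget
        have h3 : y ^ n * x ^ 2 ∈ I ⊔ M ^ (n + 3) := mul_mem_sup_pow (hynM n) h2
        have h4 : x * y ^ n * x = y ^ n * x ^ 2 := by ring
        rw [h4]
        exact h3
      · have h4 : x * y ^ n * y = x * y ^ (n + 1) := by ring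
        rw [h4]
        exact gen_right
    calc M ^ (n + 1 + 1) = M ^ (n + 1) * M := pow_succ _ _
      _ ≤ (Ideal.span {y ^ (n + 1), x * y ^ n} ⊔ I ⊔ M ^ (n + 2)) * M :=
          Ideal.mul_mono_left ih
      _ ≤ Ideal.span {y ^ (n + 1 + 1), x * y ^ (n + 1)} ⊔ I ⊔ M ^ (n + 1 + 2) := by
          rw [Ideal.sup_mul, Ideal.sup_mul]
          refine sup_le (sup_le ?_ ?_) ?_
          · have : Ideal.span {y ^ (n + 1), x * y ^ n} * M =
                Ideal.span {y ^ (n + 1), x * y ^ n} * Ideal.span {p, x, y} := by rw [← hM]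
            rw [this]
            exact hkey
          · exact le_trans Ideal.mul_le_left (le_trans le_sup_right le_sup_left)
          · rw [← pow_succ]
            exact le_sup_right

theorem pow_sup_eq {I M : Ideal S} {p x y : S} (hM : M = Ideal.span {p, x, y})
    (h1 : p ∈ I ⊔ M ^ 2) (h2 : x ^ 2 ∈ I ⊔ M ^ 3) (hI : I.FG)
    (hjac : M ≤ Ideal.jacobson ⊥) (n : ℕ) :
    M ^ (n + 1) ⊔ I = Ideal.span {y ^ (n + 1), x * y ^ n} ⊔ I := by
  have hxM : x ∈ M := by rw [hM]; exact Ideal.subset_span (by simp)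
  have hyM : y ∈ M := by rw [hM]; exact Ideal.subset_span (by simp)
  have hMfg : M.FG := by
    rw [hM]
    exact Submodule.fg_span (Set.toFinite _)
  apply le_antisymm
  · apply Submodule.le_of_le_smul_of_le_jacobson_bot (I := M)
    · exact Submodule.FG.sup (Ideal.FG.pow hMfg) hI
    · exact hjac
    · refine sup_le ?_ (le_trans le_sup_right le_sup_left)
      refine le_trans (pow_le_step hM h1 h2 n) ?_
      refine sup_le le_sup_left ?_
      refine le_trans ?_ le_sup_right
      rw [smul_eq_mul, show n + 2 = (n + 1) + 1 by ring, pow_succ' M (n + 1)]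
      exact Ideal.mul_mono_right le_sup_left
  · refine sup_le ?_ le_sup_right
    refine le_trans ?_ le_sup_left
    rw [Ideal.span_le]
    intro z hz
    simp only [Set.mem_insert_iff, Set.mem_singleton_iff] at hz
    rcases hz with hz | hz <;> rw [hz]
    · exact Ideal.pow_mem_pow hyM _
    · rw [pow_succ']
      exact Ideal.mul_mem_mul hxM (Ideal.pow_mem_pow hyM n)

end Groth.Agent.Lib.Helper63.WeierSing1
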